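import Groth.Prelude.Def_W4c5adicflatcomplDec
import Mathlib.RingTheory.AdicCompletion.Basic
import Mathlib.RingTheory.Ideal.Operations
import Mathlib.LinearAlgebra.Finsupp.LinearCombination

/-! Helper library of helper26: decaying functions into an adically separated module. -/

set_option autoImplicit false

namespace Groth.Agent.helper26.Dec

open W4c5adicflatcompl

universe u v w

theorem decomp {A : Type u} [CommRing A] {N : Type w} [AddCommGroup N] [Module A N]
    (t : Finset A) (P : Submodule A N) (x : N) (hx : x ∈ Ideal.span (t : Set A) • P) :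
    ∃ c : A → N, (∀ i, c i ∈ P) ∧ x = ∑ i ∈ t, i • c i := by
  classical
  refine Submodule.smul_induction_on
    (p := fun x => ∃ c : A → N, (∀ i, c i ∈ P) ∧ x = ∑ i ∈ t, i • c i) hx ?_ ?_
  · intro r hr p hp
    obtain ⟨b, -, hb⟩ := (Submodule.mem_span_finset (R := A) (M := A)).mp hr
    refine ⟨fun i => b i • p, fun i => P.smul_mem _ hp, ?_⟩
    rw [← hb, Finset.sum_smul]
    refine Finset.sum_congr rfl (fun i _ => ?_)
    rw [smul_eq_mul, mul_smul, smul_comm]
  · rintro x y ⟨c1, hc1, e1⟩ ⟨c2, hc2, e2⟩
    refine ⟨c1 + c2, fun i => P.add_mem (hc1 i) (hc2 i), ?_⟩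
    rw [e1, e2, ← Finset.sum_add_distrib]
    refine Finset.sum_congr rfl (fun i _ => ?_)
    simp [smul_add]

/-- A decaying function all of whose values lie in `I ^ n • N` lies in `I ^ n •` (decaying
functions), when `N` is `I`-adically separated and `I ^ n` is finitely generated. -/
theorem mem_smul_top {A : Type u} [CommRing A] (I : Ideal A) (Z : Type v) (N : Type w)
    [AddCommGroup N] [Module A N] [IsHausdorff I N] (n : ℕ) (hfg : (I ^ n).FG)
    (f : decaying I Z N) (hf : ∀ z, (f : Z → N) z ∈ (I ^ n • ⊤ : Submodule A N)) :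
    f ∈ (I ^ n • ⊤ : Submodule A (decaying I Z N)) := by
  classical
  obtain ⟨t, ht⟩ := hfg
  have hhaus : ∀ x : N, (∀ k : ℕ, x ∈ (I ^ k • ⊤ : Submodule A N)) → x = 0 := by
    intro x hx
    exact IsHausdorff.haus (inferInstance : IsHausdorff I N) x (fun k => SModEq.zero.mpr (hx k))
  have hmono : ∀ a b : ℕ, a ≤ b → (I ^ b • ⊤ : Submodule A N) ≤ I ^ a • ⊤ :=
    fun a b hab => Submodule.smul_mono_left (Ideal.pow_le_pow_right hab)
  let d : N → ℕ := fun x => if h : ∃ k, x ∉ (I ^ k • ⊤ : Submodule A N) then
    Nat.findGreatest (fun m => x ∈ (I ^ (m + n) • ⊤ : Submodule A N)) (Nat.find h) else 0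
  have hd1 : ∀ x : N, x ∈ (I ^ n • ⊤ : Submodule A N) →
      x ∈ (I ^ (d x + n) • ⊤ : Submodule A N) := by
    intro x hx
    by_cases h : ∃ k, x ∉ (I ^ k • ⊤ : Submodule A N)
    · simp only [d, dif_pos h]
      exact Nat.findGreatest_spec (P := fun m => x ∈ (I ^ (m + n) • ⊤ : Submodule A N))
        (Nat.zero_le _) (by simpa using hx)
    · push Not at h
      rw [hhaus x h]
      exact Submodule.zero_mem _
  have hd2 : ∀ (x : N) (M : ℕ), x ∈ (I ^ (M + n) • ⊤ : Submodule A N) → x = 0 ∨ M ≤ d x := by
    intro x M hx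
    by_cases h : ∃ k, x ∉ (I ^ k • ⊤ : Submodule A N)
    · right
      simp only [d, dif_pos h]
      have hk := Nat.find_spec h
      have hMk : M ≤ Nat.find h := by
        by_contra hlt
        push Not at hlt
        exact hk (hmono _ _ (by omega) hx)
      exact Nat.le_findGreatest hMk hx
    · left
      push Not at h
      exact hhaus x h
  have hrep : ∀ z, ∃ c : A → N, (∀ i, c i ∈ (I ^ d ((f : Z → N) z) • ⊤ : Submodule A N)) ∧
      (f : Z → N) z = ∑ i ∈ t, i • c i ∧ ((f : Z → N) z = 0 → c = 0) := by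
    intro z
    by_cases h0 : (f : Z → N) z = 0
    · exact ⟨0, fun i => by simp, by rw [h0]; simp, fun _ => rfl⟩
    · have hmem : (f : Z → N) z ∈ Ideal.span (t : Set A) •
          (I ^ d ((f : Z → N) z) • ⊤ : Submodule A N) := by
        rw [ht, ← Submodule.mul_smul, ← pow_add, add_comm]
        exact hd1 _ (hf z)
      obtain ⟨c, hc, e⟩ := decomp t _ _ hmem
      exact ⟨c, hc, e, fun h => absurd h h0⟩
  choose c hc1 hc2 hc3 using hrep
  have hcdec : ∀ i : A, (fun z => c z i) ∈ decaying I Z N := by
    intro i M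
    refine (f.2 (M + n)).subset ?_
    intro z hz hfz
    apply hz
    show c z i ∈ (I ^ M • ⊤ : Submodule A N)
    rcases hd2 _ M hfz with h0 | hle
    · rw [hc3 z h0]
      simp
    · exact hmono _ _ hle (hc1 z i)
  let C : A → decaying I Z N := fun i => ⟨fun z => c z i, hcdec i⟩
  have hfeq : f = ∑ i ∈ t, i • C i := by
    apply Subtype.ext
    funext z
    rw [hc2 z]
    simp [C, Finset.sum_apply]
  rw [hfeq]
  refine Submodule.sum_mem _ (fun i hi => Submodule.smul_mem_smul ?_ trivial)
  rw [← ht]
  exact Submodule.subset_span hi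

/-- Decaying functions into an `I`-adically complete module form an `I`-adically complete
module, when all powers of `I` are finitely generated. -/
theorem isAdicComplete {A : Type u} [CommRing A] (I : Ideal A) (hfg : ∀ n : ℕ, (I ^ n).FG)
    (Z : Type v) (N : Type w) [AddCommGroup N] [Module A N] [IsAdicComplete I N] :
    IsAdicComplete I (decaying I Z N) := by
  have hmemiff : ∀ (k : ℕ) (f : decaying I Z N),
      f ∈ (I ^ k • ⊤ : Submodule A (decaying I Z N)) ↔
        ∀ z, (f : Z → N) z ∈ (I ^ k • ⊤ : Submodule A N) := by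
    intro k f
    constructor
    · intro hf z
      let φ : decaying I Z N →ₗ[A] N := (LinearMap.proj z).comp (decaying I Z N).subtype
      have h2 : φ f ∈ Submodule.map φ (I ^ k • ⊤ : Submodule A (decaying I Z N)) :=
        Submodule.mem_map_of_mem hf
      rw [Submodule.map_smul''] at h2
      exact Submodule.smul_mono (le_refl _) le_top h2
    · exact mem_smul_top I Z N k (hfg k) f
  have hH : IsHausdorff I (decaying I Z N) := by
    constructor
    intro f hf
    apply Subtype.ext
    funext z
    have h3 := IsHausdorff.haus (inferInstance : IsHausdorff I N) ((f : Z → N) z)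
      (fun n => SModEq.zero.mpr ((hmemiff n f).mp (SModEq.zero.mp (hf n)) z))
    simpa using h3
  refine { toIsHausdorff := hH, toIsPrecomplete := ⟨?_⟩ }
  intro F hF
  have hpt : ∀ z : Z, ∃ L : N, ∀ k, (F k : Z → N) z - L ∈ (I ^ k • ⊤ : Submodule A N) := by
    intro z
    obtain ⟨L, hL⟩ := IsPrecomplete.prec (inferInstance : IsPrecomplete I N)
      (f := fun k => (F k : Z → N) z) (fun {m n} hmn => by
        have h := hF hmn
        rw [SModEq.sub_mem] at h ⊢
        have h2 := (hmemiff m _).mp h z
        simpa using h2)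
    refine ⟨L, fun k => ?_⟩
    have h3 := hL k
    rw [SModEq.sub_mem] at h3
    exact h3
  choose L hL using hpt
  have hLdec : L ∈ decaying I Z N := by
    intro M
    refine ((F M).2 M).subset ?_
    intro z hz hFz
    apply hz
    have h4 := Submodule.sub_mem _ hFz (hL z M)
    simpa using h4
  refine ⟨⟨L, hLdec⟩, fun n => ?_⟩
  rw [SModEq.sub_mem, hmemiff]
  intro z
  simpa using hL z n

end Groth.Agent.helper26.Dec
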