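-- helper8: shared lemmas on root data (RootD) used by S5448, S5449, S5492.
import Groth.Prelude.Def_W4sga3xxiRoot
import Mathlib.LinearAlgebra.Finsupp.Supported
import Mathlib.LinearAlgebra.LinearIndependent.Defs

set_option autoImplicit false

namespace Groth.Agent.helper8.RootLib

theorem natSpan_repr {ι M N : Type*} [AddCommGroup M] [AddCommGroup N]
    (P : RootPairing ι ℤ M N) (Δ : Set ι) (x : M) (hx : x ∈ RootD.natSpan P Δ) :
    ∃ a : ι →₀ ℤ, (∀ k, 0 ≤ a k) ∧ (↑a.support ⊆ Δ) ∧ Finsupp.linearCombination ℤ P.root a = x := by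
  classical
  induction hx using AddSubmonoid.closure_induction with
  | mem y hy =>
    obtain ⟨k, hk, rfl⟩ := hy
    refine ⟨Finsupp.single k 1, ?_, ?_, by simp⟩
    · intro l
      rw [Finsupp.single_apply]
      split_ifs <;> norm_num
    · intro l hl
      rw [Finset.mem_coe, Finsupp.mem_support_iff, Finsupp.single_apply] at hl
      split_ifs at hl with h
      · rw [← h]; exact hk
      · exact absurd rfl hl
  | zero => exact ⟨0, fun _ => le_rfl, by simp, by simp⟩
  | add y z _ _ hy hz =>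
    obtain ⟨a, ha0, has, rfl⟩ := hy
    obtain ⟨b, hb0, hbs, rfl⟩ := hz
    refine ⟨a + b, fun k => ?_, ?_, by simp⟩
    · simp only [Finsupp.add_apply]; linarith [ha0 k, hb0 k]
    · intro l hl
      rcases Finset.mem_union.mp (Finsupp.support_add hl) with h | h
      · exact has h
      · exact hbs h

theorem lc_inj {ι M N : Type*} [AddCommGroup M] [AddCommGroup N]
    (P : RootPairing ι ℤ M N) (Δ : Set ι) (hli : LinearIndepOn ℤ P.root Δ)
    (a b : ι →₀ ℤ) (ha : ↑a.support ⊆ Δ) (hb : ↑b.support ⊆ Δ)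
    (h : Finsupp.linearCombination ℤ P.root a = Finsupp.linearCombination ℤ P.root b) : a = b := by
  have := (linearIndepOn_iff.mp hli) (a - b)
    (Submodule.sub_mem _ ((Finsupp.mem_supported ℤ a).mpr ha) ((Finsupp.mem_supported ℤ b).mpr hb))
    (by rw [map_sub, h, sub_self])
  exact sub_eq_zero.mp this

theorem supp_single {ι : Type*} (Δ : Set ι) (k : ι) (hk : k ∈ Δ) (c : ℤ) :
    ↑(Finsupp.single k c).support ⊆ Δ := by
  classical
  intro l hl
  rw [Finset.mem_coe, Finsupp.mem_support_iff, Finsupp.single_apply] at hl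
  split_ifs at hl with h
  · rw [← h]; exact hk
  · exact absurd rfl hl

theorem supp_smul {ι : Type*} (Δ : Set ι) (a : ι →₀ ℤ) (ha : ↑a.support ⊆ Δ) (c : ℤ) :
    ↑(c • a).support ⊆ Δ := fun l hl => ha (Finsupp.support_smul hl)

theorem supp_add {ι : Type*} (Δ : Set ι) (a b : ι →₀ ℤ) (ha : ↑a.support ⊆ Δ) (hb : ↑b.support ⊆ Δ) :
    ↑(a + b).support ⊆ Δ := by
  classical
  intro l hl
  rcases Finset.mem_union.mp (Finsupp.support_add hl) with h | h
  · exact ha h
  · exact hb h

end Groth.Agent.helper8.RootLib
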