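import Groth.Statements.S0080
import Groth.Agent.S5132
-- import your own Groth.Agent.* helpers here

set_option autoImplicit false
open CategoryTheory CategoryTheory.Limits AlgebraicGeometry Opposite
universe u
open EtBase

namespace Groth.Agent.S0080

/-- Quasi-separatedness descends along a quasi-compact flat surjective base change: if the base change
of a morphism along a quasi-compact, flat, surjective morphism is quasi-separated, then the morphism
is quasi-separated. (The published statement is the fpqc-local form; stated here for a single
quasi-compact flat surjective base change, from which that form follows by Zariski-locality on the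
target.) -/
theorem result :
    MorphismProperty.DescendsAlong @QuasiSeparated (@Surjective ⊓ @Flat ⊓ @QuasiCompact : MorphismProperty Scheme.{u}) := by
  have hD0 : MorphismProperty.DescendsAlong @QuasiCompact
      (@Surjective ⊓ @QuasiCompact : MorphismProperty Scheme.{u}) := Groth.Agent.S5132.result
  have hD : MorphismProperty.DescendsAlong @QuasiCompact
      (@Surjective ⊓ @Flat ⊓ @QuasiCompact : MorphismProperty Scheme.{u}) :=
    MorphismProperty.DescendsAlong.of_le (P := @QuasiCompact)
      (Q := (@Surjective ⊓ @QuasiCompact : MorphismProperty Scheme.{u}))
      (fun _ _ _ hf => ⟨hf.1.1, hf.2⟩)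
  have j1 : MorphismProperty.IsStableUnderBaseChange (@Surjective : MorphismProperty Scheme.{u}) := inferInstance
  have j2 : MorphismProperty.IsStableUnderBaseChange (@Flat : MorphismProperty Scheme.{u}) := inferInstance
  have j3 : MorphismProperty.IsStableUnderBaseChange (@QuasiCompact : MorphismProperty Scheme.{u}) := inferInstance
  have i1 : MorphismProperty.IsStableUnderBaseChange
      (@Surjective ⊓ @Flat ⊓ @QuasiCompact : MorphismProperty Scheme.{u}) :=
    @MorphismProperty.IsStableUnderBaseChange.inf _ _ _ _
      (@MorphismProperty.IsStableUnderBaseChange.inf _ _ _ _ j1 j2) j3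
  have i2 : MorphismProperty.RespectsIso (@QuasiCompact : MorphismProperty Scheme.{u}) :=
    MorphismProperty.respectsIso_of_isStableUnderComposition (fun _ _ f (_ : IsIso f) => inferInstance)
  have hD2 : MorphismProperty.DescendsAlong (MorphismProperty.diagonal @QuasiCompact)
      (@Surjective ⊓ @Flat ⊓ @QuasiCompact : MorphismProperty Scheme.{u}) :=
    @MorphismProperty.instDescendsAlongDiagonalOfRespectsIsoOfIsStableUnderBaseChange _ _ _ _ _ hD i2 i1
  rw [quasiSeparated_eq_diagonal_is_quasiCompact]
  exact hD2

end Groth.Agent.S0080
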