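import Groth.Statements.S10830

set_option autoImplicit false
universe u
open Topology TopologicalSpace
open TopDim

namespace Groth.Agent.S10830

/-- In an irreducible topological space X of finite Krull dimension, every proper closed subset Y has
strictly smaller Krull dimension than X. -/
theorem result (X : Type u) [TopologicalSpace X]
    [IrreducibleSpace X] (hfin : topologicalKrullDim X ≠ ⊤) (Y : Set X) (hY : IsClosed Y) (hYX : Y ≠ Set.univ) :
    topologicalKrullDim ↥Y < topologicalKrullDim X := by
  let T : IrreducibleCloseds X := ⟨Set.univ, IrreducibleSpace.isIrreducible_univ X, isClosed_univ⟩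
  have hne : topologicalKrullDim X ≠ ⊥ := by
    unfold topologicalKrullDim
    exact Order.krullDim_ne_bot_iff.mpr ⟨T⟩
  obtain ⟨m, hm⟩ := WithBot.ne_bot_iff_exists.mp hne
  have hmt : m ≠ ⊤ := by rintro rfl; exact hfin hm.symm
  obtain ⟨n, rfl⟩ := ENat.ne_top_iff_exists.mp hmt
  rw [← hm]
  have hcast : (((n : ℕ∞)) : WithBot ℕ∞) = ((n : ℕ) : WithBot ℕ∞) := rfl
  rw [hcast]
  unfold topologicalKrullDim
  rw [Order.krullDim_lt_coe_iff]
  intro l
  let f : IrreducibleCloseds Y → IrreducibleCloseds X :=
    IrreducibleCloseds.map Subtype.val continuous_subtype_val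
  have hf : StrictMono f := IrreducibleCloseds.map_strictMono_of_isInducing IsInducing.subtypeVal
  let l' := l.map f hf
  have hlast : l'.last < T := by
    refine lt_of_le_of_ne (fun x _ => Set.mem_univ x) ?_
    intro heq
    apply hYX
    have hsub : (T : Set X) ⊆ Y := by
      rw [← heq]
      show closure (Subtype.val '' (l.last : Set Y)) ⊆ Y
      exact closure_minimal (by rintro _ ⟨y, _, rfl⟩; exact y.2) hY
    exact Set.eq_univ_of_univ_subset hsub
  let l'' : LTSeries (IrreducibleCloseds X) := l'.snoc T hlast
  have h1 := Order.LTSeries.length_le_krullDim l''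
  have hlen : l''.length = l.length + 1 := by simp [l'', l']
  rw [hlen] at h1
  have h2 : (((l.length + 1 : ℕ)) : WithBot ℕ∞) ≤ ((n : ℕ) : WithBot ℕ∞) := by
    have : Order.krullDim (IrreducibleCloseds X) = ((n : ℕ) : WithBot ℕ∞) := by
      rw [← hcast, hm]; rfl
    rw [this] at h1
    exact_mod_cast h1
  have h3 : l.length + 1 ≤ n := by exact_mod_cast h2
  exact_mod_cast (show l.length < n by omega)

end Groth.Agent.S10830
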