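import Groth.Statements.S10831

set_option autoImplicit false
universe u
open Topology TopologicalSpace
open TopDim

namespace Groth.Agent.S10831

theorem preimage_val_isIrreducible_aux {X : Type u} [TopologicalSpace X] {Y S : Set X}
    (hS : IsIrreducible S) (hSY : S ⊆ Y) :
    IsIrreducible ((Subtype.val : Y → X) ⁻¹' S) := by
  refine ⟨?_, ?_⟩
  · obtain ⟨x, hx⟩ := hS.nonempty
    exact ⟨⟨x, hSY hx⟩, hx⟩
  · intro u v hu hv hau hbv
    obtain ⟨u', hu', rfl⟩ := isOpen_induced_iff.mp hu
    obtain ⟨v', hv', rfl⟩ := isOpen_induced_iff.mp hv
    obtain ⟨a, ha, hau⟩ := hau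
    obtain ⟨b, hb, hbv⟩ := hbv
    obtain ⟨x, hxS, hxu, hxv⟩ := hS.2 u' v' hu' hv' ⟨a, ha, hau⟩ ⟨b, hb, hbv⟩
    exact ⟨⟨x, hSY hxS⟩, hxS, hxu, hxv⟩

/-- The Krull dimension of a topological space is the supremum of the Krull dimensions of its
irreducible components. -/
theorem result (X : Type u) [TopologicalSpace X] :
    topologicalKrullDim X = ⨆ Y ∈ irreducibleComponents X, topologicalKrullDim ↥Y := by
  apply le_antisymm
  · unfold topologicalKrullDim Order.krullDim
    apply iSup_le
    intro p
    obtain ⟨Y, hYc, hY⟩ := exists_mem_irreducibleComponents_subset_of_isIrreducible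
      (p.last : Set X) p.last.isIrreducible
    have hsub : ∀ i, (p i : Set X) ⊆ Y := fun i => by
      have h0 : p i ≤ p.last := p.monotone (Fin.le_last i)
      exact (show (p i : Set X) ⊆ p.last from h0).trans hY
    let q : LTSeries (IrreducibleCloseds Y) :=
      { length := p.length
        toFun := fun i => ⟨Subtype.val ⁻¹' (p i : Set X),
          preimage_val_isIrreducible_aux (p i).isIrreducible (hsub i),
          (p i).isClosed.preimage continuous_subtype_val⟩
        step := fun i => by
          have hlt := p.step i
          have hlt' : p (Fin.castSucc i) < p (Fin.succ i) := hlt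
          show (_ : IrreducibleCloseds Y) < _
          refine lt_of_le_of_ne ?_ ?_
          · intro y hy
            exact (le_of_lt hlt') hy
          · intro heq
            apply ne_of_lt hlt'
            apply IrreducibleCloseds.ext
            apply le_antisymm
            · exact le_of_lt hlt'
            · intro x hx
              have hx' : (⟨x, hsub _ hx⟩ : Y) ∈ (Subtype.val ⁻¹' (p (Fin.succ i) : Set X)) := hx
              have := congrArg (fun Z : IrreducibleCloseds Y => (⟨x, hsub _ hx⟩ : Y) ∈ Z) heq
              simp only at this
              exact this.mpr hx' }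
    have h1 := Order.LTSeries.length_le_krullDim q
    refine le_trans ?_ (le_iSup₂_of_le Y hYc (le_refl _))
    exact h1
  · apply iSup₂_le
    intro Y _
    exact topologicalKrullDim_subspace_le X Y

end Groth.Agent.S10831
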