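import Groth.Statements.S10839
import Groth.Agent.S10830

set_option autoImplicit false
universe u
open CategoryTheory AlgebraicGeometry Topology
open Variety

namespace Groth.Agent.S10839

/-- A closed immersion i : Y → X into an integral scheme X with dim X = dim Y < ∞ is an isomorphism. -/
theorem result {X Y : Scheme.{u}} (i : Y ⟶ X)
    [IsClosedImmersion i] [IsIntegral X] (hfin : topologicalKrullDim ↥X ≠ ⊤)
    (hdim : topologicalKrullDim ↥X = topologicalKrullDim ↥Y) : IsIso i := by
  have hcl : IsClosed (Set.range i.base) := i.isClosedEmbedding.isClosed_range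
  have hind : IsInducing (Set.codRestrict i.base (Set.range i.base) (fun y => ⟨y, rfl⟩)) :=
    i.isClosedEmbedding.isInducing.codRestrict _
  have hle : topologicalKrullDim ↥Y ≤ topologicalKrullDim ↥(Set.range i.base) :=
    hind.topologicalKrullDim_le
  have huniv : Set.range i.base = Set.univ := by
    by_contra hne
    have hlt := Groth.Agent.S10830.result (X : Type u) hfin (Set.range i.base) hcl hne
    rw [hdim] at hlt
    exact absurd (lt_of_le_of_lt hle hlt) (lt_irrefl _)
  have hsurj : Surjective i := ⟨fun x => by
    have : x ∈ Set.range i.base := huniv ▸ Set.mem_univ x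
    exact this⟩
  exact isIso_of_isClosedImmersion_of_surjective i

end Groth.Agent.S10839
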