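import Groth.Statements.S10842
import Mathlib.RingTheory.Localization.LocalizationLocalization
import Mathlib.RingTheory.IntegralClosure.IntegrallyClosed

set_option autoImplicit false
universe u
open CategoryTheory AlgebraicGeometry
open Variety

namespace Groth.Agent.S10842

theorem result (X : Scheme.{u}) [CompactSpace ↥X]
    (h : ∀ x : X, IsClosed ({x} : Set X) →
      IsDomain (X.presheaf.stalk x) ∧ IsIntegrallyClosed (X.presheaf.stalk x)) :
    Pi1.IsNormalScheme X := by
  intro x
  obtain ⟨z, hzx, hz⟩ := IsClosed.exists_closed_singleton (isClosed_closure (s := ({x} : Set X)))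
    ⟨x, subset_closure rfl⟩
  have hxz : x ⤳ z := specializes_iff_mem_closure.mpr hzx
  obtain ⟨hdom, hic⟩ := h z hz
  obtain ⟨_, ⟨U, hU, rfl⟩, hzU, -⟩ := X.isBasis_affineOpens.exists_subset_of_mem_open
    (show z ∈ ((⊤ : X.Opens) : Set X) from trivial) (⊤ : X.Opens).2
  have hxU : x ∈ U := hxz.mem_open U.isOpen hzU
  let R := Γ(X, U)
  let S := X.presheaf.stalk z
  let T := X.presheaf.stalk x
  let _algS : Algebra R S := TopCat.Presheaf.algebra_section_stalk X.presheaf ⟨z, hzU⟩
  let _algT : Algebra R T := TopCat.Presheaf.algebra_section_stalk X.presheaf ⟨x, hxU⟩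
  have locS := hU.isLocalization_stalk ⟨z, hzU⟩
  have locT := hU.isLocalization_stalk ⟨x, hxU⟩
  let _algST : Algebra S T := (X.presheaf.stalkSpecializes hxz).hom.toAlgebra
  have tower : IsScalarTower R S T := by
    apply IsScalarTower.of_algebraMap_eq
    intro r
    show X.presheaf.germ U x hxU r = X.presheaf.stalkSpecializes hxz (X.presheaf.germ U z hzU r)
    rw [← CommRingCat.comp_apply, TopCat.Presheaf.germ_stalkSpecializes]
  have hsp : (⟨x, hxU⟩ : U) ⤳ (⟨z, hzU⟩ : U) := by
    rw [subtype_specializes_iff]; exact hxz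
  have hpp : hU.primeIdealOf ⟨x, hxU⟩ ≤ hU.primeIdealOf ⟨z, hzU⟩ := by
    rw [PrimeSpectrum.le_iff_specializes]
    exact hsp.map (hU.isoSpec.hom.base.hom.continuous)
  have hle : (hU.primeIdealOf ⟨z, hzU⟩).asIdeal.primeCompl ≤
      (hU.primeIdealOf ⟨x, hxU⟩).asIdeal.primeCompl := by
    intro s hs hsx
    exact hs (hpp hsx)
  have loc := IsLocalization.isLocalization_of_submonoid_le (R := R) (S := S) (T := T) _ _ hle
  have hM : ((hU.primeIdealOf ⟨x, hxU⟩).asIdeal.primeCompl.map (algebraMap R S)) ≤ nonZeroDivisors S := by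
    rintro _ ⟨s, hs, rfl⟩
    apply mem_nonZeroDivisors_of_ne_zero
    intro h0
    have hu := IsLocalization.map_units T (⟨s, hs⟩ : (hU.primeIdealOf ⟨x, hxU⟩).asIdeal.primeCompl)
    rw [IsScalarTower.algebraMap_apply R S T] at hu
    simp only at hu
    rw [h0, map_zero] at hu
    exact not_isUnit_zero hu
  exact ⟨IsLocalization.isDomain_of_le_nonZeroDivisors (R := S) T hM,
    isIntegrallyClosed_of_isLocalization (R := S) (S := T) _ hM⟩

end Groth.Agent.S10842
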