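import Groth.Statements.S10851
import Mathlib.RingTheory.HopkinsLevitzki

set_option autoImplicit false
universe u
open Mero

namespace Groth.Agent.S10851

open AlgebraicGeometry in
/-- Let X be a locally Noetherian scheme and D a divisor on X (a global section of K_X^×/O_X^×). Then
the support of D has codimension at least 1 in X: for every point z at which the germ of D is
non-trivial, the local ring O_{X,z} has Krull dimension at least 1. -/
theorem result {X : Scheme.{u}} [IsLocallyNoetherian X]
    (D : Mero.Divisor X) (z : X) (hz : z ∈ Mero.supp D) :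
    (1 : WithBot ℕ∞) ≤ ringKrullDim (X.presheaf.stalk z) := by
  by_contra hlt
  replace hlt := lt_of_not_ge hlt
  have hle : ringKrullDim (X.presheaf.stalk z) ≤ (0 : ℕ) := by
    rcases h : ringKrullDim (X.presheaf.stalk z) with _ | y
    · exact bot_le
    · rw [h] at hlt
      have hy : y < 1 := by
        exact_mod_cast (show ((y : ℕ∞) : WithBot ℕ∞) < ((1 : ℕ∞) : WithBot ℕ∞) from hlt)
      have hy0 : y = 0 := Order.lt_one_iff.mp hy
      rw [hy0]; rfl
  have hKD : Ring.KrullDimLE 0 (X.presheaf.stalk z) := Ring.krullDimLE_iff.mpr hle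
  have hart : IsArtinianRing (X.presheaf.stalk z) :=
    isArtinianRing_iff_isNoetherianRing_krullDimLE_zero.mpr ⟨inferInstance, hKD⟩
  -- every element of the localizing submonoid is a unit
  have hunit : ∀ s : regStalk X z, IsUnit (s : X.presheaf.stalk z) := fun s =>
    IsArtinianRing.isUnit_of_mem_nonZeroDivisors (regStalk_le_nonZeroDivisors z s.2)
  -- every element of `KStalk` comes from the stalk
  have hsurj : ∀ q : KStalk X z, ∃ r : X.presheaf.stalk z,
      algebraMap (X.presheaf.stalk z) (KStalk X z) r = q := by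
    intro q
    obtain ⟨⟨r, s⟩, hrs⟩ := IsLocalization.surj (regStalk X z) q
    obtain ⟨t, ht⟩ := hunit s
    refine ⟨r * (↑t⁻¹ : X.presheaf.stalk z), ?_⟩
    have hs' : algebraMap (X.presheaf.stalk z) (KStalk X z) (s : X.presheaf.stalk z) *
        algebraMap (X.presheaf.stalk z) (KStalk X z) (↑t⁻¹ : X.presheaf.stalk z) = 1 := by
      rw [← map_mul, ← ht, Units.mul_inv, map_one]
    calc algebraMap (X.presheaf.stalk z) (KStalk X z) (r * ↑t⁻¹)
        = (q * algebraMap (X.presheaf.stalk z) (KStalk X z) (s : X.presheaf.stalk z)) *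
            algebraMap (X.presheaf.stalk z) (KStalk X z) (↑t⁻¹ : X.presheaf.stalk z) := by
          rw [map_mul, ← hrs]
      _ = q := by rw [mul_assoc, hs', mul_one]
  -- every unit of `KStalk` comes from a unit of the stalk
  have hall : ∀ u : (KStalk X z)ˣ, u ∈ stalkUnits X z := by
    intro u
    obtain ⟨r, hr⟩ := hsurj (u : KStalk X z)
    obtain ⟨r', hr'⟩ := hsurj (↑u⁻¹ : KStalk X z)
    have h1 : r * r' = 1 := by
      apply algebraMap_KStalk_injective z
      rw [map_mul, hr, hr', Units.mul_inv, map_one]
    have hru : IsUnit r := isUnit_iff_exists_inv.mpr ⟨r', h1⟩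
    refine ⟨hru.unit, ?_⟩
    apply Units.ext
    simp [hr]
  apply hz
  obtain ⟨u, hu⟩ := QuotientGroup.mk_surjective (D.1 z)
  rw [← hu]
  exact (QuotientGroup.eq_one_iff u).mpr (hall u)

end Groth.Agent.S10851
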