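import Groth.Statements.S10868
import Mathlib.AlgebraicGeometry.QuasiAffine
import Mathlib.AlgebraicGeometry.Morphisms.Proper

set_option autoImplicit false
universe u
open Mor

namespace Groth.Agent.S10868

open CategoryTheory AlgebraicGeometry in
theorem result {X Y : Scheme.{u}} (f : X ⟶ Y) :
    IsFinite f ↔ IsProper f ∧ Mor2.IsQuasiAffine f := by
  constructor
  · intro hf
    obtain ⟨hp, ha⟩ := IsFinite.iff_isProper_and_isAffineHom.mp hf
    refine ⟨hp, inferInstance, fun V hV => ?_⟩
    have : IsAffine (f ⁻¹ᵁ V : Scheme.{u}) := IsAffineHom.isAffine_preimage V hV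
    infer_instance
  · rintro ⟨hp, hqc, hqa⟩
    refine IsFinite.iff_isProper_and_isAffineHom.mpr ⟨hp, ⟨fun V hV => ?_⟩⟩
    have hW : Scheme.IsQuasiAffine (f ⁻¹ᵁ V : Scheme.{u}) := hqa V hV
    let W : Scheme.{u} := (f ⁻¹ᵁ V : Scheme.{u})
    have : IsAffine (V : Scheme.{u}) := hV
    let g : W ⟶ (V : Scheme.{u}) := f ∣_ V
    have hg : UniversallyClosed g := IsZariskiLocalAtTarget.restrict (P := @UniversallyClosed) inferInstance V
    have h1 : UniversallyClosed (W.toSpecΓ ≫ Spec.map g.appTop) := by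
      rw [← Scheme.toSpecΓ_naturality]; infer_instance
    have h2 : UniversallyClosed W.toSpecΓ := .of_comp_of_isSeparated _ (Spec.map g.appTop)
    have h3 : IsClosedImmersion W.toSpecΓ :=
      IsClosedImmersion.of_isPreimmersion _ (W.toSpecΓ.isClosedMap.isClosed_range)
    show IsAffine W
    exact isAffine_of_isAffineHom W.toSpecΓ

end Groth.Agent.S10868
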