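import Groth.Statements.S10886

set_option autoImplicit false
universe u
open CategoryTheory AlgebraicGeometry
open Curves

namespace Groth.Agent.S10886

theorem result {X : Scheme.{u}} [IsNoetherian X]
    [IrreducibleSpace X] (hX : topologicalKrullDim X = 1) (s : Set X) (hs : Topology.IsConstructible s) :
    (s.Finite ∧ (∀ x ∈ s, IsClosed ({x} : Set X))) ∨ (sᶜ.Finite ∧ ∀ x ∈ sᶜ, IsClosed ({x} : Set X)) := by
  have key : ∀ U : Set X, IsOpen U → U.Nonempty → ∀ z ∉ U, IsClosed ({z} : Set X) := by
    intro U hU hne z hz
    by_contra hnc
    obtain ⟨y, hy, hyz⟩ : ∃ y ∈ closure ({z} : Set X), y ≠ z := by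
      by_contra h
      apply hnc
      have : closure ({z} : Set X) = {z} := by
        ext w
        constructor
        · intro hw
          by_contra hw'
          exact h ⟨w, hw, hw'⟩
        · rintro rfl; exact subset_closure rfl
      rw [← this]; exact isClosed_closure
    let A : TopologicalSpace.IrreducibleCloseds X := ⟨closure {y}, isIrreducible_singleton.closure, isClosed_closure⟩
    let B : TopologicalSpace.IrreducibleCloseds X := ⟨closure {z}, isIrreducible_singleton.closure, isClosed_closure⟩
    let T : TopologicalSpace.IrreducibleCloseds X := ⟨Set.univ, IrreducibleSpace.isIrreducible_univ X, isClosed_univ⟩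
    have hAB : A < B := by
      refine lt_of_le_of_ne ?_ ?_
      · show closure {y} ⊆ closure {z}
        exact closure_minimal (by simpa using hy) isClosed_closure
      · intro h
        have h' : closure ({y} : Set X) = closure {z} := congrArg (fun C : TopologicalSpace.IrreducibleCloseds X => (C : Set X)) h
        exact hyz ((inseparable_iff_closure_eq.mpr h').eq)
    have hBT : B < T := by
      refine lt_of_le_of_ne (fun x _ => Set.mem_univ x) ?_
      intro h
      have h' : closure ({z} : Set X) = Set.univ := congrArg (fun C : TopologicalSpace.IrreducibleCloseds X => (C : Set X)) h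
      obtain ⟨u, hu⟩ := hne
      have hsub : closure ({z} : Set X) ⊆ Uᶜ :=
        closure_minimal (by simpa using hz) hU.isClosed_compl
      have : u ∈ Uᶜ := hsub (h' ▸ Set.mem_univ u)
      exact this hu
    let p : LTSeries (TopologicalSpace.IrreducibleCloseds X) :=
      { length := 2
        toFun := ![A, B, T]
        step := by
          intro i
          fin_cases i
          · show A < B
            exact hAB
          · show B < T
            exact hBT }
    have hp := Order.LTSeries.length_le_krullDim p
    have hlen : p.length = 2 := rfl
    have h2 : ((2 : ℕ) : WithBot ℕ∞) ≤ topologicalKrullDim X := by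
      rw [← hlen]; exact hp
    rw [hX] at h2
    exact absurd h2 (by decide)
  have keyfin : ∀ U : Set X, IsOpen U → U.Nonempty → (Uᶜ).Finite := by
    intro U hU hne
    obtain ⟨S, hSf, hScl, hSirr, hSeq⟩ :=
      TopologicalSpace.NoetherianSpace.exists_finite_set_isClosed_irreducible hU.isClosed_compl
    rw [hSeq]
    refine hSf.sUnion ?_
    intro t ht
    obtain ⟨η, hη⟩ := QuasiSober.sober (hSirr t ht) (hScl t ht)
    have hηU : η ∉ U := by
      have : η ∈ ⋃₀ S := ⟨t, ht, hη.mem⟩
      rw [← hSeq] at this
      exact this
    have hcl := key U hU hne η hηU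
    have : t = {η} := by rw [← hη.def, hcl.closure_eq]
    rw [this]; exact Set.finite_singleton η
  induction hs using Topology.IsConstructible.empty_union_induction with
  | open_retrocompact U hUopen hUcomp =>
    rcases U.eq_empty_or_nonempty with h | h
    · left; subst h; simp
    · right
      exact ⟨keyfin U hUopen h, fun x hx => key U hUopen h x hx⟩
  | union s hs t ht ihs iht =>
    rcases ihs with ⟨hsf, hsc⟩ | ⟨hsf, hsc⟩
    · rcases iht with ⟨htf, htc⟩ | ⟨htf, htc⟩
      · left
        refine ⟨hsf.union htf, ?_⟩
        rintro x (hx | hx)
        · exact hsc x hx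
        · exact htc x hx
      · right
        rw [Set.compl_union]
        exact ⟨htf.subset Set.inter_subset_right, fun x hx => htc x hx.2⟩
    · right
      rw [Set.compl_union]
      exact ⟨hsf.subset Set.inter_subset_left, fun x hx => hsc x hx.1⟩
  | compl s hs ih =>
    rcases ih with h | h
    · right; rw [compl_compl]; exact h
    · left; exact h

end Groth.Agent.S10886
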