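import Groth.Statements.S10891

set_option autoImplicit false
universe u
open CAlg

namespace Groth.Agent.S10891

open MvPolynomial in
theorem result (k : Type u) [Field k] (r a : ℕ) (ha : 0 < a) (har : a < r)
    (ζ : k) (hζ : IsPrimitiveRoot ζ r) (p : MvPolynomial (Fin 2) k) :
    MvPolynomial.aeval (fun i : Fin 2 => if i = 0 then MvPolynomial.C ζ⁻¹ * MvPolynomial.X 0
        else MvPolynomial.C (ζ⁻¹ ^ a) * (MvPolynomial.X 1 : MvPolynomial (Fin 2) k)) p = p ↔
      p ∈ Algebra.adjoin k {q : MvPolynomial (Fin 2) k | ∃ i j : ℕ, i ≤ r ∧ j ≤ r ∧ ¬ (i = r ∧ j = r) ∧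
        r ∣ i + a * j ∧ q = MvPolynomial.X 0 ^ i * MvPolynomial.X 1 ^ j} := by
  set g : Fin 2 → MvPolynomial (Fin 2) k := fun i => if i = 0 then C ζ⁻¹ * X 0
        else C (ζ⁻¹ ^ a) * (X 1 : MvPolynomial (Fin 2) k) with hg
  set S : Set (MvPolynomial (Fin 2) k) := {q : MvPolynomial (Fin 2) k | ∃ i j : ℕ, i ≤ r ∧ j ≤ r ∧
    ¬ (i = r ∧ j = r) ∧ r ∣ i + a * j ∧ q = X 0 ^ i * X 1 ^ j} with hS
  have hr : 0 < r := by omega
  let w : (Fin 2 →₀ ℕ) → k := fun s => ζ⁻¹ ^ (s 0 + a * s 1)
  have hprod : ∀ (s : Fin 2 →₀ ℕ) (h : Fin 2 → MvPolynomial (Fin 2) k),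
      (s.prod fun i e => h i ^ e) = h 0 ^ s 0 * h 1 ^ s 1 := by
    intro s h
    rw [Finsupp.prod_fintype s _ (fun i => pow_zero _), Fin.prod_univ_two]
  have hmon : ∀ s c, aeval g (monomial s c) = monomial s (c * w s) := by
    intro s c
    rw [aeval_monomial, hprod, monomial_eq, hprod]
    simp only [g, w, if_pos rfl, show ((1 : Fin 2) = 0) = False from by decide, if_false]
    rw [algebraMap_eq]
    simp only [map_mul, map_pow, mul_pow, pow_add, pow_mul]
    ring
  have hcoeff : ∀ (q : MvPolynomial (Fin 2) k) (s : Fin 2 →₀ ℕ),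
      coeff s (aeval g q) = coeff s q * w s := by
    intro q s
    induction q using MvPolynomial.induction_on' with
    | monomial u c =>
      rw [hmon, coeff_monomial, coeff_monomial]
      by_cases hus : u = s
      · subst hus; simp
      · simp [hus]
    | add p q hp hq => rw [map_add, coeff_add, coeff_add, hp, hq, add_mul]
  have hw : ∀ s : Fin 2 →₀ ℕ, w s = 1 ↔ r ∣ s 0 + a * s 1 := by
    intro s
    simp only [w, inv_pow, inv_eq_one]
    exact hζ.pow_eq_one_iff_dvd _
  have hgen : ∀ i j, i ≤ r → j ≤ r → ¬ (i = r ∧ j = r) → r ∣ i + a * j →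
      (X 0 ^ i * X 1 ^ j : MvPolynomial (Fin 2) k) ∈ Algebra.adjoin k S :=
    fun i j hi hj hij hd => Algebra.subset_adjoin ⟨i, j, hi, hj, hij, hd, rfl⟩
  have hmadj : ∀ n i j, i + j = n → r ∣ i + a * j →
      (X 0 ^ i * X 1 ^ j : MvPolynomial (Fin 2) k) ∈ Algebra.adjoin k S := by
    intro n
    induction n using Nat.strong_induction_on with
    | _ n ih =>
      intro i j hij hdvd
      by_cases hi : r < i
      · obtain ⟨i', rfl⟩ := Nat.exists_eq_add_of_le hi.le
        have h1 : (X 0 ^ (r + i') * X 1 ^ j : MvPolynomial (Fin 2) k) =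
            (X 0 ^ r * X 1 ^ 0) * (X 0 ^ i' * X 1 ^ j) := by ring
        rw [h1]
        refine Subalgebra.mul_mem _ (hgen r 0 le_rfl (Nat.zero_le r) (fun h => by omega) (by simp)) ?_
        refine ih (i' + j) (by omega) i' j rfl ?_
        have : r + i' + a * j = r + (i' + a * j) := by ring
        rw [this] at hdvd
        exact (Nat.dvd_add_right (dvd_refl r)).mp hdvd
      by_cases hj : r < j
      · obtain ⟨j', rfl⟩ := Nat.exists_eq_add_of_le hj.le
        have h1 : (X 0 ^ i * X 1 ^ (r + j') : MvPolynomial (Fin 2) k) =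
            (X 0 ^ 0 * X 1 ^ r) * (X 0 ^ i * X 1 ^ j') := by ring
        rw [h1]
        refine Subalgebra.mul_mem _ (hgen 0 r (Nat.zero_le r) le_rfl (fun h => by omega)
          (by simp)) ?_
        refine ih (i + j') (by omega) i j' rfl ?_
        have : i + a * (r + j') = a * r + (i + a * j') := by ring
        rw [this] at hdvd
        exact (Nat.dvd_add_right (dvd_mul_left r a)).mp hdvd
      by_cases hrr : i = r ∧ j = r
      · rw [hrr.1, hrr.2]
        have h1 : (X 0 ^ r * X 1 ^ r : MvPolynomial (Fin 2) k) =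
            (X 0 ^ r * X 1 ^ 0) * (X 0 ^ 0 * X 1 ^ r) := by ring
        rw [h1]
        exact Subalgebra.mul_mem _ (hgen r 0 le_rfl (Nat.zero_le r) (fun h => by omega) (by simp))
          (hgen 0 r (Nat.zero_le r) le_rfl (fun h => by omega) (by simp))
      exact hgen i j (by omega) (by omega) hrr hdvd
  have hmonoeq : ∀ (s : Fin 2 →₀ ℕ) (c : k),
      (monomial s c : MvPolynomial (Fin 2) k) = C c * (X 0 ^ s 0 * X 1 ^ s 1) := by
    intro s c
    rw [monomial_eq, hprod]
  constructor
  · intro h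
    rw [p.as_sum]
    refine Subalgebra.sum_mem _ (fun s hs => ?_)
    have hs' : coeff s p ≠ 0 := mem_support_iff.mp hs
    have hws : w s = 1 := by
      have h2 := hcoeff p s
      rw [h] at h2
      have h3 : coeff s p * (w s - 1) = 0 := by rw [mul_sub, ← h2]; ring
      rcases mul_eq_zero.mp h3 with h4 | h4
      · exact absurd h4 hs'
      · exact sub_eq_zero.mp h4
    have hdvd := (hw s).mp hws
    rw [hmonoeq]
    exact Subalgebra.mul_mem _ (Subalgebra.algebraMap_mem _ _) (hmadj _ _ _ rfl hdvd)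
  · intro h
    have hle : Algebra.adjoin k S ≤ AlgHom.equalizer (aeval g) (AlgHom.id k _) := by
      rw [Algebra.adjoin_le_iff]
      rintro q ⟨i, j, -, -, -, hdvd, rfl⟩
      show aeval g (X 0 ^ i * X 1 ^ j) = X 0 ^ i * X 1 ^ j
      let s : Fin 2 →₀ ℕ := Finsupp.single 0 i + Finsupp.single 1 j
      have hs0 : s 0 = i := by simp [s]
      have hs1 : s 1 = j := by simp [s]
      have hX : (X 0 ^ i * X 1 ^ j : MvPolynomial (Fin 2) k) = monomial s 1 := by
        rw [hmonoeq, hs0, hs1, map_one, one_mul]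
      rw [hX, hmon]
      have : w s = 1 := (hw s).mpr (by rw [hs0, hs1]; exact hdvd)
      rw [this, one_mul]
    exact hle h

end Groth.Agent.S10891
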