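import Groth.Statements.S10898
import Mathlib.RingTheory.KrullDimension.Polynomial

set_option autoImplicit false
universe u
open Polynomial
open WDiv

namespace Groth.Agent.S10898

theorem comap_C_map_C_aux {A : Type u} [CommRing A] (p : Ideal A) :
    (p.map (C : A →+* A[X])).comap (C : A →+* A[X]) = p := by
  ext a
  rw [Ideal.mem_comap, Ideal.mem_map_C_iff]
  constructor
  · intro h
    simpa using h 0
  · intro h n
    rw [coeff_C]
    split_ifs
    · exact h
    · exact p.zero_mem

/-- Let A be a Noetherian integral domain and P a prime ideal of height 1 of the polynomial ring A[X].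
Then either P meets A in 0 only, or its contraction p = P ∩ A is a prime of height 1 of A and P is
the extension p·A[X]. (The published lemma also assumes A regular in codimension 1; that hypothesis
is not used for this assertion.) -/
theorem result (A : Type u) [CommRing A] [IsDomain A]
    [IsNoetherianRing A] (P : Ideal A[X]) [P.IsPrime] (hP : P.height = 1) :
    P.comap (C : A →+* A[X]) = ⊥ ∨
      ((P.comap (C : A →+* A[X])).height = 1 ∧ P = (P.comap (C : A →+* A[X])).map C) := by
  classical
  by_cases hp : P.comap (C : A →+* A[X]) = ⊥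
  · exact Or.inl hp
  right
  set p := P.comap (C : A →+* A[X]) with hpdef
  have hpprime : p.IsPrime := Ideal.comap_isPrime C P
  have hpX : (p.map (C : A →+* A[X])).IsPrime := Ideal.isPrime_map_C_of_isPrime
  have hle : p.map (C : A →+* A[X]) ≤ P := Ideal.map_comap_le
  have hne : p.map (C : A →+* A[X]) ≠ ⊥ := by
    intro h
    apply hp
    have := comap_C_map_C_aux p
    rw [h] at this
    rw [← this]
    ext a
    simp only [Ideal.mem_comap, Ideal.mem_bot, map_eq_zero_iff _ (C_injective)]
  have hbotprime : (⊥ : Ideal A[X]).IsPrime := Ideal.isPrime_bot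
  have h1 : 1 ≤ (p.map (C : A →+* A[X])).height := by
    have := Ideal.height_strict_mono_of_isPrime_of_isPrime (I := ⊥) (J := p.map C)
      (bot_lt_iff_ne_bot.mpr hne)
    rw [Ideal.height_bot] at this
    exact Order.one_le_iff_pos.mpr this
  have heq : p.map (C : A →+* A[X]) = P :=
    Ideal.eq_of_le_of_height_le _ hle (by rw [hP]; exact h1)
  refine ⟨?_, heq.symm⟩
  have hlo : (p.map (algebraMap A A[X])).LiesOver p := by
    constructor
    rw [Ideal.under, algebraMap_eq, comap_C_map_C_aux]
  have hpX' : (p.map (algebraMap A A[X])).IsPrime := by rw [algebraMap_eq]; exact hpX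
  have key := Ideal.height_eq_height_add_of_liesOver_of_hasGoingDown (R := A) (S := A[X]) p
    (p.map (algebraMap A A[X]))
  have hq : (Ideal.map (Ideal.Quotient.mk (p.map (algebraMap A A[X]))) (p.map (algebraMap A A[X])))
      = ⊥ := Ideal.map_quotient_self _
  have hnt : Nontrivial (A[X] ⧸ p.map (algebraMap A A[X])) :=
    Ideal.Quotient.nontrivial_iff.mpr hpX'.ne_top
  rw [hq, Ideal.height_bot, add_zero, algebraMap_eq, heq, hP] at key
  exact key.symm

end Groth.Agent.S10898
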