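import Groth.Statements.S10944
import Mathlib.AlgebraicGeometry.Morphisms.UniversallyOpen

set_option autoImplicit false
universe u
open CategoryTheory AlgebraicGeometry

namespace Groth.Agent.S10944

theorem result {X Y : Scheme.{u}}
    [IsNoetherian X] [IsNoetherian Y] (f : X ⟶ Y) [Flat f]
    (Y' : Set ↥Y) (hY' : Y' ∈ irreducibleComponents ↥Y) :
    f.base ⁻¹' Y' = ⋃₀ {Z : Set ↥X | Z ∈ irreducibleComponents ↥X ∧ f.base '' Z ⊆ Y'} := by
  have hgen : GeneralizingMap f.base := Flat.generalizingMap f
  ext x
  constructor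
  · intro hx
    obtain ⟨η', hη'⟩ := QuasiSober.sober hY'.1
      (isClosed_of_mem_irreducibleComponents Y' hY')
    have h1 : η' ⤳ f.base x := by
      rw [specializes_iff_mem_closure, hη'.def]; exact hx
    obtain ⟨x', hx'x, hfx'⟩ := hgen h1
    let Z := irreducibleComponent x'
    have hZ : Z ∈ irreducibleComponents X := irreducibleComponent_mem_irreducibleComponents x'
    have hZcl : IsClosed Z := isClosed_of_mem_irreducibleComponents Z hZ
    obtain ⟨ξ, hξ⟩ := QuasiSober.sober hZ.1 hZcl
    refine ⟨Z, ⟨hZ, ?_⟩, ?_⟩
    · have hξx' : ξ ⤳ x' := by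
        rw [specializes_iff_mem_closure, hξ.def]; exact mem_irreducibleComponent
      have h2 : f.base ξ ⤳ η' := hfx' ▸ hξx'.map f.base.hom.continuous
      have h3 : Y' ⊆ closure {f.base ξ} := by
        rw [← hη'.def]
        exact closure_minimal (by simpa [← specializes_iff_mem_closure] using h2) isClosed_closure
      have h4 : closure {f.base ξ} ⊆ Y' :=
        hY'.2 isIrreducible_singleton.closure h3
      rw [← hξ.def]
      refine (image_closure_subset_closure_image f.base.hom.continuous).trans ?_
      rw [Set.image_singleton]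
      exact h4
    · have : x ∈ closure {x'} := specializes_iff_mem_closure.mp hx'x
      exact closure_minimal (by simpa using (mem_irreducibleComponent : x' ∈ irreducibleComponent x')) hZcl this
  · rintro ⟨Z, ⟨_, hZ⟩, hxZ⟩
    exact hZ ⟨x, hxZ, rfl⟩

end Groth.Agent.S10944
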