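import Groth.Statements.S10957
import Mathlib.RingTheory.DiscreteValuationRing.TFAE
import Mathlib.RingTheory.Ideal.AssociatedPrime.Basic
import Mathlib.RingTheory.IntegralClosure.IntegrallyClosed

set_option autoImplicit false
universe u
open CAlg

namespace Groth.Agent.S10957

/-- Let A be a Noetherian local integral domain that is normal (integrally closed in its field of
fractions). If there is a nonzero element a of A such that the maximal ideal of A is an associated
prime of the A-module A/(a), then A is a discrete valuation ring. (The other conditions listed in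
the published result — normal of dimension one, maximal ideal nonzero principal, regular of
dimension one — are the library's standard characterisations; this row records the criterion through
an associated prime.) -/
theorem result
    (A : Type u) [CommRing A] [IsDomain A] [IsNoetherianRing A] [IsLocalRing A] [IsIntegrallyClosed A]
    (a : A) (ha : a ≠ 0)
    (hass : IsLocalRing.maximalIdeal A ∈ associatedPrimes A (A ⧸ Ideal.span ({a} : Set A))) :
    IsDiscreteValuationRing A := by
  classical
  obtain ⟨-, x, hx⟩ := (isAssociatedPrime_iff).mp hass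
  obtain ⟨b, rfl⟩ := Ideal.Quotient.mk_surjective x
  have hmem : ∀ r : A, r ∈ IsLocalRing.maximalIdeal A ↔ r * b ∈ Ideal.span ({a} : Set A) := by
    intro r
    rw [hx, Submodule.mem_colon_singleton, Submodule.mem_bot, Algebra.smul_def,
      Ideal.Quotient.algebraMap_eq, ← map_mul, Ideal.Quotient.eq_zero_iff_mem]
  have h1 : (1 : A) ∉ IsLocalRing.maximalIdeal A := fun h =>
    (IsLocalRing.maximalIdeal.isMaximal A).ne_top ((Ideal.eq_top_iff_one _).mpr h)
  have hb : b ∉ Ideal.span ({a} : Set A) := by
    intro hb'
    apply h1
    rw [hmem, one_mul]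
    exact hb'
  have ham : a ∈ IsLocalRing.maximalIdeal A := by
    rw [hmem]
    exact Ideal.mem_span_singleton'.mpr ⟨b, mul_comm b a⟩
  have hnf : ¬ IsField A := by
    intro hf
    have hbot := (IsLocalRing.isField_iff_maximalIdeal_eq).mp hf
    rw [hbot] at ham
    exact ha ((Submodule.mem_bot A).mp ham)
  have hc : ∀ r ∈ IsLocalRing.maximalIdeal A, ∃ c : A, c * a = r * b := fun r hr =>
    Ideal.mem_span_singleton'.mp ((hmem r).mp hr)
  by_cases hcase : ∀ r ∈ IsLocalRing.maximalIdeal A, ∀ c : A, c * a = r * b →
      c ∈ IsLocalRing.maximalIdeal A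
  · exfalso
    let K := FractionRing A
    have hinj : Function.Injective (algebraMap A K) := IsFractionRing.injective A K
    have haK : algebraMap A K a ≠ 0 := fun h => ha (hinj (by rw [h, map_zero]))
    let y : K := algebraMap A K b / algebraMap A K a
    let N : Submodule A K := Submodule.map (Algebra.linearMap A K) (IsLocalRing.maximalIdeal A)
    have hN : N ≠ ⊥ := by
      intro hN0
      have : algebraMap A K a ∈ N := ⟨a, ham, rfl⟩
      rw [hN0, Submodule.mem_bot] at this
      exact haK this
    have hNfg : N.FG := (IsNoetherian.noetherian (IsLocalRing.maximalIdeal A)).map _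
    have hyint : IsIntegral A y := by
      refine isIntegral_of_smul_mem_submodule N hN hNfg y ?_
      rintro n ⟨r, hr, rfl⟩
      obtain ⟨c, hcr⟩ := hc r hr
      refine ⟨c, hcase r hr c hcr, ?_⟩
      simp only [Algebra.linearMap_apply, smul_eq_mul, y]
      rw [eq_comm, div_mul_eq_mul_div, div_eq_iff haK, ← map_mul, ← map_mul, hcr, mul_comm r b]
    obtain ⟨z, hz⟩ := IsIntegrallyClosed.isIntegral_iff.mp hyint
    apply hb
    refine Ideal.mem_span_singleton'.mpr ⟨z, hinj ?_⟩
    rw [map_mul, hz]
    simp only [y]
    exact div_mul_cancel₀ _ haK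
  · obtain ⟨t, ht, c, hct, hcm⟩ : ∃ t ∈ IsLocalRing.maximalIdeal A, ∃ c : A, c * a = t * b ∧
        c ∉ IsLocalRing.maximalIdeal A := by
      by_contra hne
      apply hcase
      intro r hr c hcr
      by_contra hcm
      exact hne ⟨r, hr, c, hcr, hcm⟩
    have hcu : IsUnit c := (IsLocalRing.notMem_maximalIdeal).mp hcm
    have heq : IsLocalRing.maximalIdeal A = Ideal.span ({t} : Set A) := by
      apply le_antisymm
      · intro r hr
        obtain ⟨cr, hcr⟩ := hc r hr
        have key : (r * c) * a = (t * cr) * a := by
          calc (r * c) * a = r * (c * a) := by ring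
            _ = r * (t * b) := by rw [hct]
            _ = t * (r * b) := by ring
            _ = t * (cr * a) := by rw [hcr]
            _ = (t * cr) * a := by ring
        have key2 : r * c = t * cr := mul_right_cancel₀ ha key
        obtain ⟨u, rfl⟩ := hcu
        have : r = t * (cr * ↑u⁻¹) := by
          calc r = r * ↑u * ↑u⁻¹ := by rw [mul_assoc, Units.mul_inv, mul_one]
            _ = t * cr * ↑u⁻¹ := by rw [key2]
            _ = t * (cr * ↑u⁻¹) := by ring
        rw [this]
        exact Ideal.mul_mem_right _ _ (Ideal.mem_span_singleton_self t)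
      · rw [Ideal.span_le, Set.singleton_subset_iff]
        exact ht
    have hprinc : (IsLocalRing.maximalIdeal A).IsPrincipal := ⟨⟨t, heq⟩⟩
    exact ((IsDiscreteValuationRing.TFAE A hnf).out 0 4).mpr hprinc

end Groth.Agent.S10957
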