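import Groth.Statements.S10975

set_option autoImplicit false
open FunFld

namespace Groth.Agent.S10975

/-- `A(D₁ ⊔ D₂) = A(D₁) + A(D₂)` for divisors of a function field of one variable. -/
theorem result (k K : Type*) [Field k] [Field K] [Algebra k K] (D₁ D₂ : FunFld.Divisor k K) :
    FunFld.AD (D₁ ⊔ D₂) = FunFld.AD D₁ ⊔ FunFld.AD D₂ := by
  classical
  apply le_antisymm
  · intro a ha
    have ha' : ∀ P : Place k K, P.1 (a P) ≤ WithZero.exp ((D₁ ⊔ D₂) P) := ha
    let b : Place k K → K := fun P => if D₂ P ≤ D₁ P then a P else 0
    let c : Place k K → K := fun P => if D₂ P ≤ D₁ P then 0 else a P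
    have hb : b ∈ FunFld.AD D₁ := by
      intro P
      simp only [b]
      split_ifs with h
      · have := ha' P
        rwa [Finsupp.sup_apply, max_eq_left h] at this
      · simp
    have hc : c ∈ FunFld.AD D₂ := by
      intro P
      simp only [c]
      split_ifs with h
      · simp
      · have := ha' P
        rwa [Finsupp.sup_apply, max_eq_right (le_of_lt (not_le.mp h))] at this
    have hab : a = b + c := by
      funext P
      simp only [b, c, Pi.add_apply]
      split_ifs <;> simp
    rw [hab]
    exact Submodule.add_mem_sup hb hc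
  · apply sup_le
    · intro a ha P
      have ha' : ∀ P : Place k K, P.1 (a P) ≤ WithZero.exp (D₁ P) := ha
      exact (ha' P).trans (WithZero.exp_le_exp.mpr (by rw [Finsupp.sup_apply]; exact le_max_left _ _))
    · intro a ha P
      have ha' : ∀ P : Place k K, P.1 (a P) ≤ WithZero.exp (D₂ P) := ha
      exact (ha' P).trans (WithZero.exp_le_exp.mpr (by rw [Finsupp.sup_apply]; exact le_max_right _ _))

end Groth.Agent.S10975
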