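import Groth.Statements.S10986

set_option autoImplicit false
open FunFld

namespace Groth.Agent.S10986

/-- `L(D) · W(C) ⊆ W(C - D)`: if `x ∈ L(D)` and `ω` vanishes on `A(C) + K` then `xω` vanishes on `A(C -
D) + K`. -/
theorem result (k K : Type*) [Field k] [Field K] [Algebra k K]
    (C D : FunFld.Divisor k K) (x : K) (hxD : x ∈ FunFld.L D)
    (hx : ∀ a ∈ FunFld.adele k K, x • a ∈ FunFld.adele k K)
    (ω : Module.Dual k (FunFld.adele k K)) (hω : ω ∈ FunFld.WD C) :
    FunFld.mulW x hx ω ∈ FunFld.WD (C - D) := by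
  rw [FunFld.WD, Submodule.mem_dualAnnihilator] at hω ⊢
  intro a ha
  rw [FunFld.ADK, Submodule.mem_comap, Submodule.mem_sup] at ha
  obtain ⟨b, hb, y, hy, hbya⟩ := ha
  obtain ⟨z, rfl⟩ := LinearMap.mem_range.mp hy
  have hb' : ∀ P : Place k K, P.1 (b P) ≤ WithZero.exp ((C - D) P) := hb
  have hx' : ∀ P : Place k K, P.1 x ≤ WithZero.exp (D P) := hxD
  have hbya' : b + diag k K z = (a : Place k K → K) := by simpa using hbya
  have key : (⟨x • (a : Place k K → K), hx a a.2⟩ : adele k K) ∈ ADK C := by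
    rw [FunFld.ADK, Submodule.mem_comap, Submodule.mem_sup]
    refine ⟨x • b, ?_, diag k K (x * z), ⟨x * z, rfl⟩, ?_⟩
    · intro P
      rw [Pi.smul_apply, smul_eq_mul, map_mul]
      calc P.1 x * P.1 (b P) ≤ WithZero.exp (D P) * WithZero.exp ((C - D) P) :=
            mul_le_mul' (hx' P) (hb' P)
        _ = WithZero.exp (C P) := by
            rw [← WithZero.exp_add]; congr 1; simp
    · show x • b + diag k K (x * z) = x • (a : Place k K → K)
      rw [← hbya']
      funext P
      simp [diag, mul_add]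
  have := hω _ key
  unfold FunFld.mulW
  rw [LinearMap.comp_apply]
  convert this using 2
  ext1
  simp

end Groth.Agent.S10986
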