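import Groth.Statements.S11017

set_option autoImplicit false
open FunFld

namespace Groth.Agent.S11017

/-- For a Weil differential `ω` with divisor `C`, `ord_P [ω] ≥ e` iff `ω` kills every repartition
concentrated at `P` with `P`-component of order at least `-e`. -/
theorem result (k K : Type*) [Field k] [Field K] [Algebra k K] (ω : Module.Dual k (FunFld.adele k K)) (C : FunFld.Divisor k K) (hω : FunFld.IsDivOf ω C)
    (P : FunFld.Place k K) (e : ℤ) :
    e ≤ C P ↔ ∀ (a : FunFld.Place k K → K) (ha : a ∈ FunFld.adele k K),
      (∀ Q, Q ≠ P → a Q = 0) → P.1 (a P) ≤ WithZero.exp e → ω ⟨a, ha⟩ = 0 := by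
  classical
  have hWD : ∀ E, ω ∈ WD E ↔ E ≤ C := hω
  constructor
  · intro h a ha hloc hP
    have hE : C - Finsupp.single P (C P - e) ≤ C := by
      intro Q
      simp only [Finsupp.coe_sub, Pi.sub_apply]
      have : 0 ≤ Finsupp.single P (C P - e) Q := by
        rw [Finsupp.single_apply]; split_ifs <;> omega
      omega
    have hmem := (hWD _).mpr hE
    rw [FunFld.WD, Submodule.mem_dualAnnihilator] at hmem
    apply hmem
    rw [FunFld.ADK, Submodule.mem_comap]
    apply Submodule.mem_sup_left
    intro Q
    by_cases hQ : Q = P
    · subst hQ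
      simp only [Submodule.subtype_apply, Finsupp.coe_sub, Pi.sub_apply, Finsupp.single_eq_same]
      convert hP using 2
      ring
    · simp only [Submodule.subtype_apply, hloc Q hQ, map_zero]
      exact zero_le
  · intro h
    by_contra hlt
    replace hlt := lt_of_not_ge hlt
    have hmem : ω ∈ WD (C + Finsupp.single P (e - C P)) := by
      rw [FunFld.WD, Submodule.mem_dualAnnihilator]
      intro w hw
      rw [FunFld.ADK, Submodule.mem_comap, Submodule.mem_sup] at hw
      obtain ⟨b, hb, y, hy, hby⟩ := hw
      obtain ⟨z, rfl⟩ := LinearMap.mem_range.mp hy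
      have hb' : ∀ Q : Place k K, Q.1 (b Q) ≤
          WithZero.exp ((C + Finsupp.single P (e - C P)) Q) := hb
      let b'' : Place k K → K := fun Q => if Q = P then b P else 0
      have hb''ad : b'' ∈ adele k K := by
        show ∀ᶠ Q : Place k K in Filter.cofinite, Q.1 (b'' Q) ≤ 1
        filter_upwards [Filter.eventually_cofinite_ne P] with Q hQ
        simp [b'', hQ]
      have h1 : ω ⟨b'', hb''ad⟩ = 0 := by
        apply h
        · intro Q hQ; simp [b'', hQ]
        · have := hb' P
          simp only [b'', if_pos rfl]
          convert this using 2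
          simp
      have h2 : ω (w - ⟨b'', hb''ad⟩) = 0 := by
        have hC := (hWD C).mpr le_rfl
        rw [FunFld.WD, Submodule.mem_dualAnnihilator] at hC
        apply hC
        rw [FunFld.ADK, Submodule.mem_comap, Submodule.mem_sup]
        refine ⟨b - b'', ?_, diag k K z, ⟨z, rfl⟩, ?_⟩
        · intro Q
          by_cases hQ : Q = P
          · subst hQ; simp [b'']
          · have := hb' Q
            simp only [Pi.sub_apply, b'', if_neg hQ, sub_zero]
            convert this using 2
            simp [Ne.symm hQ]
        · have hby' : b + diag k K z = (w : Place k K → K) := by simpa using hby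
          simp only [Submodule.subtype_apply, Submodule.coe_sub]
          rw [← hby']
          abel
      have hw : w = (w - ⟨b'', hb''ad⟩) + ⟨b'', hb''ad⟩ := by abel
      rw [hw, map_add, h1, h2, add_zero]
    have := (hWD _).mp hmem P
    simp at this
    omega

end Groth.Agent.S11017
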