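import Groth.Statements.S11043
import Mathlib.RingTheory.RootsOfUnity.Complex
import Mathlib.RingTheory.Polynomial.Cyclotomic.Basic

set_option autoImplicit false
open FunFld

namespace Groth.Agent.S11043

open Polynomial

theorem image_range_eq_nthRootsFinset_aux {η : ℂ} {m : ℕ} (hη : IsPrimitiveRoot η m) (hm : 0 < m) :
    (Finset.range m).image (fun i => η ^ i) = nthRootsFinset m (1 : ℂ) := by
  classical
  apply Finset.eq_of_subset_of_card_le
  · intro x hx
    obtain ⟨i, _, rfl⟩ := Finset.mem_image.mp hx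
    rw [Polynomial.mem_nthRootsFinset hm, ← pow_mul, mul_comm, pow_mul, hη.pow_eq_one, one_pow]
  · rw [hη.card_nthRootsFinset, Finset.card_image_of_injOn, Finset.card_range]
    intro i hi j hj hij
    exact hη.pow_inj (Finset.mem_range.mp hi) (Finset.mem_range.mp hj) hij

theorem prod_one_sub_C_mul_X_aux {η : ℂ} {m : ℕ} (hη : IsPrimitiveRoot η m) (hm : 0 < m) :
    ∏ μ ∈ nthRootsFinset m (1 : ℂ), (1 - C μ * X) = 1 - X ^ m := by
  have h := X_pow_sub_one_eq_prod hm hη
  apply Polynomial.funext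
  intro t
  by_cases ht : t = 0
  · subst ht
    simp [eval_prod, hm.ne']
  · have h2 := congrArg (Polynomial.eval t⁻¹) h
    simp only [eval_sub, eval_pow, eval_X, eval_one, eval_prod, eval_C] at h2
    simp only [eval_prod, eval_sub, eval_one, eval_mul, eval_C, eval_X, eval_pow]
    have h3 : ∀ μ ∈ nthRootsFinset m (1 : ℂ), (1 - μ * t) = t * (t⁻¹ - μ) := by
      intro μ _
      field_simp
    rw [Finset.prod_congr rfl h3, Finset.prod_mul_distrib, Finset.prod_const,
      hη.card_nthRootsFinset, ← h2, mul_sub, ← mul_pow, mul_inv_cancel₀ ht, one_pow, mul_one]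

theorem prod_one_sub_C_mul_aux {η : ℂ} {m : ℕ} (hη : IsPrimitiveRoot η m) (hm : 0 < m)
    (Y : Polynomial ℂ) :
    ∏ μ ∈ nthRootsFinset m (1 : ℂ), (1 - C μ * Y) = 1 - Y ^ m := by
  have h := congrArg (Polynomial.aeval Y) (prod_one_sub_C_mul_X_aux hη hm)
  simpa [map_prod] using h

/-- For positive integers `n`, `d` with `e = gcd(n, d)`, in `ℂ[t]` one has `(1 - t^{nd/e})^e = ∏_{θⁿ =
1} (1 - (θ t)^d)`, the product over the complex `n`-th roots of unity. -/
theorem result (n d : ℕ) (hn : 0 < n) (hd : 0 < d) :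
    ((1 : Polynomial ℂ) - Polynomial.X ^ (n * d / Nat.gcd n d)) ^ Nat.gcd n d =
      ∏ θ ∈ Polynomial.nthRootsFinset n (1 : ℂ),
        (1 - Polynomial.C (θ ^ d) * Polynomial.X ^ d) := by
  classical
  have hg : 0 < Nat.gcd n d := Nat.gcd_pos_of_pos_left d hn
  obtain ⟨m, hm⟩ : Nat.gcd n d ∣ n := Nat.gcd_dvd_left n d
  have hm0 : 0 < m := by
    rcases Nat.eq_zero_or_pos m with h | h
    · rw [h, mul_zero] at hm; omega
    · exact h
  have hnd : n * d / Nat.gcd n d = m * d := by
    have h' : n * d = Nat.gcd n d * (m * d) := by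
      calc n * d = (Nat.gcd n d * m) * d := by rw [← hm]
        _ = _ := by ring
    rw [h', Nat.mul_div_cancel_left _ hg]
  rw [hnd]
  set g := Nat.gcd n d with hgdef
  set ζ : ℂ := Complex.exp (2 * Real.pi * Complex.I / n) with hζdef
  have hζ : IsPrimitiveRoot ζ n := Complex.isPrimitiveRoot_exp n hn.ne'
  have hη : IsPrimitiveRoot (ζ ^ d) m := by
    rw [IsPrimitiveRoot.iff_orderOf, orderOf_pow' _ hd.ne', ← hζ.eq_orderOf, ← hgdef]
    conv_lhs => rw [hm]
    exact Nat.mul_div_cancel_left _ hg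
  rw [← image_range_eq_nthRootsFinset_aux hζ hn, Finset.prod_image]
  swap
  · intro i hi j hj hij
    exact hζ.pow_inj (Finset.mem_range.mp hi) (Finset.mem_range.mp hj) hij
  have hperm : ∀ i : ℕ, (ζ ^ i) ^ d = (ζ ^ d) ^ i := fun i => by
    rw [← pow_mul, ← pow_mul, mul_comm]
  simp_rw [hperm]
  have hblock : ∀ j : ℕ, ∏ i ∈ Finset.range (j * m), (1 - C ((ζ ^ d) ^ i) * X ^ d) =
      (∏ i ∈ Finset.range m, (1 - C ((ζ ^ d) ^ i) * X ^ d)) ^ j := by
    intro j
    induction j with
    | zero => simp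
    | succ j ih =>
      rw [Nat.succ_mul, Finset.prod_range_add, ih, pow_succ]
      congr 1
      apply Finset.prod_congr rfl
      intro x _
      rw [pow_add, pow_mul', hη.pow_eq_one, one_pow, one_mul]
  rw [hm, hblock]
  rw [show (∏ i ∈ Finset.range m, (1 - C ((ζ ^ d) ^ i) * X ^ d)) =
      ∏ μ ∈ nthRootsFinset m (1 : ℂ), (1 - C μ * X ^ d) by
    rw [← image_range_eq_nthRootsFinset_aux hη hm0, Finset.prod_image]
    intro i hi j hj hij
    exact hη.pow_inj (Finset.mem_range.mp hi) (Finset.mem_range.mp hj) hij]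
  rw [prod_one_sub_C_mul_aux hη hm0, ← pow_mul, mul_comm d m]

end Groth.Agent.S11043
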