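import Groth.Statements.S11049
import Mathlib.LinearAlgebra.FiniteDimensional.Lemmas

set_option autoImplicit false
open CAlg

namespace Groth.Agent.S11049

/-- For `k`-algebras `S ⊆ R` with `R` an integral domain and a nonzero `x ∈ S`, if `R/S` and `R/Rx` are
finite-dimensional over `k` then `dim_k R/Rx = dim_k S/Sx`. (The published statement allows `x = 0`;
then `R` is a field finite over `k` and the two sides are `dim_k R` and `dim_k S`, which differ for
`S = k ⊊ R`; the published proof multiplies by `x` as an injection, so `x ≠ 0` is assumed here.) -/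
theorem result
    (k R : Type*) [Field k] [CommRing R]
    [IsDomain R] [Algebra k R] (S : Subalgebra k R) (x : S) (hx : (x : R) ≠ 0)
    [Module.Finite k (R ⧸ Subalgebra.toSubmodule S)]
    [Module.Finite k (R ⧸ Ideal.span {(x : R)})] :
    Module.finrank k (R ⧸ Ideal.span {(x : R)}) = Module.finrank k (S ⧸ Ideal.span {x}) := by
  classical
  let Sm : Submodule k R := Subalgebra.toSubmodule S
  let μ : R →ₗ[k] R := LinearMap.mulLeft k (x : R)
  let J : Submodule k R := Sm.map μ
  let I : Submodule k R := (Ideal.span {(x : R)}).restrictScalars k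
  let ψ : R →ₗ[k] R ⧸ J := J.mkQ ∘ₗ μ
  have hkerψ : LinearMap.ker ψ = Sm := by
    ext r
    simp only [LinearMap.mem_ker, ψ, LinearMap.comp_apply, Submodule.mkQ_apply,
      Submodule.Quotient.mk_eq_zero]
    constructor
    · rintro ⟨s, hs, hsr⟩
      have hsr' : (x : R) * s = (x : R) * r := hsr
      have : s = r := mul_left_cancel₀ hx hsr'
      rw [← this]; exact hs
    · intro hr; exact ⟨r, hr, rfl⟩
  have hrangeμ : LinearMap.range μ = I := by
    ext r
    simp only [LinearMap.mem_range, μ, LinearMap.mulLeft_apply, I, Submodule.restrictScalars_mem,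
      Ideal.mem_span_singleton, dvd_def]
    constructor
    · rintro ⟨c, hc⟩; exact ⟨c, hc.symm⟩
    · rintro ⟨c, hc⟩; exact ⟨c, hc.symm⟩
  have hrangeψ : LinearMap.range ψ = I.map J.mkQ := by
    rw [LinearMap.range_comp, hrangeμ]
  let φ : S →ₗ[k] R ⧸ J := J.mkQ ∘ₗ S.val.toLinearMap
  have hkerφ : LinearMap.ker φ = (Ideal.span {x} : Ideal S).restrictScalars k := by
    ext s
    simp only [LinearMap.mem_ker, φ, LinearMap.comp_apply, Submodule.mkQ_apply,
      Submodule.Quotient.mk_eq_zero, Submodule.restrictScalars_mem, Ideal.mem_span_singleton,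
      dvd_def]
    constructor
    · rintro ⟨t, ht, hts⟩
      refine ⟨⟨t, ht⟩, Subtype.ext ?_⟩
      have hts' : (x : R) * t = (s : R) := hts
      simpa using hts'.symm
    · rintro ⟨t, rfl⟩
      exact ⟨t, t.2, by simp [μ]⟩
  have hrangeφ : LinearMap.range φ = Sm.map J.mkQ := by
    rw [LinearMap.range_comp]
    congr 1
    ext r
    simp [Sm]
  have hJI : J ≤ I := by
    rw [← hrangeμ]
    exact LinearMap.map_le_range
  have hJS : J ≤ Sm := by
    rintro _ ⟨s, hs, rfl⟩
    exact S.mul_mem x.2 hs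
  let e1 : ((R ⧸ J) ⧸ I.map J.mkQ) ≃ₗ[k] R ⧸ I := Submodule.quotientQuotientEquivQuotient J I hJI
  let e2 : ((R ⧸ J) ⧸ Sm.map J.mkQ) ≃ₗ[k] R ⧸ Sm := Submodule.quotientQuotientEquivQuotient J Sm hJS
  let e3 : (R ⧸ Sm) ≃ₗ[k] (I.map J.mkQ) :=
    ((Submodule.quotEquivOfEq _ _ hkerψ).symm.trans ψ.quotKerEquivRange).trans
      (LinearEquiv.ofEq _ _ hrangeψ)
  let e4 : (S ⧸ (Ideal.span {x} : Ideal S).restrictScalars k) ≃ₗ[k] (Sm.map J.mkQ) :=
    ((Submodule.quotEquivOfEq _ _ hkerφ).symm.trans φ.quotKerEquivRange).trans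
      (LinearEquiv.ofEq _ _ hrangeφ)
  let e5 : (R ⧸ I) ≃ₗ[k] R ⧸ Ideal.span {(x : R)} :=
    Submodule.Quotient.restrictScalarsEquiv k (Ideal.span {(x : R)})
  let e6 : (S ⧸ (Ideal.span {x} : Ideal S).restrictScalars k) ≃ₗ[k] S ⧸ Ideal.span {x} :=
    Submodule.Quotient.restrictScalarsEquiv k (Ideal.span {x})
  have hfinRI : FiniteDimensional k (R ⧸ I) := LinearEquiv.finiteDimensional e5.symm
  have h1 : FiniteDimensional k ((R ⧸ J) ⧸ I.map J.mkQ) := LinearEquiv.finiteDimensional e1.symm
  have h2 : FiniteDimensional k (I.map J.mkQ) := LinearEquiv.finiteDimensional e3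
  have hfinJ : FiniteDimensional k (R ⧸ J) := by
    rw [FiniteDimensional, Module.finite_def]
    refine Submodule.fg_of_fg_map_of_fg_inf_ker (I.map J.mkQ).mkQ ?_ ?_
    · rw [Submodule.map_top, Submodule.range_mkQ]
      exact Module.finite_def.mp h1
    · rw [top_inf_eq, Submodule.ker_mkQ]
      exact Module.Finite.iff_fg.mp h2
  have A1 := Submodule.finrank_quotient_add_finrank (I.map J.mkQ)
  have A2 := Submodule.finrank_quotient_add_finrank (Sm.map J.mkQ)
  rw [e1.finrank_eq, ← e3.finrank_eq] at A1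
  rw [e2.finrank_eq, ← e4.finrank_eq, e6.finrank_eq] at A2
  rw [← e5.finrank_eq]
  omega

end Groth.Agent.S11049
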