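import Groth.Statements.S11096

set_option autoImplicit false
universe u
open Neron

namespace Groth.Agent.S11096

theorem result {R : Type u} [CommRing R] (W : WeierstrassCurve R)
    (I : Ideal R) (h3 : W.a₃ ∈ I) (h4 : W.a₄ ∈ I) (h6 : W.a₆ ∈ I) (hΔ : W.Δ ∉ I ^ 2) :
    W.a₆ ∉ I ^ 2 ∧ W.b₂ ∉ I := by
  have hb4 : W.b₄ ∈ I := by
    rw [WeierstrassCurve.b₄]
    exact I.add_mem (I.mul_mem_left _ h4) (I.mul_mem_left _ h3)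
  have hb6 : W.b₆ ∈ I := by
    rw [WeierstrassCurve.b₆]
    exact I.add_mem (by rw [pow_two]; exact I.mul_mem_left _ h3) (I.mul_mem_left _ h6)
  have hsq : ∀ x y : R, x ∈ I → y ∈ I → x * y ∈ I ^ 2 := by
    intro x y hx hy
    rw [pow_two]
    exact Ideal.mul_mem_mul hx hy
  have eq : W.Δ + W.b₂ ^ 3 * W.a₆ =
      W.b₂ ^ 2 * W.a₁ * (W.a₃ * W.a₄) - W.b₂ ^ 2 * W.a₂ * (W.a₃ * W.a₃) + W.b₂ ^ 2 * (W.a₄ * W.a₄)
        - 8 * ((W.b₄ * W.b₄) * W.b₄) - 27 * (W.b₆ * W.b₆) + 9 * W.b₂ * (W.b₄ * W.b₆) := by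
    simp only [WeierstrassCurve.Δ, WeierstrassCurve.b₈, WeierstrassCurve.b₂]
    ring
  have hmem : W.Δ + W.b₂ ^ 3 * W.a₆ ∈ I ^ 2 := by
    rw [eq]
    refine (I ^ 2).add_mem ((I ^ 2).sub_mem ((I ^ 2).sub_mem ((I ^ 2).add_mem
      ((I ^ 2).sub_mem ?_ ?_) ?_) ?_) ?_) ?_
    · exact (I ^ 2).mul_mem_left _ (hsq _ _ h3 h4)
    · exact (I ^ 2).mul_mem_left _ (hsq _ _ h3 h3)
    · exact (I ^ 2).mul_mem_left _ (hsq _ _ h4 h4)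
    · exact (I ^ 2).mul_mem_left _ ((I ^ 2).mul_mem_right _ (hsq _ _ hb4 hb4))
    · exact (I ^ 2).mul_mem_left _ (hsq _ _ hb6 hb6)
    · exact (I ^ 2).mul_mem_left _ (hsq _ _ hb4 hb6)
  constructor
  · intro h
    apply hΔ
    have : W.Δ = (W.Δ + W.b₂ ^ 3 * W.a₆) - W.b₂ ^ 3 * W.a₆ := by ring
    rw [this]
    exact (I ^ 2).sub_mem hmem ((I ^ 2).mul_mem_left _ h)
  · intro h
    apply hΔ
    have : W.Δ = (W.Δ + W.b₂ ^ 3 * W.a₆) - (W.b₂ * W.b₂) * (W.b₂ * W.a₆) := by ring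
    rw [this]
    exact (I ^ 2).sub_mem hmem ((I ^ 2).mul_mem_right _ (hsq _ _ h h))

end Groth.Agent.S11096
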