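import Groth.Statements.S11137
import Mathlib.RingTheory.Invariant.Basic
import Mathlib.RingTheory.Ideal.GoingDown
import Mathlib.RingTheory.Ideal.GoingUp

set_option autoImplicit false
universe u v
open InvTh
open Pointwise

namespace Groth.Agent.S11137

theorem result
    (A : Type u) (R : Type v) [CommRing A] [CommRing R] [Algebra A R] [IsNoetherianRing R]
    (G : Type u) [Group G] [Finite G] [MulSemiringAction G R] [SMulCommClass G A R]
    [Algebra.IsInvariant A R G] [FaithfulSMul A R] [Module.Finite A R] :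
    Algebra.HasGoingDown A R := by
  have hint : Algebra.IsIntegral A R := Algebra.IsInvariant.isIntegral A R G
  constructor
  intro p hp Q hQ hlt
  obtain ⟨⟨P₀, hP₀prime, hP₀over⟩⟩ := Ideal.nonempty_primesOver (S := R) p
  have hcomap : P₀.comap (algebraMap A R) = p := (Ideal.liesOver_iff P₀ p).mp hP₀over |>.symm
  obtain ⟨Q₁, hQ₁ge, hQ₁prime, hQ₁comap⟩ :=
    Ideal.exists_ideal_over_prime_of_isIntegral_of_isPrime (Q.under A) P₀
      (by rw [hcomap]; exact hlt.le)
  obtain ⟨g, hg⟩ := Algebra.IsInvariant.exists_smul_of_under_eq A R G Q₁ Q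
    (by rw [Ideal.under_def, hQ₁comap])
  refine ⟨g • P₀, ?_, hP₀prime.smul g, hP₀over.smul g⟩
  rw [hg]
  exact Ideal.map_mono hQ₁ge

end Groth.Agent.S11137
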