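import Groth.Statements.S11142
import Mathlib.AlgebraicGeometry.Morphisms.UniversallyOpen
import Mathlib.AlgebraicGeometry.Noetherian

set_option autoImplicit false
universe u
open CategoryTheory AlgebraicGeometry
open FlatMor
open TopologicalSpace

namespace Groth.Agent.S11142

theorem exists_generalization_mem {Y : Scheme.{u}} [IsLocallyNoetherian Y] (U : Y.Opens)
    (hU : Dense (U : Set Y)) (y : Y) : ∃ η : Y, η ⤳ y ∧ η ∈ (U : Set Y) := by
  obtain ⟨V, hV, hyV, -⟩ := exists_isAffineOpen_mem_and_subset (U := ⊤) (x := y) trivial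
  haveI := IsLocallyNoetherian.component_noetherian ⟨V, hV⟩
  set W : Set Y := (V : Set Y) with hWdef
  have hWo : IsOpen W := V.isOpen
  haveI : NoetherianSpace W := noetherianSpace_of_isAffineOpen V hV
  haveI : QuasiSober W := hWo.isOpenEmbedding_subtypeVal.quasiSober
  let y' : W := ⟨y, hyV⟩
  let Z : Set W := irreducibleComponent y'
  have hZ : Z ∈ irreducibleComponents W := irreducibleComponent_mem_irreducibleComponents y'
  have hyZ : y' ∈ Z := mem_irreducibleComponent
  have hZc : IsClosed Z := isClosed_of_mem_irreducibleComponents Z hZ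
  let ξ : W := hZ.1.genericPoint
  have hξ : IsGenericPoint ξ Z := hZ.1.isGenericPoint_genericPoint hZc
  have hfin : (irreducibleComponents W).Finite := NoetherianSpace.finite_irreducibleComponents
  let O : Set W := (⋃₀ (irreducibleComponents W \ {Z}))ᶜ
  have hOopen : IsOpen O := by
    show IsOpen (⋃₀ (irreducibleComponents W \ {Z}))ᶜ
    rw [Set.sUnion_eq_biUnion, isOpen_compl_iff]
    exact hfin.sdiff.isClosed_biUnion fun T hT => isClosed_of_mem_irreducibleComponents T hT.1
  have hOcl : closure O = Z := closure_sUnion_irreducibleComponents_sdiff_singleton hfin Z hZ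
  have hOne : O.Nonempty := by
    rw [Set.nonempty_iff_ne_empty]
    intro h
    rw [h, closure_empty] at hOcl
    rw [← hOcl] at hyZ
    exact hyZ
  have hO' : IsOpen ((Subtype.val : W → Y) '' O) := hWo.isOpenMap_subtype_val _ hOopen
  obtain ⟨_, ⟨z, hzO, rfl⟩, hzU⟩ := hU.inter_open_nonempty _ hO' (hOne.image _)
  have hξU : (ξ : Y) ∈ (U : Set Y) := by
    by_contra hcon
    have hcl : IsClosed ((Subtype.val : W → Y) ⁻¹' (U : Set Y))ᶜ :=
      (U.isOpen.preimage continuous_subtype_val).isClosed_compl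
    have hsub : closure {ξ} ⊆ ((Subtype.val : W → Y) ⁻¹' (U : Set Y))ᶜ :=
      hcl.closure_subset_iff.mpr (Set.singleton_subset_iff.mpr hcon)
    have hzZ : z ∈ Z := hOcl ▸ subset_closure hzO
    rw [← isGenericPoint_def.mp hξ] at hzZ
    exact hsub hzZ hzU
  refine ⟨ξ, ?_, hξU⟩
  have : ξ ⤳ y' := by
    rw [specializes_iff_mem_closure, isGenericPoint_def.mp hξ]
    exact hyZ
  exact this.map continuous_subtype_val

theorem result (X Y : Scheme.{u}) [IsLocallyNoetherian X]
    [IsLocallyNoetherian Y] (f : X ⟶ Y) [Flat f] (U : Y.Opens) (hU : Dense (U : Set Y)) :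
    Dense ((f ⁻¹ᵁ U : X.Opens) : Set X) := by
  have hgen : GeneralizingMap f := Flat.generalizingMap f
  intro x
  obtain ⟨η, hη, hηU⟩ := exists_generalization_mem U hU (f x)
  obtain ⟨x', hx', hfx'⟩ := hgen hη
  have hmem : x' ∈ ((f ⁻¹ᵁ U : X.Opens) : Set X) := by
    show f x' ∈ (U : Set Y)
    rw [hfx']
    exact hηU
  exact closure_mono (Set.singleton_subset_iff.mpr hmem) (specializes_iff_mem_closure.mp hx')

end Groth.Agent.S11142
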