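import Groth.Statements.S11233
import Mathlib.Algebra.MvPolynomial.Funext
-- import your own Groth.Agent.* helpers here

set_option autoImplicit false
universe u
open CAlg

namespace Groth.Agent.S11233

/-- Let k be an algebraically closed field, A an integral domain which is a k-algebra, T an m by m
matrix over A with invertible determinant, and let the additive group k^m act on the polynomial ring
A[y_1, ..., y_m] by the A-algebra maps y_s ↦ y_s + Σ_r h_r T_rs. Then the only invariant polynomials
are the constants: a polynomial fixed by all these substitutions lies in A. -/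
theorem result (k : Type u) [Field k] [IsAlgClosed k]
    (A : Type u) [CommRing A] [IsDomain A] [Algebra k A] (m : ℕ) (T : Matrix (Fin m) (Fin m) A)
    (hT : IsUnit T.det) (f : MvPolynomial (Fin m) A)
    (hf : ∀ h : Fin m → k, MvPolynomial.aeval
      (fun s : Fin m => MvPolynomial.X s + MvPolynomial.C (∑ r : Fin m, algebraMap k A (h r) * T r s)) f = f) :
    ∃ a : A, f = MvPolynomial.C a := by
  classical
  refine ⟨MvPolynomial.eval 0 f, ?_⟩
  let ψ : Fin m → MvPolynomial (Fin m) A := fun s => ∑ r, MvPolynomial.X r * MvPolynomial.C (T r s)
  have hinf : ∀ _ : Fin m, (Set.range (algebraMap k A)).Infinite := fun _ =>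
    Set.infinite_range_of_injective (algebraMap k A).injective
  have hg : MvPolynomial.aeval ψ f = MvPolynomial.C (MvPolynomial.eval 0 f) := by
    apply MvPolynomial.funext_set (fun _ => Set.range (algebraMap k A)) hinf
    intro x hx
    choose h hh using fun i => hx i (Set.mem_univ i)
    have hx' : x = fun i => algebraMap k A (h i) := funext fun i => (hh i).symm
    subst hx'
    rw [MvPolynomial.eval_C]
    have e1 : MvPolynomial.eval (fun i => algebraMap k A (h i)) (MvPolynomial.aeval ψ f) =
        MvPolynomial.eval (fun s => ∑ r, algebraMap k A (h r) * T r s) f := by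
      show MvPolynomial.aeval (fun i => algebraMap k A (h i)) (MvPolynomial.aeval ψ f) = _
      rw [MvPolynomial.comp_aeval_apply]
      show MvPolynomial.eval _ f = _
      refine congrArg (fun x => MvPolynomial.eval x f) (funext fun s => ?_)
      simp [ψ]
    have e2 : MvPolynomial.eval (fun s => ∑ r, algebraMap k A (h r) * T r s) f =
        MvPolynomial.eval 0 f := by
      have := congrArg (MvPolynomial.aeval (0 : Fin m → A)) (hf h)
      rw [MvPolynomial.comp_aeval_apply] at this
      simpa using this
    rw [e1, e2]
  let ψ' : Fin m → MvPolynomial (Fin m) A :=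
    fun r => ∑ s, MvPolynomial.X s * MvPolynomial.C (T⁻¹ s r)
  have hcomp : ∀ s, MvPolynomial.aeval ψ' (ψ s) = MvPolynomial.X s := by
    intro s
    simp only [ψ, ψ', map_sum, map_mul, MvPolynomial.aeval_X, MvPolynomial.aeval_C,
      MvPolynomial.algebraMap_eq, Finset.sum_mul]
    rw [Finset.sum_comm]
    have : ∀ s' : Fin m, ∑ r, MvPolynomial.X s' * MvPolynomial.C (T⁻¹ s' r) * MvPolynomial.C (T r s) =
        MvPolynomial.X s' * MvPolynomial.C ((T⁻¹ * T) s' s) := by
      intro s'
      rw [Matrix.mul_apply, map_sum, Finset.mul_sum]
      refine Finset.sum_congr rfl (fun r _ => ?_)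
      rw [map_mul, mul_assoc]
    simp only [this, Matrix.nonsing_inv_mul T hT, Matrix.one_apply]
    simp
  have := congrArg (MvPolynomial.aeval ψ') hg
  rw [MvPolynomial.comp_aeval_apply, MvPolynomial.aeval_C, MvPolynomial.algebraMap_eq] at this
  simp only [hcomp] at this
  rw [MvPolynomial.aeval_X_left_apply] at this
  exact this


end Groth.Agent.S11233
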