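import Groth.Statements.S11235
import Mathlib.Algebra.Polynomial.Roots
import Mathlib.RingTheory.Ideal.Quotient.Operations
-- import your own Groth.Agent.* helpers here

set_option autoImplicit false
universe u
open CAlg

namespace Groth.Agent.S11235

/-- Let k be an algebraically closed field, A a commutative k-algebra, α ∈ k, and M a maximal ideal of
the polynomial ring A[x] containing x - α. Let I ⊆ M be an ideal whose zero set in Spec A[x] is
invariant under the automorphisms x ↦ c·x, c ∈ k nonzero (equivalently: the image of I under each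
such A-algebra automorphism has the same radical as I). Then there is a maximal ideal of A[x]
containing I and x. -/
theorem result (k : Type u) [Field k] [IsAlgClosed k]
    (A : Type u) [CommRing A] [Algebra k A] (α : k)
    (M : Ideal (Polynomial A)) (hM : M.IsMaximal)
    (hα : Polynomial.X - Polynomial.C (algebraMap k A α) ∈ M)
    (I : Ideal (Polynomial A)) (hIM : I ≤ M)
    (hI : ∀ c : kˣ, (I.map (Polynomial.aeval (R := A)
      (algebraMap k A (c : k) • (Polynomial.X : Polynomial A)))).radical = I.radical) :
    ∃ N : Ideal (Polynomial A), N.IsMaximal ∧ I ≤ N ∧ Polynomial.X ∈ N := by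
  classical
  by_cases hα0 : α = 0
  · refine ⟨M, hM, hIM, ?_⟩
    have h := hα
    rw [hα0, map_zero, Polynomial.C_0, sub_zero] at h
    exact h
  by_contra hcon
  have htop : I ⊔ Ideal.span {Polynomial.X} = ⊤ := by
    by_contra hne
    obtain ⟨N, hN, hle⟩ := Ideal.exists_le_maximal _ hne
    exact hcon ⟨N, hN, le_trans le_sup_left hle, hle (le_sup_right (a := I) (Ideal.subset_span rfl))⟩
  have h1 : (1 : Polynomial A) ∈ I ⊔ Ideal.span {Polynomial.X} := by rw [htop]; trivial
  obtain ⟨f, hf, z, hz, hfz⟩ := Submodule.mem_sup.1 h1
  obtain ⟨g, rfl⟩ := Ideal.mem_span_singleton'.1 hz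
  have : M.IsMaximal := hM
  let π : Polynomial A →+* (Polynomial A ⧸ M) := Ideal.Quotient.mk M
  let ι : A →+* (Polynomial A ⧸ M) := π.comp Polynomial.C
  have hX : π Polynomial.X = ι (algebraMap k A α) := by
    have : π (Polynomial.X - Polynomial.C (algebraMap k A α)) = 0 :=
      Ideal.Quotient.eq_zero_iff_mem.2 hα
    rw [map_sub, sub_eq_zero] at this
    exact this
  have key : ∀ c : kˣ, (f.map ι).eval (ι (algebraMap k A ((c : k) * α))) = 0 := by
    intro c
    have hmem : Polynomial.aeval (R := A)
        (algebraMap k A (c : k) • (Polynomial.X : Polynomial A)) f ∈ M := by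
      have h2 : Polynomial.aeval (R := A)
          (algebraMap k A (c : k) • (Polynomial.X : Polynomial A)) f ∈
          (I.map (Polynomial.aeval (R := A)
            (algebraMap k A (c : k) • (Polynomial.X : Polynomial A)))) :=
        Ideal.mem_map_of_mem _ hf
      have h3 := Ideal.le_radical h2
      rw [hI c] at h3
      exact (hM.isPrime.radical_le_iff.2 hIM) h3
    have h4 : π (Polynomial.aeval (R := A)
        (algebraMap k A (c : k) • (Polynomial.X : Polynomial A)) f) = 0 :=
      Ideal.Quotient.eq_zero_iff_mem.2 hmem
    have hpt : π (Polynomial.C (algebraMap k A (c : k)) * Polynomial.X) =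
        ι (algebraMap k A ((c : k) * α)) := by
      rw [map_mul π, hX, map_mul (algebraMap k A), map_mul ι]; rfl
    rw [← h4, Polynomial.eval_map, Polynomial.aeval_def, Polynomial.hom_eval₂,
      Polynomial.algebraMap_eq, Polynomial.smul_eq_C_mul, hpt]
  have hcoeff : f.coeff 0 = 1 := by
    have := congrArg (fun p => Polynomial.coeff p 0) hfz
    simpa [Polynomial.coeff_add, Polynomial.mul_coeff_zero] using this
  have hne : f.map ι ≠ 0 := by
    intro h0
    have hc := congrArg (fun p => Polynomial.coeff p 0) h0
    simp only [Polynomial.coeff_map, Polynomial.coeff_zero, hcoeff, map_one] at hc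
    exact one_ne_zero hc
  apply hne
  apply Polynomial.eq_zero_of_infinite_isRoot
  let F : k → (Polynomial A ⧸ M) := fun c => ι (algebraMap k A (c * α))
  have hinj : Function.Injective F := by
    intro c d hcd
    have h' : (ι.comp (algebraMap k A)) (c * α) = (ι.comp (algebraMap k A)) (d * α) := hcd
    have := (ι.comp (algebraMap k A)).injective h'
    exact mul_right_cancel₀ hα0 this
  have hS : ({0}ᶜ : Set k).Infinite := (Set.finite_singleton (0 : k)).infinite_compl
  have hFS := hS.image hinj.injOn
  apply hFS.mono
  rintro _ ⟨c, hc, rfl⟩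
  exact key (Units.mk0 c hc)


end Groth.Agent.S11235
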