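import Groth.Statements.S11239
import Mathlib.LinearAlgebra.Matrix.Block

set_option autoImplicit false
universe u
open AGF

namespace Groth.Agent.S11239

theorem result (R : Type u) [CommRing R] (m n p : ℕ) (hp : p ≤ n)
    (X : Matrix (Fin m) (Fin n) R) (d : Fin n → R) (u : Matrix (Fin n) (Fin n) R)
    (hu1 : ∀ i, u i i = 1) (hu0 : ∀ i j, j < i → u i j = 0) (I : Fin p → Fin m) :
    ((X * Matrix.diagonal d * u).submatrix I (Fin.castLE hp)).det =
      (∏ i : Fin p, d (Fin.castLE hp i)) * (X.submatrix I (Fin.castLE hp)).det := by
  set c : Fin p → Fin n := Fin.castLE hp with hc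
  have hcinj : Function.Injective c := Fin.castLE_injective hp
  have key : (X * Matrix.diagonal d * u).submatrix I c =
      (X.submatrix I c * Matrix.diagonal (d ∘ c)) * u.submatrix c c := by
    ext a b
    simp only [Matrix.submatrix_apply, Matrix.mul_apply, Matrix.diagonal_apply, Function.comp_apply,
      mul_ite, mul_zero, Finset.sum_ite_eq', Finset.mem_univ, if_true]
    have hsub : (Finset.univ.map ⟨c, hcinj⟩ : Finset (Fin n)) ⊆ Finset.univ := Finset.subset_univ _
    rw [← Finset.sum_subset hsub]
    · rw [Finset.sum_map]
      rfl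
    · intro k _ hk
      have hkp : p ≤ k.val := by
        by_contra hlt
        rw [not_le] at hlt
        apply hk
        rw [Finset.mem_map]
        exact ⟨⟨k.val, hlt⟩, Finset.mem_univ _, by ext; simp [hc]⟩
      have : c b < k := by
        rw [Fin.lt_def]
        simp only [hc, Fin.val_castLE]
        exact lt_of_lt_of_le b.isLt hkp
      rw [hu0 k (c b) this, mul_zero]
  have htri : Matrix.BlockTriangular (u.submatrix c c) id := by
    intro i j hij
    simp only [Matrix.submatrix_apply]
    apply hu0
    simp only [hc, Fin.lt_def, Fin.val_castLE]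
    exact hij
  rw [key, Matrix.det_mul, Matrix.det_mul, Matrix.det_diagonal, Matrix.det_of_upperTriangular htri]
  simp only [Matrix.submatrix_apply, hu1, Finset.prod_const_one, mul_one, Function.comp_apply]
  rw [mul_comm]

end Groth.Agent.S11239
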