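import Groth.Statements.S11240
import Mathlib.LinearAlgebra.Matrix.MvPolynomial
-- import your own Groth.Agent.* helpers here

set_option autoImplicit false
universe u
open AGF

namespace Groth.Agent.S11240

/-- For a single root subgroup: let k be an algebraically closed field and X = (x_ab) the generic n × m
matrix over the polynomial ring k[x_ab]. Let i ≠ j be row indices and let I (rows) and J (columns)
be strictly increasing sequences of length p. The minor of X with rows I and columns J is invariant
under replacing X by (1 + b·E_ij)·X for every b ∈ k (the one-parameter unipotent group adding b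
times row j to row i) if and only if j occurs in I whenever i does. (The published statement gives
the criterion for the group generated by several such root subgroups, which is the conjunction of
these.) -/
theorem result (k : Type u) [Field k] [IsAlgClosed k] (n m p : ℕ)
    (i j : Fin n) (hij : i ≠ j) (I : Fin p ↪o Fin n) (J : Fin p ↪o Fin m) :
    (∀ b : k, ((Matrix.transvection i j (MvPolynomial.C b) *
        (Matrix.of fun a c => (MvPolynomial.X (a, c) : MvPolynomial (Fin n × Fin m) k))).submatrix I J).det =
        ((Matrix.of fun a c => (MvPolynomial.X (a, c) : MvPolynomial (Fin n × Fin m) k)).submatrix I J).det) ↔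
      (i ∈ Set.range I → j ∈ Set.range I) := by
  classical
  set X : Matrix (Fin n) (Fin m) (MvPolynomial (Fin n × Fin m) k) :=
    Matrix.of fun a c => (MvPolynomial.X (a, c) : MvPolynomial (Fin n × Fin m) k) with hXdef
  set M := X.submatrix I J with hM
  have hnot : ∀ b : k, i ∉ Set.range I →
      (Matrix.transvection i j (MvPolynomial.C b) * X).submatrix I J = M := by
    intro b hi
    refine Matrix.ext fun a c => ?_
    simp only [Matrix.submatrix_apply, hM]
    exact Matrix.transvection_mul_apply_of_ne i j (I a) (J c) (fun h => hi ⟨a, h⟩) _ X
  have hin : ∀ b : k, ∀ a0 : Fin p, I a0 = i →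
      (Matrix.transvection i j (MvPolynomial.C b) * X).submatrix I J =
        M.updateRow a0 (M a0 + (MvPolynomial.C b : MvPolynomial (Fin n × Fin m) k) • (fun c => X j (J c))) := by
    intro b a0 ha0
    refine Matrix.ext fun a c => ?_
    by_cases ha : a = a0
    · subst ha
      simp only [Matrix.submatrix_apply, Matrix.updateRow_self, Pi.add_apply, Pi.smul_apply,
        smul_eq_mul, hM]
      rw [ha0, Matrix.transvection_mul_apply_same]
    · have hIa : I a ≠ i := fun h => ha (I.injective (h.trans ha0.symm))
      simp only [Matrix.submatrix_apply, Matrix.updateRow_ne ha, hM]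
      exact Matrix.transvection_mul_apply_of_ne i j (I a) (J c) hIa _ X
  constructor
  · rintro hall ⟨a0, ha0⟩
    by_contra hj
    have h1 := hall 1
    rw [hin 1 a0 ha0, Matrix.det_updateRow_add, Matrix.updateRow_eq_self, Matrix.det_updateRow_smul,
      map_one, one_mul, add_eq_left] at h1
    -- the updated matrix is a submatrix of the generic matrix with injective rows
    let I' : Fin p → Fin n := Function.update (⇑I) a0 j
    have hI' : Function.Injective I' := by
      intro a b hab
      by_cases ha : a = a0 <;> by_cases hb : b = a0
      · rw [ha, hb]
      · exfalso; apply hj; refine ⟨b, ?_⟩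
        have : I' a = j := by simp [I', ha]
        rw [← this, hab]; simp [I', hb]
      · exfalso; apply hj; refine ⟨a, ?_⟩
        have : I' b = j := by simp [I', hb]
        rw [← this, ← hab]; simp [I', ha]
      · simp only [I', Function.update_of_ne ha, Function.update_of_ne hb] at hab
        exact I.injective hab
    have hsub : M.updateRow a0 (fun c => X j (J c)) = X.submatrix I' J := by
      refine Matrix.ext fun a c => ?_
      by_cases ha : a = a0
      · subst ha; simp [I', hM]
      · simp [I', hM, Matrix.updateRow_ne ha, Function.update_of_ne ha]
    rw [hsub] at h1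
    let g : Fin p × Fin p → Fin n × Fin m := fun q => (I' q.1, J q.2)
    have hg : Function.Injective g := by
      rintro ⟨a, b⟩ ⟨a', b'⟩ h
      simp only [g, Prod.mk.injEq] at h
      rw [hI' h.1, J.injective h.2]
    have hmap : X.submatrix I' J =
        (MvPolynomial.rename g).toRingHom.mapMatrix (Matrix.mvPolynomialX (Fin p) (Fin p) k) := by
      refine Matrix.ext fun a c => ?_
      simp [hXdef, g, Matrix.mvPolynomialX]
    rw [hmap, ← RingHom.map_det] at h1
    apply Matrix.det_mvPolynomialX_ne_zero (Fin p) k
    apply MvPolynomial.rename_injective g hg
    rw [map_zero]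
    exact h1
  · intro h b
    by_cases hi : i ∈ Set.range I
    · obtain ⟨a0, ha0⟩ := hi
      obtain ⟨a1, ha1⟩ := h ⟨a0, ha0⟩
      have hne : a0 ≠ a1 := fun e => hij (by rw [← ha0, ← ha1, e])
      rw [hin b a0 ha0]
      have hrow : (fun c => X j (J c)) = M a1 := by
        funext c; simp [hM, ha1]
      rw [hrow, Matrix.det_updateRow_add_smul_self M hne]
    · rw [hnot b hi]


end Groth.Agent.S11240
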