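import Groth.Statements.S11249
import Mathlib.LinearAlgebra.Matrix.Rank
import Mathlib.LinearAlgebra.Matrix.NonsingularInverse
import Mathlib.Data.Fin.Tuple.Sort
import Mathlib.Tactic.LinearCombination
-- import your own Groth.Agent.* helpers here

set_option autoImplicit false
universe u
open W4bk4grassmannian
open scoped Matrix

namespace Groth.Agent.S11249

lemma span_cols_mul_le {K : Type u} [Field K] {n d : ℕ} (B : Matrix (Fin n) (Fin d) K)
    (G : Matrix (Fin d) (Fin d) K) :
    Submodule.span K (Set.range (B * G).transpose) ≤ Submodule.span K (Set.range B.transpose) := by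
  rw [Submodule.span_le]
  rintro _ ⟨j, rfl⟩
  have : (B * G).transpose j = ∑ i, G i j • B.transpose i := by
    funext r
    simp [Matrix.mul_apply, Finset.sum_apply, mul_comm]
  rw [this]
  exact Submodule.sum_mem _ (fun i _ => Submodule.smul_mem _ _ (Submodule.subset_span ⟨i, rfl⟩))

open W4bk4grassmannian in
/-- Injectivity of the Plücker map, in matrix form: let K be a field, A and A' two n × d matrices over K
with linearly independent columns, and suppose there is a nonzero scalar c with det A_θ = c · det
A'_θ for every strictly increasing d-tuple θ of row indices (A_θ the d × d submatrix on the rows θ).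
Then the columns of A and of A' span the same subspace of K^n. (The published statement is over an
algebraically closed field; this row allows any field K.) -/
theorem result (K : Type u) [Field K] (d n : ℕ)
    (A A' : Matrix (Fin n) (Fin d) K) (hA : LinearIndependent K A.transpose)
    (hA' : LinearIndependent K A'.transpose) (c : K) (hc : c ≠ 0)
    (h : ∀ θ : Idx d n, (A.submatrix θ.1 id).det = c * (A'.submatrix θ.1 id).det) :
    Submodule.span K (Set.range A.transpose) = Submodule.span K (Set.range A'.transpose) := by
  classical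
  have hext : ∀ σ : Fin d → Fin n, (A.submatrix σ id).det = c * (A'.submatrix σ id).det := by
    intro σ
    by_cases hσ : Function.Injective σ
    · have hmono : StrictMono (σ ∘ Tuple.sort σ) :=
        (Tuple.monotone_sort σ).strictMono_of_injective (hσ.comp (Tuple.sort σ).injective)
      have h1 := h ⟨σ ∘ Tuple.sort σ, hmono⟩
      have e : ∀ B : Matrix (Fin n) (Fin d) K,
          B.submatrix (σ ∘ Tuple.sort σ) id = (B.submatrix σ id).submatrix (Tuple.sort σ) id :=
        fun B => rfl
      simp only [e, Matrix.det_permute] at h1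
      rcases Int.units_eq_one_or (Equiv.Perm.sign (Tuple.sort σ)) with hs | hs <;>
        rw [hs] at h1 <;> simpa using h1
    · simp only [Function.Injective, not_forall] at hσ
      obtain ⟨a, b, hab, hne⟩ := hσ
      rw [Matrix.det_zero_of_row_eq hne (by funext x; simp [hab]),
        Matrix.det_zero_of_row_eq hne (by funext x; simp [hab]), mul_zero]
  have hrank : Module.finrank K (Submodule.span K (Set.range A'.row)) = d := by
    rw [← Matrix.rank_eq_finrank_span_row, Matrix.rank_eq_finrank_span_cols]
    have := finrank_span_eq_card hA'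
    rw [Fintype.card_fin] at this
    exact this
  have hspan : Submodule.span K (Set.range A'.row) = ⊤ := by
    apply Submodule.eq_top_of_finrank_eq
    rw [hrank, Module.finrank_fin_fun]
  obtain ⟨κ, a, ha, hsa, hli⟩ := exists_linearIndependent' K A'.row
  have : Finite κ := Finite.of_injective a ha
  have : Fintype κ := Fintype.ofFinite κ
  have hcard : Fintype.card κ = d := by
    have := finrank_span_eq_card hli
    rw [hsa, hspan, finrank_top, Module.finrank_fin_fun] at this
    exact this.symm
  let e : Fin d ≃ κ := (Fintype.equivFinOfCardEq hcard).symm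
  let σ0 : Fin d → Fin n := a ∘ e
  set P := A'.submatrix σ0 id with hPdef
  set Q := A.submatrix σ0 id with hQdef
  have hP : IsUnit P := by
    rw [← Matrix.linearIndependent_rows_iff_isUnit]
    exact hli.comp e e.injective
  have hPdet : P.det ≠ 0 := ((Matrix.isUnit_iff_isUnit_det P).1 hP).ne_zero
  have hQdet : Q.det ≠ 0 := by
    rw [hQdef, hext σ0, ← hPdef]; exact mul_ne_zero hc hPdet
  have hQ : IsUnit Q := (Matrix.isUnit_iff_isUnit_det Q).2 (Ne.isUnit hQdet)
  -- vecMul as a sum of rows
  have hvm : ∀ (v : Fin d → K) (M : Matrix (Fin d) (Fin d) K), v ᵥ* M = ∑ k, v k • M k := by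
    intro v M
    funext j
    simp [Matrix.vecMul, dotProduct, Finset.sum_apply]
  have hrow : ∀ r : Fin n, A r ᵥ* Q⁻¹ = A' r ᵥ* P⁻¹ := by
    intro r
    funext k
    have hu : A r = ∑ l, (A r ᵥ* Q⁻¹) l • Q l := by
      rw [← hvm, Matrix.vecMul_vecMul, Matrix.nonsing_inv_mul Q ((Matrix.isUnit_iff_isUnit_det Q).1 hQ),
        Matrix.vecMul_one]
    have hu' : A' r = ∑ l, (A' r ᵥ* P⁻¹) l • P l := by
      rw [← hvm, Matrix.vecMul_vecMul, Matrix.nonsing_inv_mul P ((Matrix.isUnit_iff_isUnit_det P).1 hP),
        Matrix.vecMul_one]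
    have e1 : Q.updateRow k (A r) = A.submatrix (Function.update σ0 k r) id := by
      funext x y
      by_cases hx : x = k
      · subst hx; simp
      · simp [Matrix.updateRow_ne hx, Function.update_of_ne hx, hQdef]
    have e2 : P.updateRow k (A' r) = A'.submatrix (Function.update σ0 k r) id := by
      funext x y
      by_cases hx : x = k
      · subst hx; simp
      · simp [Matrix.updateRow_ne hx, Function.update_of_ne hx, hPdef]
    have d1 := Matrix.det_updateRow_sum Q k (A r ᵥ* Q⁻¹)
    have d2 := Matrix.det_updateRow_sum P k (A' r ᵥ* P⁻¹)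
    rw [← hu, e1] at d1
    rw [← hu', e2] at d2
    have h3 := hext (Function.update σ0 k r)
    rw [d1, d2] at h3
    have hQP : Q.det = c * P.det := by rw [hQdef, hext σ0]
    rw [hQP, smul_eq_mul, smul_eq_mul] at h3
    have h4 : ((A r ᵥ* Q⁻¹) k - (A' r ᵥ* P⁻¹) k) * (c * P.det) = 0 := by
      linear_combination h3
    rcases mul_eq_zero.1 h4 with h5 | h5
    · exact sub_eq_zero.1 h5
    · exact absurd h5 (mul_ne_zero hc hPdet)
  set G := P⁻¹ * Q with hG
  have hAG : A = A' * G := by
    funext r j
    have h1 : A r = A' r ᵥ* G := by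
      rw [hG, ← Matrix.vecMul_vecMul, ← hrow r, Matrix.vecMul_vecMul,
        Matrix.nonsing_inv_mul Q ((Matrix.isUnit_iff_isUnit_det Q).1 hQ), Matrix.vecMul_one]
    rw [h1]
    simp [Matrix.vecMul, dotProduct, Matrix.mul_apply]
  have hGu : IsUnit G.det := by
    rw [hG, Matrix.det_mul]
    exact (Matrix.isUnit_nonsing_inv_det P ((Matrix.isUnit_iff_isUnit_det P).1 hP)).mul
      ((Matrix.isUnit_iff_isUnit_det Q).1 hQ)
  have hA'G : A' = A * G⁻¹ := by
    rw [hAG, Matrix.mul_assoc, Matrix.mul_nonsing_inv G hGu, Matrix.mul_one]
  apply le_antisymm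
  · rw [hAG]; exact span_cols_mul_le A' G
  · conv_lhs => rw [hA'G]
    exact span_cols_mul_le A G⁻¹


end Groth.Agent.S11249
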