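import Groth.Statements.S11268

set_option autoImplicit false
open W4bk4grassmannian

namespace Groth.Agent.S11268

theorem idx_val_ge {d n : ℕ} (a : Fin d → Fin n) (ha : StrictMono a) :
    ∀ (k : ℕ) (hk : k < d), k ≤ (a ⟨k, hk⟩).val
  | 0, _ => Nat.zero_le _
  | k + 1, hk => by
    have h1 := idx_val_ge a ha k (by omega)
    have h2 : a ⟨k, by omega⟩ < a ⟨k + 1, hk⟩ := ha (by rw [Fin.lt_def]; simp)
    rw [Fin.lt_def] at h2
    omega

open W4bk4grassmannian in
theorem result (d n : ℕ) (τ w : Idx d n) (h : τ < w) :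
    ∃ φ ∈ divisors w, τ ≤ φ := by
  have hle : τ ≤ w := h.le
  have hne : τ ≠ w := h.ne
  have hex : ∃ t : Fin d, τ.1 t < w.1 t := by
    by_contra hcon
    apply hne
    apply Subtype.ext
    funext t
    refine le_antisymm (hle t) ?_
    by_contra h'
    exact hcon ⟨t, lt_of_not_ge h'⟩
  classical
  have hnon : (Finset.univ.filter fun s : Fin d => τ.1 s < w.1 s).Nonempty := by
    obtain ⟨s, hs⟩ := hex; exact ⟨s, by simp [hs]⟩
  let t := Finset.min' (Finset.univ.filter fun s : Fin d => τ.1 s < w.1 s) hnon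
  have ht : τ.1 t < w.1 t := by
    have := Finset.min'_mem (Finset.univ.filter fun s : Fin d => τ.1 s < w.1 s) hnon
    simpa using this
  have hmin : ∀ s : Fin d, s < t → τ.1 s = w.1 s := by
    intro s hs
    by_contra hcon
    have hlt : τ.1 s < w.1 s := lt_of_le_of_ne (hle s) hcon
    have : t ≤ s := Finset.min'_le _ _ (by simp [hlt])
    exact absurd hs (not_lt.mpr this)
  have hτt : t.val ≤ (τ.1 t).val := idx_val_ge τ.1 τ.2 t.val t.isLt
  have htlt : (τ.1 t).val < (w.1 t).val := ht
  let v : Fin n := ⟨(w.1 t).val - 1, by have := (w.1 t).isLt; omega⟩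
  have hv : v.val = (w.1 t).val - 1 := rfl
  let f : Fin d → Fin n := fun s => if s = t then v else w.1 s
  have hft : f t = v := by simp [f]
  have hfs : ∀ s, s ≠ t → f s = w.1 s := by intro s hs; simp [f, hs]
  have hmono : StrictMono f := by
    intro a b hab
    by_cases ha : a = t
    · rw [ha] at hab ⊢
      have hb : b ≠ t := ne_of_gt hab
      rw [hft, hfs b hb, Fin.lt_def, hv]
      have := w.2 hab
      rw [Fin.lt_def] at this
      omega
    · by_cases hb : b = t
      · rw [hb] at hab ⊢
        rw [hfs a ha, hft, Fin.lt_def, hv, ← hmin a hab]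
        have := τ.2 hab
        rw [Fin.lt_def] at this
        omega
      · rw [hfs a ha, hfs b hb]
        exact w.2 hab
  let φ : Idx d n := ⟨f, hmono⟩
  have hφw : φ ≤ w := by
    intro s
    by_cases hs : s = t
    · rw [hs]
      show f t ≤ w.1 t
      rw [hft, Fin.le_def, hv]
      omega
    · show f s ≤ w.1 s
      rw [hfs s hs]
  have hφne : φ ≠ w := by
    intro heq
    have : f t = w.1 t := congrArg (fun x : Idx d n => x.1 t) heq
    rw [hft] at this
    have h2 := congrArg Fin.val this
    rw [hv] at h2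
    omega
  have hτφ : τ ≤ φ := by
    intro s
    by_cases hs : s = t
    · rw [hs]
      show τ.1 t ≤ f t
      rw [hft, Fin.le_def, hv]
      omega
    · show τ.1 s ≤ f s
      rw [hfs s hs]
      exact hle s
  refine ⟨φ, ⟨lt_of_le_of_ne hφw hφne, ?_⟩, hτφ⟩
  unfold codeg
  rw [← Finset.add_sum_erase _ _ (Finset.mem_univ t), ← Finset.add_sum_erase _ _ (Finset.mem_univ t)]
  have hrest : ∑ x ∈ Finset.univ.erase t, ((φ.1 x).val - x.val) =
      ∑ x ∈ Finset.univ.erase t, ((w.1 x).val - x.val) := by
    apply Finset.sum_congr rfl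
    intro x hx
    rw [Finset.mem_erase] at hx
    show (f x).val - x.val = (w.1 x).val - x.val
    rw [hfs x hx.1]
  rw [hrest]
  show (f t).val - t.val + _ + 1 = _
  rw [hft, hv]
  omega

end Groth.Agent.S11268
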