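import Groth.Statements.S11277
-- import your own Groth.Agent.* helpers here

set_option autoImplicit false
universe u v
open W4bk4grassmannian

namespace Groth.Agent.S11277

/-- Let K be a field, R = ⊕_{i ≥ 0} R_i an ℕ-graded commutative K-algebra which is an integral domain,
and s ∈ R_e a homogeneous element of degree e > 0. Let R_(s) ⊆ R[1/s] be the homogeneous
localization (fractions f / s^k with f homogeneous of degree k e). Then the image of s in R[1/s] is
transcendental over R_(s). -/
theorem result (K : Type u) [Field K] (R : Type v) [CommRing R]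
    [IsDomain R] [Algebra K R] (𝒜 : ℕ → Submodule K R) [GradedAlgebra 𝒜] (e : ℕ) (he : 0 < e) (s : R)
    (hs : s ∈ 𝒜 e) :
    Transcendental (HomogeneousLocalization.Away 𝒜 s) (algebraMap R (Localization.Away s) s) := by
  classical
  rintro ⟨p, hp0, hp⟩
  by_cases hs0 : s = 0
  · subst hs0
    have : Subsingleton (HomogeneousLocalization.Away 𝒜 (0 : R)) :=
      HomogeneousLocalization.subsingleton 𝒜 ⟨1, pow_one 0⟩
    exact hp0 (Subsingleton.elim _ _)
  apply hp0
  have hev : ∀ i ∈ p.support, ∀ᶠ n in Filter.atTop, s ^ n • (p.coeff i).val ∈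
      algebraMap R (Localization.Away s) '' (𝒜 (n • e) : Set R) :=
    fun i _ => HomogeneousLocalization.Away.eventually_smul_mem hs (p.coeff i)
  have hev' := (Filter.eventually_all_finset p.support).2 hev
  obtain ⟨L, hL⟩ := Filter.eventually_atTop.1 hev'
  have hb : ∀ i : ℕ, ∃ b ∈ 𝒜 (L • e),
      algebraMap R (Localization.Away s) b = s ^ L • (p.coeff i).val := by
    intro i
    by_cases hi : i ∈ p.support
    · obtain ⟨b, hb, hb'⟩ := hL L le_rfl i hi
      exact ⟨b, hb, hb'⟩
    · rw [Polynomial.notMem_support_iff.1 hi]
      exact ⟨0, zero_mem _, by simp⟩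
  choose b hbmem hbeq using hb
  have hinj : Function.Injective (algebraMap R (Localization.Away s)) :=
    IsLocalization.injective (Localization.Away s) (powers_le_nonZeroDivisors_of_noZeroDivisors hs0)
  have hsum : ∑ i ∈ p.support, b i * s ^ i = 0 := by
    apply hinj
    rw [map_zero, map_sum]
    have h2 := congrArg (fun y => s ^ L • y) hp
    simp only [smul_zero] at h2
    rw [← h2, Polynomial.aeval_def, Polynomial.eval₂_eq_sum, Polynomial.sum, Finset.smul_sum]
    refine Finset.sum_congr rfl (fun i _ => ?_)
    rw [map_mul, hbeq, map_pow, smul_mul_assoc, HomogeneousLocalization.algebraMap_apply]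
  refine Polynomial.ext (fun j => ?_)
  rw [Polynomial.coeff_zero]
  by_cases hj : j ∈ p.support
  swap
  · exact Polynomial.notMem_support_iff.1 hj
  have hmem : ∀ i, b i * s ^ i ∈ 𝒜 (L • e + i • e) :=
    fun i => SetLike.mul_mem_graded (hbmem i) (SetLike.pow_mem_graded i hs)
  have hproj := congrArg (GradedAlgebra.proj 𝒜 (L • e + j • e)) hsum
  rw [map_sum, map_zero, Finset.sum_eq_single j] at hproj
  · rw [GradedAlgebra.proj_apply, DirectSum.decompose_of_mem_same 𝒜 (hmem j)] at hproj
    have hbj : b j = 0 := by
      rcases mul_eq_zero.1 hproj with h | h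
      · exact h
      · exact absurd (pow_eq_zero_iff'.1 h).1 hs0
    have h3 := hbeq j
    rw [hbj, map_zero, Algebra.smul_def] at h3
    have hunit : IsUnit (algebraMap R (Localization.Away s) (s ^ L)) :=
      IsLocalization.map_units (Localization.Away s) (⟨s ^ L, L, rfl⟩ : Submonoid.powers s)
    have h4 : (p.coeff j).val = 0 := by
      have := h3.symm
      rwa [hunit.mul_right_eq_zero] at this
    exact HomogeneousLocalization.val_injective _ (h4.trans HomogeneousLocalization.val_zero.symm)
  · intro i _ hij
    rw [GradedAlgebra.proj_apply, DirectSum.decompose_of_mem_ne 𝒜 (hmem i)]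
    intro hdeg
    apply hij
    have : (L + i) * e = (L + j) * e := by simpa [smul_eq_mul, add_mul] using hdeg
    have := Nat.eq_of_mul_eq_mul_right he this
    omega
  · intro hj'; exact absurd hj hj'


end Groth.Agent.S11277
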