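import Groth.Statements.S11288
import Mathlib.LinearAlgebra.Dual.Lemmas
import Mathlib.Tactic.Ring
import Mathlib.Tactic.LinearCombination
import Mathlib.Tactic.Module
-- import your own Groth.Agent.* helpers here

set_option autoImplicit false
universe u
open Deform

namespace Groth.Agent.S11288

/-- Let K be a field, R' a local Artinian K-algebra with residue field K, and t a nonzero element of the
maximal ideal m' of R' with m' t = 0, so that R' → R = R'/(t) is a small extension of R. Then the
extension is trivial, i.e. the projection admits a section which is a K-algebra map, if and only if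
t is not in m'^2; equivalently, iff the surjection m'/m'^2 → m_R/m_R^2 induced on cotangent spaces,
whose kernel is spanned by the class of t, is not bijective. For instance K[t]/(t^(n+1)) →
K[t]/(t^n) is a non-trivial small extension for n ≥ 2. (The published example allows any local
K-algebra with residue field K; the row takes R' Artinian, the case in which the subalgebra
generated by lifts of a basis of the cotangent space maps onto R.) -/
theorem result
    {K : Type u} [Field K]
    {R' : Type u} [CommRing R'] [Algebra K R'] [IsLocalRing R'] [IsArtinianRing R']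
    (hres : ∀ a : R', ∃ c : K, a - algebraMap K R' c ∈ IsLocalRing.maximalIdeal R')
    (t : R') (ht : t ∈ IsLocalRing.maximalIdeal R') (ht0 : t ≠ 0)
    (htm : ∀ a ∈ IsLocalRing.maximalIdeal R', a * t = 0) :
    (∃ s : (R' ⧸ Ideal.span {t}) →ₐ[K] R', ∀ x, Ideal.Quotient.mk (Ideal.span {t}) (s x) = x) ↔
      t ∉ IsLocalRing.maximalIdeal R' ^ 2 := by
  classical
  have hxt : ∀ x : R', ∃ c : K, x - algebraMap K R' c ∈ IsLocalRing.maximalIdeal R' ∧
      x * t = c • t := by
    intro x
    obtain ⟨c, hc⟩ := hres x
    refine ⟨c, hc, ?_⟩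
    have := htm _ hc
    rw [sub_mul, sub_eq_zero] at this
    rw [this, Algebra.smul_def]
  have htt : t * t = 0 := htm t ht
  constructor
  · rintro ⟨s, hs⟩ htm2
    let ψ : R' →ₐ[K] R' := s.comp (Ideal.Quotient.mkₐ K (Ideal.span {t}))
    have hψ : ∀ z, ψ z - z ∈ Ideal.span {t} := by
      intro z
      rw [← Ideal.Quotient.eq]
      exact hs _
    have hmu : ∀ x ∈ IsLocalRing.maximalIdeal R', ∀ u ∈ Ideal.span {t}, x * u = 0 := by
      intro x hx u hu
      obtain ⟨r, rfl⟩ := Ideal.mem_span_singleton'.1 hu
      rw [mul_left_comm, htm x hx, mul_zero]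
    have hfix : ∀ z ∈ IsLocalRing.maximalIdeal R' ^ 2, ψ z = z := by
      intro z hz
      rw [pow_two] at hz
      refine Submodule.mul_induction_on hz ?_ ?_
      · intro x hx y hy
        rw [map_mul]
        have e1 : ψ x = x + (ψ x - x) := (add_sub_cancel x (ψ x)).symm
        have e2 : ψ y = y + (ψ y - y) := (add_sub_cancel y (ψ y)).symm
        have h1 := hmu x hx _ (hψ y)
        have h2 := hmu y hy _ (hψ x)
        have h3 := hmu _ (Ideal.span_le.2 (Set.singleton_subset_iff.2 ht) (hψ x)) _ (hψ y)
        rw [e1, e2]
        linear_combination h1 + h2 + h3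
      · intro x y hx hy; rw [map_add, hx, hy]
    have h1 := hfix t htm2
    have h2 : ψ t = 0 := by
      show s (Ideal.Quotient.mkₐ K (Ideal.span {t}) t) = 0
      rw [Ideal.Quotient.mkₐ_eq_mk, Ideal.Quotient.eq_zero_iff_mem.2 (Ideal.mem_span_singleton_self t),
        map_zero]
    exact ht0 (h1.symm.trans h2)
  · intro htm2
    let W : Submodule K R' := Submodule.span K {1} ⊔ (IsLocalRing.maximalIdeal R' ^ 2).restrictScalars K
    have htW : t ∉ W := by
      intro h
      obtain ⟨y, hy, z, hz, hyz⟩ := Submodule.mem_sup.1 h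
      obtain ⟨c, rfl⟩ := Submodule.mem_span_singleton.1 hy
      by_cases hc : c = 0
      · rw [hc, zero_smul, zero_add] at hyz
        exact htm2 (hyz ▸ hz)
      · have hmem : c • (1 : R') ∈ IsLocalRing.maximalIdeal R' := by
          have e : c • (1 : R') = t - z := eq_sub_of_add_eq hyz
          rw [e]
          exact (IsLocalRing.maximalIdeal R').sub_mem ht (Ideal.pow_le_self two_ne_zero hz)
        have hu : IsUnit (c • (1 : R')) := by
          rw [← Algebra.algebraMap_eq_smul_one]
          exact (IsUnit.mk0 c hc).map (algebraMap K R')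
        exact (IsLocalRing.mem_maximalIdeal _).1 hmem hu
    obtain ⟨f, hf1, hf2⟩ := Submodule.exists_dual_map_eq_bot_of_notMem htW inferInstance
    let ℓ : R' →ₗ[K] K := (f t)⁻¹ • f
    have hℓt : ℓ t = 1 := by
      show (f t)⁻¹ • f t = 1
      rw [smul_eq_mul, inv_mul_cancel₀ hf1]
    have hℓW : ∀ w ∈ W, ℓ w = 0 := by
      intro w hw
      have : f w ∈ W.map f := Submodule.mem_map_of_mem hw
      rw [hf2, Submodule.mem_bot] at this
      show (f t)⁻¹ • f w = 0
      rw [this, smul_zero]
    have hℓ1 : ℓ 1 = 0 := hℓW 1 (Submodule.mem_sup_left (Submodule.mem_span_singleton_self 1))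
    have hℓm2 : ∀ z ∈ IsLocalRing.maximalIdeal R' ^ 2, ℓ z = 0 :=
      fun z hz => hℓW z (Submodule.mem_sup_right hz)
    have hmulℓ : ∀ x y : R', ∀ cx cy : K, x - algebraMap K R' cx ∈ IsLocalRing.maximalIdeal R' →
        y - algebraMap K R' cy ∈ IsLocalRing.maximalIdeal R' →
        ℓ (x * y) = cx * ℓ y + cy * ℓ x := by
      intro x y cx cy hx hy
      have hprod : (x - algebraMap K R' cx) * (y - algebraMap K R' cy) ∈
          IsLocalRing.maximalIdeal R' ^ 2 := by
        rw [pow_two]; exact Submodule.mul_mem_mul hx hy
      have h0 := hℓm2 _ hprod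
      have e : x * y = (x - algebraMap K R' cx) * (y - algebraMap K R' cy) + cx • y + cy • x
          - (cx * cy) • (1 : R') := by
        simp only [Algebra.smul_def, map_mul, mul_one]; ring
      rw [e, map_sub, map_add, map_add, map_smul, map_smul, map_smul, h0, hℓ1]
      simp only [smul_eq_mul, mul_zero, sub_zero, zero_add]
    let φ : R' →ₐ[K] R' :=
      { toFun := fun x => x - ℓ x • t
        map_one' := by rw [hℓ1, zero_smul, sub_zero]
        map_mul' := by
          intro x y
          obtain ⟨cx, hcx, hxt'⟩ := hxt x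
          obtain ⟨cy, hcy, hyt'⟩ := hxt y
          rw [hmulℓ x y cx cy hcx hcy]
          have e1 : (x - ℓ x • t) * (y - ℓ y • t) = x * y - ℓ y • (x * t) - ℓ x • (y * t)
              + (ℓ x * ℓ y) • (t * t) := by
            simp only [Algebra.smul_def, map_mul]; ring
          rw [e1, hxt', hyt', htt, smul_zero, add_zero, smul_smul, smul_smul]
          simp only [add_smul]
          module
        map_zero' := by rw [map_zero, zero_smul, sub_zero]
        map_add' := by
          intro x y
          rw [map_add, add_smul]; abel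
        commutes' := by
          intro c
          show algebraMap K R' c - ℓ (algebraMap K R' c) • t = algebraMap K R' c
          rw [Algebra.algebraMap_eq_smul_one, map_smul, hℓ1, smul_zero, zero_smul, sub_zero] }
    have hφt : ∀ a ∈ Ideal.span {t}, φ a = 0 := by
      intro a ha
      obtain ⟨r, rfl⟩ := Ideal.mem_span_singleton'.1 ha
      rw [map_mul]
      show φ r * (t - ℓ t • t) = 0
      rw [hℓt, one_smul, sub_self, mul_zero]
    refine ⟨Ideal.Quotient.liftₐ (Ideal.span {t}) φ hφt, fun x => ?_⟩
    obtain ⟨y, rfl⟩ := Ideal.Quotient.mk_surjective x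
    have e : Ideal.Quotient.liftₐ (Ideal.span {t}) φ hφt (Ideal.Quotient.mk (Ideal.span {t}) y) =
        y - ℓ y • t := rfl
    rw [e, Ideal.Quotient.eq, sub_sub_cancel_left, neg_mem_iff, Algebra.smul_def]
    exact Ideal.mul_mem_left _ _ (Ideal.mem_span_singleton_self t)


end Groth.Agent.S11288
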