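import Groth.Statements.S11294
import Mathlib.Algebra.DualNumber
-- import your own Groth.Agent.* helpers here

set_option autoImplicit false
universe u
open Deform

namespace Groth.Agent.S11294

section
open TrivSqZeroExt

variable {P : Type u} [CommRing P]

lemma eps_mul_eq (x : DualNumber P) : DualNumber.eps * x = inr x.fst := by
  ext
  · simp only [DualNumber.eps, fst_mul, fst_inr, zero_mul]
  · simp only [DualNumber.eps, snd_mul, fst_inr, snd_inr, zero_smul, zero_add]
    simp

lemma snd_mul' (x : DualNumber P) (c : DualNumber P) :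
    (c * x).snd = c.fst * x.snd + c.snd * x.fst := by
  simp only [snd_mul, smul_eq_mul, MulOpposite.smul_eq_mul_unop, MulOpposite.unop_op]

lemma fst_mul' (x : DualNumber P) (c : DualNumber P) :
    (c * x).fst = c.fst * x.fst := by
  simp only [fst_mul]

lemma decomp (x : DualNumber P) : inl x.fst + inr x.snd = x := inl_fst_add_inr_snd_eq x

lemma fst_ia (a b : P) : (inl a + inr b : DualNumber P).fst = a := by simp
lemma snd_ia (a b : P) : (inl a + inr b : DualNumber P).snd = b := by simp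

/-- The ideal attached to φ. -/
def idealOf (J : Ideal P) (φ : J →ₗ[P] (P ⧸ J)) : Ideal (DualNumber P) where
  carrier := {x | ∃ h : x.fst ∈ J, Ideal.Quotient.mk J x.snd = φ ⟨x.fst, h⟩}
  add_mem' := by
    rintro x y ⟨hx, ex⟩ ⟨hy, ey⟩
    have hxy : (x + y).fst ∈ J := by rw [fst_add]; exact J.add_mem hx hy
    refine ⟨hxy, ?_⟩
    have : (⟨(x + y).fst, hxy⟩ : J) = ⟨x.fst, hx⟩ + ⟨y.fst, hy⟩ := by
      ext; simp only [fst_add, Submodule.coe_add]
    rw [this, map_add, ← ex, ← ey, snd_add, map_add]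
  zero_mem' := by
    have h0 : (0 : DualNumber P).fst ∈ J := by rw [fst_zero]; exact J.zero_mem
    refine ⟨h0, ?_⟩
    have : (⟨(0 : DualNumber P).fst, h0⟩ : J) = 0 := by ext; simp only [fst_zero]; rfl
    rw [this, map_zero, snd_zero, map_zero]
  smul_mem' := by
    rintro c x ⟨hx, ex⟩
    have hcx : (c • x).fst ∈ J := by
      rw [smul_eq_mul, fst_mul']; exact J.mul_mem_left _ hx
    refine ⟨hcx, ?_⟩
    have : (⟨(c • x).fst, hcx⟩ : J) = c.fst • ⟨x.fst, hx⟩ := by
      ext; simp only [smul_eq_mul, fst_mul', Submodule.coe_smul]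
    rw [this, map_smul, ← ex, smul_eq_mul, snd_mul', map_add, map_mul, map_mul,
      (Ideal.Quotient.eq_zero_iff_mem).2 hx, mul_zero, add_zero]
    rfl

lemma mem_idealOf (J : Ideal P) (φ : J →ₗ[P] (P ⧸ J)) (a b : P) :
    (inl a + inr b : DualNumber P) ∈ idealOf J φ ↔
      ∃ h : a ∈ J, Ideal.Quotient.mk J b = φ ⟨a, h⟩ := by
  show (∃ h : (inl a + inr b : DualNumber P).fst ∈ J, _ = φ ⟨_, h⟩) ↔ _
  simp only [fst_ia, snd_ia]


lemma fstHom_surj : Function.Surjective (TrivSqZeroExt.fstHom P P P) :=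
  fun a => ⟨inl a, by simp⟩

lemma forward (J : Ideal P) (J' : Ideal (DualNumber P))
    (hmap : J'.map (TrivSqZeroExt.fstHom P P P) = J)
    (hflat : ∀ m : DualNumber P ⧸ J', Ideal.Quotient.mk J' DualNumber.eps * m = 0 →
          ∃ m' : DualNumber P ⧸ J', m = Ideal.Quotient.mk J' DualNumber.eps * m') :
    ∃ φ : J →ₗ[P] (P ⧸ J), ∀ a b : P,
        (inl a + inr b : DualNumber P) ∈ J' ↔ ∃ h : a ∈ J, Ideal.Quotient.mk J b = φ ⟨a, h⟩ := by
  have F1 : ∀ a : P, a ∈ J ↔ ∃ x ∈ J', x.fst = a := by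
    intro a
    rw [← hmap, Ideal.mem_map_iff_of_surjective _ fstHom_surj]
    rfl
  have F2 : ∀ b : P, inr b ∈ J' ↔ b ∈ J := by
    intro b
    constructor
    · intro hb
      have h0 : Ideal.Quotient.mk J' DualNumber.eps * Ideal.Quotient.mk J' (inl b) = 0 := by
        rw [← map_mul, eps_mul_eq, fst_inl, Ideal.Quotient.eq_zero_iff_mem]; exact hb
      obtain ⟨m', hm'⟩ := hflat _ h0
      obtain ⟨y, rfl⟩ := Ideal.Quotient.mk_surjective m'
      rw [← map_mul, Ideal.Quotient.eq] at hm'
      rw [F1]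
      refine ⟨_, hm', ?_⟩
      rw [fst_sub, eps_mul_eq, fst_inl, fst_inr, sub_zero]
    · intro hb
      obtain ⟨x, hx, rfl⟩ := (F1 b).1 hb
      rw [← eps_mul_eq]
      exact J'.mul_mem_left _ hx
  have hex : ∀ a : J, ∃ x ∈ J', x.fst = (a : P) := fun a => (F1 a).1 a.2
  let g : J → P := fun a => (Classical.choose (hex a)).snd
  have hg : ∀ a : J, Classical.choose (hex a) ∈ J' ∧ (Classical.choose (hex a)).fst = a :=
    fun a => Classical.choose_spec (hex a)
  have K : ∀ x ∈ J', ∀ a : J, x.fst = (a : P) →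
      Ideal.Quotient.mk J (g a) = Ideal.Quotient.mk J x.snd := by
    intro x hx a hxa
    obtain ⟨hy, hyf⟩ := hg a
    have hxy : x - Classical.choose (hex a) = inr (x.snd - (Classical.choose (hex a)).snd) := by
      ext
      · rw [fst_sub, hyf, hxa, sub_self, fst_inr]
      · rw [snd_sub, snd_inr]
    have h1 : x.snd - (Classical.choose (hex a)).snd ∈ J := by
      rw [← F2, ← hxy]; exact J'.sub_mem hx hy
    rw [Ideal.Quotient.eq]
    have h2 := J.neg_mem h1
    rwa [neg_sub] at h2
  let φ : J →ₗ[P] (P ⧸ J) :=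
    { toFun := fun a => Ideal.Quotient.mk J (g a)
      map_add' := by
        intro a a'
        obtain ⟨hx, hxf⟩ := hg a
        obtain ⟨hx', hxf'⟩ := hg a'
        have := K _ (J'.add_mem hx hx') (a + a') (by rw [fst_add, hxf, hxf']; rfl)
        rw [this, snd_add, map_add]
      map_smul' := by
        intro c a
        obtain ⟨hx, hxf⟩ := hg a
        have := K _ (J'.mul_mem_left (inl c) hx) (c • a) (by rw [fst_mul', fst_inl, hxf]; rfl)
        rw [this, snd_mul', fst_inl, snd_inl, zero_mul, add_zero, map_mul]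
        rfl }
  refine ⟨φ, fun a b => ⟨fun hab => ?_, fun ⟨h, e⟩ => ?_⟩⟩
  · have ha : a ∈ J := (F1 a).2 ⟨_, hab, fst_ia a b⟩
    refine ⟨ha, ?_⟩
    have := K _ hab ⟨a, ha⟩ (fst_ia a b)
    rw [snd_ia] at this
    exact this.symm
  · obtain ⟨hy, hyf⟩ := hg ⟨a, h⟩
    have e' : Ideal.Quotient.mk J b = Ideal.Quotient.mk J (Classical.choose (hex ⟨a, h⟩)).snd := e
    have hb : b - (Classical.choose (hex ⟨a, h⟩)).snd ∈ J := Ideal.Quotient.eq.1 e'
    have : (inl a + inr b : DualNumber P) =
        Classical.choose (hex ⟨a, h⟩) + inr (b - (Classical.choose (hex ⟨a, h⟩)).snd) := by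
      ext
      · rw [fst_ia, fst_add, hyf, fst_inr, add_zero]
      · rw [snd_ia, snd_add, snd_inr, add_sub_cancel]
    rw [this]
    exact J'.add_mem hy ((F2 _).2 hb)

lemma backward (J : Ideal P) (J' : Ideal (DualNumber P)) (φ : J →ₗ[P] (P ⧸ J))
    (hφ : ∀ a b : P,
        (inl a + inr b : DualNumber P) ∈ J' ↔ ∃ h : a ∈ J, Ideal.Quotient.mk J b = φ ⟨a, h⟩) :
    J'.map (TrivSqZeroExt.fstHom P P P) = J ∧
        ∀ m : DualNumber P ⧸ J', Ideal.Quotient.mk J' DualNumber.eps * m = 0 →
          ∃ m' : DualNumber P ⧸ J', m = Ideal.Quotient.mk J' DualNumber.eps * m' := by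
  have hφ' : ∀ x : DualNumber P, x ∈ J' ↔ ∃ h : x.fst ∈ J, Ideal.Quotient.mk J x.snd = φ ⟨x.fst, h⟩ := by
    intro x
    conv_lhs => rw [← decomp x]
    exact hφ _ _
  refine ⟨?_, ?_⟩
  · ext a
    rw [Ideal.mem_map_iff_of_surjective _ fstHom_surj]
    constructor
    · rintro ⟨x, hx, rfl⟩
      exact ((hφ' x).1 hx).1
    · intro ha
      obtain ⟨b, hb⟩ := Ideal.Quotient.mk_surjective (φ ⟨a, ha⟩)
      refine ⟨inl a + inr b, (hφ a b).2 ⟨ha, hb⟩, ?_⟩
      show (inl a + inr b : DualNumber P).fst = a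
      exact fst_ia a b
  · intro m hm
    obtain ⟨y, rfl⟩ := Ideal.Quotient.mk_surjective m
    rw [← map_mul, Ideal.Quotient.eq_zero_iff_mem, eps_mul_eq] at hm
    have hm2 : (inl 0 + inr y.fst : DualNumber P) ∈ J' := by rw [inl_zero, zero_add]; exact hm
    obtain ⟨h0, e0⟩ := (hφ 0 y.fst).1 hm2
    have e0' : Ideal.Quotient.mk J y.fst = 0 := by
      rw [e0]
      have : (⟨0, h0⟩ : J) = 0 := rfl
      rw [this, map_zero]
    have hy : y.fst ∈ J := Ideal.Quotient.eq_zero_iff_mem.1 e0'
    obtain ⟨c, hc⟩ := Ideal.Quotient.mk_surjective (φ ⟨y.fst, hy⟩)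
    refine ⟨Ideal.Quotient.mk J' (inl (y.snd - c)), ?_⟩
    rw [← map_mul, eps_mul_eq, fst_inl, Ideal.Quotient.eq]
    have : y - inr (y.snd - c) = inl y.fst + inr c := by
      ext
      · rw [fst_sub, fst_inr, sub_zero, fst_ia]
      · rw [snd_sub, snd_inr, snd_ia, sub_sub_cancel]
    rw [this, hφ]
    exact ⟨hy, hc⟩
end


open TrivSqZeroExt in
/-- Let P be a commutative ring, J an ideal, and P[ε] the ring of dual numbers over P. First-order
embedded deformations of Spec(P/J) in Spec P, namely ideals J' of P[ε] lifting J (the image of J'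
under ε ↦ 0 is J) with P[ε]/J' flat over the dual numbers — flatness being replaced by the condition
that every element of P[ε]/J' annihilated by ε is a multiple of ε (equivalent to flatness over k[ε]
when P is an algebra over a field k) — are in canonical bijection with Hom_P(J, P/J) =
Hom_{P/J}(J/J^2, P/J), the normal module: to φ corresponds the ideal of all a + εb with a in J and b
reducing to φ(a) modulo J. The first clause says this rule defines exactly one ideal for each φ; the
second says an ideal J' is a flat lift of J precisely when its membership is given by this rule for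
some φ. (The published statement is the global one, identifying first-order deformations of a closed
subscheme X of an algebraic scheme Y with H^0(X, N_{X/Y}); this row is the affine computation in its
proof, valid for every commutative ring P.) -/
theorem result (P : Type u) [CommRing P] (J : Ideal P) :
    (∀ φ : J →ₗ[P] (P ⧸ J), ∃! J' : Ideal (DualNumber P),
        ∀ a b : P, (inl a + inr b : DualNumber P) ∈ J' ↔ ∃ h : a ∈ J, Ideal.Quotient.mk J b = φ ⟨a, h⟩) ∧
    (∀ J' : Ideal (DualNumber P),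
      (J'.map (TrivSqZeroExt.fstHom P P P) = J ∧
        ∀ m : DualNumber P ⧸ J', Ideal.Quotient.mk J' DualNumber.eps * m = 0 →
          ∃ m' : DualNumber P ⧸ J', m = Ideal.Quotient.mk J' DualNumber.eps * m') ↔
      ∃ φ : J →ₗ[P] (P ⧸ J), ∀ a b : P,
        (inl a + inr b : DualNumber P) ∈ J' ↔ ∃ h : a ∈ J, Ideal.Quotient.mk J b = φ ⟨a, h⟩) := by
  refine ⟨fun φ => ⟨idealOf J φ, mem_idealOf J φ, fun J' hJ' => ?_⟩, fun J' => ⟨?_, ?_⟩⟩
  · ext x
    rw [← decomp x, hJ', mem_idealOf]
  · rintro ⟨hmap, hflat⟩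
    exact forward J J' hmap hflat
  · rintro ⟨φ, hφ⟩
    exact backward J J' φ hφ


end Groth.Agent.S11294
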