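import Groth.Statements.S11306
import Mathlib.RingTheory.LocalRing.Module
import Mathlib.RingTheory.TensorProduct.Pi
import Mathlib.LinearAlgebra.FiniteDimensional.Lemmas
import Mathlib.RingTheory.Localization.FractionRing
import Mathlib.LinearAlgebra.TensorProduct.RightExactness
-- import your own Groth.Agent.* helpers here

set_option autoImplicit false
universe u
open TensorProduct
open CAlg

namespace Groth.Agent.S11306

/-- Take a Noetherian local domain A, with residue field k and fraction field K, and let M be a finitely
generated A-module. If k ⊗_A M and K ⊗_A M have the same dimension r (over k and over K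
respectively), then M is a free A-module of rank r. -/
theorem result (A : Type u) [CommRing A] [IsDomain A]
    [IsNoetherianRing A] [IsLocalRing A] (M : Type u) [AddCommGroup M] [Module A M] [Module.Finite A M] (r : ℕ)
    (hk : Module.finrank (IsLocalRing.ResidueField A) (IsLocalRing.ResidueField A ⊗[A] M) = r)
    (hK : Module.finrank (FractionRing A) (FractionRing A ⊗[A] M) = r) :
    Module.Free A M ∧ Module.finrank A M = r := by
  classical
  let b : Module.Basis (Fin r) (IsLocalRing.ResidueField A) (IsLocalRing.ResidueField A ⊗[A] M) :=
    Module.finBasisOfFinrankEq _ _ hk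
  have hlift : ∀ t : IsLocalRing.ResidueField A ⊗[A] M, ∃ m : M, (1 : IsLocalRing.ResidueField A) ⊗ₜ[A] m = t := by
    intro t
    induction t using TensorProduct.induction_on with
    | zero => exact ⟨0, TensorProduct.tmul_zero _ _⟩
    | tmul c m =>
      obtain ⟨a, rfl⟩ := IsLocalRing.residue_surjective c
      refine ⟨a • m, ?_⟩
      rw [← TensorProduct.smul_tmul, Algebra.smul_def, mul_one]
      rfl
    | add x y hx hy =>
      obtain ⟨m, rfl⟩ := hx
      obtain ⟨m', rfl⟩ := hy
      exact ⟨m + m', TensorProduct.tmul_add _ _ _⟩
  choose f hf using fun i => hlift (b i)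
  have hspan : Submodule.span A (Set.range f) = ⊤ := IsLocalRing.span_eq_top_of_tmul_eq_basis f b hf
  let φ : (Fin r → A) →ₗ[A] M := Fintype.linearCombination A f
  have hφs : Function.Surjective φ := by
    rw [← LinearMap.range_eq_top, Fintype.range_linearCombination, hspan]
  have hφi : Function.Injective φ := by
    let φK := φ.baseChange (FractionRing A)
    have hsK : Function.Surjective φK := by
      have : (φK : FractionRing A ⊗[A] (Fin r → A) → FractionRing A ⊗[A] M) =
          φ.lTensor (FractionRing A) := LinearMap.baseChange_eq_ltensor _
      rw [this]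
      exact LinearMap.lTensor_surjective _ hφs
    have hdim : Module.finrank (FractionRing A) (FractionRing A ⊗[A] (Fin r → A)) =
        Module.finrank (FractionRing A) (FractionRing A ⊗[A] M) := by
      rw [hK, Module.finrank_baseChange, Module.finrank_fin_fun]
    have hiK : Function.Injective φK := by
      have : FiniteDimensional (FractionRing A) (FractionRing A ⊗[A] (Fin r → A)) := inferInstance
      exact (LinearMap.injective_iff_surjective_of_finrank_eq_finrank hdim).2 hsK
    rw [← LinearMap.ker_eq_bot, LinearMap.ker_eq_bot']
    intro v hv
    have h1 : φK ((1 : FractionRing A) ⊗ₜ[A] v) = 0 := by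
      rw [LinearMap.baseChange_tmul, hv, TensorProduct.tmul_zero]
    have h2 := hiK (h1.trans (map_zero φK).symm)
    funext i
    have h3 := congrFun (congrArg (Algebra.TensorProduct.piScalarRight A A (FractionRing A) (Fin r)) h2) i
    rw [Algebra.TensorProduct.piScalarRight_tmul_apply, map_zero] at h3
    have h4 : algebraMap A (FractionRing A) (v i) = 0 := by
      rw [Algebra.algebraMap_eq_smul_one]; exact h3
    exact (IsFractionRing.injective A (FractionRing A)) (h4.trans (map_zero _).symm)
  let e : (Fin r → A) ≃ₗ[A] M := LinearEquiv.ofBijective φ ⟨hφi, hφs⟩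
  exact ⟨Module.Free.of_equiv e, by rw [← e.finrank_eq, Module.finrank_fin_fun]⟩


end Groth.Agent.S11306
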