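import Groth.Statements.S11499
import Mathlib.LinearAlgebra.Dimension.Localization
import Mathlib.LinearAlgebra.LinearIndependent.Lemmas
import Mathlib.LinearAlgebra.Pi
import Mathlib.LinearAlgebra.FreeModule.StrongRankCondition

set_option autoImplicit false
universe u
open TensorProduct
open VBPn

namespace Groth.Agent.S11499

theorem result (A : Type u) [CommRing A] [IsDomain A]
    (M : Type u) [AddCommGroup M] [Module A M] [Module.Finite A M] [NoZeroSMulDivisors A M] (r : ℕ)
    (hr : Module.finrank (FractionRing A) (FractionRing A ⊗[A] M) = r) :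
    ∃ f : M →ₗ[A] (Fin r → A), Function.Injective f := by
  classical
  have hrk : Module.finrank A M = r := by
    rw [← hr]
    exact ((TensorProduct.isBaseChange A M (FractionRing A)).finrank_eq).symm
  obtain ⟨k, s, hs⟩ := Module.Finite.exists_fin (R := A) (M := M)
  obtain ⟨I, indepI, hI⟩ := exists_maximal_linearIndepOn A s
  let N := Submodule.span A (Set.range (fun i : I => s i))
  have exists_a : ∀ i : Fin k, ∃ a : A, a ≠ 0 ∧ a • s i ∈ N := by
    intro i
    by_cases hi : i ∈ I
    · exact ⟨1, one_ne_zero, by rw [one_smul]; exact Submodule.subset_span ⟨⟨i, hi⟩, rfl⟩⟩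
    · obtain ⟨a, ha, ha'⟩ := hI i hi
      refine ⟨a, ha, ?_⟩
      have : s '' I = Set.range (fun i : I => s i) := Set.image_eq_range s I
      rw [this] at ha'
      exact ha'
  choose a ha ha' using exists_a
  let D := ∏ i, a i
  have hD : D ≠ 0 := Finset.prod_ne_zero_iff.mpr (fun i _ => ha i)
  have hDM : ∀ m : M, D • m ∈ N := by
    intro m
    have hm : m ∈ Submodule.span A (Set.range s) := by rw [hs]; trivial
    induction hm using Submodule.span_induction with
    | mem x hx =>
      obtain ⟨i, rfl⟩ := hx
      have : D = (∏ j ∈ Finset.univ.erase i, a j) * a i := by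
        rw [Finset.prod_erase_mul _ _ (Finset.mem_univ i)]
      rw [this, mul_smul]
      exact N.smul_mem _ (ha' i)
    | zero => rw [smul_zero]; exact N.zero_mem
    | add x y _ _ hx hy => rw [smul_add]; exact N.add_mem hx hy
    | smul c x _ hx => rw [smul_comm]; exact N.smul_mem c hx
  let φ : M →ₗ[A] N := (LinearMap.lsmul A M D).codRestrict N hDM
  have hφ : Function.Injective φ := by
    intro x y hxy
    have : D • x = D • y := congrArg Subtype.val hxy
    exact smul_right_injective M hD this
  have indep' : LinearIndependent A (fun i : I => s i) := indepI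
  let b : Module.Basis I A N := Module.Basis.span indep'
  letI : Fintype I := Fintype.ofFinite I
  have hcard : Fintype.card I ≤ r := by
    rw [← hrk]
    exact indep'.fintype_card_le_finrank
  obtain ⟨e⟩ : Nonempty (I ↪ Fin r) :=
    Function.Embedding.nonempty_of_card_le (by rw [Fintype.card_fin]; exact hcard)
  let ψ : N →ₗ[A] (Fin r → A) :=
    (Function.ExtendByZero.linearMap A e) ∘ₗ b.equivFun.toLinearMap
  have hψ : Function.Injective ψ := by
    have h1 : Function.Injective (Function.ExtendByZero.linearMap A e) :=
      Function.extend_injective e.injective 0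
    exact h1.comp b.equivFun.injective
  exact ⟨ψ ∘ₗ φ, hψ.comp hφ⟩

end Groth.Agent.S11499
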