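import Groth.Statements.S12071
import Mathlib.GroupTheory.Archimedean
-- import your own Groth.Agent.* helpers here

set_option autoImplicit false
open RootD

namespace Groth.Agent.S12071

open DihedralGroup

/-- identity map from the integers to `ZMod 0`, used to keep types straight. -/
def toZ0h18 (i : ℤ) : ZMod 0 := i

/-- Let G be the group generated by two elements x, y subject to x² = y² = 1 (the infinite dihedral
group; here Mathlib's DihedralGroup 0 with x = sr 0 and y = sr 1, so that x y = r 1). Then every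
normal subgroup of G containing neither x nor y is generated by an element (x y)^n with n > 0; such
a subgroup is cyclic, generated by r n. (The published statement does not exclude the trivial
subgroup, for which no n > 0 works; this row assumes the subgroup nontrivial.) -/
theorem result (N : Subgroup (DihedralGroup 0)) [N.Normal]
    (hN : N ≠ ⊥) (hx : DihedralGroup.sr (0 : ZMod 0) ∉ N) (hy : DihedralGroup.sr (1 : ZMod 0) ∉ N) :
    ∃ n : ℕ, 0 < n ∧ N = Subgroup.zpowers (DihedralGroup.r (n : ZMod 0)) := by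
  have hnosr : ∀ j : ZMod 0, sr j ∉ N := by
    intro j hj
    obtain ⟨i, hi⟩ : ∃ i : ZMod 0, j = 2 * i ∨ j = 2 * i + 1 := Int.even_or_odd' j
    have h1 := Subgroup.Normal.conj_mem ‹N.Normal› _ hj (r i)
    have h2 : sr (j - i + -i) ∈ N := h1
    rcases hi with hi | hi
    · apply hx
      have e : j - i + -i = 0 := by rw [hi]; ring
      rw [e] at h2
      exact h2
    · apply hy
      have e : j - i + -i = 1 := by rw [hi]; ring
      rw [e] at h2
      exact h2
  let H : AddSubgroup ℤ :=
    { carrier := {i | r (toZ0h18 i) ∈ N}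
      add_mem' := fun {a b} ha hb => N.mul_mem ha hb
      zero_mem' := N.one_mem
      neg_mem' := fun {a} ha => N.inv_mem ha }
  have hmemH : ∀ i : ℤ, i ∈ H ↔ r (toZ0h18 i) ∈ N := fun i => Iff.rfl
  have hzp : ∀ (a k : ℤ), (r (toZ0h18 a)) ^ k = r (toZ0h18 (a * k)) := by
    intro a k
    rw [r_zpow]
    rfl
  obtain ⟨a, ha⟩ := Int.subgroup_cyclic H
  rw [← AddSubgroup.zmultiples_eq_closure] at ha
  have hNa : N = Subgroup.zpowers (r (toZ0h18 a)) := by
    ext g
    cases g with
    | r i0 =>
      obtain ⟨i, rfl⟩ : ∃ i : ℤ, toZ0h18 i = i0 := ⟨i0, rfl⟩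
      rw [← hmemH i, ha, AddSubgroup.mem_zmultiples_iff, Subgroup.mem_zpowers_iff]
      constructor
      · rintro ⟨k, hk⟩
        refine ⟨k, ?_⟩
        rw [hzp, ← hk, smul_eq_mul, mul_comm]
      · rintro ⟨k, hk⟩
        refine ⟨k, ?_⟩
        rw [hzp] at hk
        have hk' : toZ0h18 (a * k) = toZ0h18 i := r.inj hk
        rw [smul_eq_mul, mul_comm]
        exact hk'
    | sr j =>
      simp only [hnosr j, false_iff]
      rw [Subgroup.mem_zpowers_iff]
      rintro ⟨k, hk⟩
      rw [show r (toZ0h18 a) = r (toZ0h18 a) from rfl, hzp] at hk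
      cases hk
  have hza : Subgroup.zpowers (r (toZ0h18 a)) = Subgroup.zpowers (r ((a.natAbs : ℕ) : ZMod 0)) := by
    have hc : ((a.natAbs : ℕ) : ZMod 0) = toZ0h18 (a.natAbs : ℤ) := by
      rw [← Int.cast_natCast]; rfl
    rw [hc]
    rcases Int.natAbs_eq a with h | h
    · rw [← h]
    · have : r (toZ0h18 a) = (r (toZ0h18 (a.natAbs : ℤ)))⁻¹ := by
        rw [inv_r]
        congr 1
      rw [this, Subgroup.zpowers_inv]
  refine ⟨a.natAbs, ?_, hNa.trans hza⟩
  by_contra h0
  have ha0 : a = 0 := by omega
  apply hN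
  rw [hNa, ha0]
  ext g
  simp only [Subgroup.mem_bot, Subgroup.mem_zpowers_iff]
  constructor
  · rintro ⟨k, rfl⟩
    rw [hzp, zero_mul]
    rfl
  · rintro rfl
    exact ⟨0, by simp⟩

end Groth.Agent.S12071
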