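import Groth.Statements.S12249
import Groth.Prelude.Def_ArtFun5
import Mathlib.LinearAlgebra.Dual.Lemmas
import Mathlib.RingTheory.Nakayama
-- import your own Groth.Agent.* helpers here

set_option autoImplicit false
universe u v
open CategoryTheory
open Deform

namespace Groth.Agent.S12249

/-- Let k be an algebraically closed field and F a set-valued functor on local Artinian k-algebras with
residue field k such that F(k) is a single point. If F has a semiuniversal formal element and its
tangent space F(k[ε]) is reduced to one element, then F(A) consists of exactly one element for every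
A: F is the constant one-point functor h_k. -/
theorem result
    {k : Type u} [Field k] [IsAlgClosed k]
    (F : ArtFun.Art k k ⥤ Type v) (h0 : ArtFun.H0 F) (hF : ArtFun.HasHull F)
    (ht : Subsingleton (ArtFun.TangentSpace F)) (A : ArtFun.Art k k) :
    Nonempty (F.obj A) ∧ Subsingleton (F.obj A) := by
  obtain ⟨H⟩ := hF
  obtain ⟨hvers, hbij⟩ := H.miniversal
  -- notation
  have hres_alg : ∀ c : k, H.ring.res (algebraMap k H.ring.carrier c) = c := fun c =>
    H.ring.res.commutes c
  have hmem : ∀ a : H.ring.carrier, a - algebraMap k H.ring.carrier (H.ring.res a) ∈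
      IsLocalRing.maximalIdeal H.ring.carrier := by
    intro a
    rw [ArtFun.CRing.mem_maximalIdeal_iff, map_sub, hres_alg, sub_self]
  -- the trivial point of h_R(k[ε])
  let φ0 : ArtFun.HomSet H.ring.carrier H.ring.res (ArtFun.Art.dual k k) :=
    ⟨(Algebra.ofId k (DualNumber k)).comp H.ring.res, AlgHom.ext fun r => rfl⟩
  -- m ≤ m^2
  have hm2 : IsLocalRing.maximalIdeal H.ring.carrier ≤ IsLocalRing.maximalIdeal H.ring.carrier ^ 2 := by
    intro x hx
    by_contra hx2
    let W : Submodule k H.ring.carrier := Submodule.span k {1} ⊔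
      (IsLocalRing.maximalIdeal H.ring.carrier ^ 2).restrictScalars k
    have hxW : x ∉ W := by
      intro hxW
      obtain ⟨a, ha, b, hb, hab⟩ := Submodule.mem_sup.mp hxW
      obtain ⟨c, rfl⟩ := Submodule.mem_span_singleton.mp ha
      have hb' : b ∈ IsLocalRing.maximalIdeal H.ring.carrier := Ideal.pow_le_self two_ne_zero hb
      have hc : c = 0 := by
        have h1 := (ArtFun.CRing.mem_maximalIdeal_iff _ _).mp hx
        have h2 := (ArtFun.CRing.mem_maximalIdeal_iff _ _).mp hb'
        rw [← hab, map_add, map_smul, map_one, h2, smul_eq_mul, mul_one, add_zero] at h1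
        exact h1
      apply hx2
      rw [← hab, hc, zero_smul, zero_add]
      exact hb
    obtain ⟨f, hfx, hfW⟩ := Submodule.exists_dual_map_eq_bot_of_notMem hxW inferInstance
    have hW : ∀ w ∈ W, f w = 0 := by
      intro w hw
      have := Submodule.mem_map_of_mem (f := f) hw
      rw [hfW] at this
      simpa using this
    have hf1 : f 1 = 0 := hW 1 (Submodule.mem_sup_left (Submodule.mem_span_singleton_self 1))
    have hfm2 : ∀ y ∈ IsLocalRing.maximalIdeal H.ring.carrier ^ 2, f y = 0 := fun y hy =>
      hW y (Submodule.mem_sup_right hy)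
    have hfalg : ∀ c : k, f (algebraMap k H.ring.carrier c) = 0 := by
      intro c
      rw [Algebra.algebraMap_eq_smul_one, map_smul, hf1, smul_zero]
    have hder : ∀ a b : H.ring.carrier,
        f (a * b) = H.ring.res a * f b + H.ring.res b * f a := by
      intro a b
      have ha' := hmem a
      have hb' := hmem b
      have hab : a * b = algebraMap k H.ring.carrier (H.ring.res a * H.ring.res b)
          + H.ring.res a • (b - algebraMap k H.ring.carrier (H.ring.res b))
          + H.ring.res b • (a - algebraMap k H.ring.carrier (H.ring.res a))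
          + (a - algebraMap k H.ring.carrier (H.ring.res a)) *
            (b - algebraMap k H.ring.carrier (H.ring.res b)) := by
        simp only [Algebra.smul_def, map_mul]
        ring
      have h2 : (a - algebraMap k H.ring.carrier (H.ring.res a)) *
          (b - algebraMap k H.ring.carrier (H.ring.res b)) ∈
          IsLocalRing.maximalIdeal H.ring.carrier ^ 2 := by
        rw [sq]; exact Ideal.mul_mem_mul ha' hb'
      rw [hab, map_add, map_add, map_add, map_smul, map_smul, hfm2 _ h2, hfalg, map_sub, map_sub,
        hfalg, hfalg, smul_eq_mul, smul_eq_mul]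
      ring
    let φ1 : H.ring.carrier →ₐ[k] DualNumber k :=
      { toFun := fun r => TrivSqZeroExt.inl (H.ring.res r) + TrivSqZeroExt.inr (f r)
        map_one' := by
          apply TrivSqZeroExt.ext <;> simp [hf1]
        map_mul' := by
          intro a b
          apply TrivSqZeroExt.ext
          · simp
          · simp [hder a b, MulOpposite.smul_eq_mul_unop]
            ring
        map_zero' := by
          apply TrivSqZeroExt.ext <;> simp
        map_add' := by
          intro a b
          apply TrivSqZeroExt.ext <;> simp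
        commutes' := by
          intro c
          apply TrivSqZeroExt.ext
          · simp [hres_alg, TrivSqZeroExt.algebraMap_eq_inl]
          · simp [hfalg, TrivSqZeroExt.algebraMap_eq_inl] }
    let ψ1 : ArtFun.HomSet H.ring.carrier H.ring.res (ArtFun.Art.dual k k) :=
      ⟨φ1, AlgHom.ext fun r => by
        show TrivSqZeroExt.fst (TrivSqZeroExt.inl (H.ring.res r) + TrivSqZeroExt.inr (f r)) = H.ring.res r
        simp⟩
    have heq : ψ1 = φ0 := hbij.1 (Subsingleton.elim (α := ArtFun.TangentSpace F) _ _)
    have h1 : TrivSqZeroExt.snd (ψ1.1 x) = f x := by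
      show TrivSqZeroExt.snd (TrivSqZeroExt.inl (H.ring.res x) + TrivSqZeroExt.inr (f x)) = f x
      simp
    have h2 : TrivSqZeroExt.snd (φ0.1 x) = 0 := by
      show TrivSqZeroExt.snd (algebraMap k (DualNumber k) (H.ring.res x)) = 0
      simp [TrivSqZeroExt.algebraMap_eq_inl]
    rw [heq] at h1
    exact hfx (h1.symm.trans h2)
  -- m = 0
  have hm0 : IsLocalRing.maximalIdeal H.ring.carrier = ⊥ := by
    apply Submodule.eq_bot_of_le_smul_of_le_jacobson_bot (IsLocalRing.maximalIdeal H.ring.carrier)
      (IsLocalRing.maximalIdeal H.ring.carrier) (IsNoetherian.noetherian _)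
    · rw [smul_eq_mul, ← sq]; exact hm2
    · rw [IsLocalRing.jacobson_eq_maximalIdeal ⊥ bot_ne_top]
  -- every element of R is a scalar
  have hscal : ∀ r : H.ring.carrier, r = algebraMap k H.ring.carrier (H.ring.res r) := by
    intro r
    have := hmem r
    rw [hm0, Ideal.mem_bot, sub_eq_zero] at this
    exact this
  have hsub : ∀ B : ArtFun.Art k k, Subsingleton (ArtFun.HomSet H.ring.carrier H.ring.res B) := by
    intro B
    refine ⟨fun ψ1 ψ2 => Subtype.ext (AlgHom.ext fun r => ?_)⟩
    rw [hscal r, AlgHom.commutes, AlgHom.commutes]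
  let φA : ArtFun.HomSet H.ring.carrier H.ring.res A :=
    ⟨(Algebra.ofId k A).comp H.ring.res, AlgHom.ext fun r => A.res.commutes _⟩
  refine ⟨⟨H.family.app A φA⟩, ⟨fun y1 y2 => ?_⟩⟩
  have hsurjA : Function.Surjective (ArtFun.Art.toBase A).toAlgHom := A.res_surjective
  have hbase : ∀ y : F.obj A, ∃ ψ : ArtFun.HomSet H.ring.carrier H.ring.res A, H.family.app A ψ = y := by
    intro y
    obtain ⟨ψ, _, hψ⟩ := hvers (ArtFun.Art.toBase A) hsurjA (ArtFun.HomSet.map (ArtFun.Art.toBase A) φA) y
      (h0.2.elim _ _)
    exact ⟨ψ, hψ⟩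
  obtain ⟨ψ1, rfl⟩ := hbase y1
  obtain ⟨ψ2, rfl⟩ := hbase y2
  rw [(hsub A).elim ψ1 ψ2]

end Groth.Agent.S12249
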