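import Groth.Statements.S12250
-- import your own Groth.Agent.* helpers here

set_option autoImplicit false
universe u v
open CategoryTheory
open Deform

namespace Groth.Agent.S12250

/-- Let k be an algebraically closed field, Λ a complete local Noetherian k-algebra with residue field
k, R a complete local Noetherian Λ-algebra with residue field k and F a set-valued functor on local
Artinian Λ-algebras with residue field k. Then the map sending a morphism of functors h_R → F to its
formal element (the compatible sequence of its values on the quotient maps R → R/m^(n+1), n ≥ 0) is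
a bijection between morphisms h_R → F and formal elements of F over R. -/
theorem result
    {k Λ : Type u} [Field k] [IsAlgClosed k] [CommRing Λ] [IsLocalRing Λ] [IsNoetherianRing Λ]
    [IsAdicComplete (IsLocalRing.maximalIdeal Λ) Λ] [Algebra k Λ] [Algebra Λ k] [IsScalarTower k Λ k]
    (R : ArtFun.CRing Λ k) (F : ArtFun.Art Λ k ⥤ Type v) :
    Function.Bijective (fun ξ : ArtFun.Family R.carrier R.res F => ξ.toFormalElt) := by
  -- (L1) every augmented map kills a power of the maximal ideal
  have L1 : ∀ (A : ArtFun.Art Λ k) (φ : ArtFun.HomSet R.carrier R.res A),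
      ∃ n : ℕ, ∀ a ∈ ArtFun.CRing.mpow R n, φ.1 a = 0 := by
    intro A φ
    obtain ⟨N, hN⟩ := (isArtinianRing_iff_isNilpotent_maximalIdeal (R := A)).mp inferInstance
    refine ⟨N, fun a ha => ?_⟩
    have hmap : (IsLocalRing.maximalIdeal R.carrier).map (φ.1 : R.carrier →+* A) ≤
        IsLocalRing.maximalIdeal A := by
      rw [Ideal.map_le_iff_le_comap]
      intro b hb
      rw [Ideal.mem_comap, ArtFun.Art.mem_maximalIdeal_iff]
      have h1 := (ArtFun.CRing.mem_maximalIdeal_iff R b).mp hb
      have h2 := AlgHom.congr_fun φ.2 b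
      simp only [AlgHom.comp_apply] at h2
      change A.res (φ.1 b) = 0
      rw [h2, h1]
    have hpow : (ArtFun.CRing.mpow R N).map (φ.1 : R.carrier →+* A) ≤ ⊥ := by
      calc (ArtFun.CRing.mpow R N).map (φ.1 : R.carrier →+* A)
          = ((IsLocalRing.maximalIdeal R.carrier).map (φ.1 : R.carrier →+* A)) ^ (N + 1) := by
            rw [Ideal.map_pow]
        _ ≤ (IsLocalRing.maximalIdeal A) ^ (N + 1) := Ideal.pow_right_mono hmap _
        _ ≤ (IsLocalRing.maximalIdeal A) ^ N := Ideal.pow_le_pow_right (Nat.le_succ N)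
        _ = ⊥ := by rw [hN, Ideal.zero_eq_bot]
    have := hpow (Ideal.mem_map_of_mem _ ha)
    simpa using this
  -- (L2) the factorization through the truncation
  let bar : ∀ {A : ArtFun.Art Λ k} (φ : ArtFun.HomSet R.carrier R.res A) (n : ℕ),
      (∀ a ∈ ArtFun.CRing.mpow R n, φ.1 a = 0) → (R.trunc n ⟶ A) := fun {A} φ n h =>
    ⟨Ideal.Quotient.liftₐ (ArtFun.CRing.mpow R n) φ.1 h, by
      apply AlgHom.ext
      intro x
      obtain ⟨a, rfl⟩ := Ideal.Quotient.mk_surjective x
      exact AlgHom.congr_fun φ.2 a⟩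
  have bar_apply : ∀ {A : ArtFun.Art Λ k} (φ : ArtFun.HomSet R.carrier R.res A) (n : ℕ) h (a : R.carrier),
      (bar φ n h).toAlgHom (Ideal.Quotient.mk _ a) = φ.1 a := fun φ n h a => rfl
  have bar_trunc : ∀ {A : ArtFun.Art Λ k} (φ : ArtFun.HomSet R.carrier R.res A) (n : ℕ) h,
      ArtFun.HomSet.map (bar φ n h) (R.truncHom n) = φ := fun φ n h => Subtype.ext (AlgHom.ext fun a => rfl)
  have bar_succ : ∀ {A : ArtFun.Art Λ k} (φ : ArtFun.HomSet R.carrier R.res A) (n : ℕ) h h',
      bar φ (n + 1) h' = R.truncMap n ≫ bar φ n h := by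
    intro A φ n h h'
    apply ArtFun.Art.Hom.ext
    apply AlgHom.ext
    intro x
    obtain ⟨a, rfl⟩ := Ideal.Quotient.mk_surjective x
    rfl
  have mono : ∀ n d : ℕ, ArtFun.CRing.mpow R (n + d) ≤ ArtFun.CRing.mpow R n := fun n d =>
    Ideal.pow_le_pow_right (by omega)
  constructor
  · -- injectivity
    intro ξ1 ξ2 h12
    have happ : ∀ A φ, ξ1.app A φ = ξ2.app A φ := by
      intro A φ
      obtain ⟨n, hn⟩ := L1 A φ
      have e := congrArg (fun u : ArtFun.FormalElt F R => u.elt n) h12
      change ξ1.app _ (R.truncHom n) = ξ2.app _ (R.truncHom n) at e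
      rw [← bar_trunc φ n hn, ξ1.natural, ξ2.natural, e]
    cases ξ1; cases ξ2
    congr
    funext A φ
    exact happ A φ
  · -- surjectivity
    intro u
    -- well-definedness
    have WD : ∀ {A : ArtFun.Art Λ k} (φ : ArtFun.HomSet R.carrier R.res A) (n d : ℕ) h h',
        F.map (bar φ (n + d) h') (u.elt (n + d)) = F.map (bar φ n h) (u.elt n) := by
      intro A φ n d
      induction d with
      | zero => intro h h'; rfl
      | succ d ih =>
        intro h h'
        have h'' : ∀ a ∈ ArtFun.CRing.mpow R (n + d), φ.1 a = 0 := fun a ha =>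
          h a (mono n d ha)
        rw [← ih h h'']
        have e1 : bar φ (n + (d + 1)) h' = R.truncMap (n + d) ≫ bar φ (n + d) h'' :=
          bar_succ φ (n + d) h'' h'
        rw [e1, F.map_comp, types_comp_apply]
        exact congrArg _ (u.compat (n + d))
    have WD2 : ∀ {A : ArtFun.Art Λ k} (φ : ArtFun.HomSet R.carrier R.res A) (n m : ℕ) h h',
        F.map (bar φ n h) (u.elt n) = F.map (bar φ m h') (u.elt m) := by
      intro A φ n m h h'
      rcases le_total n m with hnm | hnm
      · obtain ⟨d, rfl⟩ := Nat.exists_eq_add_of_le hnm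
        exact (WD φ n d h h').symm
      · obtain ⟨d, rfl⟩ := Nat.exists_eq_add_of_le hnm
        exact WD φ m d h' h
    refine ⟨⟨fun A φ => F.map (bar φ _ (Classical.choose_spec (L1 A φ))) (u.elt (Classical.choose (L1 A φ))),
      ?_⟩, ?_⟩
    · intro A B f φ
      have hf : ∀ a ∈ ArtFun.CRing.mpow R (Classical.choose (L1 A φ)),
          (ArtFun.HomSet.map f φ).1 a = 0 := by
        intro a ha
        change f.toAlgHom (φ.1 a) = 0
        rw [Classical.choose_spec (L1 A φ) a ha, map_zero]
      rw [WD2 (ArtFun.HomSet.map f φ) _ (Classical.choose (L1 A φ)) _ hf]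
      have e : bar (ArtFun.HomSet.map f φ) (Classical.choose (L1 A φ)) hf =
          bar φ _ (Classical.choose_spec (L1 A φ)) ≫ f := by
        apply ArtFun.Art.Hom.ext
        apply AlgHom.ext
        intro x
        obtain ⟨a, rfl⟩ := Ideal.Quotient.mk_surjective x
        rfl
      rw [e, F.map_comp, types_comp_apply]
    · apply ArtFun.FormalElt.ext'
      intro n
      change F.map (bar (R.truncHom n) _ _) (u.elt _) = u.elt n
      have hn : ∀ a ∈ ArtFun.CRing.mpow R n, (R.truncHom n).1 a = 0 := fun a ha =>
        Ideal.Quotient.eq_zero_iff_mem.mpr ha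
      rw [WD2 (R.truncHom n) _ n _ hn]
      have e : bar (R.truncHom n) n hn = 𝟙 _ := by
        apply ArtFun.Art.Hom.ext
        apply AlgHom.ext
        intro x
        obtain ⟨a, rfl⟩ := Ideal.Quotient.mk_surjective x
        rfl
      rw [e, F.map_id, types_id_apply]

end Groth.Agent.S12250
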