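import Groth.Statements.S12257
import Mathlib.CategoryTheory.Limits.FunctorCategory.Shapes.Pullbacks
import Mathlib.CategoryTheory.Limits.Types.Pullbacks
-- import your own Groth.Agent.* helpers here

set_option autoImplicit false
universe u v
open CategoryTheory CategoryTheory.Limits
open Deform

namespace Groth.Agent.S12257

/-- Let k be an algebraically closed field, Λ a complete local Noetherian k-algebra with residue field
k, and F, G, H set-valued functors on local Artinian Λ-algebras with residue field k, each with
one-point value at k. If F → G is a smooth morphism of functors and H → G is any morphism, then the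
second projection F ×_G H → H of the fibre product of functors is smooth. -/
theorem result
    {k Λ : Type u} [Field k] [IsAlgClosed k] [CommRing Λ] [IsLocalRing Λ] [IsNoetherianRing Λ]
    [IsAdicComplete (IsLocalRing.maximalIdeal Λ) Λ] [Algebra k Λ] [Algebra Λ k] [IsScalarTower k Λ k]
    {F G H : ArtFun.Art Λ k ⥤ Type v} (η : F ⟶ G) (θ : H ⟶ G)
    (hF : ArtFun.H0 F) (hG : ArtFun.H0 G) (hH : ArtFun.H0 H) (hη : ArtFun.IsSmooth η) :
    ArtFun.IsSmooth (pullback.snd η θ) := by
  -- element-level description of the pullback functor
  have hext : ∀ (A : ArtFun.Art Λ k) (p q : (pullback η θ).obj A),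
      (pullback.fst η θ).app A p = (pullback.fst η θ).app A q →
      (pullback.snd η θ).app A p = (pullback.snd η θ).app A q → p = q := by
    intro A p q h1 h2
    apply (pullbackObjIso η θ A).toEquiv.injective
    apply (Types.pullbackIsoPullback (η.app A) (θ.app A)).toEquiv.injective
    apply Subtype.ext
    apply Prod.ext
    · change ((Types.pullbackIsoPullback (η.app A) (θ.app A)).hom ((pullbackObjIso η θ A).hom p)).1.1 =
        ((Types.pullbackIsoPullback (η.app A) (θ.app A)).hom ((pullbackObjIso η θ A).hom q)).1.1
      rw [Types.pullbackIsoPullback_hom_fst, Types.pullbackIsoPullback_hom_fst,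
        ← types_comp_apply (pullbackObjIso η θ A).hom, ← types_comp_apply (pullbackObjIso η θ A).hom,
        pullbackObjIso_hom_comp_fst]
      exact h1
    · change ((Types.pullbackIsoPullback (η.app A) (θ.app A)).hom ((pullbackObjIso η θ A).hom p)).1.2 =
        ((Types.pullbackIsoPullback (η.app A) (θ.app A)).hom ((pullbackObjIso η θ A).hom q)).1.2
      rw [Types.pullbackIsoPullback_hom_snd, Types.pullbackIsoPullback_hom_snd,
        ← types_comp_apply (pullbackObjIso η θ A).hom, ← types_comp_apply (pullbackObjIso η θ A).hom,
        pullbackObjIso_hom_comp_snd]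
      exact h2
  have hmk : ∀ (A : ArtFun.Art Λ k) (x : F.obj A) (h : H.obj A), η.app A x = θ.app A h →
      ∃ p : (pullback η θ).obj A, (pullback.fst η θ).app A p = x ∧ (pullback.snd η θ).app A p = h := by
    intro A x h hxh
    refine ⟨(pullbackObjIso η θ A).inv ((Types.pullbackIsoPullback (η.app A) (θ.app A)).inv ⟨(x, h), hxh⟩), ?_, ?_⟩
    · rw [← types_comp_apply (pullbackObjIso η θ A).inv, pullbackObjIso_inv_comp_fst,
        Types.pullbackIsoPullback_inv_fst_apply]
    · rw [← types_comp_apply (pullbackObjIso η θ A).inv, pullbackObjIso_inv_comp_snd,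
        Types.pullbackIsoPullback_inv_snd_apply]
  have hcond : ∀ (A : ArtFun.Art Λ k) (p : (pullback η θ).obj A),
      η.app A ((pullback.fst η θ).app A p) = θ.app A ((pullback.snd η θ).app A p) := by
    intro A p
    have := congrArg (fun t => t.app A p) (pullback.condition (f := η) (g := θ))
    simpa using this
  intro B A μ hμ
  rintro ⟨⟨p, h⟩, hph⟩
  -- hph : snd_A p = H.map μ h
  have hx : η.app A ((pullback.fst η θ).app A p) = G.map μ (θ.app B h) := by
    rw [hcond, hph]
    exact NatTrans.naturality_apply θ μ h
  obtain ⟨x', hx'⟩ := hη μ hμ ⟨((pullback.fst η θ).app A p, θ.app B h), hx⟩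
  have hx'1 : F.map μ x' = (pullback.fst η θ).app A p := congrArg (fun z => z.1.1) hx'
  have hx'2 : η.app B x' = θ.app B h := congrArg (fun z => z.1.2) hx'
  obtain ⟨p', hp'1, hp'2⟩ := hmk B x' h hx'2
  refine ⟨p', ?_⟩
  apply Subtype.ext
  change ((pullback η θ).map μ p', (pullback.snd η θ).app B p') = (p, h)
  refine Prod.ext ?_ hp'2
  apply hext
  · change (pullback.fst η θ).app A ((pullback η θ).map μ p') = (pullback.fst η θ).app A p
    rw [NatTrans.naturality_apply (pullback.fst η θ) μ p', hp'1, hx'1]
  · change (pullback.snd η θ).app A ((pullback η θ).map μ p') = (pullback.snd η θ).app A p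
    rw [NatTrans.naturality_apply (pullback.snd η θ) μ p', hp'2]
    exact hph.symm

end Groth.Agent.S12257
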