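import Groth.Statements.S12258
import Mathlib.CategoryTheory.Limits.Shapes.FunctorToTypes
-- import your own Groth.Agent.* helpers here

set_option autoImplicit false
universe u v
open CategoryTheory CategoryTheory.Limits
open Deform

namespace Groth.Agent.S12258

/-- Let k be an algebraically closed field, Λ a complete local Noetherian k-algebra with residue field
k, and F, G set-valued functors on local Artinian Λ-algebras with residue field k, each with
one-point value at k. If F and G are smooth functors, i.e. F(B) → F(A) and G(B) → G(A) are
surjective for every surjection B → A, then the product functor F × G is smooth. -/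
theorem result
    {k Λ : Type u} [Field k] [IsAlgClosed k] [CommRing Λ] [IsLocalRing Λ] [IsNoetherianRing Λ]
    [IsAdicComplete (IsLocalRing.maximalIdeal Λ) Λ] [Algebra k Λ] [Algebra Λ k] [IsScalarTower k Λ k]
    {F G : ArtFun.Art Λ k ⥤ Type v}
    (hF : ArtFun.H0 F) (hG : ArtFun.H0 G) (sF : ArtFun.IsSmoothFunctor F) (sG : ArtFun.IsSmoothFunctor G) :
    ArtFun.IsSmoothFunctor (F ⨯ G) := by
  intro B A μ hμ z
  obtain ⟨x', hx'⟩ := sF μ hμ ((FunctorToTypes.binaryProductIso F G).hom.app A z).1
  obtain ⟨y', hy'⟩ := sG μ hμ ((FunctorToTypes.binaryProductIso F G).hom.app A z).2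
  refine ⟨(FunctorToTypes.binaryProductIso F G).inv.app B (x', y'), ?_⟩
  have hinj : Function.Injective ((FunctorToTypes.binaryProductIso F G).hom.app A) := by
    intro a b hab
    have := congrArg ((FunctorToTypes.binaryProductIso F G).inv.app A) hab
    simpa using this
  apply hinj
  rw [NatTrans.naturality_apply (FunctorToTypes.binaryProductIso F G).hom μ]
  have h1 : (FunctorToTypes.binaryProductIso F G).hom.app B
      ((FunctorToTypes.binaryProductIso F G).inv.app B (x', y')) = (x', y') := by
    have e := congrArg (fun t => t.app B) (FunctorToTypes.binaryProductIso F G).inv_hom_id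
    have e2 := congrFun (congrArg (fun f => ((ConcreteCategory.hom f) : _ → _)) e) (x', y')
    exact e2
  rw [h1]
  change (F.map μ x', G.map μ y') = _
  rw [hx', hy']
  rfl

end Groth.Agent.S12258
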