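import Groth.Statements.S12299
-- import your own Groth.Agent.* helpers here

set_option autoImplicit false
universe u v
open CategoryTheory
open ArtFun

namespace Groth.Agent.S12299

/-- The algebra map `A → k[ε]`, `x ↦ res x + l (x - res x) ε`, for `A` with square-zero maximal ideal. -/
noncomputable def tauAlg {k : Type u} [Field k] (A : ArtFun.Art k k)
    (hA : ∀ x y : A, A.res x = 0 → A.res y = 0 → x * y = 0)
    (l : A →ₗ[k] k) : A →ₐ[k] DualNumber k where
  toFun := fun x => (TrivSqZeroExt.inl (A.res x) + TrivSqZeroExt.inr (l (x - algebraMap k A (A.res x))) : DualNumber k)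
  map_one' := by
    apply TrivSqZeroExt.ext <;> simp
  map_mul' := fun x y => by
    have hx : A.res (x - algebraMap k A (A.res x)) = 0 := by simp
    have hy : A.res (y - algebraMap k A (A.res y)) = 0 := by simp
    have h0 := hA _ _ hx hy
    have e : x * y - algebraMap k A (A.res (x * y)) =
        A.res x • (y - algebraMap k A (A.res y)) + A.res y • (x - algebraMap k A (A.res x)) +
          (x - algebraMap k A (A.res x)) * (y - algebraMap k A (A.res y)) := by
      simp only [map_mul, Algebra.smul_def]
      ring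
    rw [e, h0, add_zero, map_add, map_smul, map_smul]
    apply TrivSqZeroExt.ext
    · simp
    · simp [smul_eq_mul]
      ring
  map_zero' := by
    apply TrivSqZeroExt.ext <;> simp
  map_add' := fun x y => by
    apply TrivSqZeroExt.ext
    · simp
    · simp [map_add, map_sub]
      ring
  commutes' := fun c => by
    apply TrivSqZeroExt.ext
    · simp [TrivSqZeroExt.algebraMap_eq_inl]
    · simp [TrivSqZeroExt.algebraMap_eq_inl]

lemma tauAlg_fst {k : Type u} [Field k] (A : ArtFun.Art k k)
    (hA : ∀ x y : A, A.res x = 0 → A.res y = 0 → x * y = 0)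
    (l : A →ₗ[k] k) (x : A) : (tauAlg A hA l x).fst = A.res x := by
  simp [tauAlg]

lemma tauAlg_snd {k : Type u} [Field k] (A : ArtFun.Art k k)
    (hA : ∀ x y : A, A.res x = 0 → A.res y = 0 → x * y = 0)
    (l : A →ₗ[k] k) (x : A) : (tauAlg A hA l x).snd = l (x - algebraMap k A (A.res x)) := by
  simp [tauAlg]

/-- The morphism `A → k[ε]` of `Art k k` given by `tauAlg`. -/
noncomputable def tau {k : Type u} [Field k] (A : ArtFun.Art k k)
    (hA : ∀ x y : A, A.res x = 0 → A.res y = 0 → x * y = 0)
    (l : A →ₗ[k] k) : A ⟶ ArtFun.Art.dual k k where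
  toAlgHom := tauAlg A hA l
  res_comp := by
    apply AlgHom.ext
    intro x
    exact tauAlg_fst A hA l x

/-- Let k be an algebraically closed field, F a set-valued functor on local Artinian k-algebras with
residue field k, and (R, ξ) a miniversal family for F, with R a complete local Noetherian k-algebra
with residue field k: the morphism h_R → F has the lifting property along surjections and is
bijective on the dual numbers. Let S be a complete local Noetherian k-algebra with residue field k
and g₁, g₂ : R → S two k-algebra maps compatible with the augmentations along which ξ induces the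
same formal family over S (the same compatible sequence in the F(S/m^(n+1))). Then g₁ and g₂ induce
the same map R → S/m_S², so the map R/m_R² → S/m_S² attached to a formal family over S is well
defined. (Coefficient rings are taken Noetherian here.) -/
theorem result
    {k : Type u} [Field k] [IsAlgClosed k] {F : ArtFun.Art k k ⥤ Type v}
    (R : ArtFun.CRing k k) (ξ : ArtFun.Family R.carrier R.res F) (hξ : ArtFun.IsMiniversal ξ)
    (S : ArtFun.CRing k k) (g₁ g₂ : R.carrier →ₐ[k] S.carrier)
    (hg₁ : S.res.comp g₁ = R.res) (hg₂ : S.res.comp g₂ = R.res)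
    (h : (ξ.along g₁ hg₁).toFormalElt = (ξ.along g₂ hg₂).toFormalElt) :
    (S.truncHom 1).1.comp g₁ = (S.truncHom 1).1.comp g₂ := by
  have hA : ∀ x y : S.trunc 1, (S.trunc 1).res x = 0 → (S.trunc 1).res y = 0 → x * y = 0 := by
    intro x y hx hy
    obtain ⟨s, rfl⟩ := Ideal.Quotient.mk_surjective x
    obtain ⟨t, rfl⟩ := Ideal.Quotient.mk_surjective y
    have hs : s ∈ IsLocalRing.maximalIdeal S.carrier := (ArtFun.CRing.mem_maximalIdeal_iff S s).2 hx
    have ht : t ∈ IsLocalRing.maximalIdeal S.carrier := (ArtFun.CRing.mem_maximalIdeal_iff S t).2 hy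
    have hmem : s * t ∈ S.mpow 1 := by
      show s * t ∈ IsLocalRing.maximalIdeal S.carrier ^ (1 + 1)
      rw [show (1 + 1 : ℕ) = 2 from rfl, pow_two]
      exact Ideal.mul_mem_mul hs ht
    exact (map_mul (Ideal.Quotient.mk (S.mpow 1)) s t).symm.trans
      (Ideal.Quotient.eq_zero_iff_mem.mpr hmem)
  let φ₁ : ArtFun.HomSet R.carrier R.res (S.trunc 1) :=
    ⟨(S.truncHom 1).1.comp g₁, by rw [← AlgHom.comp_assoc, (S.truncHom 1).2, hg₁]⟩
  let φ₂ : ArtFun.HomSet R.carrier R.res (S.trunc 1) :=
    ⟨(S.truncHom 1).1.comp g₂, by rw [← AlgHom.comp_assoc, (S.truncHom 1).2, hg₂]⟩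
  have h1 : ξ.app (S.trunc 1) φ₁ = ξ.app (S.trunc 1) φ₂ := congrArg (fun u => u.elt 1) h
  apply AlgHom.ext
  intro r
  have key : ∀ l : (S.trunc 1) →ₗ[k] k, l (φ₁.1 r - φ₂.1 r) = 0 := by
    intro l
    have e : ArtFun.HomSet.map (tau (S.trunc 1) hA l) φ₁ =
        ArtFun.HomSet.map (tau (S.trunc 1) hA l) φ₂ := by
      apply hξ.2.1
      rw [ξ.natural, ξ.natural, h1]
    have e2 := congrArg (fun φ => (φ.1 r).snd) e
    change (tauAlg _ hA l (φ₁.1 r)).snd = (tauAlg _ hA l (φ₂.1 r)).snd at e2
    rw [tauAlg_snd, tauAlg_snd] at e2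
    have r1 : (S.trunc 1).res (φ₁.1 r) = (S.trunc 1).res (φ₂.1 r) := by
      have q1 := congrArg (fun φ => φ r) φ₁.2
      have q2 := congrArg (fun φ => φ r) φ₂.2
      simp only [AlgHom.comp_apply] at q1 q2
      rw [q1, q2]
    rw [r1] at e2
    rw [map_sub]
    rw [map_sub, map_sub] at e2
    rw [sub_eq_zero]
    simpa using e2
  exact sub_eq_zero.mp ((Module.forall_dual_apply_eq_zero_iff k _).mp key)

end Groth.Agent.S12299
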