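import Groth.Statements.S12300
import Groth.Prelude.Def_ArtFun5
-- import your own Groth.Agent.* helpers here

set_option autoImplicit false
universe u v
open CategoryTheory
open ArtFun

namespace Groth.Agent.S12300

/-- Let k be an algebraically closed field, F a set-valued functor on local Artinian k-algebras with
residue field k, and (R, ξ) a universal family for F (R complete local Noetherian with residue field
k and h_R → F bijective on every object). Let S be a complete local Noetherian k-algebra with
residue field k and g₁, g₂ : R → S two k-algebra maps compatible with the augmentations along which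
ξ induces the same formal family over S. Then g₁ = g₂: a formal family over S is induced from ξ by
at most one map R → S. (Coefficient rings are taken Noetherian here.) -/
theorem result
    {k : Type u} [Field k] [IsAlgClosed k] {F : ArtFun.Art k k ⥤ Type v}
    (R : ArtFun.CRing k k) (ξ : ArtFun.Family R.carrier R.res F) (hξ : ArtFun.IsUniversal ξ)
    (S : ArtFun.CRing k k) (g₁ g₂ : R.carrier →ₐ[k] S.carrier)
    (hg₁ : S.res.comp g₁ = R.res) (hg₂ : S.res.comp g₂ = R.res)
    (h : (ξ.along g₁ hg₁).toFormalElt = (ξ.along g₂ hg₂).toFormalElt) :
    g₁ = g₂ := by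
  apply AlgHom.ext
  intro r
  have key : ∀ n : ℕ, g₁ r - g₂ r ∈ ArtFun.CRing.mpow S n := by
    intro n
    have e : (ξ.along g₁ hg₁).app _ (S.truncHom n) = (ξ.along g₂ hg₂).app _ (S.truncHom n) :=
      congrArg (fun u : ArtFun.FormalElt F S => u.elt n) h
    simp only [ArtFun.Family.along] at e
    have e2 := (hξ (S.trunc n)).1 e
    have e3 := congrArg (fun φ : ArtFun.HomSet R.carrier R.res (S.trunc n) => φ.1 r) e2
    exact Ideal.Quotient.eq.mp e3
  have hH : IsHausdorff (IsLocalRing.maximalIdeal S.carrier) S.carrier := S.isAdicComplete.toIsHausdorff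
  rw [← sub_eq_zero]
  apply hH.haus
  intro n
  rw [SModEq.sub_mem, sub_zero, smul_eq_mul, Ideal.mul_top]
  exact Ideal.pow_le_pow_right (Nat.le_succ n) (key n)

end Groth.Agent.S12300
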