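import Groth.Statements.S12302
-- import your own Groth.Agent.* helpers here

set_option autoImplicit false
universe u v
open CategoryTheory
open ArtFun

namespace Groth.Agent.S12302

/-- Let k be an algebraically closed field, F a set-valued functor on local Artinian k-algebras with
residue field k, and ξ : h_R → F a versal family in the strong sense, over an augmented k-algebra R:
ξ is surjective on every object and has the lifting property along surjections. Then F(k) has
exactly one element, and for every fibre-product square B = A' ×_A A'' in which A'' → A is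
surjective, the comparison map F(B) → F(A') ×_{F(A)} F(A'') is surjective. (The published form of
the second assertion allows arbitrary maps A' → A, A'' → A; for the functor of principal ideals
inside the maximal ideal, which has such a versal family over k[[x]], surjectivity fails for the two
maps k[s]/(s⁴) → k[x,y]/(x,y)³ ← k[t]/(t⁴) sending s to x and t to x + xy, and the published
argument lifts along one of the two maps, so that map is taken surjective here. The published
statement also takes R complete local, which the argument does not use.) -/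
theorem result
    {k : Type u} [Field k] [IsAlgClosed k] {F : ArtFun.Art k k ⥤ Type v}
    {R : Type u} [CommRing R] [Algebra k R] {resR : R →ₐ[k] k}
    (ξ : ArtFun.Family R resR F) (hξ : ArtFun.IsVersal ξ)
    (hsurj : ∀ A : ArtFun.Art k k, Function.Surjective (ξ.app A)) :
    ArtFun.H0 F ∧ ArtFun.S1 F := by
  have hb : ∀ φ : HomSet R resR (Art.base k k), φ.1 = resR := fun φ =>
    AlgHom.ext fun r => AlgHom.congr_fun φ.2 r
  refine ⟨⟨?_, ?_⟩, ?_⟩
  · exact ⟨ξ.app _ ⟨resR, AlgHom.ext fun _ => rfl⟩⟩
  · refine ⟨fun x y => ?_⟩
    obtain ⟨φ, rfl⟩ := hsurj _ x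
    obtain ⟨ψ, rfl⟩ := hsurj _ y
    have : φ = ψ := Subtype.ext ((hb φ).trans (hb ψ).symm)
    rw [this]
  · intro B A A' A'' p' p'' f' f'' h hf''
    rintro ⟨⟨x', x''⟩, hx⟩
    obtain ⟨φ', rfl⟩ := hsurj A' x'
    have hx2 : F.map f'' x'' = ξ.app A (HomSet.map f' φ') := by
      rw [ξ.natural]; exact hx.symm
    obtain ⟨ψ'', hψ1, hψ2⟩ := hξ f'' hf'' (HomSet.map f' φ') x'' hx2
    have heq : ∀ r : R, f' (φ'.1 r) = f'' (ψ''.1 r) := by
      intro r
      have := congrArg (fun φ : HomSet R resR A => φ.1 r) hψ1
      exact this.symm
    choose g hg1 hg2 using fun r => h.surj (φ'.1 r) (ψ''.1 r) (heq r)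
    have hinj := h.inj
    let gA : R →ₐ[k] B :=
      { toFun := g
        map_one' := hinj _ _ (by rw [hg1, map_one, map_one]) (by rw [hg2, map_one, map_one])
        map_mul' := fun a b => hinj _ _ (by rw [hg1, map_mul, map_mul, hg1, hg1])
          (by rw [hg2, map_mul, map_mul, hg2, hg2])
        map_zero' := hinj _ _ (by rw [hg1, map_zero, map_zero]) (by rw [hg2, map_zero, map_zero])
        map_add' := fun a b => hinj _ _ (by rw [hg1, map_add, map_add, hg1, hg1])
          (by rw [hg2, map_add, map_add, hg2, hg2])
        commutes' := fun c => hinj _ _ (by rw [hg1, AlgHom.commutes, AlgHom.commutes])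
          (by rw [hg2, AlgHom.commutes, AlgHom.commutes]) }
    have hres : B.res.comp gA = resR := by
      ext r
      rw [← p'.res_comp]
      change A'.res (p' (g r)) = resR r
      rw [hg1]
      exact AlgHom.congr_fun φ'.2 r
    let ψ : HomSet R resR B := ⟨gA, hres⟩
    refine ⟨ξ.app B ψ, ?_⟩
    have e1 : HomSet.map p' ψ = φ' := Subtype.ext (AlgHom.ext fun r => hg1 r)
    have e2 : HomSet.map p'' ψ = ψ'' := Subtype.ext (AlgHom.ext fun r => hg2 r)
    apply Subtype.ext
    change (F.map p' (ξ.app B ψ), F.map p'' (ξ.app B ψ)) = (ξ.app A' φ', x'')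
    rw [← ξ.natural, ← ξ.natural, e1, e2, hψ2]

end Groth.Agent.S12302
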