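import Groth.Statements.S12303
-- import your own Groth.Agent.* helpers here

set_option autoImplicit false
universe u v
open CategoryTheory
open ArtFun

namespace Groth.Agent.S12303

/-- Let k be an algebraically closed field, F a set-valued functor on local Artinian k-algebras with
residue field k, and ξ : h_R → F a miniversal family in the strong sense, over an augmented
k-algebra R: ξ is surjective on every object, has the lifting property along surjections, and is
bijective on the dual numbers k[ε]. Then for every object A and every fibre-product square B = A ×_k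
k[ε] over k, the comparison map F(B) → F(A) ×_{F(k)} F(k[ε]) is bijective. (The published statement
takes R complete local, which the argument does not use.) -/
theorem result
    {k : Type u} [Field k] [IsAlgClosed k] {F : ArtFun.Art k k ⥤ Type v}
    {R : Type u} [CommRing R] [Algebra k R] {resR : R →ₐ[k] k}
    (ξ : ArtFun.Family R resR F) (hξ : ArtFun.IsMiniversal ξ)
    (hsurj : ∀ A : ArtFun.Art k k, Function.Surjective (ξ.app A)) :
    ArtFun.Heps F := by
  obtain ⟨hξ, hbij⟩ := hξ
  intro B A' p' p'' h
  -- the lifting construction from a compatible pair of maps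
  have lift : ∀ (φ' : HomSet R resR A') (φ'' : HomSet R resR (Art.dual k k)),
      HomSet.map (Art.toBase A') φ' = HomSet.map (Art.toBase (Art.dual k k)) φ'' →
      ∃ ψ : HomSet R resR B, HomSet.map p' ψ = φ' ∧ HomSet.map p'' ψ = φ'' := by
    intro φ' ψ'' hψ1
    have heq : ∀ r : R, (Art.toBase A') (φ'.1 r) = (Art.toBase (Art.dual k k)) (ψ''.1 r) := by
      intro r
      exact congrArg (fun φ : HomSet R resR (Art.base k k) => φ.1 r) hψ1
    choose g hg1 hg2 using fun r => h.surj (φ'.1 r) (ψ''.1 r) (heq r)
    have hinj := h.inj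
    let gA : R →ₐ[k] B :=
      { toFun := g
        map_one' := hinj _ _ (by rw [hg1, map_one, map_one]) (by rw [hg2, map_one, map_one])
        map_mul' := fun a b => hinj _ _ (by rw [hg1, map_mul, map_mul, hg1, hg1])
          (by rw [hg2, map_mul, map_mul, hg2, hg2])
        map_zero' := hinj _ _ (by rw [hg1, map_zero, map_zero]) (by rw [hg2, map_zero, map_zero])
        map_add' := fun a b => hinj _ _ (by rw [hg1, map_add, map_add, hg1, hg1])
          (by rw [hg2, map_add, map_add, hg2, hg2])
        commutes' := fun c => hinj _ _ (by rw [hg1, AlgHom.commutes, AlgHom.commutes])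
          (by rw [hg2, AlgHom.commutes, AlgHom.commutes]) }
    have hres : B.res.comp gA = resR := by
      ext r
      rw [← p'.res_comp]
      change A'.res (p' (g r)) = resR r
      rw [hg1]
      exact AlgHom.congr_fun φ'.2 r
    let ψ : HomSet R resR B := ⟨gA, hres⟩
    exact ⟨ψ, Subtype.ext (AlgHom.ext fun r => hg1 r), Subtype.ext (AlgHom.ext fun r => hg2 r)⟩
  have hp'surj : Function.Surjective p'.toAlgHom := by
    intro a'
    obtain ⟨a'', ha''⟩ := (Art.dual k k).res_surjective (A'.res a')
    obtain ⟨b, hb1, _⟩ := h.surj a' a'' ha''.symm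
    exact ⟨b, hb1⟩
  constructor
  · intro z1 z2 hz
    obtain ⟨ψ1, rfl⟩ := hsurj B z1
    have hz1 : F.map p' (ξ.app B ψ1) = F.map p' z2 := congrArg (fun x => x.1.1) hz
    have hz2 : F.map p'' (ξ.app B ψ1) = F.map p'' z2 := congrArg (fun x => x.1.2) hz
    have hy : F.map p' z2 = ξ.app A' (HomSet.map p' ψ1) := by rw [ξ.natural]; exact hz1.symm
    obtain ⟨ψ, hψ1, hψ2⟩ := hξ p' hp'surj (HomSet.map p' ψ1) z2 hy
    have hd : HomSet.map p'' ψ = HomSet.map p'' ψ1 := by
      apply hbij.1
      rw [ξ.natural, ξ.natural, hψ2]; exact hz2.symm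
    have hψ : ψ = ψ1 := by
      apply Subtype.ext
      apply AlgHom.ext
      intro r
      apply h.inj
      · exact congrArg (fun φ : HomSet R resR A' => φ.1 r) hψ1
      · exact congrArg (fun φ : HomSet R resR (Art.dual k k) => φ.1 r) hd
    rw [← hψ2, hψ]
  · rintro ⟨⟨x', x''⟩, hx⟩
    obtain ⟨φ', rfl⟩ := hsurj A' x'
    have hx2 : F.map (Art.toBase (Art.dual k k)) x'' = ξ.app _ (HomSet.map (Art.toBase A') φ') := by
      rw [ξ.natural]; exact hx.symm
    have hsurj'' : Function.Surjective (Art.toBase (Art.dual k k)).toAlgHom :=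
      (Art.dual k k).res_surjective
    obtain ⟨ψ'', hψ1, hψ2⟩ := hξ (Art.toBase (Art.dual k k)) hsurj'' (HomSet.map (Art.toBase A') φ') x'' hx2
    obtain ⟨ψ, e1, e2⟩ := lift φ' ψ'' hψ1.symm
    refine ⟨ξ.app B ψ, ?_⟩
    apply Subtype.ext
    change (F.map p' (ξ.app B ψ), F.map p'' (ξ.app B ψ)) = (ξ.app A' φ', x'')
    rw [← ξ.natural, ← ξ.natural, e1, e2, hψ2]

end Groth.Agent.S12303
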