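import Groth.Statements.S12417
import Mathlib.AlgebraicGeometry.AffineScheme
import Mathlib.Topology.QuasiSeparated
-- import your own Groth.Agent.* helpers here

set_option autoImplicit false
universe u
open CategoryTheory AlgebraicGeometry
open Props

namespace Groth.Agent.S12417

/-- Let X be a quasi-compact quasi-separated scheme and P a property of opens of X such that (a) P holds
for every affine open, and (b) whenever a quasi-compact open U has a finite affine open covering U =
V_1 ∪ … ∪ V_n with P holding for every intersection V_i ∩ V_j, P holds for U. Then P holds for every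
quasi-compact open of X. -/
theorem result (X : Scheme.{u}) [CompactSpace X] [QuasiSeparatedSpace X]
    (P : X.Opens → Prop) (ha : ∀ U : X.Opens, IsAffineOpen U → P U)
    (hb : ∀ (U : X.Opens) (n : ℕ) (V : Fin n → X.Opens), IsCompact (U : Set X) →
      (∀ i, IsAffineOpen (V i)) → ⨆ i, V i = U → (∀ i j, P (V i ⊓ V j)) → P U)
    (U : X.Opens) (hU : IsCompact (U : Set X)) : P U := by
  have enum : ∀ (B : Set X.Opens), TopologicalSpace.Opens.IsBasis B → ∀ W : X.Opens,
      IsCompact (W : Set X) →
      ∃ (n : ℕ) (V : Fin n → X.Opens), (∀ i, V i ∈ B) ∧ ⨆ i, V i = W := by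
    intro B hB W hW
    obtain ⟨Us, hUsB, hfin, hWeq⟩ := hB.exists_finite_of_isCompact hW
    have := hfin.fintype
    let e := Fintype.equivFin Us
    refine ⟨Fintype.card Us, fun i => (e.symm i : X.Opens), fun i => hUsB (e.symm i).2, ?_⟩
    rw [hWeq, sSup_eq_iSup']
    exact e.symm.iSup_comp (g := fun u : Us => (u : X.Opens))
  have stepA : ∀ (V : X.Opens), IsAffineOpen V → ∀ W : X.Opens, W ≤ V →
      IsCompact (W : Set X) → P W := by
    intro V hV W hWV hW
    let B : Set X.Opens := {O | O ≤ V → ∃ f : Γ(X, V), O = X.basicOpen f}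
    have hB : TopologicalSpace.Opens.IsBasis B := by
      rw [TopologicalSpace.Opens.isBasis_iff_nbhd]
      intro O x hx
      by_cases hxV : x ∈ V
      · obtain ⟨f, hf1, hf2⟩ := hV.exists_basicOpen_le (V := O) ⟨x, hx⟩ hxV
        exact ⟨X.basicOpen f, fun _ => ⟨f, rfl⟩, hf2, hf1⟩
      · exact ⟨O, fun hOV => absurd (hOV hx) hxV, hx, le_rfl⟩
    obtain ⟨n, V', hV'B, hsup⟩ := enum B hB W hW
    have hle : ∀ i, V' i ≤ V := fun i => (le_iSup V' i).trans (hsup.le.trans hWV)
    choose f hf using fun i => hV'B i (hle i)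
    apply hb W n V' hW
    · intro i
      rw [hf i]
      exact hV.basicOpen (f i)
    · exact hsup
    · intro i j
      rw [hf i, hf j, ← Scheme.basicOpen_mul]
      exact ha _ (hV.basicOpen _)
  obtain ⟨n, V, hVa, hsup⟩ := enum X.affineOpens X.isBasis_affineOpens U hU
  apply hb U n V hU (fun i => hVa i) hsup
  intro i j
  apply stepA (V i) (hVa i) (V i ⊓ V j) inf_le_left
  exact QuasiSeparatedSpace.inter_isCompact _ _ (V i).isOpen (hVa i).isCompact (V j).isOpen
    (hVa j).isCompact

end Groth.Agent.S12417
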