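import Groth.Statements.S12550
import Mathlib.LinearAlgebra.FiniteDimensional.Lemmas
-- import your own Groth.Agent.* helpers here

set_option autoImplicit false
universe u
open GIT

namespace Groth.Agent.S12550

/-- Let V be a finite-dimensional vector space over a field K and x_0, …, x_m non-zero vectors, a
configuration of m + 1 points of the projective space P(V). If for every subspace L with 0 ≠ L ≠ V
the number of indices i with x_i ∈ L, multiplied by dim V, is less than dim L · (m + 1) (the
configuration is stable), then no two proper subspaces L', L'' with L' ∩ L'' = 0 contain between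
them all the x_i. -/
theorem result (K : Type u) [Field K]
    (V : Type u) [AddCommGroup V] [Module K V] [FiniteDimensional K V]
    (m : ℕ) (x : Fin (m + 1) → V) (hx : ∀ i, x i ≠ 0)
    (hst : ∀ L : Submodule K V, L ≠ ⊥ → L ≠ ⊤ →
      Set.ncard {i : Fin (m + 1) | x i ∈ L} * Module.finrank K V < Module.finrank K L * (m + 1)) :
    ¬ ∃ L' L'' : Submodule K V, L' ≠ ⊤ ∧ L'' ≠ ⊤ ∧ Disjoint L' L'' ∧ ∀ i, x i ∈ L' ∨ x i ∈ L'' := by
  rintro ⟨L', L'', h1, h2, hd, hcov⟩
  set n := Module.finrank K V with hn
  have hle : ∀ L : Submodule K V, L ≠ ⊤ →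
      Set.ncard {i : Fin (m + 1) | x i ∈ L} * n ≤ Module.finrank K L * (m + 1) := by
    intro L hL
    by_cases hb : L = ⊥
    · subst hb
      have : {i : Fin (m + 1) | x i ∈ (⊥ : Submodule K V)} = ∅ := by
        ext i; simp [hx i]
      rw [this, Set.ncard_empty, zero_mul]
      exact Nat.zero_le _
    · exact (hst L hb hL).le
  have hunion : (m + 1) ≤ Set.ncard {i : Fin (m + 1) | x i ∈ L'} +
      Set.ncard {i : Fin (m + 1) | x i ∈ L''} := by
    have : {i : Fin (m + 1) | x i ∈ L'} ∪ {i : Fin (m + 1) | x i ∈ L''} = Set.univ := by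
      ext i; simpa using hcov i
    calc m + 1 = Set.ncard (Set.univ : Set (Fin (m+1))) := by simp [Set.ncard_univ]
      _ = _ := by rw [this]
      _ ≤ _ := Set.ncard_union_le _ _
  have hdim : Module.finrank K L' + Module.finrank K L'' ≤ n := by
    exact Submodule.finrank_add_finrank_le_of_disjoint hd
  have hstrict : Set.ncard {i : Fin (m + 1) | x i ∈ L'} * n +
      Set.ncard {i : Fin (m + 1) | x i ∈ L''} * n <
      (Module.finrank K L' + Module.finrank K L'') * (m + 1) := by
    by_cases hb' : L' = ⊥
    · have hb'' : L'' ≠ ⊥ := by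
        rintro rfl
        rcases hcov 0 with h | h
        · rw [hb'] at h
          exact hx 0 ((Submodule.mem_bot K).1 h)
        · exact hx 0 ((Submodule.mem_bot K).1 h)
      have := hst L'' hb'' h2
      have := hle L' h1
      nlinarith
    · have := hst L' hb' h1
      have := hle L'' h2
      nlinarith
  have h3 : (m + 1) * n ≤ (Set.ncard {i | x i ∈ L'} + Set.ncard {i | x i ∈ L''}) * n :=
    Nat.mul_le_mul_right _ hunion
  have h4 : (Module.finrank K L' + Module.finrank K L'') * (m + 1) ≤ n * (m + 1) :=
    Nat.mul_le_mul_right _ hdim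
  nlinarith

end Groth.Agent.S12550
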