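import Groth.Statements.S12626
-- import your own Groth.Agent.* helpers here

set_option autoImplicit false
universe u v
open CAlg

namespace Groth.Agent.S12626

/-- For a perfect field `K` of characteristic `p > 0` and a commutative `K`-algebra `A`, put `δ_i(x) =
x^(p^i - 1) dx` in `Ω_{A/K}` and let the subsets `Σ^i ⊆ Ω_{A/K}` be given by `Σ^0 = {0}` and
`Σ^(i+1) = {δ_i(x) + σ | x ∈ A, σ ∈ Σ^i}`; then `Σ^i` is stable under multiplication by `p^i`-th
powers of elements of `A`: for `x ∈ A` and `ω ∈ Σ^i`, `x^(p^i) ω ∈ Σ^i`. This stability is what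
turns the rule `x · [ω] = [x^(p^i) ω]` into an `A`-module structure on the quotient `Ω_{A/K} / Σ^i`
(the row states the stability; that `x ↦ [δ_i(x)]` is then a derivation is a direct computation and
is not restated). -/
theorem result (K : Type u) (A : Type v) [Field K] [PerfectField K] (p : ℕ) [Fact p.Prime] [CharP K p]
    [CommRing A] [Algebra K A] (i : ℕ) (x : A)
    (ω : Ω[A⁄K]) (hω : ω ∈ W4bk4bump814p2.sigma K A p i) :
    (x ^ (p ^ i)) • ω ∈ W4bk4bump814p2.sigma K A p i := by
  have hp0 : ∀ m : Ω[A⁄K], (p : ℕ) • m = 0 := by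
    intro m
    rw [← Nat.cast_smul_eq_nsmul K, CharP.cast_eq_zero, zero_smul]
  have key : ∀ (j : ℕ) (x y : A), W4bk4bump814p2.delta K A p j (x ^ p * y) =
      (x ^ (p ^ (j + 1))) • W4bk4bump814p2.delta K A p j y := by
    intro j x y
    simp only [W4bk4bump814p2.delta]
    rw [Derivation.leibniz, Derivation.leibniz_pow, hp0, smul_zero, add_zero, smul_smul,
      smul_smul]
    congr 1
    obtain ⟨k, hk⟩ : ∃ k, p ^ j = k + 1 := ⟨p ^ j - 1, by
      have : 1 ≤ p ^ j := Nat.one_le_pow _ _ (Nat.Prime.pos (Fact.out))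
      omega⟩
    rw [hk, Nat.add_sub_cancel, pow_succ, hk]
    ring
  induction i generalizing x ω with
  | zero =>
    simp only [W4bk4bump814p2.sigma_zero, Set.mem_singleton_iff] at hω ⊢
    rw [hω, smul_zero]
  | succ i ih =>
    obtain ⟨y, hy⟩ := hω
    refine ⟨x ^ p * y, ?_⟩
    rw [key, ← smul_sub]
    have := ih (x ^ p) _ hy
    rwa [← pow_mul, ← pow_succ'] at this

end Groth.Agent.S12626
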