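import Groth.Statements.S13049
-- import your own Groth.Agent.* helpers here

set_option autoImplicit false
universe u
open FrobAlg

namespace Groth.Agent.S13049

/-- Let p be a prime and A a commutative ring of characteristic p whose nilradical N satisfies x^(p^e) =
0 for all x ∈ N and some fixed e (for instance A Noetherian). Then the map between the inverse-limit
perfections along the absolute Frobenius, lim (⋯ → A → A) → lim (⋯ → A/N → A/N), induced by the
projection A → A/N, is bijective. (The published argument takes A of finite type over a field, where
the nilradical is finitely generated; this row assumes only that the nilradical is killed by one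
fixed iterate of Frobenius, which is all that argument uses.) -/
theorem result
    (p : ℕ) [Fact p.Prime] (A : Type u) [CommRing A] [CharP A p]
    [CharP (A ⧸ nilradical A) p] (e : ℕ) (he : ∀ x ∈ nilradical A, x ^ p ^ e = 0) :
    Function.Bijective (Perfection.map p (Ideal.Quotient.mk (nilradical A))) := by
  have hiter : ∀ {R : Type u} [CommRing R] [CharP R p] (f : Perfection R p) (n m : ℕ),
      Perfection.coeff R p (n + m) f ^ p ^ m = Perfection.coeff R p n f := by
    intro R _ _ f n m
    induction m with
    | zero => simp
    | succ m ih =>
      rw [pow_succ', pow_mul, ← Nat.add_assoc, Perfection.coeff_pow_p', ih]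
  constructor
  · intro f g hfg
    apply Perfection.ext
    intro n
    have h1 : Perfection.coeff A p (n + e) f - Perfection.coeff A p (n + e) g ∈ nilradical A := by
      rw [← Ideal.Quotient.eq]
      have := congrArg (Perfection.coeff _ p (n + e)) hfg
      simpa [Perfection.coeff_map] using this
    have h2 := he _ h1
    rw [sub_pow_char_pow, sub_eq_zero, hiter, hiter] at h2
    exact h2
  · intro g
    choose a ha using fun n => Ideal.Quotient.mk_surjective (Perfection.coeff _ p n g)
    have hstep : ∀ n, a (n + 1 + e) ^ p ^ (e + 1) = a (n + e) ^ p ^ e := by
      intro n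
      have h1 : a (n + e + 1) ^ p - a (n + e) ∈ nilradical A := by
        rw [← Ideal.Quotient.eq, map_pow, ha, ha, Perfection.coeff_pow_p']
      have h2 := he _ h1
      rw [sub_pow_char_pow, sub_eq_zero, ← pow_mul, ← pow_succ'] at h2
      rw [show n + 1 + e = n + e + 1 by omega]
      exact h2
    have hf : ∀ n, (a (n + 1 + e) ^ p ^ e) ^ p = a (n + e) ^ p ^ e := fun n => by
      rw [← pow_mul, ← pow_succ]; exact hstep n
    let f : Perfection A p := ⟨fun n => a (n + e) ^ p ^ e, hf⟩
    refine ⟨f, ?_⟩
    apply Perfection.ext
    intro n
    rw [Perfection.coeff_map]
    change Ideal.Quotient.mk _ (a (n + e) ^ p ^ e) = _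
    rw [map_pow, ha, hiter]

end Groth.Agent.S13049
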