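import Groth.Statements.S13060
-- import your own Groth.Agent.* helpers here

set_option autoImplicit false
universe u v w x
open TensorProduct
open Zeta

namespace Groth.Agent.S13060

/-- Let k be a field, V and W vector spaces over k and G a group acting on V by k-linear automorphisms;
for the induced action on V ⊗_k W (trivial on W) one has (V ⊗_k W)^G = V^G ⊗_k W, i.e. the
invariants of V ⊗ W are the image of V^G ⊗ W → V ⊗ W. -/
theorem result {k : Type u} [Field k] {G : Type v} [Group G]
    {V : Type w} {W : Type x} [AddCommGroup V] [Module k V] [AddCommGroup W] [Module k W]
    (ρ : Representation k G V) :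
    (ρ.tprod (Representation.trivial k G W)).invariants =
      LinearMap.range (TensorProduct.map ρ.invariants.subtype (LinearMap.id : W →ₗ[k] W)) := by
  classical
  let 𝒞 := Module.Basis.ofVectorSpace k W
  let e := TensorProduct.equivFinsuppOfBasisRight (M := V) 𝒞
  have he : ∀ (g : G) (x : V ⊗[k] W), e ((ρ.tprod (Representation.trivial k G W)) g x) =
      Finsupp.mapRange (ρ g) (map_zero _) (e x) := by
    intro g x
    induction x using TensorProduct.induction_on with
    | zero => simp
    | tmul m n =>
      ext i
      simp only [Representation.tprod_apply, TensorProduct.map_tmul, Representation.trivial_apply,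
        Finsupp.mapRange_apply, e, TensorProduct.equivFinsuppOfBasisRight_apply_tmul_apply, map_smul]
    | add x y hx hy =>
      rw [map_add, map_add, hx, hy, map_add]
      ext i
      simp
  apply le_antisymm
  · intro x hx
    rw [Representation.mem_invariants] at hx
    have hinv : ∀ i g, ρ g (e x i) = e x i := by
      intro i g
      have := congrArg (fun y => e y i) (hx g)
      simp only [he, Finsupp.mapRange_apply] at this
      exact this
    have hx' : x = (e x).sum fun i m => m ⊗ₜ 𝒞 i := by
      rw [← TensorProduct.equivFinsuppOfBasisRight_symm_apply, LinearEquiv.symm_apply_apply]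
    rw [hx']
    apply Submodule.finsuppSum_mem
    intro i _
    exact ⟨⟨e x i, (Representation.mem_invariants _ _).2 (hinv i)⟩ ⊗ₜ 𝒞 i, by simp⟩
  · rintro _ ⟨y, rfl⟩
    rw [Representation.mem_invariants]
    intro g
    induction y using TensorProduct.induction_on with
    | zero => simp
    | tmul m n =>
      simp only [TensorProduct.map_tmul, Representation.tprod_apply, Representation.trivial_apply,
        Submodule.coe_subtype, LinearMap.id_coe, id_eq]
      rw [(Representation.mem_invariants _ _).1 m.2 g]
    | add x y hx hy =>
      rw [map_add, map_add, hx, hy]

end Groth.Agent.S13060
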