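import Groth.Statements.S13123
import Mathlib.Tactic.LinearCombination
import Mathlib.Algebra.CharP.Two
import Mathlib.Tactic.Ring
-- import your own Groth.Agent.* helpers here

set_option autoImplicit false
universe u
open KumFam

namespace Groth.Agent.S13123

open Polynomial in
/-- Let R be a commutative ring of characteristic 2 and p q r m ρ s t ∈ R with m³ + p m + q = 0, (m² +
p)²(ρ² + ρ) = r, m²(s² + s) = (m² + p) ρ and m²(t² + t) = (m² + p)(ρ + 1). Then X⁴ + p X² + q X + r
= (X − m s)(X − m (s + 1))(X − m t)(X − m (t + 1)) in R[X]. (The published statement assumes q is a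
unit, which makes m and m² + p units, writes ρ, s, t as roots of Artin–Schreier equations X² + X + γ
with γ the corresponding quotients, and gives m through cube roots of Lagrange resolvents; here the
defining equations of ρ, s, t are written with denominators cleared and m is any root of the
resolvent cubic, so no unit hypothesis is needed.) -/
theorem result (R : Type u) [CommRing R] [CharP R 2]
    (p q r m ρ s t : R) (hm : m ^ 3 + p * m + q = 0) (hρ : (m ^ 2 + p) ^ 2 * (ρ ^ 2 + ρ) = r)
    (hs : m ^ 2 * (s ^ 2 + s) = (m ^ 2 + p) * ρ) (ht : m ^ 2 * (t ^ 2 + t) = (m ^ 2 + p) * (ρ + 1)) :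
    (X ^ 4 + C p * X ^ 2 + C q * X + C r : R[X]) =
      (X - C (m * s)) * (X - C (m * (s + 1))) * (X - C (m * t)) * (X - C (m * (t + 1))) := by
  have h2 : (2 : R) = 0 := CharTwo.two_eq_zero
  have e1 : m * s + m * (s + 1) = m := by linear_combination (m * s) * h2
  have e2 : m * t + m * (t + 1) = m := by linear_combination (m * t) * h2
  have e3 : m * s * (m * (s + 1)) = (m ^ 2 + p) * ρ := by linear_combination hs
  have e4 : m * t * (m * (t + 1)) = (m ^ 2 + p) * (ρ + 1) := by linear_combination ht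
  have e6 : m ^ 2 + ((m ^ 2 + p) * ρ + (m ^ 2 + p) * (ρ + 1)) = p := by
    linear_combination (m ^ 2 + (m ^ 2 + p) * ρ) * h2
  have e7 : -(m * ((m ^ 2 + p) * ρ + (m ^ 2 + p) * (ρ + 1))) = q := by
    linear_combination (-1 : R) * hm - (m * (m ^ 2 + p) * ρ) * h2
  have e8 : (m ^ 2 + p) * ρ * ((m ^ 2 + p) * (ρ + 1)) = r := by linear_combination hρ
  have key : ∀ α β : R, (X - C α) * (X - C β) = X ^ 2 - C (α + β) * X + C (α * β) := by
    intro α β; simp only [map_add, map_mul]; ring
  have key2 : ∀ a b : R, (X ^ 2 - C m * X + C a) * (X ^ 2 - C m * X + C b) =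
      X ^ 4 - C (2 * m) * X ^ 3 + C (m ^ 2 + (a + b)) * X ^ 2 + C (-(m * (a + b))) * X +
        C (a * b) := by
    intro a b; simp only [map_add, map_mul, map_neg, map_pow, map_ofNat]; ring
  calc (X ^ 4 + C p * X ^ 2 + C q * X + C r : R[X])
      = X ^ 4 - C (2 * m) * X ^ 3 + C (m ^ 2 + ((m ^ 2 + p) * ρ + (m ^ 2 + p) * (ρ + 1))) * X ^ 2 +
          C (-(m * ((m ^ 2 + p) * ρ + (m ^ 2 + p) * (ρ + 1)))) * X +
          C ((m ^ 2 + p) * ρ * ((m ^ 2 + p) * (ρ + 1))) := by
        rw [h2, e6, e7, e8]; simp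
    _ = (X ^ 2 - C m * X + C ((m ^ 2 + p) * ρ)) * (X ^ 2 - C m * X + C ((m ^ 2 + p) * (ρ + 1))) :=
        (key2 _ _).symm
    _ = ((X - C (m * s)) * (X - C (m * (s + 1)))) * ((X - C (m * t)) * (X - C (m * (t + 1)))) := by
        rw [key, key, e1, e2, e3, e4]
    _ = _ := by ring

end Groth.Agent.S13123
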