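import Groth.Statements.S13126
import Mathlib.RingTheory.Ideal.Quotient.Operations
import Mathlib.Algebra.Polynomial.Div
import Mathlib.Algebra.Polynomial.RingDivision
import Mathlib.RingTheory.Coprime.Lemmas
import Mathlib.Algebra.Polynomial.BigOperators
-- import your own Groth.Agent.* helpers here

set_option autoImplicit false
universe u
open KumFam

namespace Groth.Agent.S13126

open Polynomial in
/-- Let R be a commutative ring, n a natural number which is a unit in R, and ζ ∈ R with ζ^n = 1 and 1 −
ζ^i a unit for 0 < i < n (a primitive n-th root of unity in the fibrewise sense: the powers ζ^0, …,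
ζ^(n−1) are roots of X^n − 1 with pairwise unit differences; over an integral domain in which n is a
unit this is the same as ζ having multiplicative order n). Then the R-algebra homomorphism R[X] →
(Fin n → R) sending a polynomial to its values at ζ^0, …, ζ^(n−1) is surjective and its kernel is
the ideal generated by X^n − 1; hence R[X]/(X^n − 1) ≅ R^n as R-algebras, i.e. the scheme of n-th
roots of unity over Spec R is the disjoint union of n copies of Spec R. (The published statement
asks that R contain a primitive n-th root of unity without defining the term; its Chinese-remainder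
argument uses that the ideals (X − ζ^i), i < n, are pairwise comaximal, which is the unit-difference
condition taken as the hypothesis here, whereas under the reading 'ζ has multiplicative order n'
alone the surjectivity fails over a product of two fields. The published statement also asserts that
the isomorphism respects the group-scheme structures of the n-th roots of unity and of the constant
group ℤ/n; this row does not state that.) -/
theorem result (R : Type u) [CommRing R]
    (n : ℕ) (hn : IsUnit (n : R)) (ζ : R) (hζ : ζ ^ n = 1)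
    (hprim : ∀ i : ℕ, 0 < i → i < n → IsUnit (1 - ζ ^ i)) :
    Function.Surjective (AlgHom.pi (fun i : Fin n => Polynomial.aeval (R := R) (ζ ^ (i : ℕ)))) ∧
      RingHom.ker (AlgHom.pi (fun i : Fin n => Polynomial.aeval (R := R) (ζ ^ (i : ℕ)))) =
        Ideal.span {(X ^ n - 1 : R[X])} := by
  classical
  rcases Nat.eq_zero_or_pos n with rfl | hnpos
  · have h01 : (0 : R) = 1 := by simpa using isUnit_zero_iff.1 (by simpa using hn)
    have : Subsingleton R := subsingleton_of_zero_eq_one h01
    refine ⟨fun t => ⟨0, funext fun i => i.elim0⟩, ?_⟩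
    ext f
    constructor
    · intro _; rw [Subsingleton.elim f 0]; exact Ideal.zero_mem _
    · intro _; rw [Subsingleton.elim f 0]; exact Ideal.zero_mem _
  rcases subsingleton_or_nontrivial R with hR | hR
  · refine ⟨fun t => ⟨0, funext fun i => Subsingleton.elim _ _⟩, ?_⟩
    ext f
    constructor
    · intro _; rw [Subsingleton.elim f 0]; exact Ideal.zero_mem _
    · intro _; rw [Subsingleton.elim f 0]; exact Ideal.zero_mem _
  have hζu : IsUnit ζ := by
    have h1 : ζ * ζ ^ (n - 1) = 1 := by rw [← pow_succ', Nat.sub_add_cancel hnpos, hζ]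
    exact ⟨⟨ζ, ζ ^ (n - 1), h1, by rw [mul_comm]; exact h1⟩, rfl⟩
  have hlt : ∀ a b : ℕ, a < b → b < n → IsUnit (ζ ^ a - ζ ^ b) := by
    intro a b hab hbn
    have : ζ ^ a - ζ ^ b = ζ ^ a * (1 - ζ ^ (b - a)) := by
      rw [mul_sub, mul_one, ← pow_add, Nat.add_sub_cancel' hab.le]
    rw [this]
    exact (hζu.pow a).mul (hprim (b - a) (by omega) (by omega))
  have hdiff : ∀ i j : Fin n, i ≠ j → IsUnit (ζ ^ (i : ℕ) - ζ ^ (j : ℕ)) := by
    intro i j hij
    rcases lt_or_gt_of_ne (Fin.val_ne_of_ne hij) with h | h
    · exact hlt _ _ h j.2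
    · have := hlt _ _ h i.2
      rw [← neg_sub]
      exact this.neg
  have hcop : Pairwise (Function.onFun IsCoprime fun i : Fin n => (X - C (ζ ^ (i : ℕ)) : R[X])) := by
    intro i j hij
    exact isCoprime_X_sub_C_of_isUnit_sub (hdiff i j hij)
  have hcopI : Pairwise (Function.onFun IsCoprime fun i : Fin n => Ideal.span {(X - C (ζ ^ (i : ℕ)) : R[X])}) := by
    intro i j hij
    exact (Ideal.isCoprime_span_singleton_iff _ _).2 (hcop hij)
  have hev : ∀ (f : R[X]) (i : Fin n),
      (AlgHom.pi (fun i : Fin n => Polynomial.aeval (R := R) (ζ ^ (i : ℕ)))) f i = f.eval (ζ ^ (i : ℕ)) := by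
    intro f i
    simp [AlgHom.pi_apply, Polynomial.aeval_def]
  constructor
  · intro t
    obtain ⟨F, hF⟩ := Ideal.quotientInfToPiQuotient_surj hcopI
      (fun i => Ideal.Quotient.mk _ (C (t i)))
    obtain ⟨f, rfl⟩ := Ideal.Quotient.mk_surjective F
    refine ⟨f, funext fun i => ?_⟩
    have := congrFun hF i
    rw [Ideal.quotientInfToPiQuotient_mk', Ideal.Quotient.eq, Ideal.mem_span_singleton,
      Polynomial.dvd_iff_isRoot] at this
    rw [hev]
    simpa [sub_eq_zero] using this
  · have hprod : ∏ i : Fin n, (X - C (ζ ^ (i : ℕ)) : R[X]) = X ^ n - 1 := by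
      have hmon : (∏ i : Fin n, (X - C (ζ ^ (i : ℕ)) : R[X])).Monic :=
        Polynomial.monic_prod_of_monic _ _ (fun i _ => Polynomial.monic_X_sub_C _)
      have hmon2 : (X ^ n - 1 : R[X]).Monic := by
        simpa using Polynomial.monic_X_pow_sub_C (1 : R) (Nat.pos_iff_ne_zero.1 hnpos)
      have hdvd : (∏ i : Fin n, (X - C (ζ ^ (i : ℕ)) : R[X])) ∣ X ^ n - 1 := by
        apply Finset.prod_dvd_of_coprime
        · intro i _ j _ hij; exact hcop hij
        · intro i _
          rw [Polynomial.dvd_iff_isRoot, Polynomial.IsRoot, Polynomial.eval_sub, Polynomial.eval_pow,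
            Polynomial.eval_X, Polynomial.eval_one, ← pow_mul, mul_comm, pow_mul, hζ, one_pow, sub_self]
      have hdeg : (X ^ n - 1 : R[X]).natDegree ≤ (∏ i : Fin n, (X - C (ζ ^ (i : ℕ)) : R[X])).natDegree := by
        rw [Polynomial.natDegree_prod_of_monic _ _ (fun i _ => Polynomial.monic_X_sub_C _)]
        simp only [Polynomial.natDegree_X_sub_C, Finset.sum_const, Finset.card_univ, Fintype.card_fin,
          smul_eq_mul, mul_one]
        have : (X ^ n - 1 : R[X]) = X ^ n - C 1 := by rw [map_one]
        rw [this, Polynomial.natDegree_X_pow_sub_C]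
      exact (Polynomial.eq_of_monic_of_dvd_of_natDegree_le hmon hmon2 hdvd hdeg).symm
    ext f
    rw [RingHom.mem_ker, Ideal.mem_span_singleton, ← hprod]
    constructor
    · intro hf
      apply Finset.prod_dvd_of_coprime
      · intro i _ j _ hij; exact hcop hij
      · intro i _
        rw [Polynomial.dvd_iff_isRoot, Polynomial.IsRoot, ← hev]
        exact congrFun hf i
    · intro hf
      funext i
      rw [hev, Pi.zero_apply]
      have h1 : (X - C (ζ ^ (i : ℕ)) : R[X]) ∣ f :=
        (Finset.dvd_prod_of_mem (fun j : Fin n => (X - C (ζ ^ (j : ℕ)) : R[X]))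
          (Finset.mem_univ i)).trans hf
      exact Polynomial.dvd_iff_isRoot.1 h1

end Groth.Agent.S13126
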