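import Groth.Statements.S13130
import Mathlib.RingTheory.IntegralClosure.IsIntegralClosure.Basic
-- import your own Groth.Agent.* helpers here

set_option autoImplicit false
universe u v
open KumFam

namespace Groth.Agent.S13130

/-- Let R be a nontrivial commutative ring and M a commutative group, with group algebra R[M], the
coordinate ring of the diagonalizable group scheme D(M) over Spec R. Then D(M) is integral over Spec
R, i.e. R[M] is an integral R-algebra, if and only if M is a torsion group. (The published statement
is over an arbitrary base scheme; the question is local and this row is the affine form, with R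
nontrivial so that the elements of M are R-linearly independent.) -/
theorem result (R : Type u) [CommRing R] [Nontrivial R]
    (M : Type v) [CommGroup M] :
    Algebra.IsIntegral R (MonoidAlgebra R M) ↔ IsMulTorsion M := by
  classical
  constructor
  · intro hint g
    by_contra hg
    have hinj : Function.Injective (fun n : ℕ => g ^ n) := injective_pow_iff_not_isOfFinOrder.mpr hg
    obtain ⟨f, hfm, hf⟩ := hint.isIntegral (MonoidAlgebra.of R M g)
    have h0 := congrArg (fun x : MonoidAlgebra R M => x.coeff (g ^ f.natDegree)) hf
    rw [← Polynomial.aeval_def, Polynomial.aeval_eq_sum_range] at h0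
    have hterm : ∀ i : ℕ, (f.coeff i • (MonoidAlgebra.of R M g) ^ i).coeff (g ^ f.natDegree) =
        if i = f.natDegree then f.coeff i else 0 := by
      intro i
      rw [← map_pow]
      simp [MonoidAlgebra.of_apply, Finsupp.single_apply]
      have hiff : g ^ i = g ^ f.natDegree ↔ i = f.natDegree := hinj.eq_iff
      simp only [hiff]
    have h1 : ∑ i ∈ Finset.range (f.natDegree + 1),
        (f.coeff i • (MonoidAlgebra.of R M g) ^ i).coeff (g ^ f.natDegree) = 0 := by
      simpa using h0
    rw [Finset.sum_congr rfl (fun i _ => hterm i), Finset.sum_ite_eq'] at h1
    simp only [Finset.mem_range, Nat.lt_succ_self, if_true] at h1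
    have hlc : f.leadingCoeff = 1 := hfm
    rw [Polynomial.leadingCoeff, h1] at hlc
    exact zero_ne_one hlc
  · intro ht
    refine ⟨fun x => ?_⟩
    induction x using MonoidAlgebra.induction_on with
    | of m =>
      obtain ⟨n, hn, hpow⟩ := (ht m).exists_pow_eq_one
      refine IsIntegral.of_pow hn ?_
      rw [← map_pow, hpow, map_one]
      exact isIntegral_one
    | add x y hx hy => exact hx.add hy
    | smul r x hx => exact hx.smul r

end Groth.Agent.S13130
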