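import Groth.Statements.S13162
import Mathlib.GroupTheory.Sylow
import Mathlib.RingTheory.Ideal.Quotient.Defs
import Mathlib.Algebra.BigOperators.Ring.Finset
-- import your own Groth.Agent.* helpers here

set_option autoImplicit false
universe u v
open ZeroCyc

namespace Groth.Agent.S13162

/-- Let a finite group G act on a commutative ring A by ring automorphisms and let p be a prime such
that every integer prime to p is a unit in A. If I is an ideal of A and f ∈ A has G-invariant class
modulo I, then f^(p^k) is congruent modulo I to a G-invariant element of A, where p^k is the exact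
power of p dividing the order of G. (The published statement assumes I stable under G, so that G
acts on A/I and the claim reads: the p^k-th power of an invariant of A/I lies in the image of the
invariants of A; the form here asks only that the class of f be invariant.) -/
theorem result {A : Type u} [CommRing A] {G : Type v} [Group G] [Fintype G]
    [MulSemiringAction G A] (p : ℕ) [Fact p.Prime]
    (hA : ∀ m : ℕ, ¬ p ∣ m → IsUnit (m : A))
    (I : Ideal A) (f : A) (hf : ∀ g : G, g • f - f ∈ I) :
    ∃ a : A, (∀ g : G, g • a = a) ∧ a - f ^ (p ^ (Fintype.card G).factorization p) ∈ I := by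
  classical
  obtain ⟨P⟩ : Nonempty (Sylow p G) := inferInstance
  have hPcard : Fintype.card (P : Subgroup G) = p ^ (Fintype.card G).factorization p := by
    rw [Fintype.card_eq_nat_card, P.card_eq_multiplicity, Nat.card_eq_fintype_card]
  let N : A := ∏ h : (P : Subgroup G), ((h : G) • f)
  have hgN : ∀ g : G, g • N = ∏ h : (P : Subgroup G), ((g * (h : G)) • f) := by
    intro g
    simp only [N, Finset.smul_prod', mul_smul]
  have hN : ∀ h ∈ (P : Subgroup G), h • N = N := by
    intro h hh
    rw [hgN]
    exact Fintype.prod_bijective (fun x : (P : Subgroup G) => (⟨h, hh⟩ : (P : Subgroup G)) * x)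
      (Group.mulLeft_bijective _) _ _ (fun x => rfl)
  let φ : G ⧸ (P : Subgroup G) → A := Quotient.lift (fun g : G => g • N) (by
    intro g₁ g₂ hg
    have hg' : g₁⁻¹ * g₂ ∈ (P : Subgroup G) := QuotientGroup.leftRel_apply.mp hg
    change g₁ • N = g₂ • N
    have : g₂ = g₁ * (g₁⁻¹ * g₂) := by group
    rw [this, mul_smul, hN _ hg'])
  have hφ : ∀ g : G, φ (g : G ⧸ (P : Subgroup G)) = g • N := fun g => rfl
  let S : A := ∑ q : G ⧸ (P : Subgroup G), φ q
  have hidx : ¬ p ∣ Fintype.card (G ⧸ (P : Subgroup G)) := by
    have := P.not_dvd_index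
    rwa [Subgroup.index, Nat.card_eq_fintype_card] at this
  obtain ⟨u, hu⟩ := hA _ hidx
  refine ⟨(↑u⁻¹ : A) * S, ?_, ?_⟩
  · intro g
    have hS : g • S = S := by
      simp only [S, Finset.smul_sum]
      refine Fintype.sum_bijective (fun q => g • q) (MulAction.bijective g) _ _ (fun q => ?_)
      induction q using QuotientGroup.induction_on with
      | H g' =>
        rw [MulAction.Quotient.smul_mk, hφ, hφ, smul_eq_mul, mul_smul]
    have hu' : g • (↑u⁻¹ : A) = ↑u⁻¹ := by
      have h1 : g • (↑u : A) = ↑u := by
        rw [hu]; exact map_natCast (MulSemiringAction.toRingHom G A g) _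
      have h2 : (g • (↑u⁻¹ : A)) * (g • (↑u : A)) = 1 := by
        rw [← smul_mul', Units.inv_mul, smul_one]
      rw [h1] at h2
      exact Units.eq_inv_of_mul_eq_one_right h2
    rw [smul_mul', hu', hS]
  · rw [← Ideal.Quotient.eq]
    have hmkf : ∀ g : G, Ideal.Quotient.mk I (g • f) = Ideal.Quotient.mk I f := fun g =>
      Ideal.Quotient.eq.mpr (hf g)
    have hmkN : ∀ g : G, Ideal.Quotient.mk I (g • N) =
        Ideal.Quotient.mk I f ^ (p ^ (Fintype.card G).factorization p) := by
      intro g
      rw [hgN, map_prod]
      simp only [hmkf, Finset.prod_const, Finset.card_univ, hPcard]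
    have hmkS : Ideal.Quotient.mk I S = (Fintype.card (G ⧸ (P : Subgroup G)) : A ⧸ I) *
        Ideal.Quotient.mk I f ^ (p ^ (Fintype.card G).factorization p) := by
      simp only [S, map_sum]
      have : ∀ q : G ⧸ (P : Subgroup G), Ideal.Quotient.mk I (φ q) =
          Ideal.Quotient.mk I f ^ (p ^ (Fintype.card G).factorization p) := by
        intro q
        induction q using QuotientGroup.induction_on with
        | H g => rw [hφ, hmkN]
      simp only [this, Finset.sum_const, Finset.card_univ, nsmul_eq_mul]
    rw [map_mul, hmkS, map_pow, ← mul_assoc]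
    have : Ideal.Quotient.mk I (↑u⁻¹ : A) * (Fintype.card (G ⧸ (P : Subgroup G)) : A ⧸ I) = 1 := by
      rw [← map_natCast (Ideal.Quotient.mk I), ← hu, ← map_mul, Units.inv_mul, map_one]
    rw [this, one_mul]

end Groth.Agent.S13162
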