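import Groth.Statements.S13163
-- import your own Groth.Agent.* helpers here

set_option autoImplicit false
universe u
open ZeroCyc

namespace Groth.Agent.S13163

open Polynomial in
open Polynomial in

/-- Let P_d(T) = ∏_{0 ≤ i < j ≤ d} (T^i − T^j) − 1 ∈ ℤ[T]. Every residue field of ℤ[T]/(P_d), i.e. every
field receiving a ring homomorphism from it, has at least d + 1 elements. -/
theorem result (d : ℕ) (k : Type u) [Field k]
    (φ : (ℤ[X] ⧸ Ideal.span {(∏ j ∈ Finset.range (d + 1), ∏ i ∈ Finset.range j,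
        ((X : ℤ[X]) ^ i - X ^ j)) - 1}) →+* k) :
    ((d + 1 : ℕ) : Cardinal) ≤ Cardinal.mk k := by
  set P : ℤ[X] := (∏ j ∈ Finset.range (d + 1), ∏ i ∈ Finset.range j,
        ((X : ℤ[X]) ^ i - X ^ j)) - 1 with hP
  let ψ : ℤ[X] →+* k := φ.comp (Ideal.Quotient.mk _)
  have hψP : ψ P = 0 := by
    show φ (Ideal.Quotient.mk _ P) = 0
    rw [Ideal.Quotient.eq_zero_iff_mem.mpr (Ideal.mem_span_singleton_self P), map_zero]
  set x : k := ψ X
  have hprod : ∏ j ∈ Finset.range (d + 1), ∏ i ∈ Finset.range j, (x ^ i - x ^ j) = 1 := by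
    have := hψP
    rw [hP, map_sub, map_one, map_prod] at this
    simp only [map_prod, map_sub, map_pow] at this
    exact sub_eq_zero.mp this
  have hne : ∀ j ∈ Finset.range (d + 1), ∀ i ∈ Finset.range j, x ^ i - x ^ j ≠ 0 := by
    intro j hj i hi
    have h1 : ∏ j ∈ Finset.range (d + 1), ∏ i ∈ Finset.range j, (x ^ i - x ^ j) ≠ 0 := by
      rw [hprod]; exact one_ne_zero
    rw [Finset.prod_ne_zero_iff] at h1
    have h2 := h1 j hj
    rw [Finset.prod_ne_zero_iff] at h2
    exact h2 i hi
  have hinj : Function.Injective (fun i : ULift.{u} (Fin (d + 1)) => x ^ (i.down : ℕ)) := by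
    intro i' j' hij
    simp only at hij
    obtain ⟨i⟩ := i'
    obtain ⟨j⟩ := j'
    simp only at hij
    congr 1
    by_contra hne'
    rcases lt_or_gt_of_ne (Fin.val_ne_of_ne hne') with h | h
    · exact hne j (Finset.mem_range.mpr j.2) i (Finset.mem_range.mpr h) (sub_eq_zero.mpr hij)
    · exact hne i (Finset.mem_range.mpr i.2) j (Finset.mem_range.mpr h) (sub_eq_zero.mpr hij.symm)
  have := Cardinal.mk_le_of_injective hinj
  simpa using this

end Groth.Agent.S13163
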