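import Groth.Statements.S13166
import Mathlib.SetTheory.Cardinal.Finite
import Mathlib.Data.Finset.Powerset
-- import your own Groth.Agent.* helpers here

set_option autoImplicit false
universe u
open ZeroCyc

namespace Groth.Agent.S13166

theorem sharp {ι K M : Type*} [Field K] [AddCommGroup M] [Module K M] [DecidableEq ι]
    (p : ι → Submodule K M) :
    ∀ s : Finset ι, (∀ i ∈ s, p i ≠ ⊤) → (s.card : Cardinal) ≤ Cardinal.mk K →
      ∃ x : M, ∀ i ∈ s, x ∉ p i := by
  intro s
  induction s using Finset.strongInduction with
  | H s ih =>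
    intro h₁ hs
    by_cases hcov : ∃ j ∈ s, ∀ y ∈ p j, ∃ i ∈ s.erase j, y ∈ p i
    · obtain ⟨j, hj, hcov⟩ := hcov
      obtain ⟨x, hx⟩ := ih (s.erase j) (Finset.erase_ssubset hj)
        (fun i hi => h₁ i (Finset.mem_of_mem_erase hi))
        (le_trans (by exact_mod_cast Finset.card_erase_le) hs)
      refine ⟨x, fun i hi hxi => ?_⟩
      by_cases hij : i = j
      · subst hij
        obtain ⟨i', hi', hxi'⟩ := hcov x hxi
        exact hx i' hi' hxi'
      · exact hx i (Finset.mem_erase.mpr ⟨hij, hi⟩) hxi
    · push Not at hcov
      rcases s.eq_empty_or_nonempty with rfl | ⟨j, hj⟩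
      · exact ⟨0, by simp⟩
      obtain ⟨u, hu, hu'⟩ := hcov j hj
      obtain ⟨v, hv⟩ : ∃ v, v ∉ p j := by
        by_contra hcon
        push Not at hcon
        exact h₁ j hj (eq_top_iff.mpr fun x _ => hcon x)
      by_contra hne
      push Not at hne
      have hcover : ∀ t : K, ∃ i ∈ s.erase j, v + t • u ∈ p i := by
        intro t
        obtain ⟨i, hi, hxi⟩ := hne (v + t • u)
        have hij : i ≠ j := by
          rintro rfl
          apply hv
          have := sub_mem hxi (Submodule.smul_mem _ t hu)
          simpa using this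
        exact ⟨i, Finset.mem_erase.mpr ⟨hij, hi⟩, hxi⟩
      choose f hf hfm using hcover
      let g : K → (s.erase j) := fun t => ⟨f t, hf t⟩
      have hg : ¬ Function.Injective g := by
        intro hinj
        have : Finite K := Finite.of_injective g hinj
        have h1 : Nat.card K ≤ Nat.card (s.erase j) := Nat.card_le_card_of_injective g hinj
        rw [Nat.card_eq_finsetCard] at h1
        rw [← Nat.cast_card, Nat.cast_le] at hs
        have h2 := Finset.card_erase_lt_of_mem hj
        omega
      simp only [Function.Injective, not_forall] at hg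
      obtain ⟨t₁, t₂, heq, hne'⟩ := hg
      have hfeq : f t₁ = f t₂ := congrArg Subtype.val heq
      have h2' : v + t₂ • u ∈ p (f t₁) := by rw [hfeq]; exact hfm t₂
      have h12 : (t₁ - t₂) • u ∈ p (f t₁) := by
        have := sub_mem (hfm t₁) h2'
        convert this using 1
        rw [sub_smul]; abel
      have hu1 : u ∈ p (f t₁) := (Submodule.smul_mem_iff _ (sub_ne_zero.mpr hne')).mp h12
      exact hu' (f t₁) (hf t₁) hu1


/-- Let k be a field, B a k-algebra generated as an algebra by a k-subspace V, k'/k a field extension
and x_1, …, x_d pairwise distinct k'-points of B ⊗_k k' (equivalently, distinct k-algebra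
homomorphisms B → k'). If k has at least d(d − 1)/2 elements, then there is b ∈ V whose values at
x_1, …, x_d are pairwise distinct. -/
theorem result {k : Type u} [Field k] {B : Type u} [CommRing B] [Algebra k B] (V : Submodule k B)
    (hV : Algebra.adjoin k (V : Set B) = ⊤) {k' : Type u} [Field k'] [Algebra k k']
    {d : ℕ} (x : Fin d → (B →ₐ[k] k')) (hx : Function.Injective x)
    (hk : ((d.choose 2 : ℕ) : Cardinal) ≤ Cardinal.mk k) :
    ∃ b ∈ V, Function.Injective fun i => x i b := by
  classical
  let W : Finset (Fin d) → Submodule k V := fun t =>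
    { carrier := {b | ∀ i ∈ t, ∀ j ∈ t, x i (b : B) = x j (b : B)}
      add_mem' := by
        intro a b ha hb i hi j hj
        simp only [Submodule.coe_add, map_add, ha i hi j hj, hb i hi j hj]
      zero_mem' := by intro i _ j _; simp
      smul_mem' := by
        intro c a ha i hi j hj
        simp only [Submodule.coe_smul, map_smul, ha i hi j hj] }
  have hW : ∀ t ∈ Finset.powersetCard 2 (Finset.univ : Finset (Fin d)), W t ≠ ⊤ := by
    intro t ht htop
    rw [Finset.mem_powersetCard, Finset.card_eq_two] at ht
    obtain ⟨-, i, j, hij, rfl⟩ := ht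
    apply hij
    apply hx
    apply AlgHom.ext_of_adjoin_eq_top hV
    intro b hb
    have : (⟨b, hb⟩ : V) ∈ W {i, j} := htop ▸ Submodule.mem_top
    exact this i (by simp) j (by simp)
  have hcard : ((Finset.powersetCard 2 (Finset.univ : Finset (Fin d))).card : Cardinal) ≤
      Cardinal.mk k := by
    rw [Finset.card_powersetCard, Finset.card_univ, Fintype.card_fin]
    exact hk
  obtain ⟨b, hb⟩ := sharp W _ hW hcard
  refine ⟨b, b.2, fun i j hij => ?_⟩
  by_contra hne
  apply hb {i, j} (by rw [Finset.mem_powersetCard, Finset.card_pair hne]; simp)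
  intro a ha c hc
  simp only [Finset.mem_insert, Finset.mem_singleton] at ha hc
  have hij' : x i (b : B) = x j (b : B) := hij
  rcases ha with rfl | rfl <;> rcases hc with rfl | rfl
  · rfl
  · exact hij'
  · exact hij'.symm
  · rfl

end Groth.Agent.S13166
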