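import Groth.Statements.S13185
-- import your own Groth.Agent.* helpers here

set_option autoImplicit false
universe u v w x
open GalCoh

namespace Groth.Agent.S13185

theorem lift_cohom {G : Type u} {A : Type v} {B : Type w} {C : Type x}
    [Group G] [Group A] [Group B] [Group C]
    [MulDistribMulAction G A] [MulDistribMulAction G B] [MulDistribMulAction G C]
    {ι : A →* B} {π : B →* C} (h : GpH1.IsGExt G ι π)
    (b b' : B) (hb : π b ∈ MulAction.fixedPoints G C) (hb' : π b' ∈ MulAction.fixedPoints G C)
    (d : A) (hd : b' = b * ι d) :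
    GpH1.Cohomologous (h.cocycleOfLift b' hb') (h.cocycleOfLift b hb) := by
  refine ⟨d, fun σ => ?_⟩
  apply h.injective
  rw [map_mul, map_mul, map_inv, h.smul_ι, h.ι_cocycleOfLift, h.ι_cocycleOfLift, hd,
    smul_mul', mul_inv_rev]
  group

theorem delta0_eq {G : Type u} {A : Type v} {B : Type w} {C : Type x}
    [Group G] [Group A] [Group B] [Group C]
    [MulDistribMulAction G A] [MulDistribMulAction G B] [MulDistribMulAction G C]
    {ι : A →* B} {π : B →* C} (h : GpH1.IsGExt G ι π)
    (c : MulAction.fixedPoints G C) (b : B) (hb : π b = c) :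
    GpH1.delta0 h c = (h.cocycleOfLift b (hb ▸ c.2)).cl := by
  unfold GpH1.delta0
  rw [GpH1.OneCocycle.cl_eq_cl_iff]
  have hs := (h.surjective c.1).choose_spec
  set b0 := (h.surjective c.1).choose
  have hmem : b⁻¹ * b0 ∈ ι.range := by
    rw [← h.exact, map_mul, map_inv, hs, hb, inv_mul_cancel]
  obtain ⟨d, hd⟩ := hmem
  exact lift_cohom h b b0 _ _ d (by rw [hd]; group)


/-- Let a group G act by automorphisms on groups A, B, C and let 1 → A → B → C → 1 (maps ι, π) be a
G-equivariant short exact sequence. For G-fixed elements c, c' of C, the connecting map to H¹(G, A)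
takes equal values on c and c' if and only if c' = π(b) · c for some G-fixed b in B: the fibres of
the connecting map are the orbits of the fixed points of B acting on the fixed points of C by left
multiplication. (The published statement is for a Galois group acting on discrete modules; this row
takes an arbitrary group acting on groups, which is what the argument proves.) -/
theorem result {G : Type u} {A : Type v} {B : Type w} {C : Type x}
    [Group G] [Group A] [Group B] [Group C]
    [MulDistribMulAction G A] [MulDistribMulAction G B] [MulDistribMulAction G C]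
    {ι : A →* B} {π : B →* C} (h : GpH1.IsGExt G ι π)
    (c c' : MulAction.fixedPoints G C) :
    GpH1.delta0 h c = GpH1.delta0 h c' ↔
      ∃ b : B, b ∈ MulAction.fixedPoints G B ∧ (c' : C) = π b * (c : C) := by
  obtain ⟨b0, hb0⟩ := h.surjective c.1
  obtain ⟨b0', hb0'⟩ := h.surjective c'.1
  rw [delta0_eq h c b0 hb0, delta0_eq h c' b0' hb0', GpH1.OneCocycle.cl_eq_cl_iff]
  constructor
  · rintro ⟨d, hd⟩
    refine ⟨b0' * ι d * b0⁻¹, fun σ => ?_, ?_⟩
    · have e := congrArg ι (hd σ)
      rw [h.ι_cocycleOfLift, map_mul, map_mul, map_inv, h.smul_ι, h.ι_cocycleOfLift] at e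
      change σ • (b0' * ι d * b0⁻¹) = b0' * ι d * b0⁻¹
      rw [smul_mul', smul_mul', smul_inv']
      have e2 : σ • b0' * σ • ι d = b0' * ι d * b0⁻¹ * σ • b0 := by
        have : σ • b0 = b0 * ((ι d)⁻¹ * (b0'⁻¹ * σ • b0') * σ • ι d) := by rw [← e]; group
        rw [this]; group
      rw [e2]; group
    · have : π (ι d) = 1 := (h.exact _).2 ⟨d, rfl⟩
      rw [map_mul, map_mul, map_inv, this, mul_one, hb0, hb0']
      group
  · rintro ⟨b, hbfix, hc'⟩
    have hlift : π (b * b0) = c'.1 := by rw [map_mul, hb0, hc']
    have key : GpH1.Cohomologous (h.cocycleOfLift b0 (hb0 ▸ c.2)) (h.cocycleOfLift (b * b0) (hlift ▸ c'.2)) := by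
      refine ⟨1, fun σ => ?_⟩
      apply h.injective
      rw [map_mul, map_mul, map_inv, h.smul_ι, h.ι_cocycleOfLift, h.ι_cocycleOfLift, smul_mul',
        hbfix σ, map_one, smul_one]
      group
    have hmem : (b * b0)⁻¹ * b0' ∈ ι.range := by
      rw [← h.exact, map_mul, map_inv, hb0', hlift, inv_mul_cancel]
    obtain ⟨d, hd⟩ := hmem
    exact GpH1.Cohomologous.trans key (GpH1.Cohomologous.symm (lift_cohom h (b * b0) b0' _ _ d (by rw [hd]; group)))

end Groth.Agent.S13185
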