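import Groth.Statements.S13189
import Mathlib.FieldTheory.Finite.Polynomial
import Mathlib.FieldTheory.Finite.Basic
import Mathlib.Tactic.LinearCombination
-- import your own Groth.Agent.* helpers here

set_option autoImplicit false
universe u
open CAlg

namespace Groth.Agent.S13189

/-- For a finite field K of cardinality q and n ≥ 0, a polynomial p in n variables over K vanishes at
every point of K^n if and only if p belongs to the ideal generated by the X_i^q − X_i, i = 1, …, n;
in other words that ideal is the kernel of the evaluation homomorphism from K[X_1, …, X_n] to the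
ring of K-valued functions on K^n. -/
theorem result (K : Type u) [Field K] [Fintype K]
    (n : ℕ) (p : MvPolynomial (Fin n) K) :
    (∀ a : Fin n → K, MvPolynomial.eval a p = 0) ↔
      p ∈ Ideal.span (Set.range fun i : Fin n =>
        (MvPolynomial.X i ^ Fintype.card K - MvPolynomial.X i : MvPolynomial (Fin n) K)) := by
  classical
  set q := Fintype.card K with hq
  set J := Ideal.span (Set.range fun i : Fin n =>
    (MvPolynomial.X i ^ q - MvPolynomial.X i : MvPolynomial (Fin n) K)) with hJ
  have hq2 : 2 ≤ q := by
    have := Fintype.one_lt_card (α := K)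
    omega
  have hJev : ∀ a : Fin n → K, ∀ x ∈ J, MvPolynomial.eval a x = 0 := by
    intro a x hx
    have : J ≤ RingHom.ker (MvPolynomial.eval a) := by
      rw [hJ, Ideal.span_le]
      rintro _ ⟨i, rfl⟩
      simp [RingHom.mem_ker, hq, FiniteField.pow_card]
    exact this hx
  let π := Ideal.Quotient.mk J
  have hX : ∀ i, π (MvPolynomial.X i) ^ q = π (MvPolynomial.X i) := by
    intro i
    rw [← map_pow, ← sub_eq_zero, ← map_sub, Ideal.Quotient.eq_zero_iff_mem]
    exact Ideal.subset_span ⟨i, rfl⟩
  let red : ℕ → ℕ := fun k => if k = 0 then 0 else (k - 1) % (q - 1) + 1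
  have hpow : ∀ i k, π (MvPolynomial.X i) ^ k = π (MvPolynomial.X i) ^ red k := by
    intro i k
    induction k using Nat.strong_induction_on with
    | _ k ih =>
      by_cases hk : k = 0
      · simp [red, hk]
      by_cases hkq : k < q
      · have : red k = k := by
          simp only [red, hk, if_false]
          rw [Nat.mod_eq_of_lt (by omega)]; omega
        rw [this]
      · have e1 : π (MvPolynomial.X i) ^ k = π (MvPolynomial.X i) ^ (k - q + 1) := by
          have hk' : k = (k - q) + q := by omega
          calc π (MvPolynomial.X i) ^ k = π (MvPolynomial.X i) ^ ((k - q) + q) := by rw [← hk']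
            _ = π (MvPolynomial.X i) ^ (k - q) * π (MvPolynomial.X i) ^ q := pow_add _ _ _
            _ = π (MvPolynomial.X i) ^ (k - q) * π (MvPolynomial.X i) := by rw [hX]
            _ = π (MvPolynomial.X i) ^ (k - q + 1) := (pow_succ _ _).symm
        rw [e1, ih (k - q + 1) (by omega)]
        congr 1
        simp only [red]
        rw [if_neg (by omega), if_neg hk]
        congr 1
        have h1 : k - q + 1 - 1 = (k - 1) - (q - 1) := by omega
        rw [h1, ← Nat.mod_eq_sub_mod (by omega)]
  have hmono : ∀ (s : Fin n →₀ ℕ) (c : K), ∃ p' ∈ MvPolynomial.restrictDegree (Fin n) K (q - 1),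
      π (MvPolynomial.monomial s c) = π p' := by
    intro s c
    let s' : Fin n →₀ ℕ := Finsupp.mapRange red (by simp [red]) s
    refine ⟨MvPolynomial.monomial s' c, ?_, ?_⟩
    · rw [MvPolynomial.mem_restrictDegree]
      intro t ht i
      have := MvPolynomial.support_monomial_subset ht
      rw [Finset.mem_singleton] at this
      subst this
      simp only [s', Finsupp.mapRange_apply, red]
      split_ifs with h
      · omega
      · have := Nat.mod_lt (s i - 1) (by omega : q - 1 > 0)
        omega
    · rw [MvPolynomial.monomial_eq, MvPolynomial.monomial_eq, map_mul, map_mul]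
      congr 1
      have hsupp : s'.support = s.support := by
        ext i
        simp only [s', Finsupp.mem_support_iff, Finsupp.mapRange_apply, red]
        split_ifs with h <;> simp [h]
      simp only [Finsupp.prod, map_prod, map_pow]
      rw [hsupp]
      refine Finset.prod_congr rfl (fun i _ => ?_)
      simp only [s', Finsupp.mapRange_apply]
      exact hpow i (s i)
  have hred : ∀ x : MvPolynomial (Fin n) K, ∃ p' ∈ MvPolynomial.restrictDegree (Fin n) K (q - 1),
      π x = π p' := by
    intro x
    induction x using MvPolynomial.induction_on' with
    | monomial s c => exact hmono s c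
    | add x y hx hy =>
      obtain ⟨px, hpx, ex⟩ := hx
      obtain ⟨py, hpy, ey⟩ := hy
      exact ⟨px + py, Submodule.add_mem _ hpx hpy, by rw [map_add, map_add, ex, ey]⟩
  constructor
  · intro hp
    obtain ⟨p', hp', e⟩ := hred p
    have hev' : ∀ a : Fin n → K, MvPolynomial.eval a p' = 0 := by
      intro a
      have h1 : p - p' ∈ J := Ideal.Quotient.eq.mp e
      have := hJev a _ h1
      rw [map_sub, hp a] at this
      linear_combination -this
    have hp'0 : p' = 0 := by
      let eU : Fin n → ULift.{u} (Fin n) := ULift.up
      have heU : Function.Injective eU := ULift.up_injective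
      have hr : MvPolynomial.rename eU p' = 0 := by
        apply MvPolynomial.eq_zero_of_eval_eq_zero (ULift.{u} (Fin n)) K
        · intro a
          rw [MvPolynomial.eval_rename]
          exact hev' _
        · rw [MvPolynomial.mem_restrictDegree]
          intro t ht j
          rw [MvPolynomial.support_rename_of_injective heU, Finset.mem_image] at ht
          obtain ⟨s, hs, rfl⟩ := ht
          obtain ⟨i⟩ := j
          change (Finsupp.mapDomain eU s) (eU i) ≤ _
          rw [Finsupp.mapDomain_apply heU]
          exact (MvPolynomial.mem_restrictDegree _ _ _).mp hp' s hs i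
      exact MvPolynomial.rename_injective eU heU (by rw [hr, map_zero])
    rw [hp'0, map_zero, Ideal.Quotient.eq_zero_iff_mem] at e
    exact e
  · intro hp a
    exact hJev a p hp

end Groth.Agent.S13189
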