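import Groth.Statements.S13191
-- import your own Groth.Agent.* helpers here

set_option autoImplicit false
universe u v w x
open GalCoh

namespace Groth.Agent.S13191

/-- Let a group G act by automorphisms on a group A, and let E and E' each be a G-equivariant right
A-torsor (a set with a simply transitive right action of A, written m ↦ m·a, and a left action of G
with g(m·a) = (gm)·(ga)). Let m ∈ E and m' ∈ E' be points with attached maps a, a' : G → A (g·m =
m·a(g) and g·m' = m'·a'(g) for all g). Then there is a bijection E ≃ E' commuting with the actions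
of G and of A if and only if a and a' are cohomologous. (The published statement is for a Galois
group acting on discrete modules; this row takes an arbitrary group acting on a group.) -/
theorem result {G : Type u} {A : Type v} {E : Type w} {E' : Type x}
    [Group G] [Group A] [MulDistribMulAction G A]
    [MulAction G E] [MulAction Aᵐᵒᵖ E]
    (hfree : ∀ m₁ m₂ : E, ∃! a : A, m₂ = MulOpposite.op a • m₁)
    (hcompat : ∀ (g : G) (a : A) (m : E), g • (MulOpposite.op a • m) = MulOpposite.op (g • a) • g • m)
    [MulAction G E'] [MulAction Aᵐᵒᵖ E']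
    (hfree' : ∀ m₁ m₂ : E', ∃! a : A, m₂ = MulOpposite.op a • m₁)
    (hcompat' : ∀ (g : G) (a : A) (m : E'), g • (MulOpposite.op a • m) = MulOpposite.op (g • a) • g • m)
    (m : E) (a : G → A) (ha : ∀ g : G, g • m = MulOpposite.op (a g) • m)
    (m' : E') (a' : G → A) (ha' : ∀ g : G, g • m' = MulOpposite.op (a' g) • m') :
    (∃ f : E ≃ E', (∀ (g : G) (e : E), f (g • e) = g • f e) ∧
        ∀ (b : A) (e : E), f (MulOpposite.op b • e) = MulOpposite.op b • f e) ↔
      GpH1.Cohomologous a a' := by
  constructor
  · rintro ⟨f, hfG, hfA⟩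
    obtain ⟨c, hc, -⟩ := hfree' m' (f m)
    refine ⟨c, fun g => ?_⟩
    obtain ⟨y, -, huniq⟩ := hfree' m' (g • f m)
    have h1 : g • f m = MulOpposite.op (c * a g) • m' := by
      rw [← hfG, ha, hfA, hc, smul_smul, ← MulOpposite.op_mul]
    have h2 : g • f m = MulOpposite.op (a' g * g • c) • m' := by
      rw [hc, hcompat', ha', smul_smul, ← MulOpposite.op_mul]
    have := (huniq _ h1).trans (huniq _ h2).symm
    rw [mul_assoc, ← this]
    group
  · rintro ⟨c, hc⟩
    let x : E → A := fun e => (hfree m e).exists.choose
    have hx : ∀ e, e = MulOpposite.op (x e) • m := fun e => (hfree m e).exists.choose_spec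
    have hxu : ∀ e y, e = MulOpposite.op y • m → y = x e := fun e y hy =>
      (hfree m e).unique hy (hx e)
    let x' : E' → A := fun e => (hfree' m' e).exists.choose
    have hx' : ∀ e, e = MulOpposite.op (x' e) • m' := fun e => (hfree' m' e).exists.choose_spec
    have hxu' : ∀ e y, e = MulOpposite.op y • m' → y = x' e := fun e y hy =>
      (hfree' m' e).unique hy (hx' e)
    have hca : ∀ g, c * a g = a' g * g • c := by
      intro g; rw [hc g]; group
    refine ⟨⟨fun e => MulOpposite.op (c * x e) • m', fun e => MulOpposite.op (c⁻¹ * x' e) • m,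
      fun e => ?_, fun e => ?_⟩, fun g e => ?_, fun b e => ?_⟩
    · simp only
      rw [← hxu' _ (c * x e) rfl, inv_mul_cancel_left, ← hx e]
    · simp only
      rw [← hxu _ (c⁻¹ * x' e) rfl, mul_inv_cancel_left, ← hx' e]
    · simp only [Equiv.coe_fn_mk]
      have h1 : g • e = MulOpposite.op (a g * g • x e) • m := by
        conv_lhs => rw [hx e]
        rw [hcompat, ha, smul_smul, ← MulOpposite.op_mul]
      rw [← hxu _ _ h1, hcompat', ha', smul_smul, ← MulOpposite.op_mul, smul_mul', ← mul_assoc,
        ← mul_assoc, hca]
    · simp only [Equiv.coe_fn_mk]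
      have h1 : MulOpposite.op b • e = MulOpposite.op (x e * b) • m := by
        conv_lhs => rw [hx e]
        rw [smul_smul, ← MulOpposite.op_mul]
      rw [← hxu _ _ h1, smul_smul, ← MulOpposite.op_mul, mul_assoc]

end Groth.Agent.S13191
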