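import Groth.Statements.S13192
-- import your own Groth.Agent.* helpers here

set_option autoImplicit false
universe u v
open GalCoh

namespace Groth.Agent.S13192

/-- Let a group G act by automorphisms on a group A and let a : G → A be a 1-cocycle. Then there exist a
G-equivariant right A-torsor E (a set with a simply transitive right action of A, written m ↦ m·a,
and a left action of G with g(m·a) = (gm)·(ga)) and a point m of E whose attached map is a, i.e. g·m
= m·a(g) for every g in G. (E is taken in the universe of A. The published statement is for a Galois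
group acting on discrete modules; this row takes an arbitrary group acting on a group.) -/
theorem result {G : Type u} {A : Type v}
    [Group G] [Group A] [MulDistribMulAction G A] (a : G → A) (ha : GpH1.IsOneCocycle a) :
    ∃ (E : Type v) (_ : MulAction G E) (_ : MulAction Aᵐᵒᵖ E) (m : E),
      (∀ m₁ m₂ : E, ∃! b : A, m₂ = MulOpposite.op b • m₁) ∧
      (∀ (g : G) (b : A) (e : E), g • (MulOpposite.op b • e) = MulOpposite.op (g • b) • g • e) ∧
      ∀ g : G, g • m = MulOpposite.op (a g) • m := by
  have ha1 : a 1 = 1 := by
    have h := ha 1 1
    rw [one_mul, one_smul] at h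
    have h2 : a 1 * a 1 = a 1 * 1 := by rw [← h, mul_one]
    exact mul_left_cancel h2
  have key1 : ∀ (g : G) (b e : A), a g * g • (e * b) = (a g * g • e) * (g • b) := by
    intro g b e
    rw [smul_mul', mul_assoc]
  have key2 : ∀ g : G, a g * g • (1 : A) = 1 * a g := by
    intro g
    rw [smul_one, mul_one, one_mul]
  let act : MulAction G A :=
    { smul := fun g y => a g * g • y
      one_smul := fun y => by
        show a 1 * (1 : G) • y = y
        rw [ha1, one_smul, one_mul]
      mul_smul := fun g h y => by
        show a (g * h) * (g * h) • y = a g * g • (a h * h • y)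
        rw [ha g h, mul_smul, smul_mul', mul_assoc] }
  let ract : MulAction Aᵐᵒᵖ A :=
    { smul := fun b y => y * b.unop
      one_smul := fun y => by
        show y * (1 : Aᵐᵒᵖ).unop = y
        rw [MulOpposite.unop_one, mul_one]
      mul_smul := fun b c y => by
        show y * (b * c).unop = y * c.unop * b.unop
        rw [MulOpposite.unop_mul, mul_assoc] }
  refine ⟨A, act, ract, 1, ?_, ?_, ?_⟩
  · intro m₁ m₂
    refine ⟨m₁⁻¹ * m₂, ?_, ?_⟩
    · show m₂ = m₁ * (MulOpposite.op (m₁⁻¹ * m₂)).unop
      rw [MulOpposite.unop_op, mul_inv_cancel_left]
    · intro y hy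
      change m₂ = m₁ * (MulOpposite.op y).unop at hy
      rw [hy, MulOpposite.unop_op, inv_mul_cancel_left]
  · intro g b e
    exact key1 g b e
  · intro g
    exact key2 g

end Groth.Agent.S13192
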