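import Groth.Statements.S13441
import Mathlib.RingTheory.Noetherian.Basic
import Mathlib.FieldTheory.Finiteness
-- import your own Groth.Agent.* helpers here

set_option autoImplicit false
universe u
open W4c1hilbpn

namespace Groth.Agent.S13441

open W4c1hilbpn in
theorem finite_line (k : Type u) [Field k]
    (I : Ideal (MvPolynomial (Fin 3) k)) (hI : IsMonomial I) [Module.Finite k (MvPolynomial (Fin 3) k ⧸ I)]
    (F : ℕ → (Fin 3 →₀ ℕ)) (hF : Function.Injective F) :
    Finite {c : ℕ // F c ∉ exps I} := by
  let v : {c : ℕ // F c ∉ exps I} → MvPolynomial (Fin 3) k ⧸ I :=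
    fun c => Ideal.Quotient.mk I (MvPolynomial.monomial (F c.1) (1 : k))
  have hv : LinearIndependent k v := by
    rw [linearIndependent_iff']
    intro s g hg c0 hc0
    by_contra hne
    set P : MvPolynomial (Fin 3) k := ∑ c ∈ s, MvPolynomial.monomial (F c.1) (g c) with hP
    have hPI : P ∈ I := by
      rw [← Ideal.Quotient.eq_zero_iff_mem]
      rw [← hg, hP, map_sum]
      refine Finset.sum_congr rfl (fun c _ => ?_)
      simp only [v]
      have hm : (MvPolynomial.monomial (F c.1) (g c) : MvPolynomial (Fin 3) k) =
          g c • MvPolynomial.monomial (F c.1) 1 := by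
        rw [MvPolynomial.smul_monomial, smul_eq_mul, mul_one]
      rw [hm]
      exact map_smul (Ideal.Quotient.mkₐ k I) (g c) _
    have hcoeff : MvPolynomial.coeff (F c0.1) P = g c0 := by
      rw [hP, MvPolynomial.coeff_sum]
      rw [Finset.sum_eq_single c0]
      · rw [MvPolynomial.coeff_monomial, if_pos rfl]
      · intro c _ hc
        rw [MvPolynomial.coeff_monomial, if_neg]
        intro h
        exact hc (Subtype.ext (hF h))
      · intro h; exact absurd hc0 h
    have hsupp : F c0.1 ∈ P.support := by
      rw [MvPolynomial.mem_support_iff, hcoeff]; exact hne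
    exact c0.2 (hI P hPI _ hsupp)
  exact LinearIndependent.finite_of_isNoetherian hv


/-- Let k be an infinite field, S = k[x,y,z] with variables ordered x > y > z, and I a strongly stable
ideal of finite colength, with staircase numbers b^z_{i,j} = the number of c with x^i y^j z^c
outside I and b^y_{i,j} = the number of b with x^i y^b z^j outside I. Then b^z_{i+1,j} ≤ b^z_{i,j+1}
and b^y_{i+1,j} ≤ b^y_{i,j+1} for all i and j (equivalently the maximum of the two neighbouring
staircase numbers is the second one). -/
theorem result (k : Type u) [Field k] [Infinite k]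
    (I : Ideal (MvPolynomial (Fin 3) k)) (hI : IsStronglyStable I) [Module.Finite k (MvPolynomial (Fin 3) k ⧸ I)] (i j : ℕ) :
    stairZ I (i + 1) j ≤ stairZ I i (j + 1) ∧ stairY I (i + 1) j ≤ stairY I i (j + 1) := by
  have he : ∀ a b c : ℕ, ∀ t : Fin 3, e3 a b c t = ![a, b, c] t := by
    intro a b c t; rfl
  constructor
  · have hfin := finite_line k I hI.1 (fun c => e3 i (j + 1) c) (by
      intro c c' h
      have := congrArg (fun β => β 2) h
      simpa [he] using this)
    unfold stairZ
    refine Nat.card_le_card_of_injective
      (fun c => ⟨c.1, fun h => c.2 ?_⟩) ?_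
    · have := hI.2 _ h 0 1 (by decide) (by rw [he]; simp)
      convert this using 1
      ext t
      fin_cases t <;> simp [he]
    · intro c c' h
      apply Subtype.ext
      have := congrArg Subtype.val h
      simpa using this
  · have hfin := finite_line k I hI.1 (fun b => e3 i b (j + 1)) (by
      intro c c' h
      have := congrArg (fun β => β 1) h
      simpa [he] using this)
    unfold stairY
    refine Nat.card_le_card_of_injective
      (fun c => ⟨c.1, fun h => c.2 ?_⟩) ?_
    · have := hI.2 _ h 0 2 (by decide) (by rw [he]; simp)
      convert this using 1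
      ext t
      fin_cases t <;> simp [he]
    · intro c c' h
      apply Subtype.ext
      have := congrArg Subtype.val h
      simpa using this

end Groth.Agent.S13441
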