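import Groth.Statements.S13607
-- import your own Groth.Agent.* helpers here

set_option autoImplicit false
open CategoryTheory CategoryTheory.Limits Opposite
universe w v u
open ARSys

namespace Groth.Agent.S13607

/-- In an abelian category linear over a commutative ring A with an ideal J, let X be a J-adic
projective system indexed by the natural numbers and Y a projective system whose n-th term is killed
by J^(n+1) for every n. Then for every r, every morphism from the translate X[r] to Y factors
uniquely through the canonical translation map X[r] ⟶ X: there is exactly one morphism g : X ⟶ Y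
whose n-th component, precomposed with the transition map X_(n+r) ⟶ X_n, is the n-th component of
the given morphism. In particular morphisms X ⟶ Y up to translation are the same as morphisms X ⟶ Y.
(The published statement is for systems of finitely generated modules over a Noetherian ring, and
for systems of sheaves of modules on the small etale site; this row states it in any linear abelian
category, which is all the argument uses.) -/
theorem result {C : Type u} [Category.{v} C] [Abelian C] {A : Type w} [CommRing A] [Linear A C]
    (J : Ideal A) (X Y : ARSys.PS C) (hX : ARSys.IsAdic J X) (hY : ARSys.TermKilled J Y) (r : ℕ)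
    (f : (ARSys.shift C r).obj X ⟶ Y) :
    ∃! g : X ⟶ Y, ∀ n : ℕ, f.app (op n) = ARSys.shiftMap X r n ≫ g.app (op n) := by
  -- components of f are killed
  have hfk : ∀ (n : ℕ) {Z : C} (z : Y.obj (op n) ⟶ Z), ARSys.HomKilledBy (J ^ (n + 1)) (f.app (op n) ≫ z) := by
    intro n Z z a ha
    rw [← Linear.smul_comp, ← Category.comp_id (f.app (op n)), ← Linear.comp_smul,
      hY n a ha, Limits.comp_zero, Limits.zero_comp]
  have hq : ∀ n : ℕ, ARSys.IsQuot (J ^ (n + 1)) (ARSys.shiftMap X r n) :=
    fun n => hX.2 n (n + r) (Nat.le_add_right n r)
  have hex : ∀ n : ℕ, ∃! ψ : X.obj (op n) ⟶ Y.obj (op n), ARSys.shiftMap X r n ≫ ψ = f.app (op n) := by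
    intro n
    have := (hq n).2 (Y.obj (op n)) (f.app (op n)) (by
      have := hfk n (𝟙 _)
      rwa [Category.comp_id] at this)
    exact this
  choose g hg hgu using hex
  refine ⟨{ app := fun n => g n.unop, naturality := ?_ }, ?_, ?_⟩
  · rintro ⟨m⟩ ⟨n⟩ φ
    have hnm : n ≤ m := leOfHom φ.unop
    have hφ : φ = (homOfLE hnm).op := Subsingleton.elim _ _
    subst hφ
    simp only
    -- both sides agree after precomposition with shiftMap X r m
    obtain ⟨ψ, -, huniq⟩ := (hq m).2 (Y.obj (op n)) (f.app (op m) ≫ Y.map (homOfLE hnm).op) (hfk m _)
    have e1 : ARSys.shiftMap X r m ≫ (X.map (homOfLE hnm).op ≫ g n) = f.app (op m) ≫ Y.map (homOfLE hnm).op := by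
      rw [← f.naturality, ← hg n, ← Category.assoc, ← Category.assoc]
      congr 1
      simp only [ARSys.shiftMap, ARSys.tr, ARSys.shift, Functor.whiskeringLeft_obj_obj, Functor.comp_map]
      rw [← X.map_comp, ← X.map_comp]
      exact congrArg X.map (Subsingleton.elim _ _)
    have e2 : ARSys.shiftMap X r m ≫ (g m ≫ Y.map (homOfLE hnm).op) = f.app (op m) ≫ Y.map (homOfLE hnm).op := by
      rw [← Category.assoc, hg m]
    exact (huniq _ e1).trans (huniq _ e2).symm
  · intro n
    exact (hg n).symm
  · intro g' hg'
    ext ⟨n⟩
    exact hgu n _ (hg' n).symm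

end Groth.Agent.S13607
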