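import Groth.Statements.S13609
-- import your own Groth.Agent.* helpers here

set_option autoImplicit false
universe u v
open CAlg

namespace Groth.Agent.S13609

/-- A direct summand of a module that is complete and separated for the I-adic topology is again
complete and separated: for a commutative ring A, an ideal I and A-modules M₁, M₂, if M₁ × M₂ is
I-adically complete then so is M₁. -/
theorem result (A : Type u) [CommRing A] (I : Ideal A)
    (M₁ M₂ : Type v) [AddCommGroup M₁] [Module A M₁] [AddCommGroup M₂] [Module A M₂]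
    [IsAdicComplete I (M₁ × M₂)] : IsAdicComplete I M₁ := by
  have hinl : ∀ (n : ℕ) {x y : M₁}, x ≡ y [SMOD (I ^ n • ⊤ : Submodule A M₁)] →
      LinearMap.inl A M₁ M₂ x ≡ LinearMap.inl A M₁ M₂ y [SMOD (I ^ n • ⊤ : Submodule A (M₁ × M₂))] := by
    intro n x y h
    have := h.map (LinearMap.inl A M₁ M₂)
    refine SModEq.mono ?_ this
    rw [Submodule.map_smul'']
    exact Submodule.smul_mono le_rfl le_top
  have hfst : ∀ (n : ℕ) {x y : M₁ × M₂}, x ≡ y [SMOD (I ^ n • ⊤ : Submodule A (M₁ × M₂))] →
      LinearMap.fst A M₁ M₂ x ≡ LinearMap.fst A M₁ M₂ y [SMOD (I ^ n • ⊤ : Submodule A M₁)] := by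
    intro n x y h
    have := h.map (LinearMap.fst A M₁ M₂)
    refine SModEq.mono ?_ this
    rw [Submodule.map_smul'']
    exact Submodule.smul_mono le_rfl le_top
  have H1 : IsHausdorff I M₁ := by
    refine ⟨fun x hx => ?_⟩
    have h0 : LinearMap.inl A M₁ M₂ x = 0 :=
      IsHausdorff.haus' (I := I) _ (fun n => by
        have := hinl n (hx n)
        rwa [map_zero] at this)
    simpa using congrArg Prod.fst h0
  have H2 : IsPrecomplete I M₁ := by
    refine ⟨fun f hf => ?_⟩
    obtain ⟨L, hL⟩ := IsPrecomplete.prec' (I := I) (fun n => LinearMap.inl A M₁ M₂ (f n))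
      (fun hmn => hinl _ (hf hmn))
    exact ⟨L.1, fun n => by simpa using hfst n (hL n)⟩
  exact { toIsHausdorff := H1, toIsPrecomplete := H2 }

end Groth.Agent.S13609
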