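import Groth.Statements.S13708
-- import your own Groth.Agent.* helpers here

set_option autoImplicit false
universe u
open CategoryTheory CategoryTheory.Limits AlgebraicGeometry
open ZeroCyc

namespace Groth.Agent.S13708

/-- Let X be a scheme over S such that every finite set of points of X over a common point of S lies in
some affine open subscheme of X (the condition (AF)). Then X is separated over S. (The published
condition (AF) asks for an open U with U → S quasi-affine rather than U affine; with U affine, as
here, the same argument applies verbatim, and the two conditions agree over a quasi-separated base.) -/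
theorem result {X S : Scheme.{u}} (f : X ⟶ S) (hX : SymProd.IsAF f) :
    IsSeparated f := by
  classical
  constructor
  let ι := {V : X.Opens // IsAffineOpen V}
  let g : ∀ V : ι, pullback (V.1.ι ≫ f) (V.1.ι ≫ f) ⟶ pullback f f := fun V =>
    pullback.map _ _ _ _ V.1.ι V.1.ι (𝟙 S) (by simp) (by simp)
  refine IsZariskiLocalAtTarget.of_iSup_eq_top (P := @IsClosedImmersion)
    (fun V : ι => (g V).opensRange) ?_ ?_
  · rw [eq_top_iff]
    rintro z -
    obtain ⟨V, hV, hzV⟩ := hX (f (pullback.fst f f z)) {pullback.fst f f z, pullback.snd f f z} (by
      intro x hx
      simp only [Finset.mem_insert, Finset.mem_singleton] at hx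
      rcases hx with rfl | rfl
      · rfl
      · rw [← Scheme.Hom.comp_apply, ← Scheme.Hom.comp_apply, pullback.condition])
    simp only [TopologicalSpace.Opens.mem_iSup]
    refine ⟨⟨V, hV⟩, ?_⟩
    change z ∈ Set.range (g ⟨V, hV⟩)
    simp only [g]
    rw [Scheme.Pullback.range_map]
    refine ⟨?_, ?_⟩
    · simp only [Set.mem_preimage, Scheme.Opens.range_ι]
      exact hzV _ (by simp)
    · simp only [Set.mem_preimage, Scheme.Opens.range_ι]
      exact hzV _ (by simp)
  · intro V
    rw [MorphismProperty.arrow_mk_iso_iff (P := @IsClosedImmersion)
      (morphismRestrictOpensRange _ _)]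
    have : IsAffine V.1.toScheme := V.2
    have e : pullback.snd (pullback.diagonal f) (g V) =
        (pullbackDiagonalMapIdIso V.1.ι V.1.ι f).hom ≫ inv (pullback.diagonal V.1.ι) ≫
          pullback.diagonal (V.1.ι ≫ f) := by
      rw [pullback.diagonal_comp]
      simp [g]
    rw [e]
    infer_instance

end Groth.Agent.S13708
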