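import Groth.Statements.S13709
import Mathlib.AlgebraicGeometry.Morphisms.UniversallyOpen
import Mathlib.AlgebraicGeometry.PullbackCarrier
import Mathlib.Topology.Homeomorph.Lemmas
-- import your own Groth.Agent.* helpers here

set_option autoImplicit false
universe u
open CategoryTheory CategoryTheory.Limits AlgebraicGeometry
open ZeroCyc

namespace Groth.Agent.S13709

/-- Let f : X → Y be a quasi-compact morphism of schemes and g : Y' → Y a faithfully flat morphism, i.e.
flat and surjective, with no quasi-compactness assumption on g. If the base change X ×_Y Y' → Y' of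
f along g is a homeomorphism on underlying spaces, then so is f. -/
theorem result {X Y Y' : Scheme.{u}} (f : X ⟶ Y) (g : Y' ⟶ Y)
    [Flat g] [Surjective g] [QuasiCompact f] (h : IsHomeomorph (pullback.snd f g).base) :
    IsHomeomorph f.base := by
  rw [isHomeomorph_iff_continuous_isClosedMap_bijective]
  refine ⟨f.continuous, ?_, ?_, ?_⟩
  · rw [isClosedMap_iff_specializingMap]
    intro x y hxy
    obtain ⟨y', rfl⟩ := g.surjective y
    obtain ⟨y'', hy'', hgy''⟩ := Flat.generalizingMap g hxy
    obtain ⟨p, hp1, hp2⟩ := Scheme.Pullback.exists_preimage_pullback x y'' hgy''.symm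
    let e := IsHomeomorph.homeomorph _ h
    have hpe : e.symm y'' = p := by
      rw [Homeomorph.symm_apply_eq]
      exact hp2.symm
    have hsp : p ⤳ e.symm y' := by
      rw [← hpe]
      exact hy''.map e.symm.continuous
    refine ⟨pullback.fst f g (e.symm y'), ?_, ?_⟩
    · rw [← hp1]
      exact hsp.map (pullback.fst f g).continuous
    · rw [← Scheme.Hom.comp_apply, pullback.condition, Scheme.Hom.comp_apply]
      congr 1
      exact e.apply_symm_apply y'
  · intro x1 x2 hx
    obtain ⟨y', hy'⟩ := g.surjective (f x1)
    obtain ⟨p1, hp1, hq1⟩ := Scheme.Pullback.exists_preimage_pullback x1 y' hy'.symm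
    obtain ⟨p2, hp2, hq2⟩ := Scheme.Pullback.exists_preimage_pullback x2 y' (hx ▸ hy'.symm)
    have : p1 = p2 := h.bijective.1 (hq1.trans hq2.symm)
    rw [← hp1, ← hp2, this]
  · intro y
    obtain ⟨y', rfl⟩ := g.surjective y
    obtain ⟨p, rfl⟩ := h.bijective.2 y'
    exact ⟨pullback.fst f g p, by
      rw [← Scheme.Hom.comp_apply, pullback.condition, Scheme.Hom.comp_apply]⟩

end Groth.Agent.S13709
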