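import Groth.Statements.S13725
import Mathlib.Algebra.CharP.Frobenius
import Mathlib.Algebra.CharP.Algebra
-- import your own Groth.Agent.* helpers here

set_option autoImplicit false
universe u
open scoped TensorProduct
open ZeroCyc

namespace Groth.Agent.S13725

/-- Let k be a field of characteristic p > 0 and let F : k → k be the law x ↦ x^p, multiplicative and
homogeneous of degree p over k. The kernel of F is the zero ideal, but after the flat base change k
→ A' = k[X]/(X^p) the kernel of the base-changed law on A' ⊗_k k is not zero (the class of X lies in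
it). So in characteristic p, forming the kernel of a multiplicative law is not compatible with flat
base change. -/
theorem result {k : Type u} [Field k] (p : ℕ) [Fact p.Prime] [CharP k p] :
    PolLaw.ker (PolLaw.MulLaw.pow k k p).law = ⊥ ∧
      PolLaw.kerBC (PolLaw.MulLaw.pow k k p).law (AdjoinRoot ((Polynomial.X : Polynomial k) ^ p)) ≠ ⊥ := by
  have hp : p.Prime := Fact.out
  constructor
  · rw [eq_bot_iff]
    intro b hb
    rw [Ideal.mem_bot]
    have h := hb k 0 1
    change ((0 : k ⊗[k] k) + (1 : k ⊗[k] k) * ((1 : k) ⊗ₜ[k] b)) ^ p = (0 : k ⊗[k] k) ^ p at h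
    rw [zero_add, one_mul, zero_pow hp.ne_zero, Algebra.TensorProduct.tmul_pow, one_pow] at h
    have h2 := congrArg (Algebra.TensorProduct.lid k k) h
    rw [Algebra.TensorProduct.lid_tmul, map_zero, one_smul] at h2
    exact (pow_eq_zero_iff hp.ne_zero).mp h2
  · set f : Polynomial k := (Polynomial.X : Polynomial k) ^ p with hf
    have hroot : (AdjoinRoot.root f) ^ p = 0 := by
      rw [← AdjoinRoot.mk_X, ← map_pow, ← hf, AdjoinRoot.mk_self]
    have hne : AdjoinRoot.root f ≠ 0 := by
      rw [← AdjoinRoot.mk_X, Ne, AdjoinRoot.mk_eq_zero, hf, Polynomial.X_pow_dvd_iff]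
      intro h
      have := h 1 hp.one_lt
      simp at this
    have hmem : (AdjoinRoot.root f) ⊗ₜ[k] (1 : k) ∈
        PolLaw.kerBC (PolLaw.MulLaw.pow k k p).law (AdjoinRoot f) := by
      intro R _ _ _ _ x w
      change (x + w * Algebra.TensorProduct.map (IsScalarTower.toAlgHom k (AdjoinRoot f) R)
        (AlgHom.id k k) ((AdjoinRoot.root f) ⊗ₜ[k] (1 : k))) ^ p = x ^ p
      have hy : (w * Algebra.TensorProduct.map (IsScalarTower.toAlgHom k (AdjoinRoot f) R)
          (AlgHom.id k k) ((AdjoinRoot.root f) ⊗ₜ[k] (1 : k))) ^ p = 0 := by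
        rw [mul_pow, ← map_pow, Algebra.TensorProduct.tmul_pow, hroot, one_pow,
          TensorProduct.zero_tmul, map_zero, mul_zero]
      rcases subsingleton_or_nontrivial (R ⊗[k] k) with hs | hs
      · exact Subsingleton.elim _ _
      · have : CharP (R ⊗[k] k) p :=
          charP_of_injective_algebraMap (algebraMap k (R ⊗[k] k)).injective p
        rw [add_pow_char, hy, add_zero]
    intro h
    have h' := hmem
    rw [h, Ideal.mem_bot] at h'
    have h2 := congrArg (Algebra.TensorProduct.rid k k (AdjoinRoot f)) h'
    rw [Algebra.TensorProduct.rid_tmul, map_zero, one_smul] at h2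
    exact hne h2

end Groth.Agent.S13725
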