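import Groth.Statements.S13926
import Mathlib
-- import your own Groth.Agent.* helpers here

set_option autoImplicit false
universe u v w
open W4c1limliniiii

namespace Groth.Agent.S13926

theorem helper21_inter {k E : Type*} [Field k] [AddCommGroup E] [Module k E] [FiniteDimensional k E]
    (W U : Submodule k E) (hWU : W ≤ U) : ∀ m : ℕ, Module.finrank k W + m ≤ Module.finrank k U →
    ∃ V : Submodule k E, W ≤ V ∧ V ≤ U ∧ Module.finrank k V = Module.finrank k W + m := by
  intro m
  induction m with
  | zero => intro _; exact ⟨W, le_rfl, hWU, rfl⟩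
  | succ m ih =>
    intro hm
    obtain ⟨V, hWV, hVU, hV⟩ := ih (by omega)
    have hlt : V < U := by
      refine lt_of_le_of_ne hVU ?_
      intro h; rw [h] at hV; omega
    obtain ⟨u, huU, huV⟩ := SetLike.exists_of_lt hlt
    refine ⟨V ⊔ Submodule.span k {u}, le_sup_of_le_left hWV, sup_le hVU ?_, ?_⟩
    · rw [Submodule.span_le, Set.singleton_subset_iff]; exact huU
    · rw [Submodule.finrank_sup_span_singleton huV, hV]; omega

/-- Let k be a field, E₁ and E₂ finite-dimensional vector spaces over k of the same dimension, f : E₁ →
E₂ and g : E₂ → E₁ linear maps whose composite g ∘ f is multiplication by a scalar s, and V₁ a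
subspace of E₁. Then there is a subspace V₂ of E₂ of the same dimension as V₁ with f(V₁) ≤ V₂ and
g(V₂) ≤ V₁. (The published statement is the surjectivity of the truncation morphisms of a linked
Grassmannian, with a further assertion on lifting families; this row is the lifting step over a
field — over a point the chain of linked subspaces V_1, …, V_{n'} extends one index at a time — and
assumes only g ∘ f = s.) -/
theorem result (k : Type u) [Field k]
    (E₁ : Type v) (E₂ : Type w) [AddCommGroup E₁] [Module k E₁] [FiniteDimensional k E₁]
    [AddCommGroup E₂] [Module k E₂] [FiniteDimensional k E₂]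
    (hdim : Module.finrank k E₁ = Module.finrank k E₂)
    (f : E₁ →ₗ[k] E₂) (g : E₂ →ₗ[k] E₁) (s : k) (hgf : g.comp f = s • LinearMap.id)
    (V₁ : Submodule k E₁) :
    ∃ V₂ : Submodule k E₂, Module.finrank k V₂ = Module.finrank k V₁ ∧
      Submodule.map f V₁ ≤ V₂ ∧ Submodule.map g V₂ ≤ V₁ := by
  have h1 : Submodule.map f V₁ ≤ Submodule.comap g V₁ := by
    rintro _ ⟨v, hv, rfl⟩
    simp only [Submodule.mem_comap]
    have : g (f v) = s • v := by
      have := congrArg (fun φ => φ v) hgf
      simpa using this
    rw [this]; exact V₁.smul_mem s hv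
  have h2 : Module.finrank k (Submodule.map f V₁) ≤ Module.finrank k V₁ :=
    Submodule.finrank_map_le f V₁
  have h3 : Module.finrank k V₁ ≤ Module.finrank k (Submodule.comap g V₁) := by
    let h := V₁.mkQ ∘ₗ g
    have hker : LinearMap.ker h = Submodule.comap g V₁ := by
      simp [h, LinearMap.ker_comp, Submodule.ker_mkQ]
    have r1 := LinearMap.finrank_range_add_finrank_ker h
    have r2 := Submodule.finrank_le (LinearMap.range h)
    have r3 := Submodule.finrank_quotient_add_finrank V₁
    rw [hker] at r1
    omega
  obtain ⟨V₂, hW, hU, hV⟩ := helper21_inter _ _ h1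
    (Module.finrank k V₁ - Module.finrank k (Submodule.map f V₁)) (by omega)
  refine ⟨V₂, by rw [hV]; omega, hW, ?_⟩
  rw [Submodule.map_le_iff_le_comap]; exact hU

end Groth.Agent.S13926
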