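import Groth.Statements.S14020
import Mathlib
-- import your own Groth.Agent.* helpers here

set_option autoImplicit false
universe u
open CAlg

namespace Groth.Agent.S14020

/-- Let R be a commutative ring and I a finitely generated ideal such that the quotient ring R/I is
artinian. Then R/I^n is artinian for every n. -/
theorem result
    (R : Type u) [CommRing R] (I : Ideal R) (hI : I.FG) [IsArtinianRing (R ⧸ I)] (n : ℕ) :
    IsArtinianRing (R ⧸ I ^ n) := by
  have hRI : IsArtinian R (R ⧸ I) :=
    isArtinian_of_surjective_algebraMap (R := R ⧸ I) (S := R) Ideal.Quotient.mk_surjective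
  have key : ∀ m : ℕ, IsArtinian R (R ⧸ I ^ m) := by
    intro m
    induction m with
    | zero =>
      have : Subsingleton (R ⧸ I ^ 0) := by
        rw [pow_zero, Ideal.one_eq_top]
        exact Ideal.Quotient.subsingleton_iff.mpr rfl
      have : Finite (R ⧸ I ^ 0) := Finite.of_subsingleton
      exact isArtinian_of_finite
    | succ m ih =>
      have hle : I ^ (m + 1) ≤ I ^ m := Ideal.pow_le_pow_right (Nat.le_succ m)
      let g : (R ⧸ I ^ (m + 1)) →ₗ[R] (R ⧸ I ^ m) := (Ideal.Quotient.factorₐ R hle).toLinearMap
      have hg : ∀ r : R, g (Ideal.Quotient.mk _ r) = Ideal.Quotient.mk _ r := fun r => rfl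
      let K := LinearMap.ker g
      have hKmem : ∀ r : R, Ideal.Quotient.mk (I ^ (m + 1)) r ∈ K ↔ r ∈ I ^ m := by
        intro r
        rw [LinearMap.mem_ker, hg, Ideal.Quotient.eq_zero_iff_mem]
      have htors : Module.IsTorsionBySet R K (I : Set R) := by
        intro z a
        obtain ⟨z, hz⟩ := z
        obtain ⟨r, rfl⟩ := Ideal.Quotient.mk_surjective z
        rw [hKmem] at hz
        apply Subtype.ext
        simp only [Submodule.coe_smul, Submodule.coe_zero]
        rw [Algebra.smul_def, Ideal.Quotient.algebraMap_eq, ← map_mul, Ideal.Quotient.eq_zero_iff_mem,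
          pow_succ']
        exact Ideal.mul_mem_mul a.2 hz
      have hfinR : Module.Finite R K := by
        let φ : ↥(I ^ m) →ₗ[R] K := LinearMap.codRestrict K
          ((Ideal.Quotient.mkₐ R (I ^ (m + 1))).toLinearMap ∘ₗ (I ^ m).subtype)
          (fun x => (hKmem x.1).mpr x.2)
        have hφ : Function.Surjective φ := by
          rintro ⟨z, hz⟩
          obtain ⟨r, rfl⟩ := Ideal.Quotient.mk_surjective z
          exact ⟨⟨r, (hKmem r).mp hz⟩, rfl⟩
        have : Module.Finite R ↥(I ^ m) := Module.Finite.iff_fg.mpr (hI.pow)
        exact Module.Finite.of_surjective φ hφ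
      letI := htors.module
      have : Module.Finite (R ⧸ I) K := Module.Finite.of_restrictScalars_finite R (R ⧸ I) K
      have : IsArtinian (R ⧸ I) K := isArtinian_of_fg_of_artinian'
      have hK : IsArtinian R K :=
        isArtinian_of_surjective_algebraMap (R := R ⧸ I) (S := R) Ideal.Quotient.mk_surjective
      exact isArtinian_of_range_eq_ker K.subtype g (Submodule.range_subtype K)
  have := key n
  exact isArtinian_of_tower R this

end Groth.Agent.S14020
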