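import Groth.Statements.S14039
import Mathlib
-- import your own Groth.Agent.* helpers here

set_option autoImplicit false
open W4c1frobunstiva

namespace Groth.Agent.S14039

open PowerSeries in
theorem helper21_count (p n s : ℕ) :
    ((((Fintype.piFinset fun _ : Fin n => Finset.Ico 1 p).filter
        (fun e : Fin n → ℕ => ∑ i, e i = s)).card : ℕ) : ℤ) =
      coeff s ((∑ a ∈ Finset.Ico 1 p, (X : ℤ⟦X⟧) ^ a) ^ n) := by
  rw [← Fin.prod_const, Finset.prod_univ_sum]
  simp_rw [Finset.prod_pow_eq_pow_sum]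
  rw [map_sum]
  simp_rw [coeff_X_pow]
  rw [Finset.sum_boole]
  congr 2
  ext e
  simp [eq_comm]

theorem helper21_card (p n s : ℕ) :
    Fintype.card {e : Fin n → Fin p // (∀ i, 1 ≤ (e i : ℕ)) ∧ ∑ i, (e i : ℕ) = s} =
      ((Fintype.piFinset fun _ : Fin n => Finset.Ico 1 p).filter
        (fun e : Fin n → ℕ => ∑ i, e i = s)).card := by
  classical
  rw [Fintype.card_subtype]
  apply Finset.card_bij (fun e _ => fun j => (e j : ℕ))
  · intro e he
    simp only [Finset.mem_filter, Finset.mem_univ, true_and] at he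
    simp only [Finset.mem_filter, Fintype.mem_piFinset, Finset.mem_Ico]
    exact ⟨fun j => ⟨he.1 j, (e j).2⟩, he.2⟩
  · intro a _ b _ hab
    funext j
    exact Fin.ext (congrFun hab j)
  · intro b hb
    simp only [Finset.mem_filter, Fintype.mem_piFinset, Finset.mem_Ico] at hb
    refine ⟨fun j => ⟨b j, (hb.1 j).2⟩, ?_, rfl⟩
    simp only [Finset.mem_filter, Finset.mem_univ, true_and]
    exact ⟨fun j => (hb.1 j).1, hb.2⟩

open PowerSeries in
theorem helper21_gf (q d s : ℕ) :
    coeff s ((∑ a ∈ Finset.Ico 1 (q+1), (X : ℤ⟦X⟧) ^ a) ^ (d+1)) =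
      ∑ i ∈ Finset.range (d + 1 + 1), (-1 : ℤ) ^ i * ((d+1).choose i : ℤ) *
        (if i * q + (d+1) ≤ s then (((s - i * q - 1).choose d : ℕ) : ℤ) else 0) := by
  set F : ℤ⟦X⟧ := ∑ a ∈ Finset.Ico 1 (q+1), (X : ℤ⟦X⟧) ^ a with hF
  set H : ℤ⟦X⟧ := mk fun m => ((Nat.choose (d + m) d : ℕ) : ℤ) with hH
  have hF1 : (1 - X) * F = X * (1 - X ^ q) := by
    rw [hF, Finset.sum_Ico_eq_sum_range, show q + 1 - 1 = q by omega]
    have : ∑ k ∈ Finset.range q, (X : ℤ⟦X⟧) ^ (1 + k) = X * ∑ k ∈ Finset.range q, X ^ k := by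
      rw [Finset.mul_sum]; apply Finset.sum_congr rfl; intro k _; rw [pow_add, pow_one]
    rw [this, mul_left_comm, mul_neg_geom_sum]
  have hHinv : H * (1 - X) ^ (d + 1) = 1 := by
    rw [hH]; exact mk_add_choose_mul_one_sub_pow_eq_one ℤ d
  have hFn : F ^ (d+1) = X ^ (d+1) * ((1 - X ^ q) ^ (d+1) * H) := by
    calc F ^ (d+1) = F ^ (d+1) * (H * (1 - X) ^ (d+1)) := by rw [hHinv, mul_one]
      _ = ((1 - X) * F) ^ (d+1) * H := by rw [mul_pow]; ring
      _ = _ := by rw [hF1, mul_pow]; ring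
  have hexp : (1 - (X : ℤ⟦X⟧) ^ q) ^ (d+1) = ∑ i ∈ Finset.range (d + 1 + 1),
      C ((-1 : ℤ) ^ i * ((d+1).choose i : ℤ)) * X ^ (i * q) := by
    rw [show (1 - (X : ℤ⟦X⟧) ^ q) = (-(X ^ q) + 1) by ring, add_pow]
    apply Finset.sum_congr rfl
    intro i _
    rw [one_pow, mul_one, neg_pow, map_mul, map_pow, map_neg, map_one, ← pow_mul, mul_comm q i,
      map_natCast]
    ring
  rw [hFn, coeff_X_pow_mul', hexp, Finset.sum_mul]
  split_ifs with hs
  · rw [map_sum]
    apply Finset.sum_congr rfl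
    intro i _
    rw [mul_assoc, coeff_C_mul, coeff_X_pow_mul', hH, coeff_mk]
    split_ifs with h1 h2 h2
    · congr 3; omega
    · omega
    · omega
    · rfl
  · symm
    apply Finset.sum_eq_zero
    intro i _
    rw [if_neg (by omega), mul_zero]

/-- For natural numbers p, n ≥ 1 and s, the number of monomials of degree s in n variables in which
every variable occurs with a positive exponent strictly less than p — that is, of exponent vectors
(e_1, …, e_n) with sum s and 1 ≤ e_i ≤ p − 1 — equals the inclusion–exclusion sum over i from 0 to n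
of (−1)^i · C(n, i) · C(s − i(p − 1) − 1, n − 1), the last factor counting monomials of degree s −
i(p − 1) − n in n variables and read as 0 when s < i(p − 1) + n. (A companion count, by how many
exponents lie below p/2, and a remark on polynomiality in s and p are not part of this row.) -/
theorem result (p n s : ℕ)
    (hn : 1 ≤ n) :
    (Fintype.card {e : Fin n → Fin p // (∀ i, 1 ≤ (e i : ℕ)) ∧ ∑ i, (e i : ℕ) = s} : ℤ) =
      ∑ i ∈ Finset.range (n + 1),
        (-1 : ℤ) ^ i * (n.choose i : ℤ) *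
          (if i * (p - 1) + n ≤ s then (((s - i * (p - 1) - 1).choose (n - 1) : ℕ) : ℤ) else 0) := by
  rw [helper21_card, helper21_count]
  obtain ⟨d, rfl⟩ : ∃ d, n = d + 1 := ⟨n - 1, by omega⟩
  rw [Nat.add_sub_cancel]
  rcases Nat.eq_zero_or_pos p with hp | hp
  · subst hp
    have h := helper21_gf 0 d s
    have e1 : Finset.Ico 1 (0+1) = (∅ : Finset ℕ) := by simp
    have e2 : Finset.Ico 1 0 = (∅ : Finset ℕ) := by simp
    rw [e1] at h
    rw [e2, h]
  · obtain ⟨q, rfl⟩ : ∃ q, p = q + 1 := ⟨p - 1, by omega⟩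
    rw [Nat.add_sub_cancel]
    exact helper21_gf q d s

end Groth.Agent.S14039
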