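import Groth.Statements.S14051
import Mathlib
-- import your own Groth.Agent.* helpers here

set_option autoImplicit false
universe u
open CAlg

namespace Groth.Agent.S14051

/-- Let A be a commutative ℕ-graded algebra over a base ring R which is generated by A_1 as an
A_0-algebra, written as A_{n+1} = A_1 · A_n for every n, and let M be a graded A-module: an A-module
with R-submodules M_n giving a direct-sum decomposition and A_i · M_j ⊆ M_{i+j}. If M is spanned
over A by a set of homogeneous elements all of degree at most n₀, then for every n ≥ n₀ and every k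
≥ 0 the degree-(n+k) part of M is A_k · M_n. -/
theorem result
    (R : Type u) [CommRing R] (A : Type u) [CommRing A] [Algebra R A]
    (𝒜 : ℕ → Submodule R A) [GradedAlgebra 𝒜]
    (hA : ∀ n : ℕ, 𝒜 (n + 1) = 𝒜 1 * 𝒜 n)
    (M : Type u) [AddCommGroup M] [Module R M] [Module A M] [IsScalarTower R A M]
    (ℳ : ℕ → Submodule R M) [DirectSum.Decomposition ℳ] [SetLike.GradedSMul 𝒜 ℳ]
    (s : Set M) (n₀ : ℕ) (hs : ∀ y ∈ s, ∃ d : ℕ, d ≤ n₀ ∧ y ∈ ℳ d)
    (hspan : Submodule.span A s = ⊤)
    (n k : ℕ) (hn : n₀ ≤ n) :
    ℳ (n + k) = 𝒜 k • ℳ n := by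
  classical
  have hπadd : ∀ (i : ℕ) (x y : M), (DirectSum.decompose ℳ (x + y) i : M)
      = (DirectSum.decompose ℳ x i : M) + (DirectSum.decompose ℳ y i : M) := by
    intro i x y; rw [DirectSum.decompose_add, DirectSum.add_apply, Submodule.coe_add]
  have hπzero : ∀ i : ℕ, (DirectSum.decompose ℳ (0:M) i : M) = 0 := by
    intro i; rw [DirectSum.decompose_zero, DirectSum.zero_apply, Submodule.coe_zero]
  -- multiplicativity of the grading
  have hmul : ∀ p q : ℕ, 𝒜 (p + q) = 𝒜 p * 𝒜 q := by
    intro p
    induction p with
    | zero =>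
      intro q
      apply le_antisymm
      · intro x hx
        have : (1 : A) * x ∈ 𝒜 0 * 𝒜 (0 + q) := Submodule.mul_mem_mul SetLike.GradedOne.one_mem hx
        simpa using this
      · rw [Submodule.mul_le]
        intro a ha b hb
        have := SetLike.GradedMul.mul_mem ha hb
        simpa using this
    | succ p ih =>
      intro q
      rw [show p + 1 + q = (p + q) + 1 by omega, hA (p + q), ih, hA p, mul_assoc]
  -- component of a smul of a homogeneous element
  have hcomp : ∀ (d e : ℕ), d ≤ e → ∀ y : M, y ∈ ℳ d → ∀ c : A,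
      (DirectSum.decompose ℳ (c • y) e : M) = (DirectSum.decompose 𝒜 c (e - d) : A) • y := by
    intro d e hde y hy c
    induction c using DirectSum.Decomposition.inductionOn 𝒜 with
    | zero => rw [zero_smul, hπzero, DirectSum.decompose_zero, DirectSum.zero_apply,
        Submodule.coe_zero, zero_smul]
    | @homogeneous p c =>
      have hcy : (c : A) • y ∈ ℳ (p + d) := SetLike.GradedSMul.smul_mem c.2 hy
      by_cases hp : p + d = e
      · rw [hp] at hcy
        rw [DirectSum.decompose_of_mem_same ℳ hcy, show e - d = p by omega,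
          DirectSum.decompose_of_mem_same 𝒜 c.2]
      · rw [DirectSum.decompose_of_mem_ne ℳ hcy hp,
          DirectSum.decompose_of_mem_ne 𝒜 c.2 (show p ≠ e - d by omega), zero_smul]
    | add c c' h1 h2 =>
      rw [add_smul, hπadd, h1, h2, DirectSum.decompose_add, DirectSum.add_apply,
        Submodule.coe_add, add_smul]
  apply le_antisymm
  · intro x hx
    have hxs : x ∈ Submodule.span A s := by rw [hspan]; trivial
    obtain ⟨N, f, g, hfg⟩ := Submodule.mem_span_set'.mp hxs
    rw [← DirectSum.decompose_of_mem_same ℳ hx, ← hfg]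
    apply Finset.sum_induction _ (fun y : M => (DirectSum.decompose ℳ y (n + k) : M) ∈ 𝒜 k • ℳ n)
    · intro y y' h1 h2; rw [hπadd]; exact Submodule.add_mem _ h1 h2
    · rw [hπzero]; exact Submodule.zero_mem _
    · intro i _
      obtain ⟨d, hd, hyd⟩ := hs (g i) (g i).2
      rw [hcomp d (n + k) (by omega) _ hyd]
      have hmem : (DirectSum.decompose 𝒜 (f i) (n + k - d) : A) ∈ 𝒜 k * 𝒜 (n - d) := by
        rw [← hmul, show k + (n - d) = n + k - d by omega]
        exact SetLike.coe_mem _
      refine Submodule.mul_induction_on hmem ?_ ?_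
      · intro a ha b hb
        rw [mul_smul]
        apply Submodule.smul_mem_smul ha
        have := SetLike.GradedSMul.smul_mem hb hyd
        simpa [show n - d + d = n by omega] using this
      · intro a b h1 h2
        rw [add_smul]; exact Submodule.add_mem _ h1 h2
  · rw [Submodule.smul_le]
    intro r hr m hm
    have := SetLike.GradedSMul.smul_mem hr hm
    simpa [add_comm] using this

end Groth.Agent.S14051
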