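import Groth.Statements.S14358
import Mathlib
-- import your own Groth.Agent.* helpers here

set_option autoImplicit false
universe u
open CAlg

namespace Groth.Agent.S14358

/-- Let A be a Noetherian integral domain with fraction field K and let r ∈ K. Then r belongs to A if
and only if, for every nonzero g ∈ A and every associated prime p of the A-module A/(g), the element
r belongs to the local ring A_p inside K, i.e. s r = a in K for some a ∈ A and some s ∈ A outside p. -/
theorem result (A K : Type u)
    [CommRing A] [IsDomain A] [IsNoetherianRing A] [Field K] [Algebra A K] [IsFractionRing A K]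
    (r : K) :
    r ∈ Set.range (algebraMap A K) ↔
      ∀ g : A, g ≠ 0 → ∀ p ∈ associatedPrimes A (A ⧸ Ideal.span {g}),
        ∃ a s : A, s ∉ p ∧ algebraMap A K s * r = algebraMap A K a := by
  constructor
  · rintro ⟨a, rfl⟩ g _ p hp
    refine ⟨a, 1, ?_, by simp⟩
    intro h1
    exact (hp.isPrime.ne_top) ((Ideal.eq_top_iff_one _).mpr h1)
  · intro H
    obtain ⟨a, b, hb, rfl⟩ := IsFractionRing.div_surjective (A := A) r
    have hb0 : b ≠ 0 := nonZeroDivisors.ne_zero hb
    have hbK : algebraMap A K b ≠ 0 := IsFractionRing.to_map_ne_zero_of_mem_nonZeroDivisors hb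
    by_cases hab : a ∈ Ideal.span {b}
    · obtain ⟨c, rfl⟩ := Ideal.mem_span_singleton'.mp hab
      refine ⟨c, ?_⟩
      rw [map_mul, mul_div_assoc, div_self hbK, mul_one]
    · exfalso
      have hne : (Ideal.Quotient.mk (Ideal.span {b}) a) ≠ 0 := by
        rwa [Ne, Ideal.Quotient.eq_zero_iff_mem]
      obtain ⟨P, hP, hle⟩ := exists_le_isAssociatedPrime_of_isNoetherianRing A _ hne
      obtain ⟨a', s, hs, hs'⟩ := H b hb0 P hP
      apply hs
      apply hle
      rw [Submodule.mem_colon_singleton, Submodule.mem_bot, Algebra.smul_def,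
        Ideal.Quotient.algebraMap_eq, ← map_mul, Ideal.Quotient.eq_zero_iff_mem,
        Ideal.mem_span_singleton']
      refine ⟨a', ?_⟩
      have : algebraMap A K (s * a) = algebraMap A K (a' * b) := by
        rw [map_mul, map_mul, ← hs', mul_div_assoc', div_mul_cancel₀ _ hbK]
      exact (IsFractionRing.injective A K this).symm

end Groth.Agent.S14358
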