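import Groth.Statements.S14361
import Mathlib
-- import your own Groth.Agent.* helpers here

set_option autoImplicit false
universe u
open AlgebraicGeometry
open SchImage

open CategoryTheory TopologicalSpace

namespace Groth.Agent.S14361

lemma helper21_reduced_mul_eq_zero {X : Scheme.{u}} [IsReduced X] {U : X.Opens} (x f : Γ(X, U))
    (H : x |_ (X.basicOpen f) = 0) : f ^ 1 * x = 0 := by
  rw [pow_one]
  apply AlgebraicGeometry.eq_zero_of_basicOpen_eq_bot
  rw [Scheme.basicOpen_mul]
  have h1 : X.basicOpen (x |_ (X.basicOpen f)) = ⊥ := by rw [H, Scheme.basicOpen_zero]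
  delta TopCat.Presheaf.restrictOpen TopCat.Presheaf.restrict at h1
  rw [Scheme.basicOpen_res] at h1
  exact h1

set_option backward.defeqAttrib.useBackward true in
set_option backward.isDefEq.respectTransparency false in

/-- Let π : X → Y be a morphism of schemes with X reduced. Then the scheme-theoretic image of π is
computed affine-locally: on every affine open U of Y, the ideal of the kernel ideal sheaf of π (the
largest quasi-coherent ideal sheaf contained in the componentwise kernels) equals the ideal of those
sections over U which pull back to zero on π⁻¹(U). (The published statement allows, as an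
alternative to X being reduced, that π be quasi-compact; this row is the reduced case and assumes no
quasi-compactness.) -/
theorem result (X Y : Scheme.{u}) [IsReduced X]
    (π : X ⟶ Y) (U : Y.affineOpens) :
    π.ker.ideal U = RingHom.ker (π.app U).hom := by
  let I : Scheme.IdealSheafData Y := ⟨fun U ↦ RingHom.ker (π.app U).hom, ?_, _, rfl⟩
  · exact congr($(Scheme.IdealSheafData.ofIdeals_ideal I).ideal U)
  intro U s
  apply le_antisymm
  · refine Ideal.map_le_iff_le_comap.mpr fun x hx ↦ ?_
    simp_rw [RingHom.comap_ker, ← CommRingCat.hom_comp, Scheme.affineBasicOpen_coe, π.naturality,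
      CommRingCat.hom_comp, ← RingHom.comap_ker]
    exact Ideal.ker_le_comap _ hx
  · intro x hx
    have := U.2.isLocalization_basicOpen s
    obtain ⟨x, ⟨_, n, rfl⟩, rfl⟩ := IsLocalization.exists_mk'_eq (.powers s) x
    refine (IsLocalization.mk'_mem_map_algebraMap_iff _ _ _ _ _).mpr ?_
    suffices ∃ (V : X.Opens) (hV : V = X.basicOpen ((π.app U).hom s)),
        letI := hV.trans_le (X.basicOpen_le _); ((π.app U).hom x |_ V) = 0 by
      obtain ⟨_, rfl, H⟩ := this
      have hn := helper21_reduced_mul_eq_zero ((π.app U).hom x) ((π.app U).hom s) H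
      exact ⟨_, ⟨1, rfl⟩, by simpa using hn⟩
    refine ⟨π ⁻¹ᵁ Y.basicOpen s, by simp, ?_⟩
    replace hx : (Y.presheaf.map (homOfLE (Y.basicOpen_le s)).op ≫ π.app _).hom x = 0 := by
      trans (π.app (Y.basicOpen s)).hom (algebraMap Γ(Y, U) _ x)
      · simp [-NatTrans.naturality, RingHom.algebraMap_toAlgebra]
      · simp only [Scheme.affineBasicOpen_coe, RingHom.mem_ker] at hx
        rw [← IsLocalization.mk'_spec' (M := .powers s), map_mul, hx, mul_zero]
    rwa [π.naturality] at hx

end Groth.Agent.S14361
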