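import Groth.Statements.S14362
import Mathlib
import Groth.Agent.S14361
-- import your own Groth.Agent.* helpers here

set_option autoImplicit false
universe u
open AlgebraicGeometry
open SchImage

open CategoryTheory TopologicalSpace

namespace Groth.Agent.S14362

/-- Let π : X → Y be a morphism of schemes with X reduced. Then the closed subset underlying the
scheme-theoretic image of π, i.e. the support of its kernel ideal sheaf, is the closure of the image
of π. (The published statement allows, as an alternative to X being reduced, that π be
quasi-compact; this row is the reduced case and assumes no quasi-compactness.) -/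
theorem result (X Y : Scheme.{u}) [IsReduced X]
    (π : X ⟶ Y) :
    (π.ker.support : Set Y) = closure (Set.range π) := by
  apply subset_antisymm
  · intro y hy
    by_contra hyc
    obtain ⟨_, ⟨U, hU, rfl⟩, hyU, hUsub⟩ :=
      Y.isBasis_affineOpens.exists_subset_of_mem_open hyc isClosed_closure.isOpen_compl
    have hker : (1 : Γ(Y, U)) ∈ π.ker.ideal ⟨U, hU⟩ := by
      rw [Groth.Agent.S14361.result X Y π ⟨U, hU⟩, RingHom.mem_ker]
      apply AlgebraicGeometry.eq_zero_of_basicOpen_eq_bot
      apply le_bot_iff.mp
      refine (X.basicOpen_le _).trans ?_
      intro x hx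
      exact (hUsub hx (subset_closure ⟨x, rfl⟩)).elim
    have := (Scheme.IdealSheafData.coe_support_inter π.ker ⟨U, hU⟩).le ⟨hy, hyU⟩
    have h2 := this.1
    rw [Scheme.mem_zeroLocus_iff] at h2
    exact h2 1 hker (by rw [Scheme.basicOpen_one]; exact hyU)
  · rw [(π.ker.support).isClosed.closure_subset_iff]
    exact π.range_subset_ker_support

end Groth.Agent.S14362
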