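import Groth.Statements.S14363
import Mathlib
-- import your own Groth.Agent.* helpers here

set_option autoImplicit false
universe u
open CAlg

namespace Groth.Agent.S14363

/-- Let A be a Noetherian ring and 0 → M' → M → M'' → 0 a short exact sequence of A-modules. If a prime
p of A is an associated prime of M'' and is not in the support of M', then p is an associated prime
of M. -/
theorem result (A : Type u) [CommRing A] [IsNoetherianRing A]
    (M' M M'' : Type u) [AddCommGroup M'] [Module A M'] [AddCommGroup M] [Module A M]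
    [AddCommGroup M''] [Module A M'']
    (f : M' →ₗ[A] M) (g : M →ₗ[A] M'') (hf : Function.Injective f) (hg : Function.Surjective g)
    (hfg : Function.Exact f g)
    (p : PrimeSpectrum A) (hp : p.asIdeal ∈ associatedPrimes A M'') (hsupp : p ∉ Module.support A M') :
    p.asIdeal ∈ associatedPrimes A M := by
  classical
  rw [AssociatedPrimes.mem_iff, isAssociatedPrime_iff] at hp ⊢
  obtain ⟨hprime, x'', hx''⟩ := hp
  obtain ⟨x, rfl⟩ := hg x''
  rw [Module.notMem_support_iff'] at hsupp
  have hfin : p.asIdeal.FG := IsNoetherian.noetherian p.asIdeal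
  obtain ⟨S, hS⟩ := hfin
  have hmem : ∀ a ∈ p.asIdeal, ∃ r : A, r ∉ p.asIdeal ∧ r • a • x = 0 := by
    intro a ha
    have h1 : a ∈ (⊥ : Submodule A M'').colon {g x} := hx'' ▸ ha
    rw [Submodule.mem_colon_singleton, Submodule.mem_bot, ← map_smul] at h1
    obtain ⟨m', hm'⟩ := (hfg (a • x)).mp h1
    obtain ⟨r, hr, hrm⟩ := hsupp m'
    refine ⟨r, hr, ?_⟩
    rw [← hm', ← map_smul, hrm, map_zero]
  choose! r hr hrx using hmem
  have hSp : ∀ a ∈ S, a ∈ p.asIdeal := by
    intro a ha
    rw [← hS]
    exact Ideal.subset_span ha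
  set s : A := ∏ a ∈ S, r a with hs
  have hsnot : s ∉ p.asIdeal := by
    have : s ∈ p.asIdeal.primeCompl := by
      apply Submonoid.prod_mem
      intro a ha
      exact hr a (hSp a ha)
    exact this
  refine ⟨hprime, s • x, ?_⟩
  apply le_antisymm
  · rw [← hS, Ideal.span_le]
    intro a ha
    simp only [SetLike.mem_coe, Submodule.mem_colon_singleton, Submodule.mem_bot]
    obtain ⟨t, ht⟩ := Finset.dvd_prod_of_mem r ha
    rw [← hs] at ht
    rw [smul_comm, ht, mul_comm, mul_smul, hrx a (hSp a ha), smul_zero]
  · intro b hb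
    rw [Submodule.mem_colon_singleton, Submodule.mem_bot] at hb
    have h2 : (b * s) ∈ (⊥ : Submodule A M'').colon {g x} := by
      rw [Submodule.mem_colon_singleton, Submodule.mem_bot, mul_smul, ← map_smul, ← map_smul, hb,
        map_zero]
    rw [← hx''] at h2
    rcases hprime.mem_or_mem h2 with h | h
    · exact h
    · exact absurd h hsnot

end Groth.Agent.S14363
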