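import Groth.Statements.S14416
import Mathlib
-- import your own Groth.Agent.* helpers here

set_option autoImplicit false
universe u
open scoped TensorProduct
open CAlg

namespace Groth.Agent.S14416

/-- Let B → A be a ring map with A a finitely generated B-module such that for every prime ideal p of B
the fibre κ(p) ⊗_B A has dimension at most one over the residue field κ(p). Then B → A is
surjective. In scheme language: a finite morphism whose degree at every point of the target is 0 or
1 is a closed immersion. (The published statement assumes the two schemes Noetherian; that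
hypothesis plays no role and is dropped here.) -/
theorem result
    (B A : Type u) [CommRing B] [CommRing A] [Algebra B A] [Module.Finite B A]
    (h : ∀ p : PrimeSpectrum B,
      Module.finrank p.asIdeal.ResidueField (p.asIdeal.ResidueField ⊗[B] A) ≤ 1) :
    Function.Surjective (algebraMap B A) := by
  classical
  let f : B →ₗ[B] A := Algebra.linearMap B A
  let Q := A ⧸ LinearMap.range f
  have hsurj : ∀ p : PrimeSpectrum B, Function.Surjective (f.baseChange p.asIdeal.ResidueField) := by
    intro p
    let K := p.asIdeal.ResidueField
    rcases subsingleton_or_nontrivial (K ⊗[B] A) with hs | hs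
    · intro w; exact ⟨0, Subsingleton.elim _ _⟩
    · have hpos : 0 < Module.finrank K (K ⊗[B] A) := Module.finrank_pos
      have h1 : Module.finrank K (K ⊗[B] A) = 1 := le_antisymm (h p) hpos
      have hne : (1 : K ⊗[B] A) ≠ 0 := one_ne_zero
      rw [finrank_eq_one_iff_of_nonzero' _ hne] at h1
      intro w
      obtain ⟨c, rfl⟩ := h1 w
      refine ⟨c • ((1 : K) ⊗ₜ[B] (1 : B)), ?_⟩
      rw [map_smul, LinearMap.baseChange_tmul]
      simp [f, Algebra.TensorProduct.one_def]
  have hQ : ∀ p : PrimeSpectrum B, Subsingleton (p.asIdeal.ResidueField ⊗[B] Q) := by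
    intro p
    let K := p.asIdeal.ResidueField
    have hcomp : (LinearMap.range f).mkQ ∘ₗ f = 0 := by
      ext; simp
    have hzero : ∀ x : K ⊗[B] Q, x = 0 := by
      intro x
      induction x using TensorProduct.induction_on with
      | zero => rfl
      | tmul k q =>
        obtain ⟨a, rfl⟩ := Submodule.mkQ_surjective _ q
        obtain ⟨t, ht⟩ := hsurj p (k ⊗ₜ[B] a)
        have : k ⊗ₜ[B] ((LinearMap.range f).mkQ a) =
            ((LinearMap.range f).mkQ.lTensor K) (k ⊗ₜ[B] a) := by
          rw [LinearMap.lTensor_tmul]
        rw [this, ← ht, LinearMap.baseChange_eq_ltensor]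
        change ((LinearMap.range f).mkQ.lTensor K ∘ₗ f.lTensor K) t = 0
        rw [← LinearMap.lTensor_comp, hcomp, LinearMap.lTensor_zero]
        rfl
      | add x y hx hy => rw [hx, hy, add_zero]
    exact ⟨fun x y => by rw [hzero x, hzero y]⟩
  have hsupp : Module.support B Q = ∅ := by
    ext p
    simp only [Set.mem_empty_iff_false, iff_false]
    rw [Module.mem_support_iff_nontrivial_residueField_tensorProduct, not_nontrivial_iff_subsingleton]
    exact hQ p
  rw [Module.support_eq_empty_iff] at hsupp
  intro a
  have : (LinearMap.range f).mkQ a = 0 := Subsingleton.elim _ _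
  rw [Submodule.mkQ_apply, Submodule.Quotient.mk_eq_zero, LinearMap.mem_range] at this
  obtain ⟨b, hb⟩ := this
  exact ⟨b, hb⟩

end Groth.Agent.S14416
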