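import Groth.Statements.S14421
import Mathlib
-- import your own Groth.Agent.* helpers here

set_option autoImplicit false
universe u v
open CategoryTheory
open HomAlg

open CategoryTheory

namespace Groth.Agent.S14421

/-- Let φ : K → J be a morphism of cochain complexes of modules over a ring which is surjective in
degree p − 1. Then the map induced on cohomology in degree p is surjective if and only if the map
induced on cocycles in degree p is surjective. (Stated for cochain complexes indexed by the
integers; the published statement is for three-term complexes in degrees p − 1, p, p + 1, which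
embed as such complexes.) -/
theorem result {R : Type u} [Ring R]
    (K J : CochainComplex (ModuleCat.{v} R) ℤ) (φ : K ⟶ J) (p : ℤ) [Epi (φ.f (p - 1))] :
    Epi (HomologicalComplex.homologyMap φ p) ↔ Epi (HomologicalComplex.cyclesMap φ p) := by
  constructor
  · intro hH
    have hprev : (ComplexShape.up ℤ).prev p = p - 1 := by simp
    have hnext : (ComplexShape.up ℤ).next p = p + 1 := by simp
    rw [HomologicalComplex.epi_homologyMap_iff_up_to_refinements φ (p - 1) p (p + 1) hprev hnext] at hH
    rw [epi_iff_surjective_up_to_refinements]
    intro A y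
    obtain ⟨A₁, π₁, hπ₁, x₂, hx₂, y₁, hy⟩ := hH (y ≫ J.iCycles p) (by simp)
    obtain ⟨A₂, π₂, hπ₂, w, hw⟩ := surjective_up_to_refinements_of_epi (φ.f (p - 1)) y₁
    let x' : A₂ ⟶ K.X p := π₂ ≫ x₂ + w ≫ K.d (p - 1) p
    have hx' : x' ≫ K.d p (p + 1) = 0 := by
      simp [x', hx₂]
    refine ⟨A₂, π₂ ≫ π₁, epi_comp _ _, K.liftCycles x' (p + 1) hnext hx', ?_⟩
    rw [← cancel_mono (J.iCycles p)]
    simp only [Category.assoc, HomologicalComplex.cyclesMap_i, HomologicalComplex.liftCycles_i_assoc]
    rw [hy]
    simp only [x', Preadditive.add_comp, Category.assoc, Preadditive.comp_add]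
    congr 1
    rw [← HomologicalComplex.Hom.comm, ← reassoc_of% hw]
  · intro hZ
    have := HomologicalComplex.homologyπ_naturality φ p
    exact epi_of_epi_fac this

end Groth.Agent.S14421
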