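import Groth.Statements.S14728
import Mathlib.RingTheory.Localization.LocalizationLocalization
-- import your own Groth.Agent.* helpers here

set_option autoImplicit false
universe u
open ValPrufer

namespace Groth.Agent.S14728

/-- Let R be a Prüfer domain, i.e. a domain all of whose local rings at primes are valuation rings. (a)
For a multiplicative subset S, any localisation B = S⁻¹R that is a domain (S not containing 0) is a
Prüfer domain. (b) For a prime ideal I, the quotient R/I is a Prüfer domain. -/
theorem result
    (R : Type u) [CommRing R] [IsDomain R]
    (hR : ∀ (p : Ideal R) [p.IsPrime], ValuationRing (Localization.AtPrime p))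
    (S : Submonoid R) (B : Type u) [CommRing B] [IsDomain B] [Algebra R B] [IsLocalization S B]
    (I : Ideal R) [I.IsPrime] :
    (∀ (q : Ideal B) [q.IsPrime], ValuationRing (Localization.AtPrime q)) ∧
      (∀ (q : Ideal (R ⧸ I)) [q.IsPrime], ValuationRing (Localization.AtPrime q)) := by
  constructor
  · intro q hq
    let P : Ideal R := q.comap (algebraMap R B)
    have : P.IsPrime := Ideal.comap_isPrime _ q
    have := hR P
    have : IsLocalization.AtPrime (Localization.AtPrime q) P :=
      IsLocalization.isLocalization_isLocalization_atPrime_isLocalization S
        (Localization.AtPrime q) q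
    let e : Localization.AtPrime P ≃ₐ[R] Localization.AtPrime q :=
      IsLocalization.algEquiv P.primeCompl _ _
    exact Function.Surjective.valuationRing
      (e : Localization.AtPrime P →+* Localization.AtPrime q) e.surjective
  · intro q hq
    let P : Ideal R := q.comap (Ideal.Quotient.mk I)
    have : P.IsPrime := Ideal.comap_isPrime _ q
    have := hR P
    refine Function.Surjective.valuationRing
      (Localization.localRingHom P q (Ideal.Quotient.mk I) rfl) ?_
    intro z
    obtain ⟨⟨x, s⟩, rfl⟩ := IsLocalization.mk'_surjective q.primeCompl z
    obtain ⟨x', rfl⟩ := Ideal.Quotient.mk_surjective x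
    obtain ⟨s', hs'⟩ := Ideal.Quotient.mk_surjective (s : R ⧸ I)
    have hs'P : s' ∈ P.primeCompl := by
      show s' ∉ P
      intro h
      apply s.2
      rw [← hs']
      exact h
    refine ⟨IsLocalization.mk' _ x' ⟨s', hs'P⟩, ?_⟩
    rw [Localization.localRingHom_mk']
    congr 1
    ext
    exact hs'

end Groth.Agent.S14728
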