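import Groth.Statements.S14807
import Mathlib.GroupTheory.OrderOfElement
-- import your own Groth.Agent.* helpers here

set_option autoImplicit false
universe u
open CAlg

namespace Groth.Agent.S14807

/-- Let G be a finite abelian group, written additively, and ℓ a prime number. Every sequence (g_n)_{n ≥
0} of elements of G with ℓ^n · g_n = 0 and ℓ · g_{n+1} = g_n for all n is identically zero; in other
words the inverse limit of the subgroups of ℓ^n-torsion elements, with transition maps
multiplication by ℓ, vanishes. -/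
theorem result (G : Type u) [AddCommGroup G] [Finite G]
    (ℓ : ℕ) (hℓ : ℓ.Prime) (g : ℕ → G) (htor : ∀ n : ℕ, ℓ ^ n • g n = 0)
    (hcomp : ∀ n : ℕ, ℓ • g (n + 1) = g n) (n : ℕ) : g n = 0 := by
  have hstep : ∀ k m : ℕ, g m = ℓ ^ k • g (m + k) := by
    intro k
    induction k with
    | zero => intro m; simp
    | succ k ih =>
      intro m
      rw [ih m, pow_succ, mul_nsmul', ← add_assoc, hcomp (m + k)]
  set N := Nat.card G with hN
  have hNpos : 0 < N := Nat.card_pos
  rw [hstep N n]
  have h1 : addOrderOf (g (n + N)) ∣ ℓ ^ (n + N) := addOrderOf_dvd_of_nsmul_eq_zero (htor _)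
  obtain ⟨j, -, hj⟩ := (Nat.dvd_prime_pow hℓ).1 h1
  have h2 : addOrderOf (g (n + N)) ∣ N := addOrderOf_dvd_natCard _
  rw [hj] at h2
  have h3 : ℓ ^ j ≤ N := Nat.le_of_dvd hNpos h2
  have h4 : j < ℓ ^ j := Nat.lt_pow_self hℓ.one_lt
  have h5 : ℓ ^ j ∣ ℓ ^ N := Nat.pow_dvd_pow ℓ (by omega)
  rw [← hj] at h5
  exact addOrderOf_dvd_iff_nsmul_eq_zero.1 h5

end Groth.Agent.S14807
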