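import Groth.Statements.S14950
import Mathlib.LinearAlgebra.TensorProduct.Quotient
import Mathlib.RingTheory.Ideal.Quotient.Operations
-- import your own Groth.Agent.* helpers here

set_option autoImplicit false
universe u
open TensorProduct
open EtAlg

namespace Groth.Agent.S14950

/-- Let B' = B ×_A A' be a fibre product of commutative rings with A' → A surjective, let J be the
kernel of B' → B and L' a B'-module. The canonical map from L' to pairs in (B ⊗_{B'} L') × (A'
⊗_{B'} L') has kernel annihilated by J and contained in J L': if l ∈ L' satisfies 1 ⊗ l = 0 in B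
⊗_{B'} L' and 1 ⊗ l = 0 in A' ⊗_{B'} L', then j • l = 0 for every j ∈ J, and l ∈ J L'. (Surjectivity
of that map onto the compatible pairs is a separate result.) -/
theorem result (B' B A' A : Type u) [CommRing B'] [CommRing B] [CommRing A'] [CommRing A]
    [Algebra B' B] [Algebra B' A'] [Algebra B A] [Algebra A' A] [Algebra B' A] [IsScalarTower B' B A] [IsScalarTower B' A' A]
    (hsq : EtMil.IsFibreSquare B' B A' A)
    (L' : Type u) [AddCommGroup L'] [Module B' L'] (l : L')
    (h1 : ((1 : B) ⊗ₜ[B'] l : B ⊗[B'] L') = 0) (h2 : ((1 : A') ⊗ₜ[B'] l : A' ⊗[B'] L') = 0) :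
    (∀ j : B', algebraMap B' B j = 0 → j • l = 0) ∧
      l ∈ (RingHom.ker (algebraMap B' B)) • (⊤ : Submodule B' L') := by
  classical
  have hsurjB : Function.Surjective (algebraMap B' B) := by
    intro b
    obtain ⟨a', ha'⟩ := hsq.1 (algebraMap B A b)
    obtain ⟨b', hb', -⟩ := hsq.2 b a' ha'.symm
    exact ⟨b', hb'.1⟩
  refine ⟨?_, ?_⟩
  · intro j hj
    have hex : ∀ a' : A', ∃ b' : B', (algebraMap B' B b' = 0 ∧
        algebraMap B' A' b' = a' * algebraMap B' A' j) ∧
        ∀ c : B', (algebraMap B' B c = 0 ∧ algebraMap B' A' c = a' * algebraMap B' A' j) → c = b' := by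
      intro a'
      have hcompat : algebraMap B A 0 = algebraMap A' A (a' * algebraMap B' A' j) := by
        rw [map_zero, map_mul, ← IsScalarTower.algebraMap_apply B' A' A,
          IsScalarTower.algebraMap_apply B' B A, hj, map_zero, mul_zero]
      obtain ⟨b', hb', hu⟩ := hsq.2 0 _ hcompat
      exact ⟨b', hb', hu⟩
    choose μ hμ hμu using hex
    let μL : A' →ₗ[B'] B' :=
      { toFun := μ
        map_add' := fun x y => by
          symm
          apply hμu
          refine ⟨?_, ?_⟩
          · rw [map_add, (hμ x).1, (hμ y).1, add_zero]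
          · rw [map_add, (hμ x).2, (hμ y).2, add_mul]
        map_smul' := fun c x => by
          symm
          apply hμu
          refine ⟨?_, ?_⟩
          · rw [smul_eq_mul, RingHom.id_apply, map_mul, (hμ x).1, mul_zero]
          · rw [smul_eq_mul, RingHom.id_apply, map_mul, (hμ x).2, Algebra.smul_def, mul_assoc] }
    have hμ1 : μL 1 = j := by
      symm
      apply hμu
      exact ⟨hj, by rw [one_mul]⟩
    let Φ : A' ⊗[B'] L' →ₗ[B'] L' := TensorProduct.lift ((LinearMap.lsmul B' L').comp μL)
    have hΦ : Φ ((1 : A') ⊗ₜ[B'] l) = j • l := by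
      simp only [Φ, TensorProduct.lift.tmul, LinearMap.comp_apply, LinearMap.lsmul_apply, hμ1]
    rw [← hΦ, h2, map_zero]
  · let e : (B' ⧸ RingHom.ker (Algebra.ofId B' B)) ≃ₐ[B'] B :=
      Ideal.quotientKerAlgEquivOfSurjective (f := Algebra.ofId B' B) hsurjB
    let Ψ : B ⊗[B'] L' →ₗ[B'] L' ⧸ (RingHom.ker (Algebra.ofId B' B) • (⊤ : Submodule B' L')) :=
      (TensorProduct.quotTensorEquivQuotSMul L' (RingHom.ker (Algebra.ofId B' B))).toLinearMap ∘ₗ
        LinearMap.rTensor L' e.symm.toLinearMap
    have hΨ : Ψ ((1 : B) ⊗ₜ[B'] l) = Submodule.Quotient.mk l := by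
      simp only [Ψ, LinearMap.comp_apply, LinearMap.rTensor_tmul, AlgEquiv.toLinearMap_apply,
        map_one, LinearEquiv.coe_coe, TensorProduct.quotTensorEquivQuotSMul_mk_one_tmul]
    have : (Submodule.Quotient.mk l :
        L' ⧸ (RingHom.ker (Algebra.ofId B' B) • (⊤ : Submodule B' L'))) = 0 := by
      rw [← hΨ, h1, map_zero]
    exact (Submodule.Quotient.mk_eq_zero _).1 this

end Groth.Agent.S14950
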