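import Groth.Statements.S14953
import Mathlib.LinearAlgebra.TensorProduct.Finiteness
import Mathlib.LinearAlgebra.Quotient.Basic
import Groth.Agent.S14949
-- import your own Groth.Agent.* helpers here

set_option autoImplicit false
universe u
open TensorProduct
open EtAlg

namespace Groth.Agent.S14953

/-- Let B' = B ×_A A' be a fibre product of commutative rings with A' → A surjective and L' a B'-module.
If B ⊗_{B'} L' is a finitely generated B-module and A' ⊗_{B'} L' is a finitely generated A'-module,
then L' is a finitely generated B'-module. (The published statement is about flat modules of finite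
type; the finiteness conclusion does not use flatness, which descends separately.) -/
theorem result (B' B A' A : Type u) [CommRing B'] [CommRing B] [CommRing A'] [CommRing A]
    [Algebra B' B] [Algebra B' A'] [Algebra B A] [Algebra A' A] [Algebra B' A] [IsScalarTower B' B A] [IsScalarTower B' A' A]
    (hsq : EtMil.IsFibreSquare B' B A' A)
    (L' : Type u) [AddCommGroup L'] [Module B' L']
    [Module.Finite B (B ⊗[B'] L')] [Module.Finite A' (A' ⊗[B'] L')] : Module.Finite B' L' := by
  classical
  -- finitely many elements of `L'` whose images `1 ⊗ g` generate `R ⊗ L'`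
  have gens : ∀ (R : Type u) [CommRing R] [Algebra B' R] [Module.Finite R (R ⊗[B'] L')],
      ∃ G : Finset L', Submodule.span R ((fun g : L' => (1 : R) ⊗ₜ[B'] g) '' (G : Set L')) = ⊤ := by
    intro R _ _ _
    obtain ⟨n, f, hf⟩ := Module.Finite.exists_fin (R := R) (M := R ⊗[B'] L')
    choose S hS using fun i => TensorProduct.exists_finset (f i)
    refine ⟨Finset.univ.biUnion (fun i => (S i).image Prod.snd), ?_⟩
    rw [eq_top_iff, ← hf, Submodule.span_le]
    rintro _ ⟨i, rfl⟩
    rw [hS i]
    refine Submodule.sum_mem _ (fun p hp => ?_)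
    have : p.1 ⊗ₜ[B'] p.2 = p.1 • ((1 : R) ⊗ₜ[B'] p.2) := by
      rw [TensorProduct.smul_tmul', smul_eq_mul, mul_one]
    rw [this]
    refine Submodule.smul_mem _ _ (Submodule.subset_span ⟨p.2, ?_, rfl⟩)
    simp only [Finset.coe_biUnion, Finset.coe_univ, Set.mem_univ, Set.iUnion_true,
      Finset.coe_image, Set.mem_iUnion, Set.mem_image, Finset.mem_coe]
    exact ⟨i, p, hp, rfl⟩
  -- if those generators lie in `M`, then `R ⊗ (L' ⧸ M) = 0`
  have kill : ∀ (R : Type u) [CommRing R] [Algebra B' R] (G : Finset L') (M : Submodule B' L'),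
      Submodule.span R ((fun g : L' => (1 : R) ⊗ₜ[B'] g) '' (G : Set L')) = ⊤ →
      (G : Set L') ⊆ M → Subsingleton (R ⊗[B'] (L' ⧸ M)) := by
    intro R _ _ G M hG hGM
    let f : R ⊗[B'] L' →ₗ[R] R ⊗[B'] (L' ⧸ M) := M.mkQ.baseChange R
    have hf0 : ∀ z, f z = 0 := by
      intro z
      have hz : z ∈ Submodule.span R ((fun g : L' => (1 : R) ⊗ₜ[B'] g) '' (G : Set L')) := by
        rw [hG]; exact Submodule.mem_top
      induction hz using Submodule.span_induction with
      | mem x hx =>
        obtain ⟨g, hg, rfl⟩ := hx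
        simp only [f, LinearMap.baseChange_tmul, Submodule.mkQ_apply]
        rw [(Submodule.Quotient.mk_eq_zero M).2 (hGM hg), TensorProduct.tmul_zero]
      | zero => exact map_zero f
      | add x y _ _ hx hy => rw [map_add, hx, hy, add_zero]
      | smul r x _ hx => rw [map_smul, hx, smul_zero]
    have hw : ∀ w : R ⊗[B'] (L' ⧸ M), w = 0 := by
      intro w
      induction w using TensorProduct.induction_on with
      | zero => rfl
      | tmul r q =>
        obtain ⟨l, rfl⟩ := Submodule.Quotient.mk_surjective M q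
        have := hf0 (r ⊗ₜ[B'] l)
        simpa [f] using this
      | add x y hx hy => rw [hx, hy, add_zero]
    exact ⟨fun a b => by rw [hw a, hw b]⟩
  obtain ⟨G₁, hG₁⟩ := gens B
  obtain ⟨G₂, hG₂⟩ := gens A'
  let M : Submodule B' L' := Submodule.span B' ((G₁ ∪ G₂ : Finset L') : Set L')
  have h1 : Subsingleton (B ⊗[B'] (L' ⧸ M)) := kill B G₁ M hG₁ (fun x hx =>
    Submodule.subset_span (by simp only [Finset.coe_union]; exact Or.inl hx))
  have h2 : Subsingleton (A' ⊗[B'] (L' ⧸ M)) := kill A' G₂ M hG₂ (fun x hx =>
    Submodule.subset_span (by simp only [Finset.coe_union]; exact Or.inr hx))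
  have hQ : Subsingleton (L' ⧸ M) := Groth.Agent.S14949.result B' B A' A hsq (L' ⧸ M)
  have hM : M = ⊤ := Submodule.Quotient.subsingleton_iff.1 hQ
  exact ⟨⟨G₁ ∪ G₂, hM⟩⟩

end Groth.Agent.S14953
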