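import Groth.Statements.S14955
-- import your own Groth.Agent.* helpers here

set_option autoImplicit false
universe u
open TensorProduct
open EtAlg

namespace Groth.Agent.S14955

/-- Let B' = B ×_A A' be a fibre product of commutative rings with A' → A surjective. Then the square is
also a pushout of commutative rings: the canonical map B ⊗_{B'} A' → A is an isomorphism. -/
theorem result (B' B A' A : Type u) [CommRing B'] [CommRing B] [CommRing A'] [CommRing A]
    [Algebra B' B] [Algebra B' A'] [Algebra B A] [Algebra A' A] [Algebra B' A] [IsScalarTower B' B A] [IsScalarTower B' A' A]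
    (hsq : EtMil.IsFibreSquare B' B A' A) : Algebra.IsPushout B' B A' A := by
  classical
  have hsurjB : Function.Surjective (algebraMap B' B) := by
    intro b
    obtain ⟨a', ha'⟩ := hsq.1 (algebraMap B A b)
    obtain ⟨b', hb', -⟩ := hsq.2 b a' ha'.symm
    exact ⟨b', hb'.1⟩
  have hmk : ∀ z : B ⊗[B'] A', ∃ a' : A', z = (1 : B) ⊗ₜ[B'] a' := by
    intro z
    induction z using TensorProduct.induction_on with
    | zero => exact ⟨0, by simp⟩
    | tmul b a' =>
      obtain ⟨c, rfl⟩ := hsurjB b
      refine ⟨c • a', ?_⟩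
      rw [TensorProduct.tmul_smul, TensorProduct.smul_tmul', Algebra.smul_def, mul_one]
    | add z₁ z₂ h₁ h₂ =>
      obtain ⟨y₁, hy₁⟩ := h₁
      obtain ⟨y₂, hy₂⟩ := h₂
      exact ⟨y₁ + y₂, by rw [hy₁, hy₂, TensorProduct.tmul_add]⟩
  refine ⟨?_⟩
  show Function.Bijective _
  constructor
  · rw [injective_iff_map_eq_zero]
    intro z hz
    obtain ⟨a', rfl⟩ := hmk z
    have hz' : algebraMap A' A a' = 0 := by
      simpa using hz
    obtain ⟨j, ⟨hj1, hj2⟩, -⟩ := hsq.2 0 a' (by rw [map_zero, hz'])
    rw [← hj2, Algebra.algebraMap_eq_smul_one, ← TensorProduct.smul_tmul, Algebra.smul_def, hj1,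
      zero_mul, TensorProduct.zero_tmul]
  · intro a
    obtain ⟨a', rfl⟩ := hsq.1 a
    exact ⟨(1 : B) ⊗ₜ[B'] a', by simp⟩

end Groth.Agent.S14955
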