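import Groth.Statements.S14966
import Mathlib.Tactic.Linarith
-- import your own Groth.Agent.* helpers here

set_option autoImplicit false
universe u
open EtAlg

namespace Groth.Agent.S14966

/-- Let A → A' be an injective homomorphism of commutative rings and let I ⊆ A be the conductor, i.e.
the annihilator of the A-module A'/A. Then the conductor square formed by A → A/I, A → A', A/I →
A'/IA' and A' → A'/IA' is a fibre product square of rings with A' → A'/IA' surjective: A = A/I
×_{A'/IA'} A'. (The published Lemma is for the conductor square of a finite modification of schemes;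
this row is the underlying statement for one injective ring map, which needs no finiteness.) -/
theorem result (A A' : Type u) [CommRing A] [CommRing A'] [Algebra A A']
    (hinj : Function.Injective (algebraMap A A')) :
    EtMil.IsFibreSquare A (A ⧸ Module.annihilator A (A' ⧸ LinearMap.range (Algebra.linearMap A A'))) A'
      (A' ⧸ Ideal.map (algebraMap A A') (Module.annihilator A (A' ⧸ LinearMap.range (Algebra.linearMap A A')))) := by
  classical
  set I := Module.annihilator A (A' ⧸ LinearMap.range (Algebra.linearMap A A')) with hI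
  have hmemI : ∀ c : A, c ∈ I ↔ ∀ y : A', ∃ a : A, algebraMap A A' a = algebraMap A A' c * y := by
    intro c
    rw [hI, Module.mem_annihilator]
    constructor
    · intro h y
      have := h (Submodule.Quotient.mk y)
      rw [← Submodule.Quotient.mk_smul, Submodule.Quotient.mk_eq_zero] at this
      obtain ⟨a, ha⟩ := this
      refine ⟨a, ?_⟩
      rw [← Algebra.smul_def]
      exact ha
    · intro h q
      induction q using Submodule.Quotient.induction_on with
      | H y =>
        obtain ⟨a, ha⟩ := h y
        rw [← Submodule.Quotient.mk_smul, Submodule.Quotient.mk_eq_zero]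
        exact ⟨a, by rw [Algebra.linearMap_apply, ha, Algebra.smul_def]⟩
  have hK : ∀ z ∈ Ideal.map (algebraMap A A') I, ∀ y : A', ∃ a : A, algebraMap A A' a = z * y := by
    intro z hz
    induction hz using Submodule.span_induction with
    | mem x hx =>
      obtain ⟨i, hi, rfl⟩ := hx
      exact (hmemI i).1 hi
    | zero => intro y; exact ⟨0, by rw [map_zero, zero_mul]⟩
    | add x w _ _ hx hw =>
      intro y
      obtain ⟨a₁, h₁⟩ := hx y
      obtain ⟨a₂, h₂⟩ := hw y
      exact ⟨a₁ + a₂, by rw [map_add, h₁, h₂, add_mul]⟩
    | smul r x _ hx =>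
      intro y
      obtain ⟨a, ha⟩ := hx (r * y)
      exact ⟨a, by rw [ha, smul_eq_mul]; ring⟩
  refine ⟨Ideal.Quotient.mk_surjective, ?_⟩
  intro b a' hba
  obtain ⟨a₀, rfl⟩ := Ideal.Quotient.mk_surjective b
  have hba' : Ideal.Quotient.mk (Ideal.map (algebraMap A A') I) (algebraMap A A' a₀) =
      Ideal.Quotient.mk (Ideal.map (algebraMap A A') I) a' := by
    rw [← Ideal.Quotient.algebraMap_eq] at hba
    rw [← IsScalarTower.algebraMap_apply A (A ⧸ I) _,
      IsScalarTower.algebraMap_apply A A' (A' ⧸ Ideal.map (algebraMap A A') I)] at hba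
    rw [← Ideal.Quotient.algebraMap_eq]
    exact hba
  have hmem : a' - algebraMap A A' a₀ ∈ Ideal.map (algebraMap A A') I :=
    Ideal.Quotient.eq.1 hba'.symm
  obtain ⟨c, hc⟩ := hK _ hmem 1
  rw [mul_one] at hc
  have hcI : c ∈ I := by
    rw [hmemI]
    intro y
    obtain ⟨a, ha⟩ := hK _ hmem y
    exact ⟨a, by rw [hc]; exact ha⟩
  refine ⟨a₀ + c, ⟨?_, ?_⟩, ?_⟩
  · rw [Ideal.Quotient.algebraMap_eq, Ideal.Quotient.eq]
    simpa using hcI
  · rw [map_add, hc]
    ring
  · rintro y ⟨-, hy2⟩
    apply hinj
    rw [hy2, map_add, hc]
    ring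

end Groth.Agent.S14966
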