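import Groth.Statements.S15004
import Mathlib.SetTheory.Cardinal.NatCard
-- import your own Groth.Agent.* helpers here

set_option autoImplicit false
universe u v
open Harb

namespace Groth.Agent.S15004

/-- Let C be a finite family of d curves, recorded as an incidence relation between a type of points and
a finite index type, such that any two distinct curves of the family meet in exactly h points; for a
point p write r_p for the number of curves of the family through p. Then for every curve C_i of the
family, Σ_{p ∈ C_i} (r_p − 1) = h (d − 1), the sum being finitely supported. (The published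
statement is for a transversal arrangement of curves on a geometrically ruled surface with invariant
e, all numerically equivalent to a C₀ + b f, where any two of the curves meet transversally in h =
2ab − a²e points; only this common pairwise intersection count enters the proof, and this row states
the identity for an abstract incidence relation.) -/
theorem result (P : Type u) (ι : Type v) [Fintype ι]
    (inc : P → ι → Prop) (h : ℕ)
    (hfin : ∀ i j : ι, i ≠ j → {p : P | inc p i ∧ inc p j}.Finite)
    (hcount : ∀ i j : ι, i ≠ j → {p : P | inc p i ∧ inc p j}.ncard = h) (i : ι) :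
    ∑ᶠ p ∈ {p : P | inc p i}, (Nat.card {j : ι // inc p j} - 1) = h * (Fintype.card ι - 1) := by
  classical
  set T : Set P := ⋃ j : {j : ι // j ≠ i}, {p | inc p i ∧ inc p j.1} with hTdef
  have hT : T.Finite := Set.finite_iUnion (fun j => hfin i j.1 (Ne.symm j.2))
  have hcardsub : ∀ p, Nat.card {j : ι // inc p j} =
      (Finset.univ.filter (fun j => inc p j)).card := by
    intro p
    rw [Nat.card_eq_fintype_card, Fintype.card_subtype]
  have hg : ∀ p, inc p i → Nat.card {j : ι // inc p j} - 1 =
      ∑ j ∈ Finset.univ.erase i, (if inc p j then 1 else 0) := by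
    intro p hp
    rw [hcardsub, Finset.sum_boole, Nat.cast_id]
    have : Finset.univ.filter (fun j => inc p j) =
        insert i ((Finset.univ.erase i).filter (fun j => inc p j)) := by
      ext j
      by_cases hj : j = i
      · subst hj; simp [hp]
      · simp [hj]
    rw [this, Finset.card_insert_of_notMem (by simp)]
    simp
  rw [finsum_mem_eq_sum_of_subset (t := hT.toFinset)]
  · rw [Finset.sum_congr rfl (fun p hp => hg p (by
        have hp' : p ∈ T := (Set.Finite.mem_toFinset hT).1 hp
        rw [hTdef, Set.mem_iUnion] at hp'
        obtain ⟨j, hj⟩ := hp'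
        exact hj.1)), Finset.sum_comm]
    have hinner : ∀ j ∈ Finset.univ.erase i,
        ∑ p ∈ hT.toFinset, (if inc p j then 1 else 0) = h := by
      intro j hj
      have hji : j ≠ i := Finset.ne_of_mem_erase hj
      rw [Finset.sum_boole, Nat.cast_id, ← hcount i j (Ne.symm hji), ← Set.ncard_coe_finset]
      congr 1
      ext p
      simp only [Finset.coe_filter, Set.Finite.mem_toFinset, Set.mem_setOf_eq]
      constructor
      · rintro ⟨hpT, hpj⟩
        rw [hTdef, Set.mem_iUnion] at hpT
        obtain ⟨j', hj'⟩ := hpT
        exact ⟨hj'.1, hpj⟩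
      · rintro ⟨hpi, hpj⟩
        refine ⟨?_, hpj⟩
        rw [hTdef, Set.mem_iUnion]
        exact ⟨⟨j, hji⟩, hpi, hpj⟩
    rw [Finset.sum_congr rfl hinner, Finset.sum_const, smul_eq_mul,
      Finset.card_erase_of_mem (Finset.mem_univ i), Finset.card_univ, mul_comm]
  · rintro p ⟨hpi, hpsupp⟩
    rw [Function.mem_support] at hpsupp
    have h2 : 1 < Nat.card {j : ι // inc p j} := by omega
    obtain ⟨⟨a, ha⟩, ⟨b, hb⟩, hab⟩ := (Finite.one_lt_card_iff_nontrivial.1 h2).exists_pair_ne
    rw [Finset.mem_coe, Set.Finite.mem_toFinset, hTdef, Set.mem_iUnion]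
    by_cases hai : a = i
    · have hbi : b ≠ i := fun e => hab (Subtype.ext (hai.trans e.symm))
      exact ⟨⟨b, hbi⟩, hpi, hb⟩
    · exact ⟨⟨a, hai⟩, hpi, ha⟩
  · intro p hp
    rw [Finset.mem_coe, Set.Finite.mem_toFinset, hTdef, Set.mem_iUnion] at hp
    obtain ⟨j, hj⟩ := hp
    exact hj.1

end Groth.Agent.S15004
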