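import Groth.Statements.S15005
import Mathlib.SetTheory.Cardinal.NatCard
-- import your own Groth.Agent.* helpers here

set_option autoImplicit false
universe u v
open Harb

namespace Groth.Agent.S15005

/-- Let C be a finite family of d curves, recorded as an incidence relation between a type of points and
a finite index type, such that any two distinct curves of the family meet in exactly h points; let
t_k be the number of k-fold points (points lying on exactly k curves of the family). Then f₂ − f₁ =
Σ_{k ≥ 2} k(k − 1) t_k equals h d(d − 1), where f_i = Σ_{k ≥ 2} k^i t_k. (The published statement is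
for a transversal arrangement of curves on a geometrically ruled surface with invariant e, all
numerically equivalent to a C₀ + b f, where any two of the curves meet transversally in h = 2ab −
a²e points; only this common pairwise intersection count enters the proof, and this row states the
identity for an abstract incidence relation.) -/
theorem result (P : Type u) (ι : Type v) [Fintype ι]
    (inc : P → ι → Prop) (h : ℕ)
    (hfin : ∀ i j : ι, i ≠ j → {p : P | inc p i ∧ inc p j}.Finite)
    (hcount : ∀ i j : ι, i ≠ j → {p : P | inc p i ∧ inc p j}.ncard = h) :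
    ∑ k ∈ Finset.Icc 2 (Fintype.card ι), k * (k - 1) * Nat.card {p : P // Nat.card {j : ι // inc p j} = k} =
      h * (Fintype.card ι * (Fintype.card ι - 1)) := by
  classical
  set d := Fintype.card ι with hd
  let r : P → ℕ := fun p => Nat.card {j : ι // inc p j}
  have hr : ∀ p, r p = (Finset.univ.filter (fun j => inc p j)).card := by
    intro p
    show Nat.card _ = _
    rw [Nat.card_eq_fintype_card, Fintype.card_subtype]
  have hrle : ∀ p, r p ≤ d := fun p => by rw [hr]; exact Finset.card_filter_le _ _
  set Mset : Set P := {p | 2 ≤ r p} with hMset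
  have hMfin : Mset.Finite := by
    have hsub : Mset ⊆ ⋃ a : ι, ⋃ b : ι, {p | a ≠ b ∧ inc p a ∧ inc p b} := by
      intro p hp
      have h1 : 1 < Nat.card {j : ι // inc p j} := hp
      obtain ⟨⟨a, ha⟩, ⟨b, hb⟩, hab⟩ := (Finite.one_lt_card_iff_nontrivial.1 h1).exists_pair_ne
      simp only [Set.mem_iUnion]
      exact ⟨a, b, fun h => hab (Subtype.ext h), ha, hb⟩
    refine Set.Finite.subset (Set.finite_iUnion fun a => Set.finite_iUnion fun b => ?_) hsub
    by_cases hab : a = b
    · have : {p : P | a ≠ b ∧ inc p a ∧ inc p b} = ∅ := by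
        ext p; simp [hab]
      rw [this]; exact Set.finite_empty
    · exact (hfin a b hab).subset (fun p hp => ⟨hp.2.1, hp.2.2⟩)
  set Mf := hMfin.toFinset with hMf
  have hmemMf : ∀ p, p ∈ Mf ↔ 2 ≤ r p := by
    intro p; rw [hMf, Set.Finite.mem_toFinset]; rfl
  have hk : ∀ k ∈ Finset.Icc 2 d,
      Nat.card {p : P // Nat.card {j : ι // inc p j} = k} = (Mf.filter (fun p => r p = k)).card := by
    intro k hk
    rw [Finset.mem_Icc] at hk
    have e : ({p : P | r p = k} : Set P) = ↑(Mf.filter (fun p => r p = k)) := by
      ext p
      simp only [Finset.coe_filter, hmemMf, Set.mem_setOf_eq]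
      constructor
      · intro hp; exact ⟨by omega, hp⟩
      · intro hp; exact hp.2
    have : Nat.card {p : P // Nat.card {j : ι // inc p j} = k} = ({p : P | r p = k} : Set P).ncard := rfl
    rw [this, e, Set.ncard_coe_finset]
  rw [Finset.sum_congr rfl (fun k hkm => by rw [hk k hkm])]
  have step1 : ∑ k ∈ Finset.Icc 2 d, k * (k - 1) * (Mf.filter (fun p => r p = k)).card =
      ∑ k ∈ Finset.Icc 2 d, ∑ p ∈ Mf.filter (fun p => r p = k), k * (k - 1) := by
    apply Finset.sum_congr rfl
    intro k _
    rw [Finset.sum_const, smul_eq_mul, mul_comm]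
  rw [step1, Finset.sum_fiberwise_of_maps_to' (g := r) (fun p hp => by
    rw [Finset.mem_Icc]; exact ⟨(hmemMf p).1 hp, hrle p⟩) (fun k => k * (k - 1))]
  -- r p (r p - 1) counts ordered pairs of distinct curves through p
  have hpair : ∀ p, r p * (r p - 1) =
      ∑ ab ∈ (Finset.univ : Finset ι).offDiag, (if inc p ab.1 ∧ inc p ab.2 then 1 else 0) := by
    intro p
    rw [Finset.sum_boole, Nat.cast_id]
    have e : (Finset.univ : Finset ι).offDiag.filter (fun ab => inc p ab.1 ∧ inc p ab.2) =
        (Finset.univ.filter (fun j => inc p j)).offDiag := by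
      ext ⟨a, b⟩
      simp only [Finset.mem_filter, Finset.mem_offDiag, Finset.mem_univ, true_and]
      tauto
    rw [e, Finset.offDiag_card, ← hr, Nat.mul_sub_one]
  rw [Finset.sum_congr rfl (fun p _ => hpair p), Finset.sum_comm]
  have hinner : ∀ ab ∈ (Finset.univ : Finset ι).offDiag,
      ∑ p ∈ Mf, (if inc p ab.1 ∧ inc p ab.2 then 1 else 0) = h := by
    rintro ⟨a, b⟩ hab
    simp only [Finset.mem_offDiag, Finset.mem_univ, true_and] at hab
    rw [Finset.sum_boole, Nat.cast_id, ← hcount a b hab, ← Set.ncard_coe_finset]
    congr 1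
    ext p
    simp only [Finset.coe_filter, hmemMf, Set.mem_setOf_eq]
    constructor
    · intro hp; exact hp.2
    · intro hp
      refine ⟨?_, hp⟩
      have : Nontrivial {j : ι // inc p j} :=
        ⟨⟨⟨a, hp.1⟩, ⟨b, hp.2⟩, fun e => hab (congrArg Subtype.val e)⟩⟩
      exact (Finite.one_lt_card_iff_nontrivial).2 this
  rw [Finset.sum_congr rfl hinner, Finset.sum_const, smul_eq_mul, Finset.offDiag_card,
    Finset.card_univ, ← hd, ← Nat.mul_sub_one, mul_comm]

end Groth.Agent.S15005
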