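import Groth.Statements.S15007
import Mathlib.SetTheory.Cardinal.NatCard
-- import your own Groth.Agent.* helpers here

set_option autoImplicit false
universe u v
open Harb

namespace Groth.Agent.S15007

/-- Let C be a finite family of d ≥ 2 curves, recorded as an incidence relation between a type of points
and a finite index type, such that any two distinct curves of the family meet in exactly h ≥ 1
points and no point lies on every curve of the family. Then f₀ ≥ h + 2: the number of multiple
points (points lying on at least two of the curves) is at least h + 2. (The published claim reads f₀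
≥ 2ab − a²e + 2 for a transversal arrangement of d ≥ 4 curves on a geometrically ruled surface with
invariant e ≥ 4, all numerically equivalent to a C₀ + b f with a ≥ 1 and b ≥ ae and with no point
common to all of them, satisfying in addition either a ≥ 2, or a = 1 with some four of the curves
having no point in common, where any two of the curves meet transversally in h = 2ab − a²e ≥ 1
points; only d ≥ 2, h ≥ 1 and the absence of a common point enter the proof, and this row states the
bound for an abstract incidence relation.) -/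
theorem result (P : Type u) (ι : Type v) [Fintype ι]
    (inc : P → ι → Prop) (h : ℕ) (hh : 0 < h) (hd : 2 ≤ Fintype.card ι)
    (hfin : ∀ i j : ι, i ≠ j → {p : P | inc p i ∧ inc p j}.Finite)
    (hcount : ∀ i j : ι, i ≠ j → {p : P | inc p i ∧ inc p j}.ncard = h)
    (hnone : ∀ p : P, ∃ i : ι, ¬ inc p i) :
    h + 2 ≤ Nat.card {p : P // 2 ≤ Nat.card {j : ι // inc p j}} := by
  classical
  have two_le : ∀ (p : P) (a b : ι), a ≠ b → inc p a → inc p b → 2 ≤ Nat.card {j : ι // inc p j} := by
    intro p a b hab ha hb
    have : Nontrivial {j : ι // inc p j} := ⟨⟨⟨a, ha⟩, ⟨b, hb⟩, fun h => hab (congrArg Subtype.val h)⟩⟩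
    exact (Finite.one_lt_card_iff_nontrivial).2 this
  set Mset : Set P := {p | 2 ≤ Nat.card {j : ι // inc p j}} with hMset
  have hMfin : Mset.Finite := by
    have hsub : Mset ⊆ ⋃ a : ι, ⋃ b : ι, {p | a ≠ b ∧ inc p a ∧ inc p b} := by
      intro p hp
      have h1 : 1 < Nat.card {j : ι // inc p j} := hp
      obtain ⟨⟨a, ha⟩, ⟨b, hb⟩, hab⟩ := (Finite.one_lt_card_iff_nontrivial.1 h1).exists_pair_ne
      simp only [Set.mem_iUnion]
      exact ⟨a, b, fun h => hab (Subtype.ext h), ha, hb⟩
    refine Set.Finite.subset (Set.finite_iUnion fun a => Set.finite_iUnion fun b => ?_) hsub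
    by_cases hab : a = b
    · have : {p : P | a ≠ b ∧ inc p a ∧ inc p b} = ∅ := by
        ext p; simp [hab]
      rw [this]; exact Set.finite_empty
    · exact (hfin a b hab).subset (fun p hp => ⟨hp.2.1, hp.2.2⟩)
  have hcardM : Nat.card {p : P // 2 ≤ Nat.card {j : ι // inc p j}} = Mset.ncard := rfl
  rw [hcardM]
  -- two distinct curves
  obtain ⟨i, j, hij⟩ : ∃ i j : ι, i ≠ j := by
    have : 1 < Fintype.card ι := by omega
    exact Fintype.exists_pair_of_one_lt_card this
  set S : Set P := {p | inc p i ∧ inc p j} with hS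
  have hSfin : S.Finite := hfin i j hij
  have hSc : S.ncard = h := hcount i j hij
  obtain ⟨p, hp⟩ : S.Nonempty := Set.nonempty_of_ncard_ne_zero (by omega)
  obtain ⟨k, hk⟩ := hnone p
  have hki : k ≠ i := fun e => hk (e ▸ hp.1)
  have hkj : k ≠ j := fun e => hk (e ▸ hp.2)
  -- a point of C_k ∩ C_l outside S
  have hout : ∀ l : ι, k ≠ l → (l = i ∨ l = j) → ∃ q, inc q k ∧ inc q l ∧ q ∉ S := by
    intro l hkl _
    by_contra hcon
    push_neg at hcon
    have hsub : {q : P | inc q k ∧ inc q l} ⊆ S \ {p} := by
      intro q hq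
      refine ⟨hcon q hq.1 hq.2, ?_⟩
      rintro rfl
      exact hk hq.1
    have h1 := Set.ncard_le_ncard hsub (hSfin.diff)
    rw [hcount k l hkl, Set.ncard_sdiff_singleton_of_mem hp, hSc] at h1
    omega
  obtain ⟨q₁, hq₁k, hq₁i, hq₁S⟩ := hout i hki (Or.inl rfl)
  obtain ⟨q₂, hq₂k, hq₂j, hq₂S⟩ := hout j hkj (Or.inr rfl)
  have hq12 : q₁ ≠ q₂ := by
    rintro rfl
    exact hq₁S ⟨hq₁i, hq₂j⟩
  have hsubM : insert q₁ (insert q₂ S) ⊆ Mset := by
    intro q hq
    rcases hq with rfl | hq
    · exact two_le q k i hki hq₁k hq₁i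
    rcases hq with rfl | hq
    · exact two_le q k j hkj hq₂k hq₂j
    · exact two_le q i j hij hq.1 hq.2
  have hcard : (insert q₁ (insert q₂ S)).ncard = h + 2 := by
    have hq₁' : q₁ ∉ insert q₂ S := by
      rintro (e | e)
      · exact hq12 e
      · exact hq₁S e
    rw [Set.ncard_insert_of_notMem hq₁' (hSfin.insert q₂), Set.ncard_insert_of_notMem hq₂S hSfin, hSc]
  rw [← hcard]
  exact Set.ncard_le_ncard hsubM hMfin

end Groth.Agent.S15007
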