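import Groth.Statements.S15135
-- import your own Groth.Agent.* helpers here

set_option autoImplicit false
universe u v
open Deform

namespace Groth.Agent.S15135

/-- For R-modules M ⊆ N, the first-order embedded deformations of M in N are in canonical bijection with
Hom_R(M, N/M). Writing N ⊗ k[ε] = N ⊕ εN as N × N (the pair (x, y) standing for x + εy), such a
deformation is an R-submodule L of N × N which is stable under multiplication by ε (if (x, y) ∈ L
then (0, x) ∈ L), reduces to M (x ∈ M exactly when (x, y) ∈ L for some y) and is flat over the dual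
numbers, flatness being stated elementwise as: (0, y) ∈ L only if y ∈ M (for a submodule reducing to
M this is the equality of the kernel and the image of ε on L, i.e. flatness over k[ε] when R is an
algebra over a field k). To φ : M → N/M corresponds the submodule of all (x, y) with x ∈ M and y ≡
φ(x) mod M. The first clause says this rule defines exactly one submodule for each φ; the second
says that a submodule has the three properties precisely when its membership is given by this rule
for some φ. (The published statement is a linear isomorphism t_G ≅ Hom_R(M, N/M) for the functor G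
of flat deformations of M inside N ⊗ A over local Artinian algebras A; this row states only the
underlying bijection, and the obstruction half is not stated here.) -/
theorem result
    (R : Type u) [CommRing R] (N : Type v) [AddCommGroup N] [Module R N] (M : Submodule R N) :
    (∀ φ : M →ₗ[R] (N ⧸ M), ∃! L : Submodule R (N × N),
        ∀ x y : N, (x, y) ∈ L ↔ ∃ h : x ∈ M, Submodule.Quotient.mk y = φ ⟨x, h⟩) ∧
    (∀ L : Submodule R (N × N),
      ((∀ x y : N, (x, y) ∈ L → ((0 : N), x) ∈ L) ∧
        (∀ x : N, x ∈ M ↔ ∃ y : N, (x, y) ∈ L) ∧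
        (∀ y : N, ((0 : N), y) ∈ L → y ∈ M)) ↔
      ∃ φ : M →ₗ[R] (N ⧸ M), ∀ x y : N, (x, y) ∈ L ↔ ∃ h : x ∈ M, Submodule.Quotient.mk y = φ ⟨x, h⟩) := by
  classical
  -- the submodule attached to a map φ
  have hmk : ∀ φ : M →ₗ[R] (N ⧸ M), ∃ L : Submodule R (N × N),
      ∀ x y : N, (x, y) ∈ L ↔ ∃ h : x ∈ M, Submodule.Quotient.mk y = φ ⟨x, h⟩ := by
    intro φ
    refine ⟨{ carrier := {p | ∃ h : p.1 ∈ M, Submodule.Quotient.mk p.2 = φ ⟨p.1, h⟩}
              add_mem' := ?_
              zero_mem' := ?_
              smul_mem' := ?_ }, ?_⟩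
    · rintro ⟨a₁, b₁⟩ ⟨a₂, b₂⟩ ⟨h₁, e₁⟩ ⟨h₂, e₂⟩
      refine ⟨M.add_mem h₁ h₂, ?_⟩
      simp only [Prod.fst_add, Prod.snd_add, Submodule.Quotient.mk_add]
      rw [e₁, e₂, ← map_add]
      rfl
    · refine ⟨M.zero_mem, ?_⟩
      simp only [Prod.snd_zero, Submodule.Quotient.mk_zero]
      rw [← map_zero φ]
      rfl
    · rintro r ⟨a, b⟩ ⟨h, e⟩
      refine ⟨M.smul_mem r h, ?_⟩
      simp only [Prod.smul_fst, Prod.smul_snd, Submodule.Quotient.mk_smul]
      rw [e, ← map_smul]
      rfl
    · intro x y
      rfl
  refine ⟨?_, ?_⟩
  · intro φ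
    obtain ⟨L, hL⟩ := hmk φ
    refine ⟨L, hL, ?_⟩
    intro L' hL'
    ext ⟨x, y⟩
    rw [hL' x y, hL x y]
  · intro L
    constructor
    · rintro ⟨heps, hred, hflat⟩
      -- well-definedness
      have hwd : ∀ x y y' : N, (x, y) ∈ L → (x, y') ∈ L →
          (Submodule.Quotient.mk y : N ⧸ M) = Submodule.Quotient.mk y' := by
        intro x y y' h h'
        rw [Submodule.Quotient.eq]
        apply hflat
        have := L.sub_mem h h'
        simpa using this
      have h0M : ∀ m : N, m ∈ M → ((0 : N), m) ∈ L := by
        intro m hm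
        obtain ⟨y, hy⟩ := (hred m).1 hm
        exact heps m y hy
      let ψ : M → N ⧸ M := fun x => Submodule.Quotient.mk (Classical.choose ((hred x).1 x.2))
      have hψ : ∀ x : M, ((x : N), Classical.choose ((hred x).1 x.2)) ∈ L :=
        fun x => Classical.choose_spec ((hred x).1 x.2)
      let φ : M →ₗ[R] (N ⧸ M) :=
        { toFun := ψ
          map_add' := by
            intro a b
            have h := L.add_mem (hψ a) (hψ b)
            have := hwd _ _ _ (hψ (a + b)) (by simpa using h)
            simp only [ψ]
            rw [this, Submodule.Quotient.mk_add]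
          map_smul' := by
            intro r a
            have h := L.smul_mem r (hψ a)
            have := hwd _ _ _ (hψ (r • a)) (by simpa using h)
            simp only [ψ, RingHom.id_apply]
            rw [this, Submodule.Quotient.mk_smul] }
      refine ⟨φ, ?_⟩
      intro x y
      constructor
      · intro hxy
        have hx : x ∈ M := (hred x).2 ⟨y, hxy⟩
        refine ⟨hx, ?_⟩
        exact hwd _ _ _ hxy (hψ ⟨x, hx⟩)
      · rintro ⟨hx, hy⟩
        have h1 := hψ ⟨x, hx⟩
        have h2 : y - Classical.choose ((hred x).1 hx) ∈ M := by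
          rw [← Submodule.Quotient.eq]
          exact hy
        have h3 := L.add_mem h1 (h0M _ h2)
        simpa using h3
    · rintro ⟨φ, hφ⟩
      refine ⟨?_, ?_, ?_⟩
      · intro x y hxy
        obtain ⟨hx, _⟩ := (hφ x y).1 hxy
        rw [hφ]
        refine ⟨M.zero_mem, ?_⟩
        rw [(Submodule.Quotient.mk_eq_zero M).2 hx]
        have : (⟨0, M.zero_mem⟩ : M) = 0 := rfl
        rw [this, map_zero]
      · intro x
        constructor
        · intro hx
          obtain ⟨y, hy⟩ := Submodule.Quotient.mk_surjective M (φ ⟨x, hx⟩)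
          exact ⟨y, (hφ x y).2 ⟨hx, hy⟩⟩
        · rintro ⟨y, hy⟩
          exact ((hφ x y).1 hy).1
      · intro y hy
        obtain ⟨h0, e⟩ := (hφ 0 y).1 hy
        have : (⟨0, h0⟩ : M) = 0 := rfl
        rw [this, map_zero] at e
        exact (Submodule.Quotient.mk_eq_zero M).1 e

end Groth.Agent.S15135
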