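import Groth.Statements.S15235
import Mathlib.Tactic
import Mathlib.CategoryTheory.CofilteredSystem
-- import your own Groth.Agent.* helpers here

set_option autoImplicit false
universe u
open CategoryTheory Opposite
open HomAlg3

namespace Groth.Agent.S15235

/-- Let (G_j) be an inverse system of abelian groups indexed by the natural numbers, with transition
maps G_{j+1} → G_j, and let j₀ be a natural number such that the transition map G_{j+1} → G_j is
surjective for every j ≥ j₀. Then: (a) the system satisfies the Mittag-Leffler condition; (b) the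
evaluation map from the inverse limit (realised as the set of compatible families) to G_{j₀} is
surjective; (c) if in addition the transition maps G_{j+1} → G_j are injective for every j ≥ j₀,
that evaluation map is bijective. (The published statement indexes the system by the negative
integers and assumes j₀ ≥ 1; this row indexes it by the natural numbers and allows j₀ = 0, which
changes nothing.) -/
theorem result (G : ℕᵒᵖ ⥤ AddCommGrpCat.{u})
    (j₀ : ℕ) (hs : ∀ j : ℕ, j₀ ≤ j → Function.Surjective (G.map (homOfLE (Nat.le_succ j)).op).hom) :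
    (G ⋙ forget AddCommGrpCat.{u}).IsMittagLeffler ∧
      Function.Surjective (fun s : (G ⋙ forget AddCommGrpCat.{u}).sections => s.1 (op j₀)) ∧
      ((∀ j : ℕ, j₀ ≤ j → Function.Injective (G.map (homOfLE (Nat.le_succ j)).op).hom) →
        Function.Bijective (fun s : (G ⋙ forget AddCommGrpCat.{u}).sections => s.1 (op j₀))) := by
  set F := G ⋙ forget AddCommGrpCat.{u} with hF
  -- composition of the transition maps
  have hcomp : ∀ {a b c : ℕ} (hab : a ≤ b) (hbc : b ≤ c) (x : F.obj (op c)),
      F.map (homOfLE hab).op (F.map (homOfLE hbc).op x) = F.map (homOfLE (hab.trans hbc)).op x := by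
    intro a b c hab hbc x
    rw [← types_comp_apply (F.map _) (F.map _), ← F.map_comp]
    rfl
  have hid : ∀ (a : ℕ) (x : F.obj (op a)), F.map (homOfLE (le_refl a)).op x = x := by
    intro a x
    have : (homOfLE (le_refl a)).op = 𝟙 (op a) := rfl
    rw [this, F.map_id]
    rfl
  have hsurj : ∀ a b : ℕ, j₀ ≤ a → ∀ hab : a ≤ b, Function.Surjective (F.map (homOfLE hab).op) := by
    intro a b ha hab
    induction b, hab using Nat.le_induction with
    | base => intro x; exact ⟨x, hid a x⟩
    | succ b hab ih =>
      intro x
      obtain ⟨y, rfl⟩ := ih x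
      obtain ⟨z, hz⟩ := hs b (ha.trans hab) y
      refine ⟨z, ?_⟩
      rw [← hcomp hab (Nat.le_succ b)]
      congr 1
  have hsec : Function.Surjective (fun s : F.sections => s.1 (op j₀)) := by
    intro x
    -- preimages along the tower above j₀
    have step : ∀ (k : ℕ) (y : F.obj (op (j₀ + k))), ∃ z : F.obj (op (j₀ + (k + 1))),
        F.map (homOfLE (Nat.le_succ (j₀ + k))).op z = y := fun k y => hs (j₀ + k) (by omega) y
    choose pre hpre using step
    let y : ∀ k : ℕ, F.obj (op (j₀ + k)) := fun k => Nat.rec (motive := fun k => F.obj (op (j₀ + k)))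
      x (fun k yk => pre k yk) k
    have hy0 : y 0 = x := rfl
    have hysucc : ∀ k, y (k + 1) = pre k (y k) := fun k => rfl
    have hcompat : ∀ k k' : ℕ, ∀ h : k ≤ k',
        F.map (homOfLE (Nat.add_le_add_left h j₀)).op (y k') = y k := by
      intro k k' h
      induction k', h using Nat.le_induction with
      | base => exact hid _ _
      | succ k' hkk' ih =>
        rw [hysucc, ← ih, ← hcomp (Nat.add_le_add_left hkk' j₀) (Nat.le_succ (j₀ + k')), hpre]
    let s : ∀ m : ℕᵒᵖ, F.obj m := fun m =>
      F.map (homOfLE (show unop m ≤ j₀ + unop m by omega)).op (y (unop m))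
    refine ⟨⟨s, ?_⟩, ?_⟩
    · intro m m' g
      have hmm : unop m' ≤ unop m := leOfHom g.unop
      have hg : g = (homOfLE hmm).op := rfl
      show F.map g (F.map _ (y (unop m))) = F.map _ (y (unop m'))
      rw [hg, hcomp, ← hcompat (unop m') (unop m) hmm, hcomp]
    · show F.map _ (y j₀) = x
      rw [← hy0, ← hcompat 0 j₀ (Nat.zero_le _)]
  refine ⟨?_, hsec, ?_⟩
  · intro j
    refine ⟨op (max (unop j) j₀), (homOfLE (le_max_left (unop j) j₀)).op, ?_⟩
    intro k g
    rintro y ⟨x, rfl⟩
    have hjk : unop j ≤ unop k := leOfHom g.unop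
    have hg : g = (homOfLE hjk).op := rfl
    rcases le_total (unop k) (max (unop j) j₀) with hk | hk
    · refine ⟨F.map (homOfLE hk).op x, ?_⟩
      rw [hg, hcomp]
    · obtain ⟨x', rfl⟩ := hsurj _ _ (le_max_right _ _) hk x
      refine ⟨x', ?_⟩
      rw [hg, hcomp]
  · intro hinj
    refine ⟨?_, ?_⟩
    · have hinj' : ∀ (i : ℕᵒᵖ) (f : i ⟶ op j₀), Function.Injective (F.map f) := by
        intro i f
        have hi : j₀ ≤ unop i := leOfHom f.unop
        have hf : f = (homOfLE hi).op := rfl
        rw [hf]
        clear hf f
        obtain ⟨i, rfl⟩ : ∃ i' : ℕ, op i' = i := ⟨unop i, rfl⟩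
        induction i, hi using Nat.le_induction with
        | base => intro a b hab; rwa [hid, hid] at hab
        | succ b hab ih =>
          intro x x' hxx
          rw [← hcomp hab (Nat.le_succ b), ← hcomp hab (Nat.le_succ b)] at hxx
          exact hinj b hab (ih hxx)
      exact F.eval_section_injective_of_eventually_injective hinj' (op j₀) (𝟙 _)
    · exact hsec

end Groth.Agent.S15235
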