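import Groth.Statements.S15391
import Mathlib.Tactic
import Mathlib.RingTheory.Localization.BaseChange
import Mathlib.RingTheory.Localization.AtPrime.Basic
import Mathlib.RingTheory.Ideal.MinimalPrime.Noetherian
import Mathlib.RingTheory.Ideal.MinimalPrime.Localization
import Mathlib.RingTheory.Nilpotent.Lemmas
import Mathlib.Algebra.Module.Torsion.Free
import Mathlib.Algebra.Module.Torsion.Basic
import Mathlib.RingTheory.LocalProperties.Reduced
-- import your own Groth.Agent.* helpers here

set_option autoImplicit false
universe u
open TensorProduct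
open TorFree

namespace Groth.Agent.S15391

/-- Let R be a reduced Noetherian commutative ring, M a finitely generated torsion-free R-module (no
non-zero element of M is annihilated by a non-zero-divisor of R), and t an element of M whose image
1 ⊗ t in the fibre κ(p) ⊗_R M vanishes for every prime ideal p of R, κ(p) being the residue field at
p. Then t = 0. This is the affine form of the claim that a global section of a coherent torsion-free
module on a reduced Noetherian scheme which vanishes in every fibre is zero. -/
theorem result (R : Type u) [CommRing R] [IsReduced R] [IsNoetherianRing R]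
    (M : Type u) [AddCommGroup M] [Module R M] [Module.Finite R M] [Module.IsTorsionFree R M]
    (t : M) (ht : ∀ p : PrimeSpectrum R, (1 : p.asIdeal.ResidueField) ⊗ₜ[R] t = (0 : p.asIdeal.ResidueField ⊗[R] M)) :
    t = 0 := by
  classical
  -- Step 1: for each minimal prime, some s ∉ p kills t
  have hkill : ∀ p ∈ minimalPrimes R, ∃ s : R, s ∉ p ∧ s • t = 0 := by
    intro p hp
    have hpp : p.IsPrime := hp.1.1
    let Rp := Localization.AtPrime p
    have hsub : Subsingleton (PrimeSpectrum Rp) :=
      IsLocalization.subsingleton_primeSpectrum_of_mem_minimalPrimes p hp Rp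
    have hmax : IsLocalRing.maximalIdeal Rp = ⊥ := by
      rw [eq_bot_iff]
      intro x hx
      have hnil : x ∈ nilradical Rp := by
        rw [nilradical_eq_sInf, Submodule.mem_sInf]
        intro J hJ
        have hJ' : J = IsLocalRing.maximalIdeal Rp := by
          have := hsub.elim ⟨J, hJ⟩ ⟨IsLocalRing.maximalIdeal Rp, inferInstance⟩
          exact congrArg PrimeSpectrum.asIdeal this
        rw [hJ']; exact hx
      rw [Ideal.mem_bot]
      exact (mem_nilradical.mp hnil).eq_zero
    have hbij : Function.Bijective (algebraMap Rp p.ResidueField) := by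
      refine ⟨?_, IsLocalRing.residue_surjective⟩
      rw [RingHom.injective_iff_ker_eq_bot]
      have : RingHom.ker (algebraMap Rp p.ResidueField) = IsLocalRing.maximalIdeal Rp :=
        IsLocalRing.ker_residue
      rw [this, hmax]
    let e : Rp ≃ₐ[R] p.ResidueField :=
      AlgEquiv.ofBijective (IsScalarTower.toAlgHom R Rp p.ResidueField) hbij
    have hloc : IsLocalization p.primeCompl p.ResidueField :=
      IsLocalization.isLocalization_of_algEquiv p.primeCompl e
    have hlm : IsLocalizedModule p.primeCompl (TensorProduct.mk R p.ResidueField M 1) :=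
      IsLocalization.tensorProduct_isLocalizedModule p.primeCompl p.ResidueField
    have h0 := ht ⟨p, hpp⟩
    have h1 : TensorProduct.mk R p.ResidueField M 1 t = 0 := h0
    obtain ⟨s, hs⟩ := (IsLocalizedModule.eq_zero_iff p.primeCompl _).mp h1
    exact ⟨s, s.2, hs⟩
  -- Step 2: prime avoidance
  let J : Ideal R := Ideal.torsionOf R M t
  have hfin : (minimalPrimes R).Finite := Ideal.finite_minimalPrimes_of_isNoetherianRing R ⊥
  have hnot : ¬ ((J : Set R) ⊆ ⋃ p ∈ minimalPrimes R, (fun q : Ideal R => q) p) := by
    intro h
    rw [Ideal.subset_union_prime_finite hfin ⊥ ⊥ (fun p hp _ _ => hp.1.1)] at h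
    obtain ⟨p, hp, hJp⟩ := h
    obtain ⟨s, hsp, hst⟩ := hkill p hp
    exact hsp (hJp ((Ideal.mem_torsionOf_iff t s).mpr hst))
  obtain ⟨r, hrJ, hrnot⟩ := Set.not_subset.mp hnot
  have hrt : r • t = 0 := (Ideal.mem_torsionOf_iff t r).mp hrJ
  have hrmin : ∀ p ∈ minimalPrimes R, r ∉ p := by
    intro p hp hrp
    exact hrnot (Set.mem_biUnion hp hrp)
  -- Step 3: r is a nonzerodivisor
  have hreg : r ∈ nonZeroDivisors R := by
    rw [mem_nonZeroDivisors_iff]
    constructor
    · intro s hs
      have hmem : s ∈ sInf (minimalPrimes R) := by
        rw [Submodule.mem_sInf]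
        intro p hp
        have hpp : Ideal.IsPrime p := hp.1.1
        have : s * r ∈ p := by rw [show s * r = 0 by linear_combination hs]; exact p.zero_mem
        exact (hpp.mem_or_mem this).resolve_right (hrmin p hp)
      have : s ∈ (⊥ : Ideal R).radical := by
        rw [← Ideal.sInf_minimalPrimes]; exact hmem
      obtain ⟨n, hn⟩ := this
      exact IsNilpotent.eq_zero ⟨n, Ideal.mem_bot.mp hn⟩
    · intro s hs
      have hmem : s ∈ sInf (minimalPrimes R) := by
        rw [Submodule.mem_sInf]
        intro p hp
        have hpp : Ideal.IsPrime p := hp.1.1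
        have : r * s ∈ p := by rw [show r * s = 0 by linear_combination hs]; exact p.zero_mem
        exact (hpp.mem_or_mem this).resolve_left (hrmin p hp)
      have : s ∈ (⊥ : Ideal R).radical := by
        rw [← Ideal.sInf_minimalPrimes]; exact hmem
      obtain ⟨n, hn⟩ := this
      exact IsNilpotent.eq_zero ⟨n, Ideal.mem_bot.mp hn⟩
  have hR : IsRegular r := isRegular_iff_mem_nonZeroDivisors.mpr hreg
  apply hR.isSMulRegular (M := M)
  simp [hrt]

end Groth.Agent.S15391
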