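import Groth.Statements.S15412
import Mathlib.Tactic
-- import your own Groth.Agent.* helpers here

set_option autoImplicit false
universe w v u
open CategoryTheory Opposite
open Bitors

namespace Groth.Agent.S15412

/-- On a site, let G and H be sheaves of groups and P a sheaf of sets with a left G-action which is
simply transitive on every set of sections P(U). The right H-actions on P that are compatible with
restriction, commute with the G-action and are simply transitive on every P(U) (for P a G-torsor:
the structures of (G, H)-bitorsor on P) correspond exactly to the families of group isomorphisms φ_p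
: H(U) ≃ G(U), one for each section p of P over each U, compatible with restriction and with φ_{g·p}
= g φ_p g⁻¹ (the equivariant maps from P to the sheaf of isomorphisms from H to G); the
correspondence is the rule p · h = φ_p(h) · p, and the statement is that every right structure
arises by this rule from exactly one family and every family from exactly one right structure. (The
published statement takes P a left G-torsor; only the simple transitivity of the G-action on
sections enters, so local existence of sections is not assumed.) -/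
theorem result
    {C : Type u} [Category.{v} C] {J : GrothendieckTopology C}
    (G H : Sheaf J GrpCat.{w}) (P : NonAbH1.GSheaf G) (hP : P.IsPseudoTorsor) :
    (∀ ρ : Bitors.RightStr P H, ∃! φ : Bitors.IsomFamily P H,
        ∀ (U : Cᵒᵖ) (p : P.P.obj.obj U) (h : H.obj.obj U), ρ.rsmul p h = P.smul (φ.φ p h) p) ∧
    (∀ φ : Bitors.IsomFamily P H, ∃! ρ : Bitors.RightStr P H,
        ∀ (U : Cᵒᵖ) (p : P.P.obj.obj U) (h : H.obj.obj U), ρ.rsmul p h = P.smul (φ.φ p h) p) := by
  have smul3 : ∀ {U : Cᵒᵖ} (a b c : G.obj.obj U) (q : P.P.obj.obj U),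
      P.smul (a * b * c) q = P.smul a (P.smul b (P.smul c q)) := by
    intro U a b c q
    rw [P.mul_smul, P.mul_smul]
  have smul_inv : ∀ {U : Cᵒᵖ} (g : G.obj.obj U) (q : P.P.obj.obj U),
      P.smul g⁻¹ (P.smul g q) = q := by
    intro U g q
    rw [← P.mul_smul, inv_mul_cancel, P.one_smul]
  constructor
  · intro ρ
    let gf : ∀ {U : Cᵒᵖ}, P.P.obj.obj U → H.obj.obj U → G.obj.obj U := fun {U} p h =>
      (hP U p (ρ.rsmul p h)).exists.choose
    have gspec : ∀ {U : Cᵒᵖ} (p : P.P.obj.obj U) (h : H.obj.obj U), P.smul (gf p h) p = ρ.rsmul p h :=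
      fun {U} p h => (hP U p (ρ.rsmul p h)).exists.choose_spec
    have guniq : ∀ {U : Cᵒᵖ} (p : P.P.obj.obj U) (h : H.obj.obj U) (g : G.obj.obj U),
        P.smul g p = ρ.rsmul p h → g = gf p h :=
      fun {U} p h g hg => (hP U p (ρ.rsmul p h)).unique hg (gspec p h)
    let m : ∀ {U : Cᵒᵖ}, P.P.obj.obj U → (H.obj.obj U →* G.obj.obj U) := fun {U} p =>
      { toFun := fun h => gf p h
        map_one' := (guniq p 1 1 (by rw [P.one_smul, ρ.rsmul_one])).symm
        map_mul' := fun h h' => (guniq p (h * h') _ (by
          rw [P.mul_smul, gspec, ← ρ.smul_rsmul, gspec, ← ρ.rsmul_mul])).symm }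
    have mbij : ∀ {U : Cᵒᵖ} (p : P.P.obj.obj U), Function.Bijective (m p) := by
      intro U p
      constructor
      · intro h h' hh
        have e : ρ.rsmul p h = ρ.rsmul p h' := by
          rw [← gspec, ← gspec]
          exact congrArg (fun g => P.smul g p) hh
        exact (ρ.existsUnique_rsmul p (ρ.rsmul p h)).unique rfl e.symm
      · intro g
        obtain ⟨h, hh, _⟩ := ρ.existsUnique_rsmul p (P.smul g p)
        exact ⟨h, (guniq p h g hh.symm).symm⟩
    let φ : Bitors.IsomFamily P H :=
      { φ := fun {U} p => MulEquiv.ofBijective (m p) (mbij p)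
        map_φ := fun {U V} f p h => by
          show G.obj.map f (gf p h) = gf (P.P.obj.map f p) (H.obj.map f h)
          apply guniq
          rw [← P.map_smul, gspec, ρ.map_rsmul]
        φ_smul := fun {U} g p h => by
          show gf (P.smul g p) h = g * gf p h * g⁻¹
          symm
          apply guniq
          rw [smul3, smul_inv, gspec, ρ.smul_rsmul] }
    refine ⟨φ, fun U p h => (gspec p h).symm, fun φ' hφ' => ?_⟩
    have hφφ : ∀ {U : Cᵒᵖ} (p : P.P.obj.obj U), φ'.φ p = φ.φ p := by
      intro U p
      ext h
      exact guniq p h _ (hφ' U p h).symm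
    rcases φ' with ⟨a, ha1, ha2⟩
    rcases hφe : φ with ⟨b, hb1, hb2⟩
    have : (fun {U : Cᵒᵖ} (p : P.P.obj.obj U) => a p) = (fun {U} p => b p) := by
      funext U p
      have := hφφ (U := U) p
      rw [hφe] at this
      exact this
    have hab : @a = @b := this
    subst hab
    rfl
  · intro φ
    let ρ : Bitors.RightStr P H :=
      { rsmul := fun {U} p h => P.smul (φ.φ p h) p
        rsmul_one := fun {U} p => by simp [P.one_smul]
        rsmul_mul := fun {U} p h h' => by
          show P.smul (φ.φ p (h * h')) p = P.smul (φ.φ (P.smul (φ.φ p h) p) h') (P.smul (φ.φ p h) p)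
          rw [φ.φ_smul, map_mul, smul3, smul_inv, P.mul_smul]
        map_rsmul := fun {U V} f p h => by
          show P.P.obj.map f (P.smul (φ.φ p h) p) = P.smul (φ.φ (P.P.obj.map f p) (H.obj.map f h)) (P.P.obj.map f p)
          rw [P.map_smul, φ.map_φ]
        smul_rsmul := fun {U} g p h => by
          show P.smul (φ.φ (P.smul g p) h) (P.smul g p) = P.smul g (P.smul (φ.φ p h) p)
          rw [φ.φ_smul, smul3, smul_inv]
        existsUnique_rsmul := fun {U} p q => by
          obtain ⟨g, hg, hu⟩ := hP U p q
          refine ⟨(φ.φ p).symm g, ?_, fun h' hh' => ?_⟩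
          · show P.smul (φ.φ p ((φ.φ p).symm g)) p = q
            rw [MulEquiv.apply_symm_apply]
            exact hg
          · have : φ.φ p h' = g := hu _ hh'
            rw [← this, MulEquiv.symm_apply_apply] }
    refine ⟨ρ, fun U p h => rfl, fun ρ' hρ' => ?_⟩
    rcases ρ' with ⟨a, h1, h2, h3, h4, h5⟩
    have : (fun {U : Cᵒᵖ} (p : P.P.obj.obj U) (h : H.obj.obj U) => a p h) =
        (fun {U} p h => P.smul (φ.φ p h) p) := by
      funext U p h
      exact hρ' U p h
    have hab : @a = fun {U : Cᵒᵖ} (p : P.P.obj.obj U) (h : H.obj.obj U) => P.smul (φ.φ p h) p :=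
      this
    subst hab
    rfl

end Groth.Agent.S15412
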