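import Groth.Statements.S15505
import Mathlib.Tactic
import Mathlib.FieldTheory.Finite.Basic
import Mathlib.LinearAlgebra.Basis.Basic
-- import your own Groth.Agent.* helpers here

set_option autoImplicit false
universe u v w
open FrobAlg

namespace Groth.Agent.S15505

/-- Let k be an algebraically closed field of characteristic p, V a k-vector space, φ a p⁻¹-linear
endomorphism of V (additive, φ(a·v) = a^{1/p}·φ(v)) and b a finite basis of V consisting of vectors
fixed by φ. Then the vectors fixed by φ are exactly the combinations of the b_i with coefficients in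
the prime field: v is fixed if and only if v = Σ c_i·b_i with all c_i in the image of ℤ/p. -/
theorem result (p : ℕ) [Fact p.Prime]
    (k : Type u) [Field k] [CharP k p] [IsAlgClosed k]
    (V : Type v) [AddCommGroup V] [Module k V]
    (φ : V →ₛₗ[((frobeniusEquiv k p).symm : k →+* k)] V)
    {ι : Type w} [Fintype ι] (b : Module.Basis ι k V) (hb : ∀ i, φ (b i) = b i) (v : V) :
    φ v = v ↔ ∃ c : ι → ZMod p, v = ∑ i, (ZMod.castHom (dvd_refl p) k (c i)) • b i := by
  classical
  have hσ : ∀ y : k, ((frobeniusEquiv k p).symm : k →+* k) y = y ↔ y ^ p = y := by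
    intro y
    simp only [RingEquiv.coe_toRingHom]
    constructor
    · intro h
      have := frobeniusEquiv_symm_pow_p k p y
      rw [h] at this
      exact this
    · intro h
      calc (frobeniusEquiv k p).symm y = (frobeniusEquiv k p).symm (frobenius k p y) := by
            rw [frobenius_def, h]
        _ = y := frobeniusEquiv_symm_apply_frobenius k p y
  have hφsum : ∀ c : ι → k, φ (∑ i, c i • b i) =
      ∑ i, ((frobeniusEquiv k p).symm : k →+* k) (c i) • b i := by
    intro c
    rw [map_sum]
    refine Finset.sum_congr rfl fun i _ => ?_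
    rw [LinearMap.map_smulₛₗ, hb]
  have hcast : ∀ y : k, y ^ p = y ↔ ∃ d : ZMod p, ZMod.castHom (dvd_refl p) k d = y := by
    intro y
    rw [← Subfield.mem_bot_iff_pow_eq_self k p, ← ZMod.fieldRange_castHom_eq_bot p,
      RingHom.mem_fieldRange]
  constructor
  · intro hv
    have hrepr : ∀ i, ((frobeniusEquiv k p).symm : k →+* k) (b.repr v i) = b.repr v i := by
      intro i
      have h1 := hφsum (fun i => b.repr v i)
      rw [b.sum_repr, hv] at h1
      have := congrArg (fun w => b.repr w i) h1
      simp only [Module.Basis.repr_sum_self] at this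
      exact this.symm
    choose d hd using fun i => (hcast _).mp ((hσ _).mp (hrepr i))
    refine ⟨d, ?_⟩
    simp only [hd]
    exact (b.sum_repr v).symm
  · rintro ⟨c, rfl⟩
    rw [hφsum]
    refine Finset.sum_congr rfl fun i _ => ?_
    rw [(hσ _).mpr]
    rw [← map_pow, ZMod.pow_card]

end Groth.Agent.S15505
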