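import Groth.Statements.S15740
import Mathlib.Tactic
-- import your own Groth.Agent.* helpers here

set_option autoImplicit false
open W4c2invhilbsl2

namespace Groth.Agent.S15740

/-- For a monomial X₀^d₀X₁^d₁X₂^d₂ of the polynomial ring in X₀, X₁, X₂ (X₂ standing for Xⱼ, j = 3 or 4,
of the five-variable ring) put n = d₀ − p·d₁ + q·d₂ (its weight for the torus diag(t, t^(−p), t^q)),
c = d₁ − d₂ and ω = p·d₁ − q·d₂, so that d₀ = n + ω; here 0 < p < q are coprime integers. Suppose n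
≥ 0, c > 0 and d₀ < q − p (the last condition says that ω is the least value of ω for the pair (n,
c)). Then ω ≥ 0 if and only if the remainder of p·c on division by q − p, plus n, is less than q −
p. -/
theorem result (p q : ℕ) (hp : 0 < p) (hpq : p < q) (hcop : Nat.Coprime p q) (d0 d1 d2 : ℕ)
    (hn : 0 ≤ (d0 : ℤ) - (p : ℤ) * d1 + (q : ℤ) * d2) (hc : (d2 : ℤ) < d1) (hd0 : d0 < q - p) :
    0 ≤ (p : ℤ) * d1 - (q : ℤ) * d2 ↔
      Int.emod ((p : ℤ) * ((d1 : ℤ) - d2)) ((q : ℤ) - p) + ((d0 : ℤ) - (p : ℤ) * d1 + (q : ℤ) * d2) < (q : ℤ) - p := by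
  have hpq' : (p : ℤ) < q := by exact_mod_cast hpq
  have hd' : (d0 : ℤ) < (q : ℤ) - p := by
    have h1 : ((q - p : ℕ) : ℤ) = (q : ℤ) - p := by push_cast [Nat.cast_sub hpq.le]; ring
    have h2 : ((d0 : ℕ) : ℤ) < ((q - p : ℕ) : ℤ) := by exact_mod_cast hd0
    rw [h1] at h2; exact h2
  have hd0nn : (0 : ℤ) ≤ d0 := by positivity
  set m : ℤ := (q : ℤ) - p with hmdef
  have hm : 0 < m := by rw [hmdef]; linarith
  have hdiv := Int.emod_add_mul_ediv ((p : ℤ) * ((d1 : ℤ) - d2)) m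
  have hr0 : 0 ≤ Int.emod ((p : ℤ) * ((d1 : ℤ) - d2)) m := Int.emod_nonneg _ (ne_of_gt hm)
  have hrm : Int.emod ((p : ℤ) * ((d1 : ℤ) - d2)) m < m := Int.emod_lt_of_pos _ hm
  set r := Int.emod ((p : ℤ) * ((d1 : ℤ) - d2)) m with hrdef
  set Q := ((p : ℤ) * ((d1 : ℤ) - d2)) / m with hQdef
  have hr' : ((p : ℤ) * ((d1 : ℤ) - d2)) % m = r := rfl
  rw [hr'] at hdiv
  -- hdiv : r + m * Q = p * (d1 - d2)
  have hq : (q : ℤ) = m + p := by rw [hmdef]; ring
  rcases le_or_gt (d2 : ℤ) Q with hle | hlt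
  · have h := mul_nonneg hm.le (sub_nonneg.mpr hle)
    constructor
    · intro _
      rw [hq]; nlinarith
    · intro _
      rw [hq]; nlinarith
  · have hlt' : Q + 1 ≤ (d2 : ℤ) := hlt
    have h := mul_nonneg hm.le (sub_nonneg.mpr hlt')
    constructor
    · intro h0
      exfalso
      rw [hq] at h0; nlinarith
    · intro h0
      exfalso
      rw [hq] at h0; nlinarith

end Groth.Agent.S15740
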