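import Groth.Statements.S16156
import Mathlib.Tactic.Linarith
import Mathlib.Tactic.Ring
-- import your own Groth.Agent.* helpers here

set_option autoImplicit false
universe u
open MukaiVec

namespace Groth.Agent.S16156

-- case h < 0 in direction X ≥ 0 → Y ≥ 0
theorem h24_caseA_neg (n r d χ p q h : ℤ) (hn : 0 < n) (hr : 2 ≤ r) (hd : 0 < d) (hχ : χ < 0)
    (_hp : 0 ≤ p) (hsq : 4 * n * p * q ≤ h * h) (hsl : -2 ≤ d * h - r * q - χ * p)
    (hY : χ * h - 2 * n * d * q < 0) (hneg : h < 0) : False := by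
  have hch : 0 < χ * h := mul_pos_of_neg_of_neg hχ hneg
  have hnd : 0 < n * d := mul_pos hn hd
  have hq : 0 < q := by
    by_contra hc
    rw [not_lt] at hc
    have : n * d * q ≤ 0 := mul_nonpos_of_nonneg_of_nonpos hnd.le hc
    linarith
  have hmh : 0 < -h := by linarith
  have hmc : 0 < -χ := by linarith
  -- (-χ) * (4 n p q) ≤ (-χ) * h^2
  have h1 : (-χ) * (4 * n * p * q) ≤ (-χ) * (h * h) := mul_le_mul_of_nonneg_left hsq hmc.le
  -- (χ h) * (-h) < (2 n d q) * (-h)
  have h2 : (χ * h) * (-h) < (2 * n * d * q) * (-h) := mul_lt_mul_of_pos_right (by linarith) hmh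
  have h3 : (-χ) * p * (4 * n * q) < (2 * n * q) * (d * (-h)) := by nlinarith
  have hnq : 0 < 2 * n * q := by positivity
  have h4 : (-χ) * p * 2 < d * (-h) := by
    have : (2 * n * q) * ((-χ) * p * 2) < (2 * n * q) * (d * (-h)) := by nlinarith
    exact lt_of_mul_lt_mul_left this hnq.le
  have hdh : 1 ≤ d * (-h) := by nlinarith
  have hrq : 2 ≤ r * q := by nlinarith
  have e1 : d * (-h) = -(d * h) := by ring
  have e2 : (-χ) * p * 2 = -(2 * (χ * p)) := by ring
  rw [e1] at h4 hdh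
  rw [e2] at h4
  omega

theorem h24_caseA_zero (n r d χ p q : ℤ) (hn : 0 < n) (hr : 2 ≤ r) (hd : 0 < d)
    (hp : 0 ≤ p) (hsq : 4 * n * p * q ≤ 0 * 0) (hsl : -2 ≤ d * 0 - r * q - χ * p)
    (hY : χ * 0 - 2 * n * d * q < 0) (hr2 : r = 2 → ¬ (p = 0 ∧ (0:ℤ) = 0)) : False := by
  have hnd : 0 < n * d := mul_pos hn hd
  have hq : 0 < q := by
    by_contra hc
    rw [not_lt] at hc
    have : n * d * q ≤ 0 := mul_nonpos_of_nonneg_of_nonpos hnd.le hc
    linarith
  have h4 : 0 < 4 * n * q := by positivity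
  have hp0 : p = 0 := by
    by_contra hc
    have hp' : 0 < p := lt_of_le_of_ne hp (Ne.symm hc)
    have := mul_pos hp' h4
    nlinarith
  subst hp0
  have hrq : r * 1 ≤ r * q := mul_le_mul_of_nonneg_left (by omega) (by omega)
  have : r = 2 := by nlinarith
  exact hr2 this ⟨rfl, rfl⟩

theorem h24_caseA_pos (n r d χ p q h : ℤ) (hn : 0 < n) (hr : 2 ≤ r) (hd : 0 < d) (hχ : χ < 0)
    (hp : 0 ≤ p) (hsq : 4 * n * p * q ≤ h * h) (hsu : d * h - r * q - χ * p ≤ 2)
    (hX : 0 ≤ 2 * n * d * p - r * h) (hpos : 0 < h)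
    (hexc : ¬ (d = 1 ∧ χ = -1 ∧ h = 1 ∧ 2 * p * q = 0)) : False := by
  have hp0 : 0 < p := by
    by_contra hc
    have : p = 0 := by omega
    subst this
    have : 0 < r * h := mul_pos (by linarith) hpos
    linarith
  have hcp : 1 ≤ (-χ) * p := by nlinarith
  have hdh : 1 ≤ d * h := by nlinarith
  have e2 : (-χ) * p = -(χ * p) := by ring
  rw [e2] at hcp
  rcases le_or_gt q 0 with hq | hq
  · have hrq : 0 ≤ r * (-q) := mul_nonneg (by linarith) (by linarith)
    have e3 : r * (-q) = -(r * q) := by ring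
    rw [e3] at hrq
    have hdh1 : d * h = 1 := by omega
    have hcp1 : χ * p = -1 := by omega
    have hrq0 : r * q = 0 := by omega
    have hd1 : d = 1 := by nlinarith
    have hh1 : h = 1 := by nlinarith
    have hp1 : p = 1 := by nlinarith
    have hc1 : χ = -1 := by subst hp1; linarith
    have hq0 : q = 0 := by
      rcases mul_eq_zero.1 hrq0 with h' | h'
      · omega
      · exact h'
    exact hexc ⟨hd1, hc1, hh1, by rw [hq0]; ring⟩
  · have h1 : 2 * q * (r * h) ≤ 2 * q * (2 * n * d * p) := mul_le_mul_of_nonneg_left (by linarith) (by linarith)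
    have h2 : d * (4 * n * p * q) ≤ d * (h * h) := mul_le_mul_of_nonneg_left hsq hd.le
    have h3' : h * (2 * r * q) ≤ h * (d * h) := by nlinarith
    have h3 : 2 * r * q ≤ d * h := le_of_mul_le_mul_left h3' hpos
    have hrq : r * 1 ≤ r * q := mul_le_mul_of_nonneg_left (by omega) (by omega)
    linarith

theorem h24_caseB (n r d χ p q h : ℤ) (hn : 0 < n) (hr : 2 ≤ r) (hd : 0 < d) (hχ : χ < 0)
    (hp : 0 ≤ p) (hsu : d * h - r * q - χ * p ≤ 2)
    (hX : 2 * n * d * p - r * h < 0) (hY : 0 ≤ χ * h - 2 * n * d * q) : False := by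
  have hnd : 0 < n * d := mul_pos hn hd
  have hndp : 0 ≤ n * d * p := mul_nonneg hnd.le hp
  have hpos : 0 < h := by
    by_contra hc
    rw [not_lt] at hc
    have : r * h ≤ 0 := mul_nonpos_of_nonneg_of_nonpos (by linarith) hc
    nlinarith
  have hq : q < 0 := by
    have : χ * h < 0 := mul_neg_of_neg_of_pos hχ hpos
    by_contra hc
    rw [not_lt] at hc
    have : 0 ≤ n * d * q := mul_nonneg hnd.le hc
    nlinarith
  have hdh : 1 ≤ d * h := by nlinarith
  have hrq : 2 ≤ r * (-q) := by nlinarith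
  have hcp : 0 ≤ (-χ) * p := mul_nonneg (by linarith) hp
  have e2 : (-χ) * p = -(χ * p) := by ring
  have e3 : r * (-q) = -(r * q) := by ring
  rw [e2] at hcp
  rw [e3] at hrq
  omega

/-- Let N be an abelian group with a symmetric integer-valued bilinear form and H an element with H·H =
2n for some n > 0 such that every x with x·H = 0 satisfies x·x ≤ 0 (the Hodge index inequality). Fix
integers r ≥ 2, d > 0 and χ < 0 (a Mukai vector v = (r, dH, χ)) and an isotropic Mukai vector u =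
(p, η, q), p ≥ 0, η ∈ N, η·η = 2pq, whose pairing ⟨v, u⟩ = d(H·η) − rq − χp has absolute value 1 or
2. Exclude the case d = 1, χ = −1, H·η = 1, η·η = 0, and when r = 2 also the case p = 0, H·η = 0.
Then the pairings of u∨ = (p, −η, q) with w₀ = (0, rH, −2nd) and with w₁ = (2nd, −χH, 0) are both
non-negative or both negative: 2ndp − r(H·η) ≥ 0 holds if and only if χ(H·η) − 2ndq ≥ 0 holds. -/
theorem result
    (N : Type u) [AddCommGroup N] (B : LinearMap.BilinForm ℤ N) (hB : ∀ x y : N, B x y = B y x)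
    (H : N) (n : ℤ) (hn : 0 < n) (hH : B H H = 2 * n) (hodge : ∀ x : N, B x H = 0 → B x x ≤ 0)
    (r d χ p q : ℤ) (η : N) (hr : 2 ≤ r) (hd : 0 < d) (hχ : χ < 0) (hp : 0 ≤ p)
    (hiso : B η η = 2 * p * q)
    (hvu : 1 ≤ |d * B H η - r * q - χ * p| ∧ |d * B H η - r * q - χ * p| ≤ 2)
    (hexc : ¬ (d = 1 ∧ χ = -1 ∧ B H η = 1 ∧ B η η = 0))
    (hr2 : r = 2 → ¬ (p = 0 ∧ B H η = 0)) :
    (0 ≤ 2 * n * d * p - r * B H η ↔ 0 ≤ χ * B H η - 2 * n * d * q) := by
  have hHx : B ((2 * n) • η - (B H η) • H) H = 0 := by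
    simp only [map_sub, map_zsmul, LinearMap.sub_apply, LinearMap.smul_apply, smul_eq_mul]
    rw [hB η H, hH]; ring
  have hxx := hodge _ hHx
  have e : B ((2 * n) • η - (B H η) • H) ((2 * n) • η - (B H η) • H) =
      (2 * n) * (2 * n) * B η η - (2 * n) * (B H η) * B η H - (B H η) * (2 * n) * B H η +
        (B H η) * (B H η) * B H H := by
    simp only [map_sub, map_zsmul, LinearMap.sub_apply, LinearMap.smul_apply, smul_eq_mul]
    ring
  rw [e, hiso, hB η H, hH] at hxx
  rw [hiso] at hexc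
  generalize B H η = h at hxx hvu hexc hr2 ⊢
  have hsq : 4 * n * p * q ≤ h * h := by nlinarith
  obtain ⟨-, hs2⟩ := hvu
  rw [abs_le] at hs2
  obtain ⟨hsl, hsu⟩ := hs2
  constructor
  · intro hX
    by_contra hY
    rw [not_le] at hY
    rcases lt_trichotomy h 0 with hneg | hzero | hpos
    · exact h24_caseA_neg n r d χ p q h hn hr hd hχ hp hsq hsl hY hneg
    · subst hzero
      exact h24_caseA_zero n r d χ p q hn hr hd hp hsq hsl hY hr2
    · exact h24_caseA_pos n r d χ p q h hn hr hd hχ hp hsq hsu hX hpos hexc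
  · intro hY
    by_contra hX
    rw [not_le] at hX
    exact h24_caseB n r d χ p q h hn hr hd hχ hp hsu hX hY

end Groth.Agent.S16156
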