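import Groth.Statements.S16460
-- import your own Groth.Agent.* helpers here

set_option autoImplicit false
universe u
open AdicGr

namespace Groth.Agent.S16460

/-- Let A be a commutative ring with a decreasing filtration by ideals A = F₀ ⊇ F₁ ⊇ F₂ ⊇ … satisfying
F_m·F_n ⊆ F_{m+n}, and assume the filtration is separated, ⋂ₙ Fₙ = 0. If the associated graded ring
⊕ₙ Fₙ/Fₙ₊₁ is an integral domain, then A is an integral domain. -/
theorem result (A : Type u) [CommRing A]
    (𝓕 : FiltBl.IdealFiltration A) (hsep : ⨅ n, 𝓕.F n = ⊥) [IsDomain (AssocGr.GrRing 𝓕)] :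
    IsDomain A := by
  classical
  have hnt : Nontrivial A := by
    refine ⟨⟨0, 1, fun h => ?_⟩⟩
    have := congrArg (algebraMap A (AssocGr.GrRing 𝓕)) h
    rw [map_zero, map_one] at this
    exact zero_ne_one this
  have hlev : ∀ a : A, a ≠ 0 → ∃ (n : ℕ) (h : a ∈ 𝓕.F n), a ∉ 𝓕.F (n+1) := by
    intro a ha
    have hex : ∃ N, a ∉ 𝓕.F N := by
      by_contra hcon
      push_neg at hcon
      have hmem : a ∈ ⨅ n, 𝓕.F n := Submodule.mem_iInf _ |>.mpr hcon
      rw [hsep] at hmem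
      exact ha ((Submodule.mem_bot _).mp hmem)
    have hN0 : Nat.find hex ≠ 0 := by
      intro h0
      have := Nat.find_spec hex
      rw [h0, 𝓕.zero_eq] at this
      exact this Submodule.mem_top
    refine ⟨Nat.find hex - 1, ?_, ?_⟩
    · have := Nat.find_min hex (show Nat.find hex - 1 < Nat.find hex by omega)
      push_neg at this
      exact this
    · have := Nat.find_spec hex
      rwa [show Nat.find hex - 1 + 1 = Nat.find hex by omega]
  have hnzd : NoZeroDivisors A := by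
    constructor
    intro a b hab
    by_contra hcon
    push_neg at hcon
    obtain ⟨ha, hb⟩ := hcon
    obtain ⟨n, han, han1⟩ := hlev a ha
    obtain ⟨m, hbm, hbm1⟩ := hlev b hb
    have h1 : (AssocGr.inDeg 𝓕 n ⟨a, han⟩ : AssocGr.GrRing 𝓕) ≠ 0 := by
      intro h
      apply han1
      exact (AssocGr.inDeg_eq_zero_iff 𝓕 n ⟨a, han⟩).mp (Subtype.ext h)
    have h2 : (AssocGr.inDeg 𝓕 m ⟨b, hbm⟩ : AssocGr.GrRing 𝓕) ≠ 0 := by
      intro h
      apply hbm1
      exact (AssocGr.inDeg_eq_zero_iff 𝓕 m ⟨b, hbm⟩).mp (Subtype.ext h)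
    have h3 := AssocGr.coe_inDeg_mul 𝓕 n m ⟨a, han⟩ ⟨b, hbm⟩
    have h4 : (AssocGr.inDeg 𝓕 (n + m) ⟨a * b, 𝓕.mul_le n m (Ideal.mul_mem_mul han hbm)⟩ :
        AssocGr.GrRing 𝓕) = 0 := by
      have e : (⟨a * b, 𝓕.mul_le n m (Ideal.mul_mem_mul han hbm)⟩ : 𝓕.F (n + m)) = 0 :=
        Subtype.ext hab
      rw [e, map_zero]
      rfl
    rw [h4] at h3
    exact (mul_ne_zero h1 h2) h3
  exact NoZeroDivisors.to_isDomain A

end Groth.Agent.S16460
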