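import Groth.Statements.S16644
import Mathlib.RingTheory.Polynomial.Basic
import Mathlib.RingTheory.ZMod
import Mathlib.RingTheory.MvPolynomial.Basic
import Mathlib.LinearAlgebra.Matrix.Determinant.Basic
import Mathlib.Algebra.CharP.Two
import Mathlib.Tactic.LinearCombination
-- import your own Groth.Agent.* helpers here

set_option autoImplicit false
open QuadZ

namespace Groth.Agent.S16644

/-- For odd n, the discriminant of the universal quadratic form Σ_{i ≤ j} A_{ij} x_i x_j in n variables
(variables A_{ij} indexed by unordered pairs), i.e. the determinant of the symmetric matrix with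
diagonal entries 2 A_{ii} and off-diagonal entries A_{ij}, is divisible by 2 in the integral
polynomial ring ℤ[A_{ij}] (so the half-discriminant is an integral polynomial). -/
theorem result (n : ℕ) (hn : Odd n) :
    (2 : MvPolynomial (Sym2 (Fin n)) ℤ) ∣
      (Matrix.of fun i j : Fin n =>
        if i = j then 2 * MvPolynomial.X (R := ℤ) (σ := Sym2 (Fin n)) (Sym2.mk i j)
        else MvPolynomial.X (R := ℤ) (σ := Sym2 (Fin n)) (Sym2.mk i j)).det := by
  classical
  set M : Matrix (Fin n) (Fin n) (MvPolynomial (Sym2 (Fin n)) ℤ) := Matrix.of fun i j : Fin n =>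
        if i = j then 2 * MvPolynomial.X (R := ℤ) (σ := Sym2 (Fin n)) (Sym2.mk i j)
        else MvPolynomial.X (R := ℤ) (σ := Sym2 (Fin n)) (Sym2.mk i j) with hM
  -- a skew-symmetric lift of `M` modulo 2
  set B : Matrix (Fin n) (Fin n) (MvPolynomial (Sym2 (Fin n)) ℤ) := Matrix.of fun i j : Fin n =>
        if i < j then MvPolynomial.X (R := ℤ) (σ := Sym2 (Fin n)) (Sym2.mk i j)
        else if j < i then -MvPolynomial.X (R := ℤ) (σ := Sym2 (Fin n)) (Sym2.mk i j) else 0 with hB
  have hBt : B.transpose = -B := by
    ext i j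
    simp only [hB, Matrix.transpose_apply, Matrix.of_apply, Matrix.neg_apply]
    rcases lt_trichotomy i j with h | h | h
    · simp [h, not_lt.mpr h.le, Sym2.eq_swap]
    · subst h; simp
    · simp [h, not_lt.mpr h.le, Sym2.eq_swap]
  have hdetB : B.det = 0 := by
    have h1 : B.det = -B.det := by
      conv_lhs => rw [← Matrix.det_transpose, hBt, Matrix.det_neg, Fintype.card_fin, hn.neg_one_pow]
      ring
    have h2 : (2 : MvPolynomial (Sym2 (Fin n)) ℤ) * B.det = 0 := by linear_combination h1
    exact (mul_eq_zero.mp h2).resolve_left two_ne_zero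
  set φ : MvPolynomial (Sym2 (Fin n)) ℤ →+* MvPolynomial (Sym2 (Fin n)) (ZMod 2) :=
    MvPolynomial.map (Int.castRingHom (ZMod 2)) with hφ
  have hmap : φ.mapMatrix M = φ.mapMatrix B := by
    ext i j
    simp only [RingHom.mapMatrix_apply, Matrix.map_apply, hM, hB, Matrix.of_apply]
    rcases lt_trichotomy i j with h | h | h
    · simp [h, h.ne, not_lt.mpr h.le]
    · subst h
      simp only [if_true, lt_irrefl, if_false, map_zero, map_mul, map_ofNat]
      rw [show (2 : MvPolynomial (Sym2 (Fin n)) (ZMod 2)) = 0 from CharTwo.two_eq_zero, zero_mul]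
    · simp [h, h.ne', not_lt.mpr h.le, CharTwo.neg_eq]
  have hφdet : φ M.det = 0 := by
    rw [RingHom.map_det, hmap, ← RingHom.map_det, hdetB, map_zero]
  have hker : M.det ∈ RingHom.ker φ := hφdet
  rw [hφ, MvPolynomial.ker_map, ZMod.ker_intCastRingHom, Ideal.map_span, Set.image_singleton,
    Ideal.mem_span_singleton] at hker
  simpa using hker

end Groth.Agent.S16644
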