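import Groth.Statements.S16737
import Mathlib.RingTheory.Kaehler.Polynomial
import Mathlib.Algebra.MvPolynomial.Expand
import Mathlib.RingTheory.MvPolynomial.Basic
import Mathlib.Algebra.CharP.Lemmas
import Mathlib.Algebra.Field.ZMod
-- import your own Groth.Agent.* helpers here

set_option autoImplicit false
universe u v
open DeRham

namespace Groth.Agent.S16737

/-- The case of affine space over an affine base of characteristic p, in degree zero. Let p be a prime
and R a commutative ring with p = 0 in R. For a polynomial f over R in any set of variables t_i, the
Kähler differential df in Ω_{R[t]/R} vanishes if and only if f is a polynomial in the p-th powers of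
the variables, f = g(t_i^p). Equivalently, the functions on affine space over R killed by the
differential of the de Rham complex are exactly the functions on its Frobenius twist. (The published
computation is for finitely many variables over a noetherian base of characteristic p; the statement
here allows any commutative ring with p = 0 and any set of variables.) -/
theorem result (p : ℕ) [Fact p.Prime]
    (R : Type u) [CommRing R] [CharP R p] (σ : Type v) (f : MvPolynomial σ R) :
    KaehlerDifferential.D R (MvPolynomial σ R) f = 0 ↔
      ∃ g : MvPolynomial σ R, f = MvPolynomial.expand p g := by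
  classical
  constructor
  · intro hD
    have hpd : ∀ i, MvPolynomial.pderiv i f = 0 := by
      intro i
      ext m
      rw [← KaehlerDifferential.mvPolynomialBasis_repr_apply, hD, map_zero, Finsupp.zero_apply,
        MvPolynomial.coeff_zero]
    -- divisibility of exponents
    have hdiv : ∀ m ∈ f.support, ∀ i, p ∣ m i := by
      intro m hm i
      rcases Nat.eq_zero_or_pos (m i) with h0 | hpos
      · rw [h0]; exact dvd_zero p
      · by_contra hnd
        have hc := congrArg (MvPolynomial.coeff (m - Finsupp.single i 1)) (hpd i)
        rw [MvPolynomial.coeff_pderiv, MvPolynomial.coeff_zero] at hc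
        have hm' : m - Finsupp.single i 1 + Finsupp.single i 1 = m := by
          ext j
          by_cases hj : j = i
          · subst hj
            simp only [Finsupp.coe_add, Finsupp.coe_tsub, Pi.add_apply, Pi.sub_apply,
              Finsupp.single_eq_same]
            omega
          · simp [Ne.symm hj]
        have hmi : (((m - Finsupp.single i 1 : σ →₀ ℕ) i : ℕ) : R) + 1 = ((m i : ℕ) : R) := by
          have : (m - Finsupp.single i 1 : σ →₀ ℕ) i + 1 = m i := by
            simp only [Finsupp.coe_tsub, Pi.sub_apply, Finsupp.single_eq_same]
            omega
          rw [← this]
          push_cast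
          ring
        rw [hm', hmi] at hc
        have hunit : IsUnit ((m i : ℕ) : R) := by
          have h1 : ((m i : ℕ) : ZMod p) ≠ 0 := by
            rw [Ne, CharP.cast_eq_zero_iff (ZMod p) p]
            exact hnd
          have h2 : IsUnit ((m i : ℕ) : ZMod p) := h1.isUnit
          have := h2.map (ZMod.castHom (dvd_refl p) R)
          simpa using this
        exact (MvPolynomial.mem_support_iff.mp hm) ((hunit.mul_left_eq_zero).mp hc)
    refine ⟨∑ m ∈ f.support, MvPolynomial.monomial
      (Finsupp.mapRange (fun n => n / p) (Nat.zero_div p) m) (f.coeff m), ?_⟩
    rw [map_sum]
    conv_lhs => rw [f.as_sum]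
    refine Finset.sum_congr rfl fun m hm => ?_
    rw [MvPolynomial.expand_monomial]
    have hpm : p • Finsupp.mapRange (fun n => n / p) (Nat.zero_div p) m = m := by
      ext i
      simp [Nat.mul_div_cancel' (hdiv m hm i)]
    rw [hpm]
  · rintro ⟨g, rfl⟩
    induction g using MvPolynomial.induction_on with
    | C a => rw [MvPolynomial.expand_C, ← MvPolynomial.algebraMap_eq, Derivation.map_algebraMap]
    | add a b ha hb => rw [map_add, map_add, ha, hb, add_zero]
    | mul_X a i ha =>
      rw [map_mul, MvPolynomial.expand_X, Derivation.leibniz, ha, smul_zero, add_zero,
        Derivation.leibniz_pow, ← Nat.cast_smul_eq_nsmul (MvPolynomial σ R),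
        CharP.cast_eq_zero, zero_smul, smul_zero]

end Groth.Agent.S16737
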