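import Groth.Statements.S16979
import Mathlib.FieldTheory.IsAlgClosed.AlgebraicClosure
import Mathlib.FieldTheory.IsAlgClosed.Spectrum
import Mathlib.LinearAlgebra.Matrix.Charpoly.Eigs
import Mathlib.LinearAlgebra.Matrix.Charpoly.Basic
import Mathlib.FieldTheory.Separable
import Mathlib.RingTheory.Localization.FractionRing
-- import your own Groth.Agent.* helpers here

set_option autoImplicit false
universe u v
open CAlg

namespace Groth.Agent.S16979

/-- Let R be an integral domain with fraction field K and φ a square matrix over R whose characteristic
polynomial becomes separable in K[T] (equivalently, K[T] modulo the characteristic polynomial is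
geometrically reduced over K). Then a polynomial f over R satisfies f(φ) = 0 exactly when the
characteristic polynomial of φ divides f in R[T]: the kernel of evaluation at φ (the minimal ideal
of φ) is the principal ideal generated by the characteristic polynomial. -/
theorem result
    {R : Type u} [CommRing R] [IsDomain R] {n : Type v} [Fintype n] [DecidableEq n]
    (φ : Matrix n n R)
    (hsep : (φ.charpoly.map (algebraMap R (FractionRing R))).Separable) :
    RingHom.ker (Polynomial.aeval (R := R) φ) = Ideal.span {φ.charpoly} := by
  classical
  apply le_antisymm
  · intro p hp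
    rw [RingHom.mem_ker] at hp
    rw [Ideal.mem_span_singleton]
    have hinj : Function.Injective (algebraMap R (AlgebraicClosure (FractionRing R))) := by
      rw [IsScalarTower.algebraMap_eq R (FractionRing R) (AlgebraicClosure (FractionRing R))]
      exact (algebraMap (FractionRing R) (AlgebraicClosure (FractionRing R))).injective.comp
        (IsFractionRing.injective R (FractionRing R))
    have hmonic : φ.charpoly.Monic := Matrix.charpoly_monic φ
    set A : Matrix n n (AlgebraicClosure (FractionRing R)) :=
      (Algebra.ofId R (AlgebraicClosure (FractionRing R))).mapMatrix φ with hA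
    have hAeq : A = φ.map (algebraMap R (AlgebraicClosure (FractionRing R))) := rfl
    have hpA : Polynomial.aeval A (p.map (algebraMap R (AlgebraicClosure (FractionRing R)))) = 0 := by
      rw [Polynomial.aeval_map_algebraMap, hA, Polynomial.aeval_algHom_apply, hp, map_zero]
    have hcharA : A.charpoly = φ.charpoly.map (algebraMap R (AlgebraicClosure (FractionRing R))) := by
      rw [hAeq, Matrix.charpoly_map]
    have hsepL : (φ.charpoly.map (algebraMap R (AlgebraicClosure (FractionRing R)))).Separable := by
      have := hsep.map (f := algebraMap (FractionRing R) (AlgebraicClosure (FractionRing R)))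
      rwa [Polynomial.map_map, ← IsScalarTower.algebraMap_eq] at this
    have hroots : ∀ μ ∈ (φ.charpoly.map (algebraMap R (AlgebraicClosure (FractionRing R)))).roots,
        (p.map (algebraMap R (AlgebraicClosure (FractionRing R)))).IsRoot μ := by
      intro μ hμ
      have hμ' : μ ∈ spectrum (AlgebraicClosure (FractionRing R)) A := by
        rw [Matrix.mem_spectrum_iff_isRoot_charpoly, hcharA]
        exact (Polynomial.mem_roots'.mp hμ).2
      have := spectrum.subset_polynomial_aeval A
        (p.map (algebraMap R (AlgebraicClosure (FractionRing R)))) ⟨μ, hμ', rfl⟩
      rw [hpA, spectrum.mem_iff, sub_zero] at this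
      by_contra hne
      exact this ((isUnit_iff_ne_zero.mpr hne).map
        (algebraMap (AlgebraicClosure (FractionRing R)) (Matrix n n (AlgebraicClosure (FractionRing R)))))
    have hdvdL : φ.charpoly.map (algebraMap R (AlgebraicClosure (FractionRing R))) ∣
        p.map (algebraMap R (AlgebraicClosure (FractionRing R))) := by
      by_cases hp0 : p.map (algebraMap R (AlgebraicClosure (FractionRing R))) = 0
      · rw [hp0]; exact dvd_zero _
      have hχL := Polynomial.prod_multiset_X_sub_C_of_monic_of_roots_card_eq
        (hmonic.map (algebraMap R (AlgebraicClosure (FractionRing R))))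
        IsAlgClosed.card_roots_eq_natDegree
      rw [← hχL, Multiset.prod_X_sub_C_dvd_iff_le_roots hp0]
      have hnd := Polynomial.nodup_roots hsepL
      rw [Multiset.le_iff_subset hnd]
      intro μ hμ
      exact (Polynomial.mem_roots hp0).mpr (hroots μ hμ)
    have hmod : (p %ₘ φ.charpoly).map (algebraMap R (AlgebraicClosure (FractionRing R))) = 0 := by
      rw [Polynomial.map_modByMonic _ hmonic]
      exact (Polynomial.modByMonic_eq_zero_iff_dvd (hmonic.map _)).mpr hdvdL
    have hmod0 : p %ₘ φ.charpoly = 0 :=
      Polynomial.map_injective _ hinj (hmod.trans (Polynomial.map_zero _).symm)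
    exact (Polynomial.modByMonic_eq_zero_iff_dvd hmonic).mp hmod0
  · rw [Ideal.span_le, Set.singleton_subset_iff]
    exact Matrix.aeval_self_charpoly φ

end Groth.Agent.S16979
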