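import Groth.Statements.S17016
import Mathlib.Tactic.NoncommRing
import Mathlib.Algebra.BigOperators.Group.List.Basic

set_option autoImplicit false
universe u
open QuadGrp

namespace Groth.Agent.S17016

theorem single_val {R : Type u} [CommRing R] {n : ℕ} (a : Fin n) (k : ℕ) (hk : k < n) :
    (Pi.single a (1 : R) : Fin n → R) ⟨k, hk⟩ = if k = (a : ℕ) then 1 else 0 := by
  simp only [Pi.single_apply, Fin.ext_iff]

theorem Q_apply (R : Type u) [CommRing R] (m : ℕ) (x : Fin (m * 2) → R) :
    QuadGrp.splitForm R (m * 2) x = ∑ i : Fin (m * 2 / 2),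
      x ⟨2 * (i : ℕ), by omega⟩ * x ⟨2 * (i : ℕ) + 1, by omega⟩ := by
  simp [QuadGrp.splitForm]

theorem Q_single (R : Type u) [CommRing R] (m : ℕ) (a : Fin (m * 2)) :
    QuadGrp.splitForm R (m * 2) (Pi.single a 1) = 0 := by
  rw [Q_apply]
  apply Finset.sum_eq_zero
  intro i _
  rw [single_val, single_val]
  split_ifs with h1 h2
  · exfalso; omega
  · simp
  · simp
  · simp

theorem Q_two (R : Type u) [CommRing R] (m : ℕ) (a b : Fin (m * 2)) (hab : (a : ℕ) / 2 ≠ (b : ℕ) / 2) :
    QuadGrp.splitForm R (m * 2) (Pi.single a 1 + Pi.single b 1) = 0 := by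
  rw [Q_apply]
  apply Finset.sum_eq_zero
  intro i _
  simp only [Pi.add_apply]
  rw [single_val, single_val, single_val, single_val]
  split_ifs <;> first | (exfalso; omega) | simp

theorem Q_pair (R : Type u) [CommRing R] (m : ℕ) (i : Fin m) :
    QuadGrp.splitForm R (m * 2) (Pi.single (finProdFinEquiv (i, 0)) 1 +
      Pi.single (finProdFinEquiv (i, 1)) 1) = 1 := by
  have h0 : ((finProdFinEquiv (i, (0 : Fin 2)) : Fin (m * 2)) : ℕ) = 2 * i := by
    simp [finProdFinEquiv_apply_val]
  have h1 : ((finProdFinEquiv (i, (1 : Fin 2)) : Fin (m * 2)) : ℕ) = 2 * i + 1 := by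
    simp [finProdFinEquiv_apply_val]; omega
  rw [Q_apply, Finset.sum_eq_single (⟨i, by omega⟩ : Fin (m * 2 / 2))]
  · simp only [Pi.add_apply]
    rw [single_val, single_val, single_val, single_val, h0, h1]
    simp
  · intro k _ hk
    have hk' : (k : ℕ) ≠ i := fun h => hk (Fin.ext h)
    simp only [Pi.add_apply]
    rw [single_val, single_val, single_val, single_val, h0, h1]
    split_ifs <;> first | (exfalso; omega) | simp
  · intro h; exact absurd (Finset.mem_univ _) h

theorem gen_pair {C : Type*} [Ring C] (x y : C) (hx : x * x = 0) (hy : y * y = 0)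
    (hxy : x * y + y * x = 1) :
    (1 - 2 * (x * y)) * (1 - 2 * (x * y)) = 1 ∧
      x * (1 - 2 * (x * y)) = -((1 - 2 * (x * y)) * x) ∧
      y * (1 - 2 * (x * y)) = -((1 - 2 * (x * y)) * y) := by
  have hyx : y * x = 1 - x * y := by rw [← hxy]; abel
  have hf : x * y * (x * y) = x * y := by
    calc x * y * (x * y) = x * (y * x) * y := by noncomm_ring
      _ = x * (1 - x * y) * y := by rw [hyx]
      _ = x * y - (x * x) * (y * y) := by noncomm_ring
      _ = x * y := by rw [hx, zero_mul, sub_zero]
  have h1 : x * (x * y) = 0 := by rw [← mul_assoc, hx, zero_mul]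
  have h2 : x * y * x = x := by
    calc x * y * x = x * (y * x) := by rw [mul_assoc]
      _ = x * (1 - x * y) := by rw [hyx]
      _ = x - x * x * y := by noncomm_ring
      _ = x := by rw [hx, zero_mul, sub_zero]
  have h3 : y * (x * y) = y := by
    calc y * (x * y) = (y * x) * y := by rw [mul_assoc]
      _ = (1 - x * y) * y := by rw [hyx]
      _ = y - x * (y * y) := by noncomm_ring
      _ = y := by rw [hy, mul_zero, sub_zero]
  have h4 : x * y * y = 0 := by rw [mul_assoc, hy, mul_zero]
  refine ⟨?_, ?_, ?_⟩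
  · calc (1 - 2 * (x * y)) * (1 - 2 * (x * y)) = 1 - 4 * (x * y) + 4 * (x * y * (x * y)) := by
          noncomm_ring
      _ = 1 := by rw [hf]; noncomm_ring
  · calc x * (1 - 2 * (x * y)) = x - 2 * (x * (x * y)) := by noncomm_ring
      _ = x := by rw [h1, mul_zero, sub_zero]
      _ = -(x - 2 * (x * y * x)) := by rw [h2]; noncomm_ring
      _ = -((1 - 2 * (x * y)) * x) := by noncomm_ring
  · calc y * (1 - 2 * (x * y)) = y - 2 * (y * (x * y)) := by noncomm_ring
      _ = -y := by rw [h3]; noncomm_ring
      _ = -(y - 2 * (x * y * y)) := by rw [h4]; noncomm_ring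
      _ = -((1 - 2 * (x * y)) * y) := by noncomm_ring

theorem gen_comm {C : Type*} [Ring C] (x y z : C) (hzx : z * x = -(x * z)) (hzy : z * y = -(y * z)) :
    z * (1 - 2 * (x * y)) = (1 - 2 * (x * y)) * z := by
  have : z * (x * y) = x * y * z := by
    calc z * (x * y) = (z * x) * y := by rw [mul_assoc]
      _ = -(x * (z * y)) := by rw [hzx]; noncomm_ring
      _ = x * y * z := by rw [hzy]; noncomm_ring
  calc z * (1 - 2 * (x * y)) = z - 2 * (z * (x * y)) := by noncomm_ring
    _ = z - 2 * (x * y * z) := by rw [this]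
    _ = (1 - 2 * (x * y)) * z := by noncomm_ring


theorem gen_list {C : Type*} [Ring C] {ι : Type*} (u : ι → C) (x : C) (a0 : ι)
    (hanti : x * u a0 = -(u a0 * x)) (hcomm : ∀ i, i ≠ a0 → x * u i = u i * x) :
    ∀ L : List ι, L.Nodup → (a0 ∈ L → x * (L.map u).prod = -((L.map u).prod * x)) ∧
      (a0 ∉ L → x * (L.map u).prod = (L.map u).prod * x) := by
  intro L
  induction L with
  | nil => intro _; simp
  | cons a L ih =>
    intro hL
    rw [List.nodup_cons] at hL
    obtain ⟨haL, hL⟩ := hL
    specialize ih hL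
    simp only [List.map_cons, List.prod_cons, List.mem_cons]
    by_cases hja : a0 = a
    · subst hja
      refine ⟨fun _ => ?_, fun h => absurd (Or.inl rfl) h⟩
      rw [← mul_assoc, hanti, neg_mul, mul_assoc, ih.2 haL, mul_assoc]
    · have hc := hcomm a (Ne.symm hja)
      constructor
      · intro h
        have h' := h.resolve_left hja
        rw [← mul_assoc, hc, mul_assoc, ih.1 h', mul_neg, mul_assoc]
      · intro h
        have h' : a0 ∉ L := fun h'' => h (Or.inr h'')
        rw [← mul_assoc, hc, mul_assoc, ih.2 h', mul_assoc]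

theorem gen_sq {C : Type*} [Ring C] {ι : Type*} (u : ι → C) (hsq : ∀ i, u i * u i = 1)
    (hc : ∀ i k, Commute (u i) (u k)) : ∀ L : List ι, (L.map u).prod * (L.map u).prod = 1 := by
  intro L
  induction L with
  | nil => simp
  | cons a L ih =>
    simp only [List.map_cons, List.prod_cons]
    have hc' : Commute (u a) (L.map u).prod := by
      apply Commute.list_prod_right
      intro b hb
      obtain ⟨c, _, rfl⟩ := List.mem_map.mp hb
      exact hc a c
    calc u a * (L.map u).prod * (u a * (L.map u).prod)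
        = u a * ((L.map u).prod * u a) * (L.map u).prod := by noncomm_ring
      _ = u a * (u a * (L.map u).prod) * (L.map u).prod := by rw [hc'.eq]
      _ = (u a * u a) * ((L.map u).prod * (L.map u).prod) := by noncomm_ring
      _ = 1 := by rw [hsq a, ih, one_mul]

theorem e_sq (R : Type u) [CommRing R] (m : ℕ) (a : Fin (m * 2)) :
    CliffordAlgebra.ι (QuadGrp.splitForm R (m * 2)) (Pi.single a 1) *
      CliffordAlgebra.ι (QuadGrp.splitForm R (m * 2)) (Pi.single a 1) = 0 := by
  rw [CliffordAlgebra.ι_sq_scalar, Q_single, map_zero]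

theorem e_polar (R : Type u) [CommRing R] (m : ℕ) (a b : Fin (m * 2)) :
    CliffordAlgebra.ι (QuadGrp.splitForm R (m * 2)) (Pi.single a 1) *
      CliffordAlgebra.ι (QuadGrp.splitForm R (m * 2)) (Pi.single b 1) +
    CliffordAlgebra.ι (QuadGrp.splitForm R (m * 2)) (Pi.single b 1) *
      CliffordAlgebra.ι (QuadGrp.splitForm R (m * 2)) (Pi.single a 1) =
    algebraMap R _ (QuadGrp.splitForm R (m * 2) (Pi.single a 1 + Pi.single b 1)) := by
  rw [CliffordAlgebra.ι_mul_ι_add_swap, QuadraticMap.polar, Q_single, Q_single, sub_zero, sub_zero]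

theorem e_anti (R : Type u) [CommRing R] (m : ℕ) (a b : Fin (m * 2)) (hab : (a : ℕ) / 2 ≠ (b : ℕ) / 2) :
    CliffordAlgebra.ι (QuadGrp.splitForm R (m * 2)) (Pi.single a 1) *
      CliffordAlgebra.ι (QuadGrp.splitForm R (m * 2)) (Pi.single b 1) =
    -(CliffordAlgebra.ι (QuadGrp.splitForm R (m * 2)) (Pi.single b 1) *
      CliffordAlgebra.ι (QuadGrp.splitForm R (m * 2)) (Pi.single a 1)) := by
  have := e_polar R m a b
  rw [Q_two R m a b hab, map_zero] at this
  exact eq_neg_of_add_eq_zero_left this

theorem e_pair (R : Type u) [CommRing R] (m : ℕ) (i : Fin m) :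
    CliffordAlgebra.ι (QuadGrp.splitForm R (m * 2)) (Pi.single (finProdFinEquiv (i, 0)) 1) *
      CliffordAlgebra.ι (QuadGrp.splitForm R (m * 2)) (Pi.single (finProdFinEquiv (i, 1)) 1) +
    CliffordAlgebra.ι (QuadGrp.splitForm R (m * 2)) (Pi.single (finProdFinEquiv (i, 1)) 1) *
      CliffordAlgebra.ι (QuadGrp.splitForm R (m * 2)) (Pi.single (finProdFinEquiv (i, 0)) 1) = 1 := by
  rw [e_polar, Q_pair, map_one]

/-- For the standard split quadratic form Σ x_{2i} x_{2i+1} on R^{2m} over any commutative ring R, with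
standard basis vectors e_j in the Clifford algebra, the product w of the elements 1 − 2 e_{2i}
e_{2i+1} (i < m, which pairwise commute) satisfies w² = 1 and anticommutes with every e_j. (Hence w
is central in the even Clifford algebra; over rings in which 2 is invertible (1 − w)/2 is the
non-trivial central idempotent of the even part.) -/
theorem result (R : Type u) [CommRing R] (m : ℕ) :
    let Q := QuadGrp.splitForm R (m * 2)
    let e : Fin (m * 2) → CliffordAlgebra Q := fun j => CliffordAlgebra.ι Q (Pi.single j 1)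
    let w : CliffordAlgebra Q :=
      ((List.finRange m).map fun i => 1 - 2 * (e (finProdFinEquiv (i, 0)) * e (finProdFinEquiv (i, 1)))).prod
    w * w = 1 ∧ ∀ j : Fin (m * 2), e j * w = -(w * e j) := by
  intro Q e w
  have h0 : ∀ i : Fin m, ((finProdFinEquiv (i, (0 : Fin 2)) : Fin (m * 2)) : ℕ) = 2 * i := by
    intro i; simp [finProdFinEquiv_apply_val]
  have h1 : ∀ i : Fin m, ((finProdFinEquiv (i, (1 : Fin 2)) : Fin (m * 2)) : ℕ) = 2 * i + 1 := by
    intro i; simp [finProdFinEquiv_apply_val]; omega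
  let u : Fin m → CliffordAlgebra Q :=
    fun i => 1 - 2 * (e (finProdFinEquiv (i, 0)) * e (finProdFinEquiv (i, 1)))
  have hgen : ∀ i, u i * u i = 1 ∧ e (finProdFinEquiv (i, 0)) * u i = -(u i * e (finProdFinEquiv (i, 0))) ∧
      e (finProdFinEquiv (i, 1)) * u i = -(u i * e (finProdFinEquiv (i, 1))) :=
    fun i => gen_pair _ _ (e_sq R m _) (e_sq R m _) (e_pair R m i)
  have hcommj : ∀ (i : Fin m) (j : Fin (m * 2)), (j : ℕ) / 2 ≠ i → e j * u i = u i * e j := by
    intro i j hj
    apply gen_comm
    · apply e_anti; rw [h0]; omega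
    · apply e_anti; rw [h1]; omega
  have hantij : ∀ (i : Fin m) (j : Fin (m * 2)), (j : ℕ) / 2 = i → e j * u i = -(u i * e j) := by
    intro i j hj
    have : j = finProdFinEquiv (i, 0) ∨ j = finProdFinEquiv (i, 1) := by
      rcases Nat.even_or_odd (j : ℕ) with ⟨r, hr⟩ | ⟨r, hr⟩
      · left; apply Fin.ext; rw [h0]; omega
      · right; apply Fin.ext; rw [h1]; omega
    rcases this with h | h
    · rw [h]; exact (hgen i).2.1
    · rw [h]; exact (hgen i).2.2
  have hcommu : ∀ i k, Commute (u i) (u k) := by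
    intro i k
    by_cases hik : i = k
    · rw [hik]
    · have hik' : (k : ℕ) ≠ i := fun h => hik (Fin.ext h).symm
      have c1 : Commute (u i) (e (finProdFinEquiv (k, 0))) :=
        (hcommj i _ (by rw [h0]; omega)).symm
      have c2 : Commute (u i) (e (finProdFinEquiv (k, 1))) :=
        (hcommj i _ (by rw [h1]; omega)).symm
      exact (Commute.one_right _).sub_right ((Commute.ofNat_right _ 2).mul_right (c1.mul_right c2))
  have hw : w = ((List.finRange m).map u).prod := rfl
  rw [hw]
  refine ⟨gen_sq u (fun i => (hgen i).1) hcommu _, fun j => ?_⟩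
  have hjm : (j : ℕ) / 2 < m := by omega
  refine (gen_list u (e j) ⟨(j : ℕ) / 2, hjm⟩ (hantij _ j rfl) (fun i hi => hcommj i j ?_)
    (List.finRange m) (List.nodup_finRange m)).1 (List.mem_finRange _)
  intro h; apply hi; exact Fin.ext h.symm

end Groth.Agent.S17016
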