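import Groth.Statements.S17335
import Mathlib
-- import your own Groth.Agent.* helpers here

set_option autoImplicit false
universe u v
open CAlg

namespace Groth.Agent.S17335

/-- Let k be an algebraically closed field and A a commutative k-algebra which is finite-dimensional as
a k-vector space, and let E be the set of k-algebra homomorphisms A → k. Then E is finite, and the
evaluation homomorphism A → O(E) = (E → k), a ↦ (f ↦ f(a)), is surjective with kernel the nilradical
of A; it therefore induces an isomorphism of A_red = A/nilradical(A) onto O(E). -/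
theorem result (k : Type u) [Field k]
    [IsAlgClosed k] (A : Type v) [CommRing A] [Algebra k A] [Module.Finite k A] :
    Finite (A →ₐ[k] k) ∧
      Function.Surjective (AlgHom.pi (R := k) (fun f : A →ₐ[k] k => f)) ∧
      RingHom.ker (AlgHom.pi (R := k) (fun f : A →ₐ[k] k => f)) = nilradical A := by
  have hfin : Finite (A →ₐ[k] k) := inferInstance
  have hsub : ∀ (f : A →ₐ[k] k) (a : A), a - algebraMap k A (f a) ∈ RingHom.ker f := by
    intro f a
    simp [RingHom.mem_ker]
  have hmax : ∀ f : A →ₐ[k] k, (RingHom.ker f).IsMaximal := by
    intro f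
    apply RingHom.ker_isMaximal_of_surjective
    intro c
    exact ⟨algebraMap k A c, by simp⟩
  have hinj : ∀ f g : A →ₐ[k] k, RingHom.ker f = RingHom.ker g → f = g := by
    intro f g h
    ext a
    have := hsub f a
    rw [h, RingHom.mem_ker] at this
    simp only [map_sub, AlgHom.commutes, Algebra.algebraMap_self, RingHom.id_apply] at this
    exact (sub_eq_zero.mp this).symm
  refine ⟨hfin, ?_, ?_⟩
  · intro t
    have hcop : Pairwise (Function.onFun IsCoprime fun f : A →ₐ[k] k => RingHom.ker f) := by
      intro f g hfg
      rw [Function.onFun, Ideal.isCoprime_iff_sup_eq]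
      exact (hmax f).coprime_of_ne (hmax g) (fun h => hfg (hinj f g h))
    obtain ⟨r, hr⟩ := Ideal.exists_forall_sub_mem_ideal hcop (fun f => algebraMap k A (t f))
    refine ⟨r, ?_⟩
    funext f
    have := hr f
    rw [RingHom.mem_ker] at this
    simp only [map_sub, AlgHom.commutes, Algebra.algebraMap_self, RingHom.id_apply] at this
    simpa using sub_eq_zero.mp this
  · ext a
    rw [RingHom.mem_ker]
    constructor
    · intro ha
      rw [nilradical_eq_sInf, Ideal.mem_sInf]
      intro p hp
      have : p.IsPrime := hp
      have : Module.Finite k (A ⧸ p) := inferInstance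
      have : Algebra.IsIntegral k (A ⧸ p) := Algebra.IsIntegral.of_finite k (A ⧸ p)
      have hbij : Function.Bijective (algebraMap k (A ⧸ p)) :=
        IsAlgClosed.algebraMap_bijective_of_isIntegral
      let e : k ≃ₐ[k] (A ⧸ p) := AlgEquiv.ofBijective (Algebra.ofId k (A ⧸ p)) hbij
      let φ : A →ₐ[k] k := (e.symm : (A ⧸ p) →ₐ[k] k).comp (Ideal.Quotient.mkₐ k p)
      have h1 : φ a = 0 := by
        have := congrFun ha φ
        simpa using this
      have h2 : Ideal.Quotient.mk p a = 0 := by
        have : e.symm (Ideal.Quotient.mk p a) = 0 := by simpa [φ] using h1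
        have := congrArg e this
        simpa using this
      exact Ideal.Quotient.eq_zero_iff_mem.mp h2
    · intro ha
      funext f
      obtain ⟨n, hn⟩ := ha
      have : (f a) ^ n = 0 := by rw [← map_pow, hn, map_zero]
      simpa using (IsNilpotent.eq_zero ⟨n, this⟩ : f a = 0)

end Groth.Agent.S17335
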