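import Groth.Statements.S17336
import Mathlib
import Groth.Agent.S17335
-- import your own Groth.Agent.* helpers here

set_option autoImplicit false
universe u v
open CAlg

namespace Groth.Agent.S17336

/-- Let k be an algebraically closed field and A a commutative k-algebra which is finite-dimensional as
a k-vector space (a finite scheme X = Spec A with largest reduced subscheme X_red = Spec
(A/nilradical A) and immersion i : X_red → X). Then there is a unique morphism r : X → X_red with r
∘ i = id; on rings: the projection A → A/nilradical(A) admits exactly one section that is a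
k-algebra homomorphism. -/
theorem result (k : Type u) [Field k]
    [IsAlgClosed k] (A : Type v) [CommRing A] [Algebra k A] [Module.Finite k A] :
    ∃! s : (A ⧸ nilradical A) →ₐ[k] A,
      (Ideal.Quotient.mkₐ k (nilradical A)).comp s = AlgHom.id k (A ⧸ nilradical A) := by
  obtain ⟨hfin, hsurj, hker⟩ := Groth.Agent.S17335.result k A
  have : IsArtinianRing A := IsArtinianRing.of_finite k A
  let e : (A ⧸ nilradical A) ≃ₐ[k] ((A →ₐ[k] k) → k) :=
    (Ideal.quotientEquivAlgOfEq k hker.symm).trans (Ideal.quotientKerAlgEquivOfSurjective hsurj)
  have : Algebra.FormallyEtale k (A ⧸ nilradical A) := Algebra.FormallyEtale.of_equiv e.symm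
  have hnil : IsNilpotent (RingHom.ker
      ((Ideal.Quotient.mkₐ k (nilradical A) : A →ₐ[k] A ⧸ nilradical A) : A →+* A ⧸ nilradical A)) := by
    rw [Ideal.Quotient.mkₐ_ker]
    exact IsArtinianRing.isNilpotent_nilradical
  refine ⟨Algebra.FormallySmooth.liftOfSurjective (AlgHom.id k _)
    (Ideal.Quotient.mkₐ k (nilradical A)) (Ideal.Quotient.mkₐ_surjective k _) hnil, ?_, ?_⟩
  · exact Algebra.FormallySmooth.comp_liftOfSurjective _ _ _ _
  · intro s' hs'
    apply Algebra.FormallyUnramified.lift_unique' (Ideal.Quotient.mkₐ k (nilradical A)) hnil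
    rw [hs']
    exact (Algebra.FormallySmooth.comp_liftOfSurjective _ _ _ _).symm

end Groth.Agent.S17336
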