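import Groth.Statements.S17323
import Mathlib
import Groth.Agent.S17335
import Groth.Agent.S17336
-- import your own Groth.Agent.* helpers here

set_option autoImplicit false
universe u v
open CAlg

namespace Groth.Agent.S17323

/-- Let k be an algebraically closed field and A a commutative k-algebra which is finite-dimensional as
a k-vector space. Then A has a largest reduced subalgebra: a k-subalgebra B which is reduced and
contains every reduced k-subalgebra of A; moreover the composite of the inclusion B → A with the
projection A → A/nilradical(A) is bijective. -/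
theorem result (k : Type u) [Field k] [IsAlgClosed k]
    (A : Type v) [CommRing A] [Algebra k A] [Module.Finite k A] :
    ∃ B : Subalgebra k A, IsReduced ↥B ∧ (∀ C : Subalgebra k A, IsReduced ↥C → C ≤ B) ∧
      Function.Bijective ((Ideal.Quotient.mkₐ k (nilradical A)).comp B.val) := by
  obtain ⟨s, hs, _⟩ := Groth.Agent.S17336.result k A
  have hArt : IsArtinianRing A := IsArtinianRing.of_finite k A
  have hnil : IsNilpotent (RingHom.ker
      ((Ideal.Quotient.mkₐ k (nilradical A) : A →ₐ[k] A ⧸ nilradical A) :
        A →+* A ⧸ nilradical A)) := by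
    rw [Ideal.Quotient.mkₐ_ker]
    exact IsArtinianRing.isNilpotent_nilradical
  have hπs : ∀ z, Ideal.Quotient.mkₐ k (nilradical A) (s z) = z := fun z => by
    have := AlgHom.congr_fun hs z
    simpa using this
  have hsinj : Function.Injective s := by
    intro x y hxy
    have := congrArg (Ideal.Quotient.mkₐ k (nilradical A)) hxy
    rwa [hπs, hπs] at this
  have hredQ : IsReduced (A ⧸ nilradical A) :=
    (Ideal.isRadical_iff_quotient_reduced _).mp (Ideal.radical_isRadical _)
  refine ⟨s.range, ?_, ?_, ?_⟩
  · let e : (A ⧸ nilradical A) ≃ₐ[k] s.range := AlgEquiv.ofInjective s hsinj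
    exact isReduced_of_injective e.symm e.symm.injective
  · intro C hC
    have hCfin : Module.Finite k C :=
      Module.Finite.of_injective (C.val.toLinearMap) Subtype.val_injective
    obtain ⟨_, hsurjC, hkerC⟩ := Groth.Agent.S17335.result k C
    have hker0 : RingHom.ker (AlgHom.pi (R := k) (fun f : C →ₐ[k] k => f)) = ⊥ := by
      rw [hkerC]
      exact nilradical_eq_zero C
    have hinjC : Function.Injective (AlgHom.pi (R := k) (fun f : C →ₐ[k] k => f)) :=
      (RingHom.injective_iff_ker_eq_bot _).mpr hker0
    let eC : C ≃ₐ[k] ((C →ₐ[k] k) → k) := AlgEquiv.ofBijective _ ⟨hinjC, hsurjC⟩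
    have : Algebra.FormallyEtale k C := Algebra.FormallyEtale.of_equiv eC.symm
    have hlift : C.val = s.comp ((Ideal.Quotient.mkₐ k (nilradical A)).comp C.val) := by
      apply Algebra.FormallyUnramified.lift_unique' (Ideal.Quotient.mkₐ k (nilradical A)) hnil
      rw [← AlgHom.comp_assoc, hs, AlgHom.id_comp]
    intro x hx
    have := AlgHom.congr_fun hlift ⟨x, hx⟩
    simp only [Subalgebra.coe_val, AlgHom.comp_apply] at this
    rw [AlgHom.mem_range]
    exact ⟨_, this.symm⟩
  · constructor
    · rintro ⟨_, ⟨x, rfl⟩⟩ ⟨_, ⟨y, rfl⟩⟩ hxy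
      change Ideal.Quotient.mkₐ k (nilradical A) (s x) =
        Ideal.Quotient.mkₐ k (nilradical A) (s y) at hxy
      rw [hπs, hπs] at hxy
      subst hxy
      rfl
    · intro z
      exact ⟨⟨s z, ⟨z, rfl⟩⟩, hπs z⟩

end Groth.Agent.S17323
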