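import Groth.Statements.S17324
import Mathlib
-- import your own Groth.Agent.* helpers here

set_option autoImplicit false
universe u v
open CAlg

namespace Groth.Agent.S17324

/-- (i) ⟺ (ii): let k be an algebraically closed field, A a commutative k-algebra which is
finite-dimensional as a k-vector space and is a local ring with maximal ideal m, and a_1, …, a_m ∈
m. Then A is generated as a k-algebra by a_1, …, a_m if and only if m is generated as an ideal by
a_1, …, a_m. (The printed lemma has a third equivalent condition, that the images of the a_i span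
m/m²; its equivalence with (ii) is Nakayama's lemma.) -/
theorem result (k : Type u) [Field k] [IsAlgClosed k]
    (A : Type v) [CommRing A] [Algebra k A] [Module.Finite k A] [IsLocalRing A]
    (m : ℕ) (a : Fin m → A) (ha : ∀ i, a i ∈ IsLocalRing.maximalIdeal A) :
    Algebra.adjoin k (Set.range a) = ⊤ ↔ Ideal.span (Set.range a) = IsLocalRing.maximalIdeal A := by
  set J : Ideal A := Ideal.span (Set.range a) with hJ
  have hJm : J ≤ IsLocalRing.maximalIdeal A := by
    rw [hJ, Ideal.span_le]
    rintro _ ⟨i, rfl⟩
    exact ha i
  constructor
  · intro hS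
    refine le_antisymm hJm ?_
    intro x hx
    have key : ∀ y ∈ Algebra.adjoin k (Set.range a), ∃ c : k, y - algebraMap k A c ∈ J := by
      intro y hy
      induction hy using Algebra.adjoin_induction with
      | mem z hz =>
        refine ⟨0, ?_⟩
        rw [map_zero, sub_zero]
        exact Ideal.subset_span hz
      | algebraMap r =>
        exact ⟨r, by rw [sub_self]; exact J.zero_mem⟩
      | add y z _ _ h1 h2 =>
        obtain ⟨c, hc⟩ := h1
        obtain ⟨d, hd⟩ := h2
        refine ⟨c + d, ?_⟩
        have : y + z - algebraMap k A (c + d) =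
            (y - algebraMap k A c) + (z - algebraMap k A d) := by
          rw [map_add]; abel
        rw [this]
        exact J.add_mem hc hd
      | mul y z _ _ h1 h2 =>
        obtain ⟨c, hc⟩ := h1
        obtain ⟨d, hd⟩ := h2
        refine ⟨c * d, ?_⟩
        have : y * z - algebraMap k A (c * d) =
            (y - algebraMap k A c) * z + algebraMap k A c * (z - algebraMap k A d) := by
          rw [map_mul]; ring
        rw [this]
        exact J.add_mem (J.mul_mem_right _ hc) (J.mul_mem_left _ hd)
    obtain ⟨c, hc⟩ := key x (hS ▸ Algebra.mem_top)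
    by_cases hc0 : c = 0
    · rw [hc0, map_zero, sub_zero] at hc
      exact hc
    · exfalso
      have hmem : algebraMap k A c ∈ IsLocalRing.maximalIdeal A := by
        have : algebraMap k A c = x - (x - algebraMap k A c) := by abel
        rw [this]
        exact Ideal.sub_mem _ hx (hJm hc)
      have hunit : IsUnit (algebraMap k A c) := (IsUnit.mk0 c hc0).map (algebraMap k A)
      exact (IsLocalRing.mem_maximalIdeal _).mp hmem hunit
  · intro hJeq
    set S := Algebra.adjoin k (Set.range a) with hSdef
    have haS : ∀ i, a i ∈ S := fun i => Algebra.subset_adjoin ⟨i, rfl⟩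
    let b : Fin m → S := fun i => ⟨a i, haS i⟩
    let I : Ideal S := Ideal.span (Set.range b)
    have hArt : IsArtinianRing A := IsArtinianRing.of_finite k A
    -- each a i is nilpotent
    have hnilA : ∀ i, ∃ n : ℕ, a i ^ n = 0 := by
      intro i
      have h1 : a i ∈ (⊥ : Ideal A).jacobson := by
        rw [IsLocalRing.jacobson_eq_maximalIdeal ⊥ bot_ne_top]
        exact ha i
      rw [IsArtinianRing.jacobson_eq_radical] at h1
      obtain ⟨n, hn⟩ := h1
      exact ⟨n, (Ideal.mem_bot).mp hn⟩
    have hIjac : I ≤ (⊥ : Ideal S).jacobson := by
      refine le_trans ?_ (Ideal.radical_le_jacobson (I := (⊥ : Ideal S)))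
      refine (Ideal.span_le).mpr ?_
      rintro _ ⟨i, rfl⟩
      obtain ⟨n, hn⟩ := hnilA i
      refine ⟨n, ?_⟩
      rw [Ideal.mem_bot]
      apply Subtype.ext
      simp [b, hn]
    have hfin : Module.Finite S A := Module.Finite.of_restrictScalars_finite k S A
    have hfg : (⊤ : Submodule S A).FG := hfin.fg_top
    -- residue field is k
    have hres : ∀ x : A, ∃ c : k, x - algebraMap k A c ∈ IsLocalRing.maximalIdeal A := by
      intro x
      have : Module.Finite k (IsLocalRing.ResidueField A) := inferInstance
      have : Algebra.IsIntegral k (IsLocalRing.ResidueField A) :=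
        Algebra.IsIntegral.of_finite k _
      have hbij : Function.Bijective (algebraMap k (IsLocalRing.ResidueField A)) :=
        IsAlgClosed.algebraMap_bijective_of_isIntegral
      obtain ⟨c, hc⟩ := hbij.2 (IsLocalRing.residue A x)
      refine ⟨c, ?_⟩
      rw [← IsLocalRing.residue_eq_zero_iff, map_sub]
      rw [IsScalarTower.algebraMap_apply k A (IsLocalRing.ResidueField A)] at hc
      rw [sub_eq_zero]
      exact hc.symm
    have hNN : (⊤ : Submodule S A) ≤ Submodule.span S {1} ⊔ I • (⊤ : Submodule S A) := by
      intro x _
      obtain ⟨c, hc⟩ := hres x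
      have hx : x = algebraMap k A c + (x - algebraMap k A c) := by abel
      rw [hx]
      refine Submodule.add_mem_sup ?_ ?_
      · rw [Submodule.mem_span_singleton]
        refine ⟨algebraMap k S c, ?_⟩
        rw [Algebra.smul_def, mul_one]
        rfl
      · rw [← hJeq, hJ] at hc
        obtain ⟨f, hf⟩ := Ideal.mem_span_range_iff_exists_fun.mp hc
        rw [← hf]
        refine Submodule.sum_mem _ (fun i _ => ?_)
        have : f i * a i = b i • f i := by
          rw [Subalgebra.smul_def, smul_eq_mul]
          simp only [b]
          ring
        rw [this]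
        exact Submodule.smul_mem_smul (Ideal.subset_span ⟨i, rfl⟩) Submodule.mem_top
    have hle := Submodule.le_of_le_smul_of_le_jacobson_bot hfg hIjac hNN
    rw [eq_top_iff]
    intro x _
    obtain ⟨s, hs⟩ := (Submodule.mem_span_singleton).mp (hle (Submodule.mem_top (x := x)))
    rw [← hs, Subalgebra.smul_def, smul_eq_mul, mul_one]
    exact s.2

end Groth.Agent.S17324
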