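import Groth.Statements.S17326
import Mathlib.RingTheory.Artinian.Module
import Mathlib.FieldTheory.IsAlgClosed.Basic
import Mathlib.Algebra.CharP.Lemmas
import Mathlib.Algebra.CharP.Algebra
-- import your own Groth.Agent.* helpers here

set_option autoImplicit false
universe u v
open CAlg

namespace Groth.Agent.S17326

/-- Let k be an algebraically closed field of characteristic p > 0, A a commutative k-algebra which is
finite-dimensional as a k-vector space (a finite k-scheme X), and n ≥ 1. The n-th iterated relative
Frobenius morphism X → X^(p^n) is an isomorphism if and only if X is reduced; on rings: the map a ↦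
a^(p^n) of A to itself (which is the ring homomorphism underlying the relative Frobenius, the twist
A^(p^n) having the same underlying ring as A) is bijective if and only if A is reduced. -/
theorem result (k : Type u) [Field k] [IsAlgClosed k]
    (p : ℕ) [Fact p.Prime] [CharP k p] (A : Type v) [CommRing A] [Algebra k A] [Module.Finite k A]
    (n : ℕ) (hn : 1 ≤ n) :
    Function.Bijective (fun a : A => a ^ p ^ n) ↔ IsReduced A := by
  have hq : 1 < p ^ n := Nat.one_lt_pow (by omega) (Fact.out : p.Prime).one_lt
  constructor
  · intro hbij
    refine ⟨fun x ⟨m, hm⟩ => ?_⟩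
    set f : A → A := fun a => a ^ p ^ n with hf
    have hit : ∀ j : ℕ, f^[j] x = x ^ (p ^ n) ^ j := by
      intro j
      induction j with
      | zero => simp
      | succ j ih =>
        rw [Function.iterate_succ_apply', ih, hf]
        simp only
        rw [← pow_mul, pow_succ]
    have hf0 : f 0 = 0 := by
      rw [hf]
      simp only
      exact zero_pow (by positivity)
    have hinj : Function.Injective (f^[m]) := hbij.1.iterate m
    apply hinj
    rw [hit, Function.iterate_fixed hf0]
    have hle : m ≤ (p ^ n) ^ m := (Nat.lt_pow_self hq).le
    exact pow_eq_zero_of_le hle hm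
  · intro hred
    have : IsArtinianRing A := IsArtinianRing.of_finite k A
    rcases subsingleton_or_nontrivial A with hA | hA
    · exact ⟨fun a b _ => Subsingleton.elim a b, fun a => ⟨a, Subsingleton.elim _ _⟩⟩
    have : CharP A p := charP_of_injective_algebraMap (algebraMap k A).injective p
    constructor
    · intro x y hxy
      simp only at hxy
      have h1 : (x - y) ^ p ^ n = 0 := by rw [sub_pow_char_pow, hxy, sub_self]
      exact sub_eq_zero.mp (IsReduced.eq_zero _ ⟨_, h1⟩)
    · intro a
      let e := IsArtinianRing.equivPi A
      have hsurj : ∀ I : MaximalSpectrum A, ∃ d : k,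
          algebraMap k (A ⧸ I.asIdeal) (d ^ p ^ n) = e a I := by
        intro I
        have : I.asIdeal.IsMaximal := I.isMaximal
        have : Algebra.IsIntegral k (A ⧸ I.asIdeal) := Algebra.IsIntegral.of_finite k _
        obtain ⟨c, hc⟩ := (IsAlgClosed.algebraMap_bijective_of_isIntegral (k := k)
          (K := A ⧸ I.asIdeal)).2 (e a I)
        obtain ⟨d, hd⟩ := IsAlgClosed.exists_pow_nat_eq c (pow_pos (Fact.out : p.Prime).pos n)
        exact ⟨d, by rw [hd, hc]⟩
      choose d hd using hsurj
      refine ⟨e.symm (fun I => algebraMap k (A ⧸ I.asIdeal) (d I)), ?_⟩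
      simp only
      apply e.injective
      rw [map_pow, AlgEquiv.apply_symm_apply]
      funext I
      rw [Pi.pow_apply, ← map_pow, hd I]

end Groth.Agent.S17326
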