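import Groth.Statements.S17332
import Mathlib.LinearAlgebra.StdBasis
-- import your own Groth.Agent.* helpers here

set_option autoImplicit false
universe u v w
open CAlg

namespace Groth.Agent.S17332

/-- Let k be a field, E and F finite sets, and O(E), O(F) the k-algebras of k-valued functions with
pointwise operations. Then every k-algebra homomorphism u : O(F) → O(E) is pull-back along a unique
map φ : E → F, i.e. u(g) = g ∘ φ for all g. (In the source k is algebraically closed; the printed
argument only uses that k is a field.) -/
theorem result (k : Type u) [Field k] (E : Type v) [Finite E]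
    (F : Type w) [Finite F] (u : (F → k) →ₐ[k] (E → k)) :
    ∃! φ : E → F, ∀ g : F → k, u g = g ∘ φ := by
  classical
  have hex : ∀ e : E, ∃ s : F, (Pi.evalAlgHom k (fun _ : E => k) e).comp u =
      Pi.evalAlgHom k (fun _ : F => k) s :=
    fun e => ((Pi.evalAlgHom k (fun _ : E => k) e).comp u).eq_piEvalAlgHom
  choose φ hφ using hex
  refine ⟨φ, ?_, ?_⟩
  · intro g
    funext e
    have h := congrArg (fun ψ : (F → k) →ₐ[k] k => ψ g) (hφ e)
    simpa using h
  · intro φ' hφ'
    funext e
    by_contra hne
    have h1 := congrFun (hφ' (Pi.single (φ e) 1)) e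
    have h2 := congrArg (fun ψ : (F → k) →ₐ[k] k => ψ (Pi.single (φ e) 1)) (hφ e)
    simp only [AlgHom.comp_apply, Pi.evalAlgHom_apply, Pi.single_eq_same] at h2
    rw [h2, Function.comp_apply, Pi.single_eq_of_ne hne] at h1
    exact one_ne_zero h1

end Groth.Agent.S17332
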