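import Groth.Statements.S17333
import Mathlib
-- import your own Groth.Agent.* helpers here

set_option autoImplicit false
universe u v w
open CAlg

namespace Groth.Agent.S17333

/-- Let k be a field and A = B × C a decomposable commutative k-algebra. Then the natural map Der(B) ×
Der(C) → Der(A) is bijective: every k-derivation D : A → A is (b, c) ↦ (D₁ b, D₂ c) for a unique
pair of k-derivations D₁ : B → B, D₂ : C → C. Compatibility with brackets is not stated. (The
published statement takes k algebraically closed; this row takes any field.) -/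
theorem result (k : Type u) [Field k] (B : Type v) [CommRing B] [Algebra k B]
    (C : Type w) [CommRing C] [Algebra k C] (D : Derivation k (B × C) (B × C)) :
    ∃! P : Derivation k B B × Derivation k C C, ∀ (b : B) (c : C), D (b, c) = (P.1 b, P.2 c) := by
  have h2 : ∀ b : B, (D (b, 0)).2 = 0 := by
    intro b
    have hb : ((b, 0) : B × C) = (b, 0) * (1, 0) := by simp
    have := congrArg Prod.snd (congrArg D hb)
    rw [Derivation.leibniz] at this
    simp only [smul_eq_mul, Prod.snd_add, Prod.snd_mul, zero_mul, add_zero] at this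
    rw [this]
  have h1 : ∀ c : C, (D (0, c)).1 = 0 := by
    intro c
    have hc : ((0, c) : B × C) = (0, c) * (0, 1) := by simp
    have := congrArg Prod.fst (congrArg D hc)
    rw [Derivation.leibniz] at this
    simp only [smul_eq_mul, Prod.fst_add, Prod.fst_mul, zero_mul, add_zero] at this
    rw [this]
  let L₁ : B →ₗ[k] B := (LinearMap.fst k B C) ∘ₗ D.toLinearMap ∘ₗ (LinearMap.inl k B C)
  let L₂ : C →ₗ[k] C := (LinearMap.snd k B C) ∘ₗ D.toLinearMap ∘ₗ (LinearMap.inr k B C)
  have hL₁ : ∀ b, L₁ b = (D (b, 0)).1 := fun b => rfl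
  have hL₂ : ∀ c, L₂ c = (D (0, c)).2 := fun c => rfl
  let P₁ : Derivation k B B := Derivation.mk' L₁ (by
    intro a b
    rw [hL₁, hL₁, hL₁]
    have hab : ((a * b, 0) : B × C) = (a, 0) * (b, 0) := by simp
    rw [hab, Derivation.leibniz]
    simp only [smul_eq_mul, Prod.fst_add, Prod.fst_mul])
  let P₂ : Derivation k C C := Derivation.mk' L₂ (by
    intro a b
    rw [hL₂, hL₂, hL₂]
    have hab : ((0, a * b) : B × C) = (0, a) * (0, b) := by simp
    rw [hab, Derivation.leibniz]
    simp only [smul_eq_mul, Prod.snd_add, Prod.snd_mul])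
  refine ⟨(P₁, P₂), ?_, ?_⟩
  · intro b c
    have hbc : ((b, c) : B × C) = (b, 0) + (0, c) := by simp
    rw [hbc, map_add]
    ext
    · simp only [Prod.fst_add, h1, add_zero]
      rfl
    · simp only [Prod.snd_add, h2, zero_add]
      rfl
  · rintro ⟨Q₁, Q₂⟩ hQ
    simp only at hQ
    have e1 : ∀ b, Q₁ b = P₁ b := by
      intro b
      have := congrArg Prod.fst (hQ b 0)
      simp only at this
      rw [← this]
      rfl
    have e2 : ∀ c, Q₂ c = P₂ c := by
      intro c
      have := congrArg Prod.snd (hQ 0 c)
      simp only at this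
      rw [← this]
      rfl
    ext b
    · exact e1 b
    · exact e2 b

end Groth.Agent.S17333
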