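import Groth.Statements.S17334
import Mathlib.RingTheory.Artinian.Module
import Mathlib.RingTheory.LocalRing.Basic
-- import your own Groth.Agent.* helpers here

set_option autoImplicit false
universe u v
open CAlg

namespace Groth.Agent.S17334

/-- Let k be a field and A a nonzero commutative k-algebra which is finite-dimensional as a k-vector
space. Then A is indecomposable (no decomposition as a product of two nonzero rings, i.e. no
idempotent other than 0 and 1) if and only if A is a local ring. (In the source k is algebraically
closed and the lemma adds that the maximal ideal is then the nilradical, is nilpotent, and has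
residue field k; the equivalence itself uses only that k is a field, and the zero algebra is
excluded here explicitly.) -/
theorem result (k : Type u) [Field k]
    (A : Type v) [CommRing A] [Algebra k A] [Module.Finite k A] [Nontrivial A] :
    (∀ e : A, IsIdempotentElem e → e = 0 ∨ e = 1) ↔ IsLocalRing A := by
  have : IsArtinianRing A := IsArtinianRing.of_finite k A
  constructor
  · intro hidem
    refine IsLocalRing.of_unique_max_ideal ?_
    obtain ⟨m, hm⟩ := Ideal.exists_maximal A
    refine ⟨m, hm, fun m' hm' => ?_⟩
    by_contra hne
    have hcop := hm'.coprime_of_ne hm hne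
    have h1 : (1 : A) ∈ m' ⊔ m := by rw [hcop]; trivial
    obtain ⟨a, ha, b, hb, hab⟩ := Submodule.mem_sup.mp h1
    obtain ⟨n, y, hy⟩ := IsArtinian.exists_pow_succ_smul_dvd a (1 : A)
    simp only [smul_eq_mul, mul_one] at hy
    have key : ∀ j : ℕ, a ^ n = a ^ (n + j) * y ^ j := by
      intro j
      induction j with
      | zero => simp
      | succ j ih =>
        rw [ih]
        calc a ^ (n + j) * y ^ j = a ^ j * (a ^ n) * y ^ j := by ring
          _ = a ^ j * (a ^ (n + 1) * y) * y ^ j := by rw [hy]
          _ = a ^ (n + (j + 1)) * y ^ (j + 1) := by ring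
    have hidem_e : IsIdempotentElem (a ^ n * y ^ n) := by
      unfold IsIdempotentElem
      calc a ^ n * y ^ n * (a ^ n * y ^ n) = (a ^ (n + n) * y ^ n) * y ^ n := by ring
        _ = a ^ n * y ^ n := by rw [← key n]
    rcases hidem _ hidem_e with h0 | h1'
    · have han : a ^ n = 0 := by
        rw [key n]
        calc a ^ (n + n) * y ^ n = a ^ n * (a ^ n * y ^ n) := by ring
          _ = 0 := by rw [h0, mul_zero]
      have ham : a ∈ m := hm.isPrime.mem_of_pow_mem n (by rw [han]; exact m.zero_mem)
      have h1m : (1 : A) ∈ m := by rw [← hab]; exact m.add_mem ham hb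
      exact hm.ne_top ((Ideal.eq_top_iff_one m).mpr h1m)
    · cases n with
      | zero =>
        simp only [pow_one, pow_zero] at hy
        have hu : IsUnit a := IsUnit.of_mul_eq_one y hy
        exact hm'.ne_top (Ideal.eq_top_of_isUnit_mem m' ha hu)
      | succ n =>
        have hem : a ^ (n + 1) * y ^ (n + 1) ∈ m' :=
          m'.mul_mem_right _ (m'.pow_mem_of_mem ha (n + 1) (Nat.succ_pos n))
        rw [h1'] at hem
        exact hm'.ne_top ((Ideal.eq_top_iff_one m').mpr hem)
  · intro hloc e he
    rcases IsLocalRing.isUnit_or_isUnit_one_sub_self e with hu | hu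
    · right
      apply hu.mul_left_cancel
      rw [he.eq, mul_one]
    · left
      apply hu.mul_left_cancel
      rw [mul_zero, sub_mul, one_mul, he.eq, sub_self]

end Groth.Agent.S17334
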