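import Groth.Statements.S17500
import Mathlib
-- import your own Groth.Agent.* helpers here

set_option autoImplicit false
universe u
open TorsMod

namespace Groth.Agent.S17500

/-- Let p be a prime number, n a natural number and H a module over ℤ/p^nℤ. Then H is flat over ℤ/p^nℤ
if and only if, for every i with 0 ≤ i ≤ n, the kernel of multiplication by p^i on H coincides with
the image of multiplication by p^(n-i) on H. (The published item is phrased for an fppf sheaf of
ℤ/p^nℤ-modules on a scheme; this is the case of a single module, which is the case the argument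
treats.) -/
theorem result (p n : ℕ) [Fact p.Prime]
    (H : Type u) [AddCommGroup H] [Module (ZMod (p ^ n)) H] :
    Module.Flat (ZMod (p ^ n)) H ↔
      ∀ i : ℕ, i ≤ n →
        LinearMap.ker ((p ^ i : ZMod (p ^ n)) • (LinearMap.id : H →ₗ[ZMod (p ^ n)] H)) =
          LinearMap.range ((p ^ (n - i) : ZMod (p ^ n)) • (LinearMap.id : H →ₗ[ZMod (p ^ n)] H)) := by
  classical
  have hp : p.Prime := Fact.out
  have : NeZero (p ^ n) := ⟨pow_ne_zero n hp.ne_zero⟩
  have hpn : ((p : ZMod (p ^ n)) ^ n) = 0 := by
    rw [← Nat.cast_pow, ZMod.natCast_self]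
  have hann : ∀ i, i ≤ n → ∀ a : ZMod (p ^ n), (p : ZMod (p ^ n)) ^ i * a = 0 →
      ∃ b : ZMod (p ^ n), a = (p : ZMod (p ^ n)) ^ (n - i) * b := by
    intro i hi a ha
    obtain ⟨A, rfl⟩ : ∃ A : ℕ, (A : ZMod (p ^ n)) = a := ⟨a.val, ZMod.natCast_zmod_val a⟩
    rw [← Nat.cast_pow, ← Nat.cast_mul, ZMod.natCast_eq_zero_iff] at ha
    have hdvd : p ^ (n - i) ∣ A := by
      have h1 : p ^ i * p ^ (n - i) ∣ p ^ i * A := by
        rwa [← pow_add, Nat.add_sub_cancel' hi]
      exact Nat.dvd_of_mul_dvd_mul_left (pow_pos hp.pos i) h1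
    obtain ⟨B, rfl⟩ := hdvd
    exact ⟨B, by push_cast; ring⟩
  constructor
  · intro hflat i hi
    ext h
    simp only [LinearMap.mem_ker, LinearMap.mem_range, LinearMap.smul_apply, LinearMap.id_apply]
    constructor
    · intro hh
      have hrel : ∑ j : Fin 1, (fun _ => ((p : ZMod (p ^ n)) ^ i)) j • (fun _ => h) j = 0 := by
        simpa using hh
      obtain ⟨k, a, y, hxy, hfa⟩ := Module.Flat.isTrivialRelation_of_sum_smul_eq_zero hrel
      choose b hb using fun j => hann i hi (a 0 j) (by simpa using hfa j)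
      refine ⟨∑ j, b j • y j, ?_⟩
      have hx0 : h = ∑ j, a 0 j • y j := hxy 0
      rw [Finset.smul_sum, hx0]
      refine Finset.sum_congr rfl (fun j _ => ?_)
      rw [hb j, smul_smul]
    · rintro ⟨y, rfl⟩
      rw [smul_smul, ← pow_add, Nat.add_sub_cancel' hi, hpn, zero_smul]
  · intro hyp
    apply Module.Flat.of_forall_isTrivialRelation
    intro l f x hfx
    obtain ⟨e, he, hspan⟩ : ∃ e, e ≤ n ∧
        Ideal.span (Set.range f) = Ideal.span {(p : ZMod (p ^ n)) ^ e} := by
      let φ : ℤ →+* ZMod (p ^ n) := Int.castRingHom (ZMod (p ^ n))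
      obtain ⟨d, hd⟩ := (IsPrincipalIdealRing.principal
        (Ideal.comap φ (Ideal.span (Set.range f)))).principal
      have hpnJ : ((p : ℤ) ^ n) ∈ Ideal.comap φ (Ideal.span (Set.range f)) := by
        rw [Ideal.mem_comap]
        have : φ ((p : ℤ) ^ n) = 0 := by
          simp only [φ, map_pow, eq_intCast, Int.cast_natCast]
          exact hpn
        rw [this]
        exact Ideal.zero_mem _
      rw [hd, Ideal.submodule_span_eq, Ideal.mem_span_singleton] at hpnJ
      have hdn : d.natAbs ∣ p ^ n := by
        have := Int.natAbs_dvd_natAbs.mpr hpnJ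
        simpa [Int.natAbs_pow] using this
      obtain ⟨e, he, hde⟩ := (Nat.dvd_prime_pow hp).mp hdn
      refine ⟨e, he, ?_⟩
      have hIJ := (Ideal.map_comap_of_surjective φ ZMod.intCast_surjective
        (Ideal.span (Set.range f)))
      rw [← hIJ, hd, Ideal.submodule_span_eq, Ideal.map_span, Set.image_singleton]
      rcases Int.natAbs_eq d with h | h
      · rw [h, hde]
        simp [φ]
      · rw [h, hde, map_neg, Ideal.span_singleton_neg]
        simp [φ]
    have hfi : ∀ i, ∃ c : ZMod (p ^ n), f i = (p : ZMod (p ^ n)) ^ e * c := by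
      intro i
      have : f i ∈ Ideal.span {(p : ZMod (p ^ n)) ^ e} := hspan ▸ Ideal.subset_span ⟨i, rfl⟩
      obtain ⟨c, hc⟩ := Ideal.mem_span_singleton'.mp this
      exact ⟨c, by rw [← hc, mul_comm]⟩
    choose c hc using hfi
    obtain ⟨g, hg⟩ : ∃ g : Fin l → ZMod (p ^ n), ∑ i, g i * f i = (p : ZMod (p ^ n)) ^ e := by
      have : (p : ZMod (p ^ n)) ^ e ∈ Ideal.span (Set.range f) :=
        hspan ▸ Ideal.subset_span rfl
      exact Ideal.mem_span_range_iff_exists_fun.mp this
    have hz0 : (p : ZMod (p ^ n)) ^ e • (∑ j, c j • x j) = 0 := by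
      rw [Finset.smul_sum]
      simp_rw [smul_smul, ← hc]
      exact hfx
    have hzker : (∑ j, c j • x j) ∈ LinearMap.ker
        (((p : ZMod (p ^ n)) ^ e) • (LinearMap.id : H →ₗ[ZMod (p ^ n)] H)) := by
      rw [LinearMap.mem_ker, LinearMap.smul_apply, LinearMap.id_apply]
      exact hz0
    rw [hyp e he] at hzker
    obtain ⟨w, hw⟩ := hzker
    simp only [LinearMap.smul_apply, LinearMap.id_apply] at hw
    refine ⟨l + 1, fun i => Fin.snoc (α := fun _ => ZMod (p ^ n))
      (fun j => (if i = j then 1 else 0) - g i * c j) (g i * (p : ZMod (p ^ n)) ^ (n - e)),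
      Fin.snoc (α := fun _ => H) x w, ?_, ?_⟩
    · intro i
      rw [Fin.sum_univ_castSucc]
      simp only [Fin.snoc_castSucc, Fin.snoc_last]
      simp only [sub_smul, Finset.sum_sub_distrib, ite_smul, one_smul, zero_smul,
        Finset.sum_ite_eq, Finset.mem_univ, if_true, mul_smul]
      rw [← Finset.smul_sum, hw]
      abel
    · intro j
      induction j using Fin.lastCases with
      | last =>
        simp only [Fin.snoc_last]
        calc ∑ i, f i * (g i * (p : ZMod (p ^ n)) ^ (n - e))
            = (∑ i, g i * f i) * (p : ZMod (p ^ n)) ^ (n - e) := by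
              rw [Finset.sum_mul]
              exact Finset.sum_congr rfl (fun i _ => by ring)
          _ = 0 := by rw [hg, ← pow_add, Nat.add_sub_cancel' he, hpn]
      | cast j =>
        simp only [Fin.snoc_castSucc]
        simp only [mul_sub, Finset.sum_sub_distrib, mul_ite, mul_one, mul_zero,
          Finset.sum_ite_eq', Finset.mem_univ, if_true]
        rw [show ∑ i, f i * (g i * c j) = (∑ i, g i * f i) * c j by
          rw [Finset.sum_mul]
          exact Finset.sum_congr rfl (fun i _ => by ring), hg, hc j, sub_self]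

end Groth.Agent.S17500
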