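import Groth.Statements.S17538
import Mathlib.RingTheory.AdicCompletion.Basic
-- import your own Groth.Agent.* helpers here

set_option autoImplicit false
universe u v
open CAlg

namespace Groth.Agent.S17538

/-- For a commutative ring A, an ideal I and an A-module M, the canonical map from the I-adic completion
M^ to the I-adic completion of M^ admits an A-linear retraction (it is a split injection). (That M^
is I-adically separated is standard.) -/
theorem result {A : Type u} [CommRing A] (I : Ideal A)
    (M : Type v) [AddCommGroup M] [Module A M] :
    ∃ ψ : AdicCompletion I (AdicCompletion I M) →ₗ[A] AdicCompletion I M,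
      ψ ∘ₗ AdicCompletion.of I (AdicCompletion I M) = LinearMap.id := by
  let C := AdicCompletion I M
  let f : ∀ n : ℕ, AdicCompletion I C →ₗ[A] M ⧸ (I ^ n • ⊤ : Submodule A M) := fun n =>
    ((I ^ n • ⊤ : Submodule A C).liftQ (AdicCompletion.eval I M n)
      (AdicCompletion.pow_smul_top_le_ker_eval (I := I) (M := M) n)) ∘ₗ AdicCompletion.eval I C n
  have hf : ∀ {m n : ℕ} (hle : m ≤ n),
      AdicCompletion.transitionMap I M hle ∘ₗ f n = f m := by
    intro m n hle
    ext x
    obtain ⟨y, hy⟩ := Submodule.Quotient.mk_surjective _ (x.val n)
    have hxm : x.val m = AdicCompletion.transitionMap I C hle (x.val n) :=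
      (AdicCompletion.transitionMap_comp_eval_apply I C hle x).symm
    simp only [f, LinearMap.coe_comp, Function.comp_apply, AdicCompletion.eval_apply]
    rw [hxm, ← hy]
    show (AdicCompletion.transitionMap I M hle) (y.val n) = y.val m
    rw [AdicCompletion.transitionMap_comp_eval_apply]
  refine ⟨AdicCompletion.lift I f hf, ?_⟩
  ext z n
  simp only [f, LinearMap.coe_comp, Function.comp_apply, LinearMap.id_coe, id_eq,
    AdicCompletion.eval_lift_apply, AdicCompletion.eval_apply, AdicCompletion.of_apply]
  rfl

end Groth.Agent.S17538
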