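import Groth.Statements.S17540
import Mathlib
-- import your own Groth.Agent.* helpers here

set_option autoImplicit false
universe u v w
open W4c5adicflatcompl
open CAlg

namespace Groth.Agent.S17540

/-- Let A be I-adically complete, M an I-adically complete A-module and m : Z → M a family. The images
of the m z generate M/IM (the span of the family together with IM is all of M) if and only if the
family I-adically generates M: every x in M is the I-adically convergent sum of g z • m z for some
I-adically decaying function g : Z → A. -/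
theorem result {A : Type u} [CommRing A] (I : Ideal A) [IsAdicComplete I A]
    (M : Type v) [AddCommGroup M] [Module A M] [IsAdicComplete I M] (Z : Type w) (m : Z → M) :
    Submodule.span A (Set.range m) ⊔ I • ⊤ = ⊤ ↔
      ∀ x : M, ∃ g : Z → A, g ∈ decaying I Z A ∧
        ∀ n : ℕ, ∃ S : Finset Z,
          (∀ z, z ∉ S → g z • m z ∈ (I ^ n • ⊤ : Submodule A M)) ∧
          x - (∑ z ∈ S, g z • m z) ∈ (I ^ n • ⊤ : Submodule A M) := by
  classical
  have hI : ∀ (a : ℕ) (r : A), r ∈ I ^ a ↔ r ∈ (I ^ a • ⊤ : Submodule A A) := by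
    intro a r
    rw [Ideal.smul_eq_mul, Ideal.mul_top]
  have hA : ∀ (n : ℕ) (a : A) (x : M), a ∈ I ^ n → a • x ∈ (I ^ n • ⊤ : Submodule A M) :=
    fun n a x ha => Submodule.smul_mem_smul ha Submodule.mem_top
  constructor
  · intro hspan x
    have step : ∀ (k : ℕ) (y : M), y ∈ (I ^ k • ⊤ : Submodule A M) →
        ∃ c : Z →₀ A, (∀ z, c z ∈ I ^ k) ∧
          y - (c.sum fun z a => a • m z) ∈ (I ^ (k + 1) • ⊤ : Submodule A M) := by
      intro k y hy
      rw [← hspan, Submodule.smul_sup, ← Submodule.mul_smul, ← pow_succ] at hy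
      obtain ⟨u, hu, v, hv, rfl⟩ := Submodule.mem_sup.mp hy
      obtain ⟨c, hc, hcu⟩ := (Submodule.mem_ideal_smul_span_iff_exists_sum (I ^ k) m u).mp hu
      refine ⟨c, hc, ?_⟩
      rw [hcu, add_sub_cancel_left]
      exact hv
    choose c hc1 hc2 using step
    let Y : (k : ℕ) → {y : M // y ∈ (I ^ k • ⊤ : Submodule A M)} := fun k =>
      Nat.rec ⟨x, by simp⟩
        (fun k Yk => ⟨Yk.1 - ((c k Yk.1 Yk.2).sum fun z a => a • m z), hc2 k Yk.1 Yk.2⟩) k
    let C : ℕ → Z →₀ A := fun k => c k (Y k).1 (Y k).2
    have hC : ∀ k z, C k z ∈ I ^ k := fun k z => hc1 k _ _ z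
    have hY : ∀ k, (Y (k + 1)).1 = (Y k).1 - ((C k).sum fun z a => a • m z) := fun k => rfl
    have hY0 : (Y 0).1 = x := rfl
    have htel : ∀ n, x - (Y n).1 = ∑ j ∈ Finset.range n, ((C j).sum fun z a => a • m z) := by
      intro n
      induction n with
      | zero => simp [hY0]
      | succ n ih =>
        rw [Finset.sum_range_succ, ← ih, hY]
        abel
    let s : ℕ → Z → A := fun n z => ∑ j ∈ Finset.range n, C j z
    have hsC : ∀ z {a b : ℕ}, a ≤ b → s a z ≡ s b z [SMOD (I ^ a • ⊤ : Submodule A A)] := by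
      intro z a b hab
      rw [SModEq.sub_mem, ← neg_sub, Submodule.neg_mem_iff, ← hI]
      simp only [s]
      rw [← Finset.sum_Ico_eq_sub _ hab]
      refine Ideal.sum_mem _ (fun j hj => ?_)
      exact Ideal.pow_le_pow_right (Finset.mem_Ico.mp hj).1 (hC j z)
    choose g hg using fun z => IsPrecomplete.prec (inferInstance : IsPrecomplete I A) (hsC z)
    have hg' : ∀ z n, g z - s n z ∈ I ^ n := by
      intro z n
      have := (hg z n).symm
      rw [SModEq.sub_mem, ← hI] at this
      exact this
    let Sfin : ℕ → Finset Z := fun n => (Finset.range n).biUnion fun j => (C j).support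
    have hs0 : ∀ n z, z ∉ Sfin n → s n z = 0 := by
      intro n z hz
      apply Finset.sum_eq_zero
      intro j hj
      by_contra hne
      exact hz (Finset.mem_biUnion.mpr ⟨j, hj, Finsupp.mem_support_iff.mpr hne⟩)
    have hgI : ∀ n z, z ∉ Sfin n → g z ∈ I ^ n := by
      intro n z hz
      have := hg' z n
      rwa [hs0 n z hz, sub_zero] at this
    refine ⟨g, ?_, ?_⟩
    · show ∀ n : ℕ, {z | g z ∉ (I ^ n • ⊤ : Submodule A A)}.Finite
      intro n
      refine (Sfin n).finite_toSet.subset ?_
      intro z hz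
      by_contra hz'
      exact hz ((hI n (g z)).mp (hgI n z hz'))
    · intro n
      refine ⟨Sfin n, fun z hz => hA n _ _ (hgI n z hz), ?_⟩
      have e1 : ∑ z ∈ Sfin n, s n z • m z = x - (Y n).1 := by
        rw [htel n]
        simp only [s, Finset.sum_smul]
        rw [Finset.sum_comm]
        refine Finset.sum_congr rfl (fun j hj => ?_)
        have hsub : (C j).support ⊆ Sfin n := by
          intro z hz
          exact Finset.mem_biUnion.mpr ⟨j, hj, hz⟩
        rw [Finsupp.sum_of_support_subset (C j) hsub (fun z a => a • m z)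
          (fun i _ => zero_smul A _)]
      have e2 : x - ∑ z ∈ Sfin n, g z • m z =
          (Y n).1 - ∑ z ∈ Sfin n, (g z - s n z) • m z := by
        simp only [sub_smul, Finset.sum_sub_distrib]
        rw [e1]
        abel
      rw [e2]
      exact Submodule.sub_mem _ (Y n).2 (Submodule.sum_mem _ (fun z _ => hA n _ _ (hg' z n)))
  · intro h
    rw [eq_top_iff]
    intro x _
    obtain ⟨g, _, hg⟩ := h x
    obtain ⟨S, _, hS⟩ := hg 1
    have hx : x = (∑ z ∈ S, g z • m z) + (x - ∑ z ∈ S, g z • m z) := by abel
    rw [hx]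
    refine Submodule.add_mem_sup ?_ ?_
    · exact Submodule.sum_mem _ (fun z _ => Submodule.smul_mem _ _ (Submodule.subset_span ⟨z, rfl⟩))
    · simpa using hS

end Groth.Agent.S17540
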