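import Groth.Statements.S17542
import Mathlib.RingTheory.AdicCompletion.Noetherian
-- import your own Groth.Agent.* helpers here

set_option autoImplicit false
universe u v w
open W4c5adicflatcompl
open CAlg

namespace Groth.Agent.S17542

/-- Over a Noetherian ring A which is I-adically complete, for a surjection φ : M → M'' of A-modules
with M finitely generated and a set Z, every I-adically decaying function Z → M'' is the composite
of φ with an I-adically decaying function Z → M. (This is the right exactness of the
decaying-functions functor on finitely generated modules; left exactness is the statement about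
submodules.) -/
theorem result {A : Type u} [CommRing A] [IsNoetherianRing A] (I : Ideal A)
    [IsAdicComplete I A] (Z : Type v) {M : Type w} {M'' : Type w} [AddCommGroup M] [Module A M]
    [Module.Finite A M] [AddCommGroup M''] [Module A M''] (φ : M →ₗ[A] M'')
    (hφ : Function.Surjective φ) (g : Z → M'') (hg : g ∈ decaying I Z M'') :
    ∃ f : Z → M, f ∈ decaying I Z M ∧ ∀ z, φ (f z) = g z := by
  classical
  have : Module.Finite A M'' := Module.Finite.of_surjective φ hφ
  have : IsHausdorff I M'' := IsHausdorff.of_le_jacobson I M'' (IsAdicComplete.le_jacobson_bot I)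
  have hmap : ∀ k : ℕ, Submodule.map φ (I ^ k • ⊤ : Submodule A M) = I ^ k • ⊤ := by
    intro k
    rw [Submodule.map_smul'', Submodule.map_top, LinearMap.range_eq_top.mpr hφ]
  have hhaus : ∀ x : M'', (∀ k : ℕ, x ∈ (I ^ k • ⊤ : Submodule A M'')) → x = 0 := by
    intro x hx
    exact IsHausdorff.haus (inferInstance : IsHausdorff I M'') x (fun k => SModEq.zero.mpr (hx k))
  have hmono : ∀ (P : Type w) [AddCommGroup P] [Module A P] (a b : ℕ), a ≤ b →
      (I ^ b • ⊤ : Submodule A P) ≤ I ^ a • ⊤ :=
    fun P _ _ a b hab => Submodule.smul_mono_left (Ideal.pow_le_pow_right hab)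
  let d : M'' → ℕ := fun x => if h : ∃ k, x ∉ (I ^ k • ⊤ : Submodule A M'') then
    Nat.findGreatest (fun m => x ∈ (I ^ m • ⊤ : Submodule A M'')) (Nat.find h) else 0
  have hd1 : ∀ x : M'', x ∈ (I ^ d x • ⊤ : Submodule A M'') := by
    intro x
    by_cases h : ∃ k, x ∉ (I ^ k • ⊤ : Submodule A M'')
    · simp only [d, dif_pos h]
      exact Nat.findGreatest_spec (P := fun m => x ∈ (I ^ m • ⊤ : Submodule A M''))
        (Nat.zero_le _) (by simp)
    · push Not at h
      exact h _
  have hd2 : ∀ (x : M'') (N : ℕ), x ∈ (I ^ N • ⊤ : Submodule A M'') → x = 0 ∨ N ≤ d x := by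
    intro x N hx
    by_cases h : ∃ k, x ∉ (I ^ k • ⊤ : Submodule A M'')
    · right
      simp only [d, dif_pos h]
      have hk := Nat.find_spec h
      have hNk : N ≤ Nat.find h := by
        by_contra hlt
        push Not at hlt
        exact hk (hmono M'' _ _ hlt.le hx)
      exact Nat.le_findGreatest hNk hx
    · left
      push Not at h
      exact hhaus x h
  have hlift : ∀ z, ∃ y : M, φ y = g z ∧ y ∈ (I ^ d (g z) • ⊤ : Submodule A M) ∧
      (g z = 0 → y = 0) := by
    intro z
    by_cases h0 : g z = 0
    · exact ⟨0, by rw [h0, map_zero], Submodule.zero_mem _, fun _ => rfl⟩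
    · have hm := hd1 (g z)
      rw [← hmap] at hm
      obtain ⟨y, hy, hyg⟩ := hm
      exact ⟨y, hyg, hy, fun h => absurd h h0⟩
  choose f hf1 hf2 hf3 using hlift
  refine ⟨f, ?_, hf1⟩
  intro N
  refine (hg N).subset ?_
  intro z hz hgz
  apply hz
  rcases hd2 _ N hgz with h0 | hle
  · rw [hf3 z h0]
    exact Submodule.zero_mem _
  · exact hmono M _ _ hle (hf2 z)

end Groth.Agent.S17542
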