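import Groth.Statements.S17544
import Mathlib.RingTheory.AdicCompletion.Basic
import Mathlib.RingTheory.Noetherian.Defs
import Mathlib.RingTheory.Ideal.Operations
-- import your own Groth.Agent.* helpers here

set_option autoImplicit false
universe u v w
open W4c5adicflatcompl
open CAlg

namespace Groth.Agent.S17544

/-- For a Noetherian ring A which is I-adically complete, a set Z and n ≥ 0, reduction modulo I^n maps
the decaying functions Z → A onto the finitely supported functions Z → A/I^n, and its kernel, the
decaying functions with all values in I^n, equals I^n times the module of decaying functions; so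
(A/I^n) ⊗ F_dec(Z, A) → F_fin(Z, A/I^n) is bijective. -/
theorem result {A : Type u} [CommRing A] [IsNoetherianRing A]
    (I : Ideal A) [IsAdicComplete I A] (Z : Type v) (n : ℕ) :
    (∀ g : Z →₀ A ⧸ I ^ n, ∃ f : decaying I Z A,
        ∀ z, Ideal.Quotient.mk (I ^ n) ((f : Z → A) z) = g z) ∧
      ∀ f : decaying I Z A,
        f ∈ (I ^ n • ⊤ : Submodule A (decaying I Z A)) ↔ ∀ z, (f : Z → A) z ∈ I ^ n := by
  classical
  have hsmul : ∀ k : ℕ, (I ^ k • ⊤ : Submodule A A) = I ^ k := by
    intro k
    change I ^ k • (⊤ : Ideal A) = I ^ k
    rw [Ideal.smul_eq_mul, Ideal.mul_top]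
  refine ⟨?_, ?_⟩
  · intro g
    let s := Function.surjInv (Ideal.Quotient.mk_surjective (I := I ^ n))
    have hs : ∀ q, Ideal.Quotient.mk (I ^ n) (s q) = q :=
      Function.surjInv_eq (Ideal.Quotient.mk_surjective (I := I ^ n))
    let f : Z → A := fun z => if z ∈ g.support then s (g z) else 0
    have hfdec : f ∈ decaying I Z A := by
      intro m
      refine (g.support.finite_toSet).subset ?_
      intro z hz
      by_contra hzs
      apply hz
      have hfz : f z = 0 := by
        simp only [f]
        rw [if_neg (by simpa using hzs)]
      rw [hfz]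
      exact Submodule.zero_mem _
    refine ⟨⟨f, hfdec⟩, fun z => ?_⟩
    show Ideal.Quotient.mk (I ^ n) (f z) = g z
    by_cases hz : z ∈ g.support
    · simp only [f, if_pos hz]
      exact hs _
    · simp only [f, if_neg hz]
      rw [Finsupp.notMem_support_iff.mp hz, map_zero]
  · intro f
    constructor
    · intro hf z
      let φ : decaying I Z A →ₗ[A] A := (LinearMap.proj z).comp (decaying I Z A).subtype
      have h2 : φ f ∈ Submodule.map φ (I ^ n • ⊤ : Submodule A (decaying I Z A)) :=
        Submodule.mem_map_of_mem hf
      rw [Submodule.map_smul''] at h2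
      have h3 := Submodule.smul_mono (le_refl (I ^ n)) (le_top : Submodule.map φ ⊤ ≤ ⊤) h2
      rw [hsmul] at h3
      exact h3
    · intro hf
      obtain ⟨t, ht⟩ := (IsNoetherian.noetherian (I ^ n) : (I ^ n).FG)
      have hspan : Submodule.span A (Set.range (fun i : t => (i : A))) = I ^ n := by
        rw [← ht]
        congr 1
        ext x
        simp
      have hhaus : ∀ x : A, (∀ k : ℕ, x ∈ I ^ k) → x = 0 := by
        intro x hx
        refine IsHausdorff.haus (inferInstance : IsHausdorff I A) x (fun k => ?_)
        rw [SModEq.zero, hsmul]
        exact hx k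
      -- a depth function
      let d : A → ℕ := fun x => if h : ∃ k, x ∉ I ^ k then
        Nat.findGreatest (fun m => x ∈ I ^ (m + n)) (Nat.find h) else 0
      have hd1 : ∀ x : A, x ∈ I ^ n → x ∈ I ^ (d x + n) := by
        intro x hx
        by_cases h : ∃ k, x ∉ I ^ k
        · simp only [d, dif_pos h]
          exact Nat.findGreatest_spec (P := fun m => x ∈ I ^ (m + n)) (Nat.zero_le _)
            (by simpa using hx)
        · push Not at h
          rw [hhaus x h]
          exact Submodule.zero_mem _
      have hd2 : ∀ (x : A) (M : ℕ), x ∈ I ^ (M + n) → x = 0 ∨ M ≤ d x := by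
        intro x M hx
        by_cases h : ∃ k, x ∉ I ^ k
        · right
          simp only [d, dif_pos h]
          have hk := Nat.find_spec h
          have hMk : M ≤ Nat.find h := by
            by_contra hlt
            push Not at hlt
            apply hk
            exact Ideal.pow_le_pow_right (by omega) hx
          exact Nat.le_findGreatest hMk hx
        · left
          push Not at h
          exact hhaus x h
      have hrep : ∀ z, ∃ a : t →₀ A, (∀ i, a i ∈ I ^ (d ((f : Z → A) z))) ∧
          (a.sum fun i c => c • (i : A)) = (f : Z → A) z ∧ ((f : Z → A) z = 0 → a = 0) := by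
        intro z
        by_cases h0 : (f : Z → A) z = 0
        · refine ⟨0, fun i => by simp, by rw [h0]; simp, fun _ => rfl⟩
        · have hmem : (f : Z → A) z ∈ I ^ (d ((f : Z → A) z)) • Submodule.span A
              (Set.range (fun i : t => (i : A))) := by
            rw [hspan, Ideal.smul_eq_mul, ← pow_add]
            exact hd1 _ (hf z)
          obtain ⟨a, ha, hsum⟩ := (Submodule.mem_ideal_smul_span_iff_exists_sum _ _ _).mp hmem
          exact ⟨a, ha, hsum, fun h => absurd h h0⟩
      choose a ha1 ha2 ha3 using hrep
      have hcdec : ∀ i : t, (fun z => a z i) ∈ decaying I Z A := by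
        intro i M
        refine (f.2 (M + n)).subset ?_
        intro z hz hfz
        apply hz
        rw [hsmul] at hfz ⊢
        show a z i ∈ I ^ M
        rcases hd2 _ M hfz with h0 | hle
        · rw [ha3 z h0]
          simp
        · exact Ideal.pow_le_pow_right hle (ha1 z i)
      let c : t → decaying I Z A := fun i => ⟨fun z => a z i, hcdec i⟩
      have hfeq : f = ∑ i : t, (i : A) • c i := by
        apply Subtype.ext
        funext z
        rw [← ha2 z, Finsupp.sum_fintype _ _ (fun i => by simp)]
        simp [c, Finset.sum_apply, mul_comm]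
      rw [hfeq]
      refine Submodule.sum_mem _ (fun i _ => Submodule.smul_mem_smul ?_ trivial)
      rw [← ht]
      exact Submodule.subset_span i.2

end Groth.Agent.S17544
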