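import Groth.Statements.S17546
import Groth.Agent.S17544
import Groth.Agent.S17536
-- import your own Groth.Agent.* helpers here

set_option autoImplicit false
universe u v w
open W4c5adicflatcompl
open CAlg

namespace Groth.Agent.S17546

/-- For a Noetherian ring A which is I-adically complete and any set Z, the A-module of I-adically
decaying functions Z → A is I-adically complete. -/
theorem result {A : Type u} [CommRing A] [IsNoetherianRing A]
    (I : Ideal A) [IsAdicComplete I A] (Z : Type v) :
    IsAdicComplete I (decaying I Z A) := by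
  have hsmul : ∀ k : ℕ, (I ^ k • ⊤ : Submodule A A) = I ^ k := by
    intro k
    change I ^ k • (⊤ : Ideal A) = I ^ k
    rw [Ideal.smul_eq_mul, Ideal.mul_top]
  have hmemiff : ∀ (k : ℕ) (f : decaying I Z A),
      f ∈ (I ^ k • ⊤ : Submodule A (decaying I Z A)) ↔ ∀ z, (f : Z → A) z ∈ I ^ k :=
    fun k f => (Groth.Agent.S17544.result I Z k).2 f
  have hH : IsHausdorff I (decaying I Z A) := Groth.Agent.S17536.result I Z A
  refine { toIsHausdorff := hH, toIsPrecomplete := ⟨?_⟩ }
  intro F hF
  have hpt : ∀ z : Z, ∃ L : A, ∀ k, (F k : Z → A) z - L ∈ I ^ k := by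
    intro z
    obtain ⟨L, hL⟩ := IsPrecomplete.prec (inferInstance : IsPrecomplete I A)
      (f := fun k => (F k : Z → A) z) (fun {m n} hmn => by
        have h := hF hmn
        rw [SModEq.sub_mem] at h ⊢
        rw [hsmul]
        have h2 := (hmemiff m _).mp h z
        simpa using h2)
    refine ⟨L, fun k => ?_⟩
    have h3 := hL k
    rw [SModEq.sub_mem, hsmul] at h3
    exact h3
  choose L hL using hpt
  have hLdec : L ∈ decaying I Z A := by
    intro N
    refine ((F N).2 N).subset ?_
    intro z hz hFz
    apply hz
    rw [hsmul] at hFz ⊢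
    have h4 := Submodule.sub_mem _ hFz (hL z N)
    simpa using h4
  refine ⟨⟨L, hLdec⟩, fun n => ?_⟩
  rw [SModEq.sub_mem, hmemiff]
  intro z
  simpa using hL z n

end Groth.Agent.S17546
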