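import Groth.Statements.S17553
import Mathlib
-- import your own Groth.Agent.* helpers here

set_option autoImplicit false
universe u v w
open W4c5adicflatcompl
open CAlg

namespace Groth.Agent.S17553

/-- Let A be I-adically complete, M an I-adically complete A-module, Z a set and f : Z → M a function.
There is an A-linear map from the I-adically decaying functions Z → A to M whose value on g is the
I-adically convergent sum of the g z • f z. -/
theorem result {A : Type u} [CommRing A] (I : Ideal A) [IsAdicComplete I A]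
    (Z : Type v) (M : Type w) [AddCommGroup M] [Module A M] [IsAdicComplete I M] (f : Z → M) :
    ∃ φ : decaying I Z A →ₗ[A] M, ∀ (g : decaying I Z A) (n : ℕ), ∃ S : Finset Z,
      (∀ z, z ∉ S → (g : Z → A) z • f z ∈ (I ^ n • ⊤ : Submodule A M)) ∧
      φ g - (∑ z ∈ S, (g : Z → A) z • f z) ∈ (I ^ n • ⊤ : Submodule A M) := by
  classical
  have hA : ∀ (n : ℕ) (a : A) (x : M), a ∈ (I ^ n • ⊤ : Submodule A A) →
      a • x ∈ (I ^ n • ⊤ : Submodule A M) := by
    intro n a x ha
    rw [Ideal.smul_eq_mul, Ideal.mul_top] at ha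
    exact Submodule.smul_mem_smul ha Submodule.mem_top
  let S : decaying I Z A → ℕ → Finset Z := fun g n => ((g.2 : (g : Z → A) ∈ decaying I Z A) n).toFinset
  have hS : ∀ g n z, z ∈ S g n ↔ (g : Z → A) z ∉ (I ^ n • ⊤ : Submodule A A) := by
    intro g n z
    simp only [S, Set.Finite.mem_toFinset, Set.mem_ofPred_eq]
  have hout : ∀ g n z, z ∉ S g n → (g : Z → A) z • f z ∈ (I ^ n • ⊤ : Submodule A M) := by
    intro g n z hz
    rw [hS, not_not] at hz
    exact hA n _ _ hz
  let p : decaying I Z A → ℕ → M := fun g n => ∑ z ∈ S g n, (g : Z → A) z • f z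
  have hU : ∀ g n (U : Finset Z), S g n ⊆ U →
      (∑ z ∈ U, (g : Z → A) z • f z) - p g n ∈ (I ^ n • ⊤ : Submodule A M) := by
    intro g n U hsub
    simp only [p]
    rw [← Finset.sum_sdiff hsub, add_sub_cancel_right]
    refine Submodule.sum_mem _ (fun z hz => ?_)
    exact hout g n z (Finset.mem_sdiff.mp hz).2
  have hmonoS : ∀ g {m n : ℕ}, m ≤ n → S g m ⊆ S g n := by
    intro g m n hmn z hz
    rw [hS] at hz ⊢
    intro hn
    exact hz (Submodule.smul_mono_left (Ideal.pow_le_pow_right hmn) hn)
  have hcauchy : ∀ g {m n : ℕ}, m ≤ n → p g m ≡ p g n [SMOD (I ^ m • ⊤ : Submodule A M)] := by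
    intro g m n hmn
    rw [SModEq.sub_mem, ← neg_sub]
    refine Submodule.neg_mem _ ?_
    exact hU g m (S g n) (hmonoS g hmn)
  have hex : ∀ g, ∃ L : M, ∀ n, p g n ≡ L [SMOD (I ^ n • ⊤ : Submodule A M)] := fun g =>
    IsPrecomplete.prec (inferInstance : IsPrecomplete I M) (hcauchy g)
  choose L hL using hex
  have hL' : ∀ g n, L g - p g n ∈ (I ^ n • ⊤ : Submodule A M) := by
    intro g n
    rw [← SModEq.sub_mem]
    exact (hL g n).symm
  have hadd : ∀ g h, L (g + h) = L g + L h := by
    intro g h
    rw [IsHausdorff.eq_iff_smodEq (I := I)]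
    intro n
    rw [SModEq.sub_mem]
    let U := S (g + h) n ∪ S g n ∪ S h n
    let q : decaying I Z A → M := fun k => ∑ z ∈ U, (k : Z → A) z • f z
    have hq : q (g + h) = q g + q h := by
      simp only [q, Submodule.coe_add, Pi.add_apply, add_smul, Finset.sum_add_distrib]
    have e : L (g + h) - (L g + L h) =
        (L (g + h) - p (g + h) n) - (q (g + h) - p (g + h) n) - (L g - p g n) + (q g - p g n)
          - (L h - p h n) + (q h - p h n) := by
      rw [hq]; abel
    rw [e]
    have h1 : S (g + h) n ⊆ U := fun z hz => by simp [U, hz]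
    have h2 : S g n ⊆ U := fun z hz => by simp [U, hz]
    have h3 : S h n ⊆ U := fun z hz => by simp [U, hz]
    refine Submodule.add_mem _ (Submodule.sub_mem _ (Submodule.add_mem _ (Submodule.sub_mem _
      (Submodule.sub_mem _ (hL' _ n) (hU _ n U h1)) (hL' g n)) (hU g n U h2)) (hL' h n))
      (hU h n U h3)
  have hsmul : ∀ (a : A) g, L (a • g) = a • L g := by
    intro a g
    rw [IsHausdorff.eq_iff_smodEq (I := I)]
    intro n
    rw [SModEq.sub_mem]
    let U := S (a • g) n ∪ S g n
    let q : decaying I Z A → M := fun k => ∑ z ∈ U, (k : Z → A) z • f z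
    have hq : q (a • g) = a • q g := by
      simp only [q, Submodule.coe_smul, Pi.smul_apply, smul_eq_mul, Finset.smul_sum, mul_smul]
    have e : L (a • g) - a • L g =
        (L (a • g) - p (a • g) n) - (q (a • g) - p (a • g) n) - a • (L g - p g n)
          + a • (q g - p g n) := by
      rw [hq, smul_sub, smul_sub]; abel
    rw [e]
    have h1 : S (a • g) n ⊆ U := fun z hz => by simp [U, hz]
    have h2 : S g n ⊆ U := fun z hz => by simp [U, hz]
    refine Submodule.add_mem _ (Submodule.sub_mem _ (Submodule.sub_mem _ (hL' _ n)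
      (hU _ n U h1)) (Submodule.smul_mem _ a (hL' g n))) (Submodule.smul_mem _ a (hU g n U h2))
  refine ⟨{ toFun := L, map_add' := hadd, map_smul' := hsmul }, ?_⟩
  intro g n
  exact ⟨S g n, fun z hz => hout g n z hz, hL' g n⟩

end Groth.Agent.S17553
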