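import Groth.Statements.S17725
import Mathlib.Topology.Sober
import Mathlib.Topology.NoetherianSpace
-- import your own Groth.Agent.* helpers here

set_option autoImplicit false
universe u
open SpecSp

namespace Groth.Agent.S17725

open AlgebraicGeometry in
/-- In a connected Noetherian scheme any two points p, q are linked by a finite chain of points p = x₁,
…, xₙ = q such that for each i one of x_i, x_{i+1} is a specialization of the other; equivalently, p
and q are related by the equivalence relation generated by the specialization relation. -/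
theorem result
    (X : Scheme.{u}) [IsNoetherian X] [ConnectedSpace X] (p q : X) :
    Relation.EqvGen (fun x y : X => x ⤳ y) p q := by
  classical
  let S : Set X := {x | Relation.EqvGen (fun x y : X => x ⤳ y) p x}
  have hcomp : ∀ Z ∈ irreducibleComponents X, ∀ x ∈ Z, ∀ y ∈ Z, x ∈ S → y ∈ S := by
    intro Z hZ x hx y hy hxS
    have hirr : IsIrreducible Z := hZ.1
    have hcl : IsClosed Z := isClosed_of_mem_irreducibleComponents Z hZ
    obtain ⟨η, hη⟩ := QuasiSober.sober hirr hcl
    have h1 : η ⤳ x := hη.specializes hx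
    have h2 : η ⤳ y := hη.specializes hy
    exact Relation.EqvGen.trans _ _ _
      (Relation.EqvGen.trans _ _ _ hxS (Relation.EqvGen.symm _ _ (Relation.EqvGen.rel _ _ h1)))
      (Relation.EqvGen.rel _ _ h2)
  have hfin : (irreducibleComponents X).Finite :=
    TopologicalSpace.NoetherianSpace.finite_irreducibleComponents
  have hcover : ∀ x : X, ∃ Z ∈ irreducibleComponents X, x ∈ Z := fun x =>
    ⟨irreducibleComponent x, irreducibleComponent_mem_irreducibleComponents x,
      mem_irreducibleComponent⟩
  have hS_eq : S = ⋃ Z ∈ {Z ∈ irreducibleComponents X | (Z ∩ S).Nonempty}, Z := by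
    ext x
    constructor
    · intro hx
      obtain ⟨Z, hZ, hxZ⟩ := hcover x
      exact Set.mem_biUnion ⟨hZ, ⟨x, hxZ, hx⟩⟩ hxZ
    · intro hx
      simp only [Set.mem_iUnion] at hx
      obtain ⟨Z, ⟨hZ, y, hyZ, hyS⟩, hxZ⟩ := hx
      exact hcomp Z hZ y hyZ x hxZ hyS
  have hSc_eq : Sᶜ = ⋃ Z ∈ {Z ∈ irreducibleComponents X | ¬ (Z ∩ S).Nonempty}, Z := by
    ext x
    constructor
    · intro hx
      obtain ⟨Z, hZ, hxZ⟩ := hcover x
      refine Set.mem_biUnion ⟨hZ, ?_⟩ hxZ
      rintro ⟨y, hyZ, hyS⟩
      exact hx (hcomp Z hZ y hyZ x hxZ hyS)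
    · intro hx hxS
      simp only [Set.mem_iUnion] at hx
      obtain ⟨Z, ⟨hZ, hne⟩, hxZ⟩ := hx
      exact hne ⟨x, hxZ, hxS⟩
  have hclosed : IsClosed S := by
    rw [hS_eq]
    exact (hfin.subset (fun Z hZ => hZ.1)).isClosed_biUnion
      (fun Z hZ => isClosed_of_mem_irreducibleComponents Z hZ.1)
  have hopen : IsOpen S := by
    rw [← isClosed_compl_iff, hSc_eq]
    exact (hfin.subset (fun Z hZ => hZ.1)).isClosed_biUnion
      (fun Z hZ => isClosed_of_mem_irreducibleComponents Z hZ.1)
  have hclopen : IsClopen S := ⟨hclosed, hopen⟩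
  rcases isClopen_iff.mp hclopen with h | h
  · exfalso
    have hp : p ∈ S := Relation.EqvGen.refl p
    rw [h] at hp
    exact hp
  · have hq : q ∈ S := by rw [h]; trivial
    exact hq

end Groth.Agent.S17725
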