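import Groth.Statements.S17726
import Mathlib.RingTheory.Ideal.Operations
-- import your own Groth.Agent.* helpers here

set_option autoImplicit false
universe u
open CAlg

namespace Groth.Agent.S17726

/-- Let f and g be non-zero-divisors of a commutative ring A, not both units; think of them as local
equations, at a point of the union of the supports, of two effective Cartier divisors E and D. If
the ideals generated by g^{m₁} and f^{n₁} coincide, and likewise for g^{m₂} and f^{n₂}, then m₁ n₂ =
m₂ n₁. So all pairs (m, n) with m D = n E locally at the point are proportional, and the saturation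
of the monoid they form is generated by a single element. -/
theorem result
    (A : Type u) [CommRing A] (f g : A)
    (hf : f ∈ nonZeroDivisors A) (hg : g ∈ nonZeroDivisors A) (hfg : ¬ (IsUnit f ∧ IsUnit g))
    (m₁ n₁ m₂ n₂ : ℕ)
    (h₁ : Ideal.span {g ^ m₁} = Ideal.span {f ^ n₁})
    (h₂ : Ideal.span {g ^ m₂} = Ideal.span {f ^ n₂}) :
    m₁ * n₂ = m₂ * n₁ := by
  have key : ∀ a b : ℕ, a < b → Ideal.span {g ^ a} = Ideal.span {g ^ b} → IsUnit g := by
    intro a b hab h
    have hmem : g ^ a ∈ Ideal.span {g ^ b} := by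
      rw [← h]
      exact Ideal.subset_span rfl
    obtain ⟨c, hc⟩ := Ideal.mem_span_singleton'.mp hmem
    have hga : g ^ a ∈ nonZeroDivisors A := pow_mem hg a
    have h1 : (c * g ^ (b - a) - 1) * g ^ a = 0 := by
      rw [sub_mul, one_mul, mul_assoc, ← pow_add, Nat.sub_add_cancel hab.le, hc, sub_self]
    have h2 : c * g ^ (b - a) - 1 = 0 := (mul_right_mem_nonZeroDivisors_eq_zero_iff hga).mp h1
    have h3 : IsUnit (g ^ (b - a)) := IsUnit.of_mul_eq_one_right c (sub_eq_zero.mp h2)
    exact (isUnit_pow_iff (by omega)).mp h3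
  have e1 : Ideal.span {g ^ (m₁ * n₂)} = Ideal.span {f ^ (n₁ * n₂)} := by
    rw [pow_mul, pow_mul, ← Ideal.span_singleton_pow (g ^ m₁), h₁, Ideal.span_singleton_pow]
  have e2 : Ideal.span {g ^ (m₂ * n₁)} = Ideal.span {f ^ (n₂ * n₁)} := by
    rw [pow_mul, pow_mul, ← Ideal.span_singleton_pow (g ^ m₂), h₂, Ideal.span_singleton_pow]
  have hA : Ideal.span {g ^ (m₁ * n₂)} = Ideal.span {g ^ (m₂ * n₁)} := by
    rw [e1, e2, mul_comm n₁ n₂]
  by_contra hne
  have hgu : IsUnit g := by
    rcases Nat.lt_or_gt_of_ne hne with hlt | hlt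
    · exact key _ _ hlt hA
    · exact key _ _ hlt hA.symm
  have hfu : ∀ n m : ℕ, Ideal.span {g ^ m} = Ideal.span {f ^ n} → n = 0 := by
    intro n m h
    by_contra hn
    have h1 : Ideal.span {g ^ m} = ⊤ := Ideal.span_singleton_eq_top.mpr (hgu.pow m)
    rw [h, Ideal.span_singleton_eq_top] at h1
    exact hfg ⟨(isUnit_pow_iff hn).mp h1, hgu⟩
  have hn1 := hfu n₁ m₁ h₁
  have hn2 := hfu n₂ m₂ h₂
  apply hne
  rw [hn1, hn2, mul_zero, mul_zero]

end Groth.Agent.S17726
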