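import Groth.Statements.S17764
import Mathlib.Algebra.Module.Injective
-- import your own Groth.Agent.* helpers here

set_option autoImplicit false
universe u
open InjHull

namespace Groth.Agent.S17764

/-- Let R be a commutative ring and M an R-module which is torsion-free (no nonzero element of R kills a
nonzero element of M) and divisible (multiplication by every nonzero element of R is surjective on
M). Then M is an injective R-module. (Over a ring with zero divisors the two hypotheses force M =
0.) -/
theorem result (R : Type u) [CommRing R] (M : Type u) [AddCommGroup M] [Module R M] [NoZeroSMulDivisors R M] (hdiv : ∀ r : R, r ≠ 0 → Function.Surjective (fun m : M => r • m)) : Module.Injective R M := by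
  apply Module.Baer.injective
  intro I g
  by_cases hI : ∃ a ∈ I, a ≠ 0
  · obtain ⟨a, haI, ha0⟩ := hI
    obtain ⟨x, hx⟩ := hdiv a ha0 (g ⟨a, haI⟩)
    refine ⟨LinearMap.toSpanSingleton R M x, ?_⟩
    intro r hr
    simp only [LinearMap.toSpanSingleton_apply]
    have key : a • (r • x) = a • g ⟨r, hr⟩ := by
      have h1 : a • g ⟨r, hr⟩ = g (a • (⟨r, hr⟩ : I)) := (g.map_smul a ⟨r, hr⟩).symm
      have h2 : r • g ⟨a, haI⟩ = g (r • (⟨a, haI⟩ : I)) := (g.map_smul r ⟨a, haI⟩).symm
      have h3 : (a • (⟨r, hr⟩ : I)) = r • (⟨a, haI⟩ : I) := by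
        ext
        simp [smul_eq_mul, mul_comm]
      rw [h1, h3, ← h2]
      simp only at hx
      rw [← hx, smul_comm]
    have key2 : a • (r • x - g ⟨r, hr⟩) = 0 := by rw [smul_sub, key, sub_self]
    rcases NoZeroSMulDivisors.eq_zero_or_eq_zero_of_smul_eq_zero key2 with h | h
    · exact absurd h ha0
    · exact sub_eq_zero.mp h
  · push Not at hI
    refine ⟨0, ?_⟩
    intro r hr
    have hr0 : r = 0 := hI r hr
    subst hr0
    have h0 : (⟨0, hr⟩ : I) = 0 := rfl
    rw [h0, LinearMap.zero_apply, map_zero]

end Groth.Agent.S17764
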