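import Groth.Statements.S17881
import Mathlib.RingTheory.LocalRing.Basic
import Mathlib.RingTheory.Coprime.Basic
-- import your own Groth.Agent.* helpers here

set_option autoImplicit false
universe u
open CAlg

namespace Groth.Agent.S17881

/-- Let O be a subring of a nontrivial commutative ring A. The following are equivalent: (i) A is a
local ring, every non-unit of A belongs to O, and for every unit u of A one of u, u⁻¹ belongs to O —
equivalently O is the preimage in the local ring A of a valuation ring of the residue field of A,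
which makes O a semi-valuation ring with semi-fraction ring A; (ii) for all f, g in A generating the
unit ideal, either f ∈ gO or g ∈ fO. (A is taken nontrivial: over the zero ring (ii) holds and (i)
fails.) -/
theorem result (A : Type u) [CommRing A] [Nontrivial A]
    (O : Subring A) :
    (IsLocalRing A ∧ (∀ a : A, ¬ IsUnit a → a ∈ O) ∧ (∀ u : Aˣ, (u : A) ∈ O ∨ ((u⁻¹ : Aˣ) : A) ∈ O)) ↔
      ∀ f g : A, IsCoprime f g → (∃ o ∈ O, f = g * o) ∨ (∃ o ∈ O, g = f * o) := by
  constructor
  · rintro ⟨hloc, hnu, hu⟩ f g ⟨a, b, hab⟩
    have hfg : IsUnit f ∨ IsUnit g := by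
      rcases IsLocalRing.isUnit_or_isUnit_of_add_one hab with h | h
      · left
        exact isUnit_of_mul_isUnit_right h
      · right
        exact isUnit_of_mul_isUnit_right h
    by_cases hf : IsUnit f
    · by_cases hg : IsUnit g
      · rcases hu (hf.unit * hg.unit⁻¹) with h | h
        · left
          refine ⟨_, h, ?_⟩
          simp only [Units.val_mul, IsUnit.unit_spec]
          rw [mul_comm f, ← mul_assoc, IsUnit.mul_val_inv, one_mul]
        · right
          refine ⟨_, h, ?_⟩
          simp only [mul_inv_rev, inv_inv, Units.val_mul, IsUnit.unit_spec]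
          rw [mul_comm g, ← mul_assoc, IsUnit.mul_val_inv, one_mul]
      · right
        refine ⟨((hf.unit⁻¹ : Aˣ) : A) * g, hnu _ ?_, ?_⟩
        · intro h
          apply hg
          have h2 : g = f * (((hf.unit⁻¹ : Aˣ) : A) * g) := by
            rw [← mul_assoc, IsUnit.mul_val_inv, one_mul]
          rw [h2]
          exact hf.mul h
        · rw [← mul_assoc, IsUnit.mul_val_inv, one_mul]
    · have hg : IsUnit g := hfg.resolve_left hf
      left
      refine ⟨((hg.unit⁻¹ : Aˣ) : A) * f, hnu _ ?_, ?_⟩
      · intro h
        apply hf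
        have h2 : f = g * (((hg.unit⁻¹ : Aˣ) : A) * f) := by
          rw [← mul_assoc, IsUnit.mul_val_inv, one_mul]
        rw [h2]
        exact hg.mul h
      · rw [← mul_assoc, IsUnit.mul_val_inv, one_mul]
  · intro H
    refine ⟨?_, ?_, ?_⟩
    · refine IsLocalRing.of_unique_max_ideal ?_
      obtain ⟨m, hm⟩ := Ideal.exists_maximal A
      refine ⟨m, hm, fun m' hm' => ?_⟩
      by_contra hne
      have hcop := hm'.coprime_of_ne hm hne
      have h1 : (1 : A) ∈ m' ⊔ m := by
        rw [hcop]
        trivial
      obtain ⟨a, ha, b, hb, hab⟩ := Submodule.mem_sup.mp h1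
      have hc : IsCoprime a b := ⟨1, 1, by rw [one_mul, one_mul, hab]⟩
      rcases H a b hc with ⟨o, _, ho⟩ | ⟨o, _, ho⟩
      · have ham : a ∈ m := by
          rw [ho]
          exact m.mul_mem_right o hb
        exact hm.ne_top ((Ideal.eq_top_iff_one m).mpr (by rw [← hab]; exact m.add_mem ham hb))
      · have hbm : b ∈ m' := by
          rw [ho]
          exact m'.mul_mem_right o ha
        exact hm'.ne_top ((Ideal.eq_top_iff_one m').mpr (by rw [← hab]; exact m'.add_mem ha hbm))
    · intro a ha
      rcases H a 1 isCoprime_one_right with ⟨o, ho, hao⟩ | ⟨o, _, hao⟩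
      · rw [hao, one_mul]
        exact ho
      · exact absurd (IsUnit.of_mul_eq_one o hao.symm) ha
    · intro u
      rcases H u 1 isCoprime_one_right with ⟨o, ho, huo⟩ | ⟨o, ho, huo⟩
      · left
        rw [huo, one_mul]
        exact ho
      · right
        have h3 : ((u⁻¹ : Aˣ) : A) = o := by
          calc ((u⁻¹ : Aˣ) : A) = ((u⁻¹ : Aˣ) : A) * (u * o) := by rw [← huo, mul_one]
            _ = o := by rw [← mul_assoc, Units.inv_mul, one_mul]
        rw [h3]
        exact ho

end Groth.Agent.S17881
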