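import Groth.Statements.S17882
import Mathlib.LinearAlgebra.Matrix.Adjugate
-- import your own Groth.Agent.* helpers here

set_option autoImplicit false
universe u
open CAlg

namespace Groth.Agent.S17882

/-- Let B be a commutative ring, r ≥ 1, N a finitely generated submodule of B^r, and n_1, …, n_r ∈ N.
Suppose the determinant of the matrix with rows n_1, …, n_r is a nonzerodivisor of B and that the
determinant of every matrix whose rows lie in N is a multiple of it (the image of the top exterior
power of N in that of B^r ≅ B is the principal ideal generated by n_1 ∧ ⋯ ∧ n_r, a nonzerodivisor).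
Then n_1, …, n_r are linearly independent over B and span N: N is free of rank r with this basis. -/
theorem result (B : Type u) [CommRing B] (r : ℕ) (hr : 0 < r)
    (N : Submodule B (Fin r → B)) (hN : N.FG) (n : Fin r → (Fin r → B)) (hn : ∀ i, n i ∈ N)
    (hgen : ∀ m : Fin r → (Fin r → B), (∀ i, m i ∈ N) →
      Matrix.det (Matrix.of m) ∈ Ideal.span {Matrix.det (Matrix.of n)})
    (hnzd : Matrix.det (Matrix.of n) ∈ nonZeroDivisors B) :
    LinearIndependent B n ∧ Submodule.span B (Set.range n) = N := by
  classical
  set M : Matrix (Fin r) (Fin r) B := Matrix.of n with hM
  have hsum : ∀ c : Fin r → B, ∑ i, c i • n i = M.transpose.mulVec c := by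
    intro c
    funext j
    simp [hM, Matrix.mulVec, dotProduct, Finset.sum_apply, mul_comm]
  have hcancel : ∀ v : Fin r → B, M.det • v = 0 → v = 0 := by
    intro v hv
    funext j
    have h1 : M.det * v j = 0 := by
      have := congrFun hv j
      simpa using this
    rw [mul_comm] at h1
    exact (mul_right_mem_nonZeroDivisors_eq_zero_iff hnzd).mp h1
  constructor
  · rw [Fintype.linearIndependent_iff]
    intro g hg
    rw [hsum] at hg
    have h2 : M.det • g = 0 := by
      have h3 : (M.transpose.adjugate).mulVec (M.transpose.mulVec g) = M.det • g := by
        rw [Matrix.mulVec_mulVec, Matrix.adjugate_mul, Matrix.det_transpose, Matrix.smul_mulVec,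
          Matrix.one_mulVec]
      rw [← h3, hg, Matrix.mulVec_zero]
    exact congrFun (hcancel g h2)
  · apply le_antisymm
    · rw [Submodule.span_le]
      rintro _ ⟨i, rfl⟩
      exact hn i
    · intro m hm
      have hex : ∀ i, ∃ c : B, c * M.det = (M.updateRow i m).det := by
        intro i
        have h4 := hgen (Function.update n i m) (by
          intro j
          by_cases hj : j = i
          · subst hj
            rw [Function.update_self]
            exact hm
          · rw [Function.update_of_ne hj]
            exact hn j)
        exact Ideal.mem_span_singleton'.mp h4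
      choose c hc using hex
      have hcr : Matrix.cramer M.transpose m = M.det • c := by
        funext i
        rw [Matrix.cramer_apply, Matrix.updateCol_transpose, Matrix.det_transpose, ← hc i]
        simp [mul_comm]
      have h5 : M.det • (M.transpose.mulVec c) = M.det • m := by
        rw [← Matrix.mulVec_smul, ← hcr, Matrix.mulVec_cramer, Matrix.det_transpose]
      have h6 : M.transpose.mulVec c = m := by
        have h7 := hcancel (M.transpose.mulVec c - m) (by rw [smul_sub, h5, sub_self])
        exact sub_eq_zero.mp h7
      rw [← h6, ← hsum]
      exact Submodule.sum_mem _ (fun i _ => Submodule.smul_mem _ _ (Submodule.subset_span ⟨i, rfl⟩))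

end Groth.Agent.S17882
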