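import Groth.Statements.S17962
import Mathlib.AlgebraicGeometry.Morphisms.Finite
-- import your own Groth.Agent.* helpers here

set_option autoImplicit false
open CategoryTheory CategoryTheory.Limits AlgebraicGeometry
universe u
open Hensel

namespace Groth.Agent.S17962

/-- Let i : X₀ ⟶ X be a closed immersion such that (X, X₀) is a henselian couple, i.e. for every finite
morphism g : Y ⟶ X every open-closed subset of Y ×_X X₀ is the inverse image under the first
projection of exactly one open-closed subset of Y. Then for every finite morphism h : Y ⟶ X the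
couple (Y, Y ×_X X₀), with the first projection as closed immersion, is again henselian. -/
theorem result {X X₀ : Scheme.{u}}
    (i : X₀ ⟶ X) [IsClosedImmersion i]
    (hX : ∀ (Y : Scheme.{u}) (g : Y ⟶ X), IsFinite g →
      ∀ V : Set ↥(pullback g (i)), IsClopen V →
        ∃! U : Set ↥Y, IsClopen U ∧ (pullback.fst g (i)).base ⁻¹' U = V)
    {Y : Scheme.{u}} (h : Y ⟶ X) [IsFinite h] :
    ∀ (Z : Scheme.{u}) (g : Z ⟶ Y), IsFinite g →
      ∀ V : Set ↥(pullback g (pullback.fst h i)), IsClopen V →
        ∃! U : Set ↥Z, IsClopen U ∧ (pullback.fst g (pullback.fst h i)).base ⁻¹' U = V := by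
  intro Z g hg V hV
  let e := pullbackRightPullbackFstIso h i g
  have h1 : ∀ x, (pullback.fst g (pullback.fst h i)).base x =
      (pullback.fst (g ≫ h) i).base (e.hom.base x) := by
    intro x
    rw [← Scheme.Hom.comp_apply, pullbackRightPullbackFstIso_hom_fst]
  have h2 : ∀ x, e.inv.base (e.hom.base x) = x := by
    intro x
    rw [← Scheme.Hom.comp_apply, e.hom_inv_id]
    rfl
  have h3 : ∀ y, e.hom.base (e.inv.base y) = y := by
    intro y
    rw [← Scheme.Hom.comp_apply, e.inv_hom_id]
    rfl
  have hV' : IsClopen (e.inv.base ⁻¹' V) := hV.preimage e.inv.continuous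
  have hfin : IsFinite (g ≫ h) := inferInstance
  obtain ⟨U, ⟨hUc, hUV⟩, huniq⟩ := hX Z (g ≫ h) hfin _ hV'
  refine ⟨U, ⟨hUc, ?_⟩, ?_⟩
  · ext x
    simp only [Set.mem_preimage]
    rw [h1]
    have hx : (pullback.fst (g ≫ h) i).base (e.hom.base x) ∈ U ↔
        e.hom.base x ∈ e.inv.base ⁻¹' V := by
      rw [← hUV]
      rfl
    rw [hx, Set.mem_preimage, h2]
  · rintro U2 ⟨hU2c, hU2V⟩
    apply huniq
    refine ⟨hU2c, ?_⟩
    ext y
    simp only [Set.mem_preimage]
    rw [← hU2V, Set.mem_preimage, h1, h3]

end Groth.Agent.S17962
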