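import Groth.Statements.S17979
import Mathlib.RingTheory.Polynomial.Resultant.Basic
import Mathlib.RingTheory.LocalRing.ResidueField.Basic
-- import your own Groth.Agent.* helpers here

set_option autoImplicit false
universe u
open Hensel

namespace Groth.Agent.S17979

/-- Let A be a local ring with residue field k and Q, R polynomials over A with Q monic. If the images
of Q and R in k[T] generate the unit ideal, then Q and R already generate the unit ideal of A[T]. -/
theorem result (A : Type u) [CommRing A] [IsLocalRing A]
    (Q R : Polynomial A) (hQ : Q.Monic)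
    (h : IsCoprime (Polynomial.map (IsLocalRing.residue A) Q) (Polynomial.map (IsLocalRing.residue A) R)) :
    IsCoprime Q R := by
  set φ := IsLocalRing.residue A with hφ
  have hQb : (Q.map φ).Monic := hQ.map φ
  have hdegQ : (Q.map φ).natDegree = Q.natDegree := hQ.natDegree_map φ
  have hdegR : (R.map φ).natDegree ≤ R.natDegree := Polynomial.natDegree_map_le
  have h1 : IsUnit (Polynomial.resultant (Q.map φ) (R.map φ)) :=
    (Polynomial.isUnit_resultant_iff_isCoprime hQb).2 h
  have h2 : Polynomial.resultant (Q.map φ) (R.map φ) Q.natDegree R.natDegree =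
      Polynomial.resultant (Q.map φ) (R.map φ) := by
    obtain ⟨k, hk⟩ : ∃ k, R.natDegree = (R.map φ).natDegree + k := ⟨_, (Nat.add_sub_cancel' hdegR).symm⟩
    rw [hk, Polynomial.resultant_add_right_deg _ _ _ _ k le_rfl, ← hdegQ]
    have : (Q.map φ).coeff (Q.map φ).natDegree = 1 := hQb.leadingCoeff
    rw [this, one_pow, one_mul]
  rw [← h2, Polynomial.resultant_map_map] at h1
  have h3 : IsUnit (Polynomial.resultant Q R) := by
    rw [← IsLocalRing.residue_ne_zero_iff_isUnit]
    exact h1.ne_zero
  exact (Polynomial.isUnit_resultant_iff_isCoprime hQ).1 h3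

end Groth.Agent.S17979
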