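import Groth.Statements.S17980
import Mathlib.RingTheory.Polynomial.Resultant.Basic
import Mathlib.RingTheory.LocalRing.ResidueField.Basic
-- import your own Groth.Agent.* helpers here

set_option autoImplicit false
universe u
open Hensel

namespace Groth.Agent.S17980

/-- Let A be a local ring with residue field k, and let Q R = U V be two factorizations of one
polynomial over A with Q and U monic, such that Q and U have the same image in k[T], R and V have
the same image in k[T], and the images of Q and R in k[T] generate the unit ideal. Then Q = U and R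
= V. -/
theorem result (A : Type u) [CommRing A] [IsLocalRing A]
    (Q R U V : Polynomial A) (hQ : Q.Monic) (hU : U.Monic)
    (hQU : Polynomial.map (IsLocalRing.residue A) Q = Polynomial.map (IsLocalRing.residue A) U)
    (hRV : Polynomial.map (IsLocalRing.residue A) R = Polynomial.map (IsLocalRing.residue A) V)
    (hcop : IsCoprime (Polynomial.map (IsLocalRing.residue A) Q) (Polynomial.map (IsLocalRing.residue A) R))
    (h : Q * R = U * V) : Q = U ∧ R = V := by
  have lift : ∀ (Q R : Polynomial A), Q.Monic →
      IsCoprime (Polynomial.map (IsLocalRing.residue A) Q) (Polynomial.map (IsLocalRing.residue A) R) →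
      IsCoprime Q R := by
    intro Q R hQ h
    set φ := IsLocalRing.residue A with hφ
    have hQb : (Q.map φ).Monic := hQ.map φ
    have hdegQ : (Q.map φ).natDegree = Q.natDegree := hQ.natDegree_map φ
    have hdegR : (R.map φ).natDegree ≤ R.natDegree := Polynomial.natDegree_map_le
    have h1 : IsUnit (Polynomial.resultant (Q.map φ) (R.map φ)) :=
      (Polynomial.isUnit_resultant_iff_isCoprime hQb).2 h
    have h2 : Polynomial.resultant (Q.map φ) (R.map φ) Q.natDegree R.natDegree =
        Polynomial.resultant (Q.map φ) (R.map φ) := by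
      obtain ⟨k, hk⟩ : ∃ k, R.natDegree = (R.map φ).natDegree + k :=
        ⟨_, (Nat.add_sub_cancel' hdegR).symm⟩
      rw [hk, Polynomial.resultant_add_right_deg _ _ _ _ k le_rfl, ← hdegQ]
      have : (Q.map φ).coeff (Q.map φ).natDegree = 1 := hQb.leadingCoeff
      rw [this, one_pow, one_mul]
    rw [← h2, Polynomial.resultant_map_map] at h1
    have h3 : IsUnit (Polynomial.resultant Q R) := by
      rw [← IsLocalRing.residue_ne_zero_iff_isUnit]
      exact h1.ne_zero
    exact (Polynomial.isUnit_resultant_iff_isCoprime hQ).1 h3
  have hQV : IsCoprime Q V := lift Q V hQ (by rw [← hRV]; exact hcop)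
  have hdvd : Q ∣ U * V := ⟨R, h.symm⟩
  have hQdU : Q ∣ U := hQV.dvd_of_dvd_mul_right hdvd
  have hdeg : U.natDegree ≤ Q.natDegree := by
    rw [← hU.natDegree_map (IsLocalRing.residue A), ← hQ.natDegree_map (IsLocalRing.residue A), hQU]
  have hUQ : U = Q := Polynomial.eq_of_monic_of_dvd_of_natDegree_le hQ hU hQdU hdeg
  refine ⟨hUQ.symm, ?_⟩
  rw [hUQ] at h
  have : Q * (R - V) = 0 := by rw [mul_sub, h, sub_self]
  exact sub_eq_zero.1 (hQ.mul_right_eq_zero_iff.1 this)

end Groth.Agent.S17980
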