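import Groth.Statements.S17981
import Mathlib.RingTheory.Ideal.GoingUp
import Mathlib.RingTheory.Jacobson.Ideal
import Mathlib.RingTheory.IntegralClosure.IsIntegralClosure.Basic
-- import your own Groth.Agent.* helpers here

set_option autoImplicit false
universe u
open Hensel

namespace Groth.Agent.S17981

/-- Let A be a commutative ring, I an ideal contained in the Jacobson radical of A, and B a commutative
A-algebra which is finitely generated as an A-module. Then two idempotents of B with the same image
in B/IB are equal. -/
theorem result (A : Type u) [CommRing A] (I : Ideal A)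
    (hI : I ≤ Ideal.jacobson ⊥) (B : Type u) [CommRing B] [Algebra A B] [Module.Finite A B] :
    Set.InjOn (Ideal.Quotient.mk (Ideal.map (algebraMap A B) I)) {e : B | IsIdempotentElem e} := by
  intro e he f hf hef
  have hmem : e - f ∈ Ideal.map (algebraMap A B) I := by
    rw [← Ideal.Quotient.eq]; exact hef
  have hjac : Ideal.map (algebraMap A B) I ≤ Ideal.jacobson (⊥ : Ideal B) := by
    refine le_sInf ?_
    rintro M ⟨-, hM⟩
    rw [Ideal.map_le_iff_le_comap]
    have := hM
    have hMc : (M.comap (algebraMap A B)).IsMaximal :=
      Ideal.isMaximal_comap_of_isIntegral_of_isMaximal M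
    exact le_trans hI (sInf_le ⟨bot_le, hMc⟩)
  have hx := Ideal.mem_jacobson_bot.1 (hjac hmem) (-(e - f))
  have he' : e * e = e := he
  have hf' : f * f = f := hf
  have hcube : (e - f) * ((e - f) * -(e - f) + 1) = 0 := by
    have : (e - f) * ((e - f) * -(e - f) + 1) = -(e * e * e) + 3 * (e * e * f) - 3 * (e * f * f) + f * f * f + e - f := by ring
    rw [this]
    have h1 : e * e * e = e := by rw [he', he']
    have h2 : e * e * f = e * f := by rw [he']
    have h3 : e * f * f = e * f := by rw [mul_assoc, hf']
    have h4 : f * f * f = f := by rw [hf', hf']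
    rw [h1, h2, h3, h4]; ring
  have := (hx.mul_left_eq_zero).1 hcube
  exact sub_eq_zero.1 this

end Groth.Agent.S17981
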