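import Groth.Statements.S18019
import Mathlib.Algebra.Polynomial.Div
import Mathlib.Algebra.CharP.Two
import Mathlib.RingTheory.Adjoin.Basic
import Mathlib.Tactic.LinearCombination
-- import your own Groth.Agent.* helpers here

set_option autoImplicit false
universe u
open ClassStk

namespace Groth.Agent.S18019

open Polynomial in
/-- Let R be an integral domain of characteristic 2 and let a be a nonzero element of R, so that x ↦ x +
a defines an R-algebra involution of the polynomial ring R[x] (an action of the group of order two).
A polynomial f is invariant, f(x + a) = f(x), if and only if f belongs to the R-subalgebra generated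
by u = x (x + a); in other words the ring of invariants is the polynomial ring R[u]. -/
theorem result (R : Type u) [CommRing R] [IsDomain R]
    [CharP R 2] (a : R) (ha : a ≠ 0) (f : Polynomial R) :
    f.comp (X + C a) = f ↔ f ∈ Algebra.adjoin R ({X * (X + C a)} : Set (Polynomial R)) := by
  have huτ : (X * (X + C a)).comp (X + C a) = X * (X + C a) := by
    rw [mul_comp, X_comp, add_comp, X_comp, C_comp, add_assoc, ← C_add, CharTwo.add_self_eq_zero,
      C_0, add_zero, mul_comm]
  constructor
  · intro hf
    suffices H : ∀ n : ℕ, ∀ g : Polynomial R, g.natDegree ≤ n → g.comp (X + C a) = g →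
        g ∈ Algebra.adjoin R ({X * (X + C a)} : Set (Polynomial R)) from H _ f le_rfl hf
    intro n
    induction n using Nat.strong_induction_on with
    | _ n ih =>
      intro g hgn hg
      have hum : (X * (X + C a)).Monic := monic_X.mul (monic_X_add_C a)
      have hudeg : (X * (X + C a)).natDegree = 2 := by
        rw [natDegree_mul X_ne_zero (X_add_C_ne_zero a), natDegree_X, natDegree_X_add_C]
      have hu1 : X * (X + C a) ≠ 1 := by
        intro h; have := congrArg natDegree h; rw [hudeg, natDegree_one] at this; omega
      have hdecomp : g %ₘ (X * (X + C a)) + (X * (X + C a)) * (g /ₘ (X * (X + C a))) = g :=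
        modByMonic_add_div g (X * (X + C a))
      have hrdeg : (g %ₘ (X * (X + C a))).natDegree ≤ 1 := by
        have h := natDegree_modByMonic_lt g hum hu1
        rw [hudeg] at h
        omega
      obtain ⟨d, c, hr⟩ : ∃ d c : R, g %ₘ (X * (X + C a)) = C d * X + C c :=
        ⟨_, _, eq_X_add_C_of_natDegree_le_one hrdeg⟩
      rw [hr] at hdecomp
      set q := g /ₘ (X * (X + C a)) with hq_def
      have key : (X * (X + C a)) * (q - q.comp (X + C a)) = C (d * a) := by
        have h1 : g.comp (X + C a) =
            (C d * X + C c).comp (X + C a) + (X * (X + C a)) * q.comp (X + C a) := by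
          conv_lhs => rw [← hdecomp]
          rw [add_comp, mul_comp, huτ]
        have h2 : (C d * X + C c).comp (X + C a) = C d * X + C c + C (d * a) := by
          rw [add_comp, mul_comp, C_comp, C_comp, X_comp, C_mul]
          ring
        rw [hg, h2] at h1
        rw [mul_sub]
        linear_combination h1 + hdecomp
      have hqinv : q.comp (X + C a) = q := by
        by_contra hne
        have hne' : q - q.comp (X + C a) ≠ 0 := sub_ne_zero.mpr (Ne.symm hne)
        have hdeg := congrArg natDegree key
        rw [natDegree_mul hum.ne_zero hne', hudeg, natDegree_C] at hdeg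
        omega
      have hd : d = 0 := by
        rw [hqinv, sub_self, mul_zero] at key
        have := C_eq_zero.mp key.symm
        exact (mul_eq_zero.mp this).resolve_right ha
      have hq_mem : q ∈ Algebra.adjoin R ({X * (X + C a)} : Set (Polynomial R)) := by
        by_cases hq0 : q = 0
        · rw [hq0]; exact Subalgebra.zero_mem _
        · have hqdeg : q.natDegree = g.natDegree - 2 := by
            rw [hq_def, natDegree_divByMonic g hum, hudeg]
          have hg2 : 2 ≤ g.natDegree := by
            by_contra hlt
            apply hq0
            rw [hq_def, divByMonic_eq_zero_iff hum, degree_eq_natDegree hum.ne_zero, hudeg]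
            have hgne : g ≠ 0 := by
              intro h0; apply hq0; rw [hq_def, h0, zero_divByMonic]
            rw [degree_eq_natDegree hgne]
            exact_mod_cast (by omega : g.natDegree < 2)
          exact ih (n - 2) (by omega) q (by omega) hqinv
      rw [← hdecomp, hd, C_0, zero_mul, zero_add]
      refine Subalgebra.add_mem _ ?_ (Subalgebra.mul_mem _ (Algebra.subset_adjoin rfl) hq_mem)
      exact Subalgebra.algebraMap_mem _ c
  · intro hf
    induction hf using Algebra.adjoin_induction with
    | mem x hx =>
      rw [Set.mem_singleton_iff] at hx
      rw [hx, huτ]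
    | algebraMap r => simp
    | add x y _ _ hx hy => rw [add_comp, hx, hy]
    | mul x y _ _ hx hy => rw [mul_comp, hx, hy]

end Groth.Agent.S18019
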