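import Groth.Statements.S18122
import Mathlib.Algebra.MvPolynomial.Division
import Mathlib.RingTheory.Derivation.Basic
import Mathlib.Algebra.MvPolynomial.Derivation
import Mathlib.Tactic.LinearCombination
-- import your own Groth.Agent.* helpers here

set_option autoImplicit false
universe u
open Pinch

namespace Groth.Agent.S18122

section H27
open MvPolynomial

theorem h27_aux (K : Type u) [Field K] [NeZero (2 : K)]
    (R : Subalgebra K (MvPolynomial (Fin 2) K))
    (hR : R = Algebra.adjoin K {MvPolynomial.X 0 ^ 2, MvPolynomial.X 0 * MvPolynomial.X 1, MvPolynomial.X 1})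
    (δ : Derivation K R (MvPolynomial (Fin 2) K)) :
    ∃! D : Derivation K (MvPolynomial (Fin 2) K) (MvPolynomial (Fin 2) K),
        ∀ r : R, D (r : MvPolynomial (Fin 2) K) = δ r := by
  have hx2 : (X 0 ^ 2 : MvPolynomial (Fin 2) K) ∈ R := hR ▸ Algebra.subset_adjoin (by simp)
  have hxy : (X 0 * X 1 : MvPolynomial (Fin 2) K) ∈ R := hR ▸ Algebra.subset_adjoin (by simp)
  have hy : (X 1 : MvPolynomial (Fin 2) K) ∈ R := hR ▸ Algebra.subset_adjoin (by simp)
  have hsmul : ∀ (r : R) (s : MvPolynomial (Fin 2) K), r • s = (r : MvPolynomial (Fin 2) K) * s :=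
    fun r s => rfl
  have hrel : (⟨X 0 * X 1, hxy⟩ : R) * ⟨X 0 * X 1, hxy⟩ = ⟨X 0 ^ 2, hx2⟩ * (⟨X 1, hy⟩ * ⟨X 1, hy⟩) :=
    Subtype.ext (by simp only [Subalgebra.coe_mul]; ring)
  have hd := congrArg δ hrel
  rw [Derivation.leibniz, Derivation.leibniz, Derivation.leibniz] at hd
  simp only [hsmul, Subalgebra.coe_mul] at hd
  set A := δ ⟨X 0 ^ 2, hx2⟩ with hA
  set B := δ ⟨X 1, hy⟩ with hB
  set C := δ ⟨X 0 * X 1, hxy⟩ with hC
  have hX1 : (X 1 : MvPolynomial (Fin 2) K) ≠ 0 := X_ne_zero _
  have hX0 : (X 0 : MvPolynomial (Fin 2) K) ≠ 0 := X_ne_zero _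
  have hyA : X 1 * A = X 0 * (2 * (C - X 0 * B)) := by
    have : X 1 * (X 1 * A - X 0 * (2 * (C - X 0 * B))) = 0 := by
      linear_combination (-1 : MvPolynomial (Fin 2) K) * hd
    rcases mul_eq_zero.1 this with h | h
    · exact absurd h hX1
    · exact sub_eq_zero.1 h
  have hdvd : (X 0 : MvPolynomial (Fin 2) K) ∣ A := by
    have h1 : (X 0 : MvPolynomial (Fin 2) K) ∣ X 1 * A := ⟨_, hyA⟩
    rcases (X_prime (R := K) (i := (0 : Fin 2))).dvd_or_dvd h1 with h | h
    · exact absurd (X_dvd_X.1 h) (by decide)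
    · exact h
  obtain ⟨h, hh⟩ := hdvd
  have hyh : X 1 * h = 2 * (C - X 0 * B) := by
    apply mul_left_cancel₀ hX0
    rw [← hyA, hh]; ring
  have h2 : (2 : K) ≠ 0 := NeZero.ne 2
  have hC2 : (2 : MvPolynomial (Fin 2) K) = MvPolynomial.C 2 := (map_ofNat MvPolynomial.C 2).symm
  set g : MvPolynomial (Fin 2) K := MvPolynomial.C (2⁻¹ : K) * h with hg
  have h2g : 2 * g = h := by
    rw [hg, ← mul_assoc, hC2, ← MvPolynomial.C_mul, mul_inv_cancel₀ h2, MvPolynomial.C_1, one_mul]
  have hyg : X 1 * g = C - X 0 * B := by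
    have : 2 * (X 1 * g) = 2 * (C - X 0 * B) := by rw [← hyh, ← h2g]; ring
    have h2ne : (2 : MvPolynomial (Fin 2) K) ≠ 0 := by
      rw [hC2]; exact (MvPolynomial.C_ne_zero).2 h2  
    exact mul_left_cancel₀ h2ne this
  let D : Derivation K (MvPolynomial (Fin 2) K) (MvPolynomial (Fin 2) K) := mkDerivation K ![g, B]
  have hD0 : D (X 0) = g := by simp [D, mkDerivation_X]
  have hD1 : D (X 1) = B := by simp [D, mkDerivation_X]
  refine ⟨D, ?_, ?_⟩
  · intro r
    obtain ⟨r, hr⟩ := r
    have hr' : r ∈ Algebra.adjoin K {(X 0 ^ 2 : MvPolynomial (Fin 2) K), X 0 * X 1, X 1} := hR ▸ hr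
    induction hr' using Algebra.adjoin_induction with
    | mem s hs =>
      simp only [Set.mem_insert_iff, Set.mem_singleton_iff] at hs
      rcases hs with rfl | rfl | rfl
      · show D (X 0 ^ 2) = A
        rw [Derivation.leibniz_pow, hD0, hh, ← h2g]
        simp; ring
      · show D (X 0 * X 1) = C
        rw [Derivation.leibniz, hD0, hD1, smul_eq_mul, smul_eq_mul]
        linear_combination hyg
      · show D (X 1) = B
        exact hD1
    | algebraMap k =>
      rw [Derivation.map_algebraMap]
      have : (⟨algebraMap K (MvPolynomial (Fin 2) K) k, hr⟩ : R) = algebraMap K R k := rfl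
      rw [this, Derivation.map_algebraMap]
    | add s t hs ht ihs iht =>
      have : (⟨s + t, hr⟩ : R) = ⟨s, hR ▸ hs⟩ + ⟨t, hR ▸ ht⟩ := rfl
      rw [map_add, this, map_add, ihs (hR ▸ hs), iht (hR ▸ ht)]
    | mul s t hs ht ihs iht =>
      have : (⟨s * t, hr⟩ : R) = ⟨s, hR ▸ hs⟩ * ⟨t, hR ▸ ht⟩ := rfl
      rw [Derivation.leibniz, this, Derivation.leibniz, ihs (hR ▸ hs), iht (hR ▸ ht), hsmul, hsmul]
      rfl
  · intro D' hD'
    apply MvPolynomial.derivation_ext
    intro i
    fin_cases i
    · show D' (X 0) = D (X 0)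
      have e1 := hD' ⟨X 0 ^ 2, hx2⟩
      simp only at e1
      rw [Derivation.leibniz_pow] at e1
      rw [hD0]
      have : (2 : MvPolynomial (Fin 2) K) * X 0 * D' (X 0) = 2 * X 0 * g := by
        rw [← hA] at e1
        simp only [smul_eq_mul] at e1
        rw [hh, ← h2g] at e1
        linear_combination e1
      have hne : (2 : MvPolynomial (Fin 2) K) * X 0 ≠ 0 := by
        apply mul_ne_zero _ hX0
        rw [hC2]; exact (MvPolynomial.C_ne_zero).2 h2
      exact mul_left_cancel₀ hne this
    · show D' (X 1) = D (X 1)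
      rw [hD1]
      exact hD' ⟨X 1, hy⟩

end H27

/-- Let K be a field in which 2 ≠ 0, S = K[x, y], and R ⊆ S the K-subalgebra generated by x^2, x y and
y; R is the coordinate ring of the pinch point u^2 = v^2 w (u = x y, v = y, w = x^2) and S is its
normalization. Then restriction along R ⊆ S is a bijection from the K-derivations S → S onto the
K-derivations R → S: every K-derivation R → S extends uniquely to S. In sheaf terms, the natural
injective map from the tangent sheaf of the normalization to the dual of the pulled-back sheaf of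
differentials of the pinch point is an isomorphism. (The text works over an algebraically closed
field of characteristic different from 2 and for every semi-smooth variety; only this model case is
stated, and the computation uses only 2 ≠ 0.) -/
theorem result
    (K : Type u) [Field K] [NeZero (2 : K)] :
    letI R : Subalgebra K (MvPolynomial (Fin 2) K) :=
      Algebra.adjoin K {MvPolynomial.X 0 ^ 2, MvPolynomial.X 0 * MvPolynomial.X 1, MvPolynomial.X 1}
    ∀ δ : Derivation K R (MvPolynomial (Fin 2) K),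
      ∃! D : Derivation K (MvPolynomial (Fin 2) K) (MvPolynomial (Fin 2) K),
        ∀ r : R, D (r : MvPolynomial (Fin 2) K) = δ r := by
  intro δ
  exact h27_aux K _ rfl δ

end Groth.Agent.S18122
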