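import Groth.Statements.S18125
-- import your own Groth.Agent.* helpers here

set_option autoImplicit false
universe u
open Pinch

namespace Groth.Agent.S18125

section H27
open MvPolynomial

theorem h27_pinch (K : Type u) [Field K] [NeZero (2 : K)] (n : ℕ) :
    Ideal.span {(X 0 : MvPolynomial (Fin (n + 3)) K), X 1} =
      Ideal.span {(X 0 : MvPolynomial (Fin (n + 3)) K) ^ 2 - X 1 ^ 2 * X 2, 2 * X 0, -(2 * X 1 * X 2), -(X 1 ^ 2)}
        ⊔ Ideal.span {X 1} ∧
    (Ideal.span {(X 0 : MvPolynomial (Fin (n + 3)) K) ^ 2 - X 1 ^ 2 * X 2, 2 * X 0, -(2 * X 1 * X 2), -(X 1 ^ 2)}).colon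
      ((Ideal.span {(X 1 : MvPolynomial (Fin (n + 3)) K)} : Ideal _) : Set (MvPolynomial (Fin (n + 3)) K))
        = Ideal.span {X 0, X 1, X 2} := by
  set Jac : Ideal (MvPolynomial (Fin (n + 3)) K) :=
    Ideal.span {(X 0 : MvPolynomial (Fin (n + 3)) K) ^ 2 - X 1 ^ 2 * X 2, 2 * X 0, -(2 * X 1 * X 2), -(X 1 ^ 2)} with hJac
  have h2 : (2 : K) ≠ 0 := NeZero.ne 2
  have hC2 : (2 : MvPolynomial (Fin (n + 3)) K) = C 2 := (map_ofNat C 2).symm
  have half : ∀ y : MvPolynomial (Fin (n + 3)) K, C (2⁻¹ : K) * (2 * y) = y := by
    intro y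
    rw [← mul_assoc, hC2, ← C_mul, inv_mul_cancel₀ h2, C_1, one_mul]
  have hu : (X 0 : MvPolynomial (Fin (n + 3)) K) ∈ Jac := by
    have : (2 * X 0 : MvPolynomial (Fin (n + 3)) K) ∈ Jac := Ideal.subset_span (by simp)
    have h := Ideal.mul_mem_left Jac (C (2⁻¹ : K)) this
    rwa [half] at h
  have hvw : (X 1 * X 2 : MvPolynomial (Fin (n + 3)) K) ∈ Jac := by
    have : -(2 * X 1 * X 2 : MvPolynomial (Fin (n + 3)) K) ∈ Jac := Ideal.subset_span (by simp)
    have h := Ideal.mul_mem_left Jac (C (2⁻¹ : K)) (neg_mem_iff.1 this)
    rwa [mul_assoc, half] at h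
  have hv2 : (X 1 ^ 2 : MvPolynomial (Fin (n + 3)) K) ∈ Jac := by
    have : -(X 1 ^ 2 : MvPolynomial (Fin (n + 3)) K) ∈ Jac := Ideal.subset_span (by simp)
    exact neg_mem_iff.1 this
  constructor
  · apply le_antisymm
    · rw [Ideal.span_le]
      intro x hx
      simp only [Set.mem_insert_iff, Set.mem_singleton_iff] at hx
      rcases hx with rfl | rfl
      · exact Ideal.mem_sup_left hu
      · exact Ideal.mem_sup_right (Ideal.subset_span rfl)
    · apply sup_le
      · rw [hJac, Ideal.span_le]
        intro x hx
        simp only [Set.mem_insert_iff, Set.mem_singleton_iff] at hx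
        have hu' : (X 0 : MvPolynomial (Fin (n + 3)) K) ∈ Ideal.span {X 0, X 1} :=
          Ideal.subset_span (by simp)
        have hv' : (X 1 : MvPolynomial (Fin (n + 3)) K) ∈ Ideal.span {X 0, X 1} :=
          Ideal.subset_span (by simp)
        rcases hx with rfl | rfl | rfl | rfl
        · exact Ideal.sub_mem _ (by rw [pow_two]; exact Ideal.mul_mem_left _ _ hu')
            (by rw [pow_two, mul_assoc]; exact Ideal.mul_mem_right _ _ hv')
        · exact Ideal.mul_mem_left _ _ hu'
        · exact neg_mem_iff.2 (Ideal.mul_mem_right _ _ (Ideal.mul_mem_left _ _ hv'))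
        · exact neg_mem_iff.2 (by rw [pow_two]; exact Ideal.mul_mem_left _ _ hv')
      · rw [Ideal.span_le]
        intro x hx
        rw [Set.mem_singleton_iff] at hx
        subst hx
        exact Ideal.subset_span (by simp)
  · apply le_antisymm
    · intro x hx
      rw [Ideal.mem_colon_span_singleton] at hx
      let τ : MvPolynomial (Fin (n + 3)) K →ₐ[K] MvPolynomial (Fin (n + 3)) K :=
        aeval (fun i => if i.val = 0 ∨ i.val = 2 then 0 else X i)
      have v0 : (0 : Fin (n + 3)).val = 0 := rfl
      have v1 : (1 : Fin (n + 3)).val = 1 := by simp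
      have v2 : (2 : Fin (n + 3)).val = 2 := by simp
      have hJ : Jac ≤ (Ideal.span {(X 1 : MvPolynomial (Fin (n + 3)) K) ^ 2}).comap τ := by
        rw [hJac, Ideal.span_le]
        intro y hy
        simp only [Set.mem_insert_iff, Set.mem_singleton_iff] at hy
        rcases hy with rfl | rfl | rfl | rfl <;>
          simp [τ, Ideal.mem_comap, v0, v1, v2, Ideal.neg_mem_iff, Ideal.mem_span_singleton_self]
      have h3 := hJ hx
      rw [Ideal.mem_comap, map_mul, Ideal.mem_span_singleton'] at h3
      obtain ⟨g, hg⟩ := h3
      have hτ1 : τ (X 1) = X 1 := by simp [τ, v1]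
      rw [hτ1] at hg
      have hX1 : (X 1 : MvPolynomial (Fin (n + 3)) K) ≠ 0 := X_ne_zero _
      have hτx : τ x = g * X 1 := by
        apply mul_right_cancel₀ hX1
        rw [← hg]; ring
      let σ : MvPolynomial (Fin (n + 3)) K →ₐ[K] MvPolynomial (Fin (n + 3)) K :=
        aeval (fun i => if i.val < 3 then 0 else X i)
      let ρ : MvPolynomial (Fin (n + 3)) K →ₐ[K] MvPolynomial (Fin (n + 3)) K :=
        aeval (fun i => if i.val = 1 then 0 else X i)
      have hσ : σ = ρ.comp τ := by
        apply MvPolynomial.algHom_ext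
        intro i
        simp only [σ, ρ, τ, AlgHom.comp_apply, aeval_X]
        by_cases h0 : i.val = 0 ∨ i.val = 2
        · rw [if_pos h0, map_zero, if_pos (by omega)]
        · rw [if_neg h0, aeval_X]
          by_cases h1 : i.val = 1
          · rw [if_pos h1, if_pos (by omega)]
          · rw [if_neg h1, if_neg (by omega)]
      have hσx : σ x = 0 := by
        rw [hσ, AlgHom.comp_apply, hτx, map_mul]
        simp [ρ, v1]
      have hsub : ∀ f : MvPolynomial (Fin (n + 3)) K, f - σ f ∈ Ideal.span {X 0, X 1, X 2} := by
        intro f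
        induction f using MvPolynomial.induction_on with
        | C a => simp [σ]
        | add p q hp hq => rw [map_add, add_sub_add_comm]; exact add_mem hp hq
        | mul_X p i hp =>
          rw [map_mul, show p * X i - σ p * σ (X i) = (p - σ p) * X i + σ p * (X i - σ (X i)) by ring]
          apply add_mem (Ideal.mul_mem_right _ _ hp) (Ideal.mul_mem_left _ _ _)
          simp only [σ, aeval_X]
          split_ifs with hi
          · rw [sub_zero]
            apply Ideal.subset_span
            have : i.val = 0 ∨ i.val = 1 ∨ i.val = 2 := by omega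
            rcases this with h | h | h
            · have : i = 0 := Fin.ext (by rw [h, v0]); subst this; simp
            · have : i = 1 := Fin.ext (by rw [h, v1]); subst this; simp
            · have : i = 2 := Fin.ext (by rw [h, v2]); subst this; simp
          · simp
      have := hsub x
      rwa [hσx, sub_zero] at this
    · rw [Ideal.span_le]
      intro y hy
      rw [SetLike.mem_coe, Ideal.mem_colon_span_singleton]
      simp only [Set.mem_insert_iff, Set.mem_singleton_iff] at hy
      rcases hy with rfl | rfl | rfl
      · exact Ideal.mul_mem_right _ _ hu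
      · rw [← pow_two]; exact hv2
      · rw [mul_comm]; exact hvw

end H27

/-- Let K be a field in which 2 ≠ 0, n ≥ 0, S = K[u, v, w, t_1, …, t_n] (u, v, w the first three
variables), h = u^2 - v^2 w the equation of the pinch-point model, and Jac the ideal generated by h
and its three partial derivatives 2u, -2vw, -v^2, which cuts out the scheme-theoretic singular locus
of {h = 0}. Then the ideal (u, v) of the double locus is Jac + (v), and the colon ideal of Jac by
(v) is (u, v, w). Consequently (u, v)/Jac, the ideal of the double locus restricted to the singular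
locus, is an invertible sheaf on the pinch locus u = v = w = 0: it is free of rank one over K[t_1,
…, t_n] on the class of v. (The text states this for every semi-smooth variety and reduces to this
model; K algebraically closed is not needed for the model computation.) -/
theorem result
    (K : Type u) [Field K] [NeZero (2 : K)] (n : ℕ) :
    letI u : MvPolynomial (Fin (n + 3)) K := MvPolynomial.X 0
    letI v : MvPolynomial (Fin (n + 3)) K := MvPolynomial.X 1
    letI w : MvPolynomial (Fin (n + 3)) K := MvPolynomial.X 2
    letI Jac : Ideal (MvPolynomial (Fin (n + 3)) K) :=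
      Ideal.span {u ^ 2 - v ^ 2 * w, 2 * u, -(2 * v * w), -(v ^ 2)}
    Ideal.span {u, v} = Jac ⊔ Ideal.span {v} ∧ Jac.colon (Ideal.span {v}) = Ideal.span {u, v, w} := by
  exact h27_pinch K n

end Groth.Agent.S18125
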