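import Groth.Statements.S18387
import Mathlib.RingTheory.KrullDimension.Basic
import Mathlib.RingTheory.Nakayama
import Mathlib.LinearAlgebra.FiniteDimensional.Lemmas
import Mathlib.RingTheory.Noetherian.Basic
-- import your own Groth.Agent.* helpers here

set_option autoImplicit false
universe u
open LVCorr

namespace Groth.Agent.S18387

/-- In the affine form which its proof establishes. Let A be a commutative algebra over a field F which
is finite-dimensional of dimension d over F. Then the d-th power of the nilradical of A vanishes.
(Applied to the fibre algebra A = B/mB of a quasi-finite morphism over a closed point with maximal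
ideal m, this says that the d-th power of the radical of mB lies in mB, i.e. the ramification of the
morphism at that point is at most the degree d of the fibre.) -/
theorem result (F A : Type u) [Field F] [CommRing A] [Algebra F A]
    [FiniteDimensional F A] : nilradical A ^ Module.finrank F A = ⊥ := by
  classical
  set N := nilradical A with hNdef
  set d := Module.finrank F A with hd
  have hjac : N ≤ Ideal.jacobson ⊥ := by
    rw [Ideal.jacobson_bot]; exact nilradical_le_jacobson A
  have : IsNoetherianRing A := isNoetherian_of_tower F inferInstance
  have key : ∀ k : ℕ, N ^ k ≠ ⊥ →
      Module.finrank F ((N ^ k).restrictScalars F) + k ≤ d := by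
    intro k
    induction k with
    | zero =>
      intro _
      simp only [add_zero]
      exact Submodule.finrank_le _
    | succ k ih =>
      intro hk
      have hk' : N ^ k ≠ ⊥ := fun h => hk (by rw [pow_succ, h, Submodule.bot_mul])
      have hlt : N ^ (k + 1) < N ^ k := by
        refine lt_of_le_of_ne (Ideal.pow_le_pow_right (Nat.le_succ k)) ?_
        intro heq
        apply hk'
        refine Submodule.eq_bot_of_le_smul_of_le_jacobson_bot N (N ^ k)
          (IsNoetherian.noetherian _) ?_ hjac
        rw [Ideal.smul_eq_mul, ← pow_succ', heq]
      have h2 : Module.finrank F ((N ^ (k + 1)).restrictScalars F) <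
          Module.finrank F ((N ^ k).restrictScalars F) :=
        Submodule.finrank_lt_finrank_of_lt ((Submodule.restrictScalars_lt F).2 hlt)
      have := ih hk'
      omega
  by_contra h
  have h1 := key d h
  have h0 : Module.finrank F ((N ^ d).restrictScalars F) = 0 := by omega
  rw [Submodule.finrank_eq_zero, Submodule.restrictScalars_eq_bot_iff] at h0
  exact h h0

end Groth.Agent.S18387
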