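import Groth.Statements.S18390
import Mathlib.RingTheory.Finiteness.Ideal
import Mathlib.Tactic.Linarith
-- import your own Groth.Agent.* helpers here

set_option autoImplicit false
universe u
open LVCorr

namespace Groth.Agent.S18390

/-- In the affine, ring-theoretic form which its proof establishes. Let φ : A' → A be a ring
homomorphism, I' a finitely generated ideal of A' and I an ideal of A containing the image of I'.
Then some power I'^k is mapped into I^(k+1) if and only if for every n ≥ 1 and every a ∈ I'^n there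
is a k with φ(a)^k ∈ I^(nk+1). (Geometrically, for a morphism f : (X, Z) → (X', Z') of pairs with Z
a closed subscheme of the preimage of Z', the normal cone of Z in X is the spectrum of the
associated graded algebra of I, and the second condition says that the induced map of normal cones
sends the normal cone of Z set-theoretically into the zero section Z'; the source states the
equivalence in that language.) -/
theorem result (A' A : Type u) [CommRing A'] [CommRing A]
    (φ : A' →+* A) (I' : Ideal A') (hI' : I'.FG) (I : Ideal A) (hle : I'.map φ ≤ I) :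
    (∃ k : ℕ, (I' ^ k).map φ ≤ I ^ (k + 1)) ↔
      ∀ n : ℕ, 1 ≤ n → ∀ a ∈ I' ^ n, ∃ k : ℕ, 1 ≤ k ∧ φ a ^ k ∈ I ^ (n * k + 1) := by
  have hle' : I' ≤ I.comap φ := Ideal.map_le_iff_le_comap.1 hle
  have hpowc : ∀ (J : Ideal A'), J ≤ I.comap φ → ∀ m, J ^ m ≤ (I ^ m).comap φ := by
    intro J hJ m
    exact (Ideal.pow_right_mono hJ m).trans (Ideal.le_comap_pow φ m)
  constructor
  · rintro ⟨k₀, hk₀⟩ n hn a ha
    refine ⟨k₀ + 1, by omega, ?_⟩
    have h1 : a ^ (k₀ + 1) ∈ I' ^ (n * (k₀ + 1)) := by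
      rw [pow_mul]; exact Ideal.pow_mem_pow ha _
    have hk : k₀ ≤ n * (k₀ + 1) := by nlinarith
    have e : n * (k₀ + 1) = k₀ + (n * (k₀ + 1) - k₀) := by omega
    rw [e, pow_add] at h1
    have h2 : I' ^ k₀ * I' ^ (n * (k₀ + 1) - k₀) ≤
        (I ^ (k₀ + 1) * I ^ (n * (k₀ + 1) - k₀)).comap φ :=
      le_trans (Ideal.mul_mono (Ideal.map_le_iff_le_comap.1 hk₀) (hpowc I' hle' _))
        (Ideal.le_comap_mul φ)
    have h3 := h2 h1
    rw [Ideal.mem_comap, map_pow, ← pow_add] at h3
    have e2 : k₀ + 1 + (n * (k₀ + 1) - k₀) = n * (k₀ + 1) + 1 := by omega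
    rwa [e2] at h3
  · intro h
    suffices key : ∀ J : Ideal A', J.FG → J ≤ I' → ∃ k, ∀ j, k ≤ j → J ^ j ≤ (I ^ (j + 1)).comap φ by
      obtain ⟨k, hk⟩ := key I' hI' le_rfl
      exact ⟨k, Ideal.map_le_iff_le_comap.2 (hk k le_rfl)⟩
    intro J hJ
    induction J, hJ using Submodule.fg_induction with
    | singleton x =>
      intro hx
      have hxI' : x ∈ I' := hx (Ideal.subset_span (Set.mem_singleton x))
      obtain ⟨k, hk1, hk⟩ := h 1 le_rfl x (by rwa [pow_one])
      rw [one_mul] at hk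
      have hφx : φ x ∈ I := hle (Ideal.mem_map_of_mem φ hxI')
      refine ⟨k, fun j hj => ?_⟩
      rw [← Ideal.span, Ideal.span_singleton_pow, Ideal.span_le, Set.singleton_subset_iff,
        SetLike.mem_coe, Ideal.mem_comap, map_pow]
      have : φ x ^ j = φ x ^ k * φ x ^ (j - k) := by rw [← pow_add]; congr 1; omega
      rw [this, show j + 1 = (k + 1) + (j - k) by omega, pow_add]
      exact Ideal.mul_mem_mul hk (Ideal.pow_mem_pow hφx _)
    | sup J₁ J₂ _ _ h₁ h₂ =>
      intro hJ
      obtain ⟨k₁, hk₁⟩ := h₁ (le_sup_left.trans hJ)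
      obtain ⟨k₂, hk₂⟩ := h₂ (le_sup_right.trans hJ)
      have hJ₁ : J₁ ≤ I.comap φ := (le_sup_left.trans hJ).trans hle'
      have hJ₂ : J₂ ≤ I.comap φ := (le_sup_right.trans hJ).trans hle'
      refine ⟨k₁ + k₂, fun j hj => ?_⟩
      rw [← Ideal.add_eq_sup, add_pow, Ideal.sum_eq_sup, Finset.sup_le_iff]
      intro i hi
      rw [Finset.mem_range] at hi
      refine Ideal.mul_le_left.trans ?_
      rcases le_or_gt k₁ i with hik | hik
      · calc J₁ ^ i * J₂ ^ (j - i) ≤ (I ^ (i + 1)).comap φ * (I ^ (j - i)).comap φ :=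
              Ideal.mul_mono (hk₁ i hik) (hpowc J₂ hJ₂ _)
          _ ≤ (I ^ (i + 1) * I ^ (j - i)).comap φ := Ideal.le_comap_mul φ
          _ = (I ^ (j + 1)).comap φ := by rw [← pow_add]; congr 2; omega
      · calc J₁ ^ i * J₂ ^ (j - i) ≤ (I ^ i).comap φ * (I ^ (j - i + 1)).comap φ :=
              Ideal.mul_mono (hpowc J₁ hJ₁ _) (hk₂ (j - i) (by omega))
          _ ≤ (I ^ i * I ^ (j - i + 1)).comap φ := Ideal.le_comap_mul φ
          _ = (I ^ (j + 1)).comap φ := by rw [← pow_add]; congr 2; omega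

end Groth.Agent.S18390
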