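import Groth.Statements.S18392
import Mathlib.RingTheory.Ideal.KrullsHeightTheorem
import Mathlib.RingTheory.Ideal.MinimalPrime.Noetherian
-- import your own Groth.Agent.* helpers here

set_option autoImplicit false
universe u
open LVCorr

namespace Groth.Agent.S18392

/-- Let A be a normal (integrally closed) Noetherian domain and z an element of A such that the radical
of (z) is prime. Then for every non-empty open subset V of Spec A contained in the basic open set
D(z) (that is, every non-empty open subset of Spec A[1/z]) there is an element x of A, not in the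
radical of (z), such that the basic open set D(xz) = Spec A[1/xz] is contained in V. -/
theorem result (A : Type u) [CommRing A]
    [IsDomain A] [IsNoetherianRing A] [IsIntegrallyClosed A] (z : A)
    (hz : (Ideal.span {z}).radical.IsPrime) (V : Set (PrimeSpectrum A)) (hV : IsOpen V)
    (hVz : V ⊆ (PrimeSpectrum.basicOpen z : Set (PrimeSpectrum A))) (hne : V.Nonempty) :
    ∃ x : A, x ∉ (Ideal.span {z}).radical ∧
      ((PrimeSpectrum.basicOpen (x * z) : TopologicalSpace.Opens (PrimeSpectrum A)) :
        Set (PrimeSpectrum A)) ⊆ V := by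
  have hzP : z ∈ (Ideal.span {z}).radical := Ideal.le_radical (Ideal.subset_span rfl)
  have hmin : (Ideal.span {z}).radical ∈ (Ideal.span {z}).minimalPrimes := by
    refine ⟨⟨hz, Ideal.le_radical⟩, fun q hq _ => ?_⟩
    exact (Ideal.IsPrime.radical_le_iff hq.1).2 hq.2
  have hht : (Ideal.span {z}).radical.height ≤ 1 :=
    Ideal.height_le_one_of_isPrincipal_of_mem_minimalPrimes (Ideal.span {z}) _ hmin
  obtain ⟨J, hJ⟩ : ∃ J, J = PrimeSpectrum.vanishingIdeal (Vᶜ) := ⟨_, rfl⟩
  have hZJ : PrimeSpectrum.zeroLocus (J : Set A) = Vᶜ := by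
    rw [hJ, PrimeSpectrum.zeroLocus_vanishingIdeal_eq_closure, hV.isClosed_compl.closure_eq]
  have hJne : J ≠ ⊥ := by
    intro hJb
    obtain ⟨p, hp⟩ := hne
    have : p ∈ PrimeSpectrum.zeroLocus (J : Set A) := by rw [hJb]; simp
    rw [hZJ] at this; exact this hp
  have hfin := Ideal.finite_minimalPrimes_of_isNoetherianRing A J
  classical
  obtain ⟨S, hS⟩ : ∃ S : Finset (Ideal A), S = hfin.toFinset.filter (· ≠ (Ideal.span {z}).radical) :=
    ⟨_, rfl⟩
  have hQP : ∀ Q ∈ S, ¬ Q ≤ (Ideal.span {z}).radical := by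
    intro Q hQ hle
    rw [hS, Finset.mem_filter, Set.Finite.mem_toFinset] at hQ
    obtain ⟨hQm, hQne⟩ := hQ
    have hQprime : Q.IsPrime := hQm.1.1
    have hJQ : J ≤ Q := hQm.1.2
    have hlt : Q < (Ideal.span {z}).radical := lt_of_le_of_ne hle hQne
    have hbot : (⊥ : Ideal A) < Q := by
      rw [bot_lt_iff_ne_bot]; intro h; rw [h] at hJQ; exact hJne (le_bot_iff.1 hJQ)
    have h1 := Ideal.height_add_one_le_of_lt_of_isPrime hlt
    have h2 := Ideal.height_add_one_le_of_lt_of_isPrime hbot
    rw [Ideal.height_bot, zero_add] at h2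
    have h3 : (1 : ℕ∞) + 1 ≤ 1 := le_trans (add_le_add h2 le_rfl) (h1.trans hht)
    exact absurd h3 (by decide)
  have hMP : ¬ S.prod id ≤ (Ideal.span {z}).radical := by
    intro h
    obtain ⟨Q, hQ, hle⟩ := (Ideal.IsPrime.prod_le hz).1 h
    exact hQP Q hQ hle
  obtain ⟨x, hxM, hxP⟩ := Set.not_subset.1 hMP
  refine ⟨x, hxP, ?_⟩
  intro p hp
  by_contra hpV
  have hpZ : p ∈ PrimeSpectrum.zeroLocus (J : Set A) := by rw [hZJ]; exact hpV
  have hxz : x * z ∈ J := by
    have hrad : x * z ∈ J.radical := by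
      rw [← Ideal.sInf_minimalPrimes, Ideal.mem_sInf]
      intro Q hQ
      by_cases hQP' : Q = (Ideal.span {z}).radical
      · rw [hQP']; exact Ideal.mul_mem_left _ _ hzP
      · have hQS : Q ∈ S := by
          rw [hS, Finset.mem_filter, Set.Finite.mem_toFinset]; exact ⟨hQ, hQP'⟩
        exact Ideal.mul_mem_right _ _ ((Ideal.prod_le_inf.trans (Finset.inf_le hQS)) hxM)
    have hJrad : J.IsRadical := by rw [hJ]; exact PrimeSpectrum.isRadical_vanishingIdeal _
    exact hJrad hrad
  have : x * z ∈ p.asIdeal := hpZ hxz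
  exact (PrimeSpectrum.mem_basicOpen _ _).1 hp this

end Groth.Agent.S18392
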