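import Groth.Statements.S18467
import Mathlib.FieldTheory.Finite.Basic
import Mathlib.GroupTheory.SpecificGroups.Cyclic
import Mathlib.Algebra.Ring.GeomSum
-- import your own Groth.Agent.* helpers here

set_option autoImplicit false
universe u
open Hopf
open MonoidAlgebra

namespace Groth.Agent.S18467

/-- Let p be a prime and R a commutative ring containing an element u with u(p − 1) = 1, and let χ be a
homomorphism from the group of units of ℤ/p to the group of units of R such that χ(m) − 1 is a unit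
of R for every m ≠ 1. For 0 ≤ i < p − 1 put e_i = u · Σ_m χ(m)^{−i} [m] in the group algebra
R[(ℤ/p)ˣ]. Then the e_i are idempotents, e_i e_j = 0 for i ≠ j, and Σ_i e_i = 1. (The published
statement is for algebras over the subring of the p-adic integers generated over ℤ by the values of
the Teichmüller character χ and by 1/(p(p − 1)); the hypotheses on R and χ here are the properties
of that situation which the computation uses, so the row is stated for every such pair.) -/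
theorem result
    (p : ℕ) [Fact p.Prime] (R : Type u) [CommRing R] (u : R) (hu : u * ((p - 1 : ℕ) : R) = 1)
    (χ : (ZMod p)ˣ →* Rˣ) (hχ : ∀ m : (ZMod p)ˣ, m ≠ 1 → IsUnit ((χ m : R) - 1)) :
    CompleteOrthogonalIdempotents (fun i : Fin (p - 1) =>
      u • ∑ m : (ZMod p)ˣ, ((χ m⁻¹ : Rˣ) : R) ^ (i : ℕ) • MonoidAlgebra.of R (ZMod p)ˣ m) := by
  have hcard : Fintype.card (ZMod p)ˣ = p - 1 := ZMod.card_units p
  have hχinv : ∀ m : (ZMod p)ˣ, ((χ m⁻¹ : Rˣ) : R) * (χ m : R) = 1 := by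
    intro m; rw [← Units.val_mul, ← map_mul, inv_mul_cancel, map_one, Units.val_one]
  have hχmul : ∀ a b : (ZMod p)ˣ, ((χ (a * b) : Rˣ) : R) = (χ a : R) * (χ b : R) := by
    intro a b; rw [map_mul, Units.val_mul]
  -- eigen property
  have eigen : ∀ (g : (ZMod p)ˣ) (i : ℕ),
      MonoidAlgebra.of R (ZMod p)ˣ g * (∑ m : (ZMod p)ˣ, ((χ m⁻¹ : Rˣ) : R) ^ i • MonoidAlgebra.of R (ZMod p)ˣ m)
        = ((χ g : R) ^ i) • ∑ m : (ZMod p)ˣ, ((χ m⁻¹ : Rˣ) : R) ^ i • MonoidAlgebra.of R (ZMod p)ˣ m := by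
    intro g i
    rw [Finset.mul_sum, Finset.smul_sum]
    simp only [mul_smul_comm, ← map_mul]
    conv_rhs => rw [← Equiv.sum_comp (Equiv.mulLeft g)]
    apply Fintype.sum_congr
    intro m
    simp only [Equiv.coe_mulLeft, smul_smul]
    congr 1
    rw [mul_inv_rev, hχmul, mul_pow]
    rw [show (χ g : R) ^ i * ((χ m⁻¹ : R) ^ i * (χ g⁻¹ : R) ^ i)
        = (χ m⁻¹ : R) ^ i * ((χ g⁻¹ : R) * χ g) ^ i by ring, hχinv, one_pow, mul_one]
  set E : ℕ → MonoidAlgebra R (ZMod p)ˣ := fun i =>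
    ∑ m : (ZMod p)ˣ, ((χ m⁻¹ : Rˣ) : R) ^ i • MonoidAlgebra.of R (ZMod p)ˣ m with hE
  have prod : ∀ j i : ℕ, (u • E j) * (u • E i) =
      (u * ∑ m : (ZMod p)ˣ, ((χ m⁻¹ : Rˣ) : R) ^ j * (χ m : R) ^ i) • (u • E i) := by
    intro j i
    rw [smul_mul_assoc, hE, Finset.sum_mul]
    simp only [smul_mul_assoc, mul_smul_comm]
    rw [← smul_smul, Finset.sum_smul]
    congr 1
    apply Fintype.sum_congr
    intro m
    rw [eigen m i]
    simp only [smul_smul]
    congr 1
    ring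
  have hpow1 : ∀ m : (ZMod p)ˣ, ((χ m : Rˣ) : R) ^ (p - 1) = 1 := by
    intro m
    rw [← Units.val_pow_eq_pow_val, ← map_pow, ← hcard, pow_card_eq_one, map_one, Units.val_one]
  obtain ⟨b, hb⟩ := IsCyclic.exists_generator (α := (ZMod p)ˣ)
  have hob : orderOf b = p - 1 := by
    rw [orderOf_eq_card_of_forall_mem_zpowers hb, Nat.card_eq_fintype_card, hcard]
  have charsum : ∀ i j : Fin (p - 1), i ≠ j →
      ∑ m : (ZMod p)ˣ, ((χ m⁻¹ : Rˣ) : R) ^ (j : ℕ) * (χ m : R) ^ (i : ℕ) = 0 := by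
    intro i j hij
    set S := ∑ m : (ZMod p)ˣ, ((χ m⁻¹ : Rˣ) : R) ^ (j : ℕ) * (χ m : R) ^ (i : ℕ) with hS
    set t : R := ((χ ((b ^ (j : ℕ))⁻¹ * b ^ (i : ℕ)) : Rˣ) : R) with ht
    have hne : (b ^ (j : ℕ))⁻¹ * b ^ (i : ℕ) ≠ 1 := by
      intro h
      have h2 : b ^ (i : ℕ) = b ^ (j : ℕ) := by
        rw [inv_mul_eq_one] at h; exact h.symm
      have := pow_injOn_Iio_orderOf (x := b) (by rw [hob]; exact i.isLt) (by rw [hob]; exact j.isLt) h2
      exact hij (Fin.ext this)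
    have htu : IsUnit (t - 1) := hχ _ hne
    have hcoe : ∀ (m : (ZMod p)ˣ) (a c : ℕ), ((χ m⁻¹ : Rˣ) : R) ^ a * (χ m : R) ^ c =
        ((χ (m⁻¹ ^ a * m ^ c) : Rˣ) : R) := by
      intro m a c
      rw [map_mul, map_pow, map_pow, Units.val_mul, Units.val_pow_eq_pow_val,
        Units.val_pow_eq_pow_val]
    have hshift : S = t * S := by
      conv_lhs => rw [hS, ← Equiv.sum_comp (Equiv.mulLeft b)]
      rw [hS, Finset.mul_sum]
      apply Fintype.sum_congr
      intro m
      simp only [Equiv.coe_mulLeft]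
      rw [hcoe, hcoe, ht, ← Units.val_mul, ← map_mul]
      congr 2
      simp only [mul_inv, mul_pow, inv_pow]
      exact mul_mul_mul_comm _ _ _ _
    have : (t - 1) * S = 0 := by rw [sub_mul, one_mul, ← hshift, sub_self]
    exact (htu.mul_right_eq_zero).1 this
  have charsum_self : ∀ i : ℕ,
      ∑ m : (ZMod p)ˣ, ((χ m⁻¹ : Rˣ) : R) ^ i * (χ m : R) ^ i = ((p - 1 : ℕ) : R) := by
    intro i
    simp only [← mul_pow, hχinv, one_pow, Finset.sum_const, Finset.card_univ, hcard, nsmul_eq_mul,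
      mul_one]
  refine ⟨⟨fun i => ?_, fun i j hij => ?_⟩, ?_⟩
  · show (u • E i) * (u • E i) = u • E i
    rw [prod, charsum_self, hu, one_smul]
  · show (u • E i) * (u • E j) = 0
    rw [prod, charsum j i (Ne.symm hij), mul_zero, zero_smul]
  · show ∑ i : Fin (p - 1), u • E i = 1
    rw [← Finset.smul_sum, hE]
    simp only
    rw [Finset.sum_comm]
    simp only [← Finset.sum_smul]
    rw [Finset.sum_eq_single (1 : (ZMod p)ˣ)]
    · simp only [inv_one, map_one, Units.val_one, one_pow, Finset.sum_const, Finset.card_univ,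
        Fintype.card_fin, nsmul_eq_mul, mul_one, smul_smul, hu, one_smul]
    · intro m _ hm
      have hx : IsUnit (((χ m⁻¹ : Rˣ) : R) - 1) := hχ _ (inv_ne_one.2 hm)
      have hg := geom_sum_mul (((χ m⁻¹ : Rˣ) : R)) (p - 1)
      rw [hpow1, sub_self] at hg
      have h0 : ∑ i ∈ Finset.range (p - 1), ((χ m⁻¹ : Rˣ) : R) ^ i = 0 :=
        (hx.mul_left_eq_zero).1 hg
      rw [Fin.sum_univ_eq_sum_range (fun i => ((χ m⁻¹ : Rˣ) : R) ^ i) (p - 1), h0, zero_smul]
    · intro h; exact absurd (Finset.mem_univ _) h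

end Groth.Agent.S18467
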