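import Groth.Statements.S18806
import Mathlib.RingTheory.Flat.Basic
import Mathlib.RingTheory.Flat.FaithfullyFlat.Basic
-- import your own Groth.Agent.* helpers here

set_option autoImplicit false
universe u v v' w w' x
open TensorProduct
open HopfRep

namespace Groth.Agent.S18806

/-- Let k be a field, i : C → D an injective morphism of k-coalgebras and V a right D-comodule with
coaction ρ : V → V ⊗ D. If ρ(v) lies in the image of V ⊗ C → V ⊗ D (induced by i) for every v, then
V comes from a C-comodule: there is a C-comodule structure on V whose coaction, followed by V ⊗ C →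
V ⊗ D, is ρ. (The source states this for left comodules over the coordinate bialgebras of an affine
monoid scheme over k and of its group of units, assumed open and schematically dense, and uses that
assumption only through the injectivity of the restriction map of coordinate rings; the row is the
right-comodule mirror image for any injective coalgebra map. The converse direction is immediate.) -/
theorem result (k : Type u) [Field k]
    (C : Type v) [AddCommGroup C] [Module k C] [Coalgebra k C]
    (D : Type v') [AddCommGroup D] [Module k D] [Coalgebra k D]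
    (i : C →ₗc[k] D) (hi : Function.Injective i)
    (V : Type w) [AddCommGroup V] [Module k V] [HopfRep.Comod k D V]
    (h : ∀ v : V, HopfRep.Comod.coact (k := k) (A := D) v ∈ LinearMap.range ((i : C →ₗ[k] D).lTensor V)) :
    ∃ c : HopfRep.Comod k C V,
      (i : C →ₗ[k] D).lTensor V ∘ₗ c.coact = HopfRep.Comod.coact (k := k) (A := D) := by
  classical
  obtain ⟨φ, hφdef⟩ : ∃ φ : V ⊗[k] C →ₗ[k] V ⊗[k] D, φ = (i : C →ₗ[k] D).lTensor V := ⟨_, rfl⟩
  have hφ : Function.Injective φ := by
    rw [hφdef]; exact Module.Flat.lTensor_preserves_injective_linearMap _ hi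
  have hφt : ∀ (v : V) (x : C), φ (v ⊗ₜ x) = v ⊗ₜ i x := by
    intro v x; rw [hφdef]; rfl
  rw [← hφdef] at h ⊢
  obtain ⟨δ, hδdef⟩ : ∃ δ : V →ₗ[k] V ⊗[k] D, δ = HopfRep.Comod.coact (k := k) (A := D) :=
    ⟨_, rfl⟩
  rw [← hδdef] at h ⊢
  let c0 : V →ₗ[k] V ⊗[k] C :=
    (LinearEquiv.ofInjective φ hφ).symm.toLinearMap ∘ₗ δ.codRestrict (LinearMap.range φ) h
  have hc0 : ∀ v, φ (c0 v) = δ v := by
    intro v
    have := LinearEquiv.ofInjective_apply (f := φ) (h := hφ)
      ((LinearEquiv.ofInjective φ hφ).symm (δ.codRestrict (LinearMap.range φ) h v))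
    rw [LinearEquiv.apply_symm_apply] at this
    simp only [c0, LinearMap.comp_apply, LinearEquiv.coe_coe]
    rw [← this]
    rfl
  obtain ⟨J, hJdef⟩ : ∃ J : V ⊗[k] (C ⊗[k] C) →ₗ[k] V ⊗[k] (D ⊗[k] D),
      J = (TensorProduct.map (i : C →ₗ[k] D) (i : C →ₗ[k] D)).lTensor V := ⟨_, rfl⟩
  have hJ : Function.Injective J := by
    rw [hJdef]
    apply Module.Flat.lTensor_preserves_injective_linearMap
    rw [← LinearMap.lTensor_comp_rTensor]
    exact (Module.Flat.lTensor_preserves_injective_linearMap _ hi).comp
      (Module.Flat.rTensor_preserves_injective_linearMap _ hi)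
  have hJt : ∀ (v : V) (x y : C), J (v ⊗ₜ (x ⊗ₜ y)) = v ⊗ₜ (i x ⊗ₜ i y) := by
    intro v x y; rw [hJdef]; rfl
  have L1 : ∀ (t : V ⊗[k] C) (x : C), J (TensorProduct.assoc k V C C (t ⊗ₜ x)) =
      TensorProduct.assoc k V D D (φ t ⊗ₜ i x) := by
    intro t x
    induction t using TensorProduct.induction_on with
    | zero => simp
    | tmul v y => rw [TensorProduct.assoc_tmul, hJt, hφt, TensorProduct.assoc_tmul]
    | add a b ha hb => simp only [TensorProduct.add_tmul, map_add, ha, hb]
  have L2 : ∀ s : V ⊗[k] C, J (TensorProduct.assoc k V C C (c0.rTensor C s)) =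
      TensorProduct.assoc k V D D (δ.rTensor D (φ s)) := by
    intro s
    induction s using TensorProduct.induction_on with
    | zero => simp
    | tmul v x => rw [LinearMap.rTensor_tmul, L1, hc0, hφt, LinearMap.rTensor_tmul]
    | add a b ha hb => simp only [map_add, ha, hb]
  have L3 : ∀ s : V ⊗[k] C, J ((CoalgebraStruct.comul (R := k) (A := C)).lTensor V s) =
      (CoalgebraStruct.comul (R := k) (A := D)).lTensor V (φ s) := by
    intro s
    induction s using TensorProduct.induction_on with
    | zero => simp
    | tmul v x =>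
      rw [LinearMap.lTensor_tmul, hφt, LinearMap.lTensor_tmul, hJdef, LinearMap.lTensor_tmul]
      congr 1
      exact CoalgHomClass.map_comp_comul_apply i x
    | add a b ha hb => simp only [map_add, ha, hb]
  have L4 : ∀ s : V ⊗[k] C, (CoalgebraStruct.counit (R := k) (A := C)).lTensor V s =
      (CoalgebraStruct.counit (R := k) (A := D)).lTensor V (φ s) := by
    intro s
    induction s using TensorProduct.induction_on with
    | zero => simp
    | tmul v x =>
      rw [LinearMap.lTensor_tmul, hφt, LinearMap.lTensor_tmul]
      congr 1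
      exact (CoalgHomClass.counit_comp_apply i x).symm
    | add a b ha hb => simp only [map_add, ha, hb]
  refine ⟨{ coact := c0, coassoc := ?_, counit_comp := ?_ }, ?_⟩
  · apply LinearMap.ext; intro v
    apply hJ
    simp only [LinearMap.comp_apply, LinearEquiv.coe_coe]
    rw [L2, hc0, L3, hc0, hδdef]
    exact LinearMap.congr_fun (HopfRep.Comod.coassoc (k := k) (A := D) (V := V)) v
  · apply LinearMap.ext; intro v
    simp only [LinearMap.comp_apply]
    rw [L4, hc0, hδdef]
    exact LinearMap.congr_fun (HopfRep.Comod.counit_comp (k := k) (A := D) (V := V)) v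
  · apply LinearMap.ext; intro v; exact hc0 v

end Groth.Agent.S18806
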