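import Groth.Statements.S18809
import Mathlib.RingTheory.Flat.Basic
import Groth.Prelude.Def_ComodTens
-- import your own Groth.Agent.* helpers here

set_option autoImplicit false
universe u v v' w w' x
open TensorProduct
open HopfRep

namespace Groth.Agent.S18809

/-- Let k be a field and i : C → D an injective morphism of k-coalgebras. If every right D-comodule is
semisimple (every subcomodule has a complementary subcomodule), then every right C-comodule is
semisimple. (The source states this for the coordinate bialgebras of an affine monoid scheme over k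
and of its open schematically dense group of units, through the injectivity of the restriction map,
with semisimple meaning that every representation is a sum of irreducible subrepresentations;
D-comodules are quantified in the universe of the given C-comodule.) -/
theorem result (k : Type u) [Field k]
    (C : Type v) [AddCommGroup C] [Module k C] [Coalgebra k C]
    (D : Type v') [AddCommGroup D] [Module k D] [Coalgebra k D]
    (i : C →ₗc[k] D) (hi : Function.Injective i)
    (hD : ∀ (W : Type w) [AddCommGroup W] [Module k W] [HopfRep.Comod k D W], HopfRep.IsSemisimpleComod k D W)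
    (V : Type w) [AddCommGroup V] [Module k V] [HopfRep.Comod k C V] :
    HopfRep.IsSemisimpleComod k C V := by
  classical
  obtain ⟨φ, hφdef⟩ : ∃ φ : V ⊗[k] C →ₗ[k] V ⊗[k] D, φ = (i : C →ₗ[k] D).lTensor V := ⟨_, rfl⟩
  have hφt : ∀ (v : V) (x : C), φ (v ⊗ₜ x) = v ⊗ₜ i x := by
    intro v x; rw [hφdef]; rfl
  obtain ⟨ρ, hρdef⟩ : ∃ ρ : V →ₗ[k] V ⊗[k] C, ρ = HopfRep.Comod.coact (k := k) (A := C) :=
    ⟨_, rfl⟩
  obtain ⟨J, hJdef⟩ : ∃ J : V ⊗[k] (C ⊗[k] C) →ₗ[k] V ⊗[k] (D ⊗[k] D),
      J = (TensorProduct.map (i : C →ₗ[k] D) (i : C →ₗ[k] D)).lTensor V := ⟨_, rfl⟩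
  have hJt : ∀ (v : V) (x y : C), J (v ⊗ₜ (x ⊗ₜ y)) = v ⊗ₜ (i x ⊗ₜ i y) := by
    intro v x y; rw [hJdef]; rfl
  have L1 : ∀ (t : V ⊗[k] C) (x : C), J (TensorProduct.assoc k V C C (t ⊗ₜ x)) =
      TensorProduct.assoc k V D D (φ t ⊗ₜ i x) := by
    intro t x
    induction t using TensorProduct.induction_on with
    | zero => simp
    | tmul v y => rw [TensorProduct.assoc_tmul, hJt, hφt, TensorProduct.assoc_tmul]
    | add a b ha hb => simp only [TensorProduct.add_tmul, map_add, ha, hb]
  have L2 : ∀ s : V ⊗[k] C, J (TensorProduct.assoc k V C C (ρ.rTensor C s)) =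
      TensorProduct.assoc k V D D ((φ ∘ₗ ρ).rTensor D (φ s)) := by
    intro s
    induction s using TensorProduct.induction_on with
    | zero => simp
    | tmul v x => rw [LinearMap.rTensor_tmul, L1, hφt, LinearMap.rTensor_tmul, LinearMap.comp_apply]
    | add a b ha hb => simp only [map_add, ha, hb]
  have L3 : ∀ s : V ⊗[k] C, J ((CoalgebraStruct.comul (R := k) (A := C)).lTensor V s) =
      (CoalgebraStruct.comul (R := k) (A := D)).lTensor V (φ s) := by
    intro s
    induction s using TensorProduct.induction_on with
    | zero => simp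
    | tmul v x =>
      rw [LinearMap.lTensor_tmul, hφt, LinearMap.lTensor_tmul, hJdef, LinearMap.lTensor_tmul]
      congr 1
      exact CoalgHomClass.map_comp_comul_apply i x
    | add a b ha hb => simp only [map_add, ha, hb]
  have L4 : ∀ s : V ⊗[k] C, (CoalgebraStruct.counit (R := k) (A := C)).lTensor V s =
      (CoalgebraStruct.counit (R := k) (A := D)).lTensor V (φ s) := by
    intro s
    induction s using TensorProduct.induction_on with
    | zero => simp
    | tmul v x =>
      rw [LinearMap.lTensor_tmul, hφt, LinearMap.lTensor_tmul]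
      congr 1
      exact (CoalgHomClass.counit_comp_apply i x).symm
    | add a b ha hb => simp only [map_add, ha, hb]
  let cD : HopfRep.Comod k D V :=
    { coact := φ ∘ₗ ρ
      coassoc := by
        apply LinearMap.ext; intro v
        simp only [LinearMap.comp_apply, LinearEquiv.coe_coe]
        rw [← L2 (ρ v), ← L3 (ρ v)]
        congr 1
        rw [hρdef]
        exact LinearMap.congr_fun (HopfRep.Comod.coassoc (k := k) (A := C) (V := V)) v
      counit_comp := by
        apply LinearMap.ext; intro v
        simp only [LinearMap.comp_apply]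
        rw [← L4 (ρ v), hρdef]
        exact LinearMap.congr_fun (HopfRep.Comod.counit_comp (k := k) (A := C) (V := V)) v }
  have hsubCD : ∀ W : Submodule k V, HopfRep.IsSubcomod (k := k) (A := C) W →
      @HopfRep.IsSubcomod k D _ _ _ _ V _ _ cD W := by
    intro W hW w hw
    obtain ⟨y, hy⟩ := hW w hw
    refine ⟨(i : C →ₗ[k] D).lTensor W y, ?_⟩
    show W.subtype.rTensor D ((i : C →ₗ[k] D).lTensor W y) = φ (ρ w)
    rw [← ComodTens.lTensor_rTensor_comm, hρdef, ← hy, hφdef]
  have hsubDC : ∀ W : Submodule k V, @HopfRep.IsSubcomod k D _ _ _ _ V _ _ cD W →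
      HopfRep.IsSubcomod (k := k) (A := C) W := by
    intro W hW w hw
    obtain ⟨y, hy⟩ := hW w hw
    have hex := Module.Flat.rTensor_exact C (LinearMap.exact_subtype_mkQ W)
    apply (hex _).mp
    apply Module.Flat.lTensor_preserves_injective_linearMap (M := V ⧸ W) (i : C →ₗ[k] D) hi
    rw [map_zero, ComodTens.lTensor_rTensor_comm]
    have h1 : (i : C →ₗ[k] D).lTensor V (HopfRep.Comod.coact (k := k) (A := C) w) =
        W.subtype.rTensor D y := by
      rw [hy]
      show _ = φ (ρ w)
      rw [hφdef, hρdef]
    have h0 : W.mkQ.comp W.subtype = 0 := by ext; simp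
    rw [h1, ← LinearMap.comp_apply (W.mkQ.rTensor D), ← LinearMap.rTensor_comp, h0,
      LinearMap.rTensor_zero, LinearMap.zero_apply]
  intro W hW
  obtain ⟨W', hW', hc⟩ := @hD V _ _ cD W (hsubCD W hW)
  exact ⟨W', hsubDC W' hW', hc⟩

end Groth.Agent.S18809
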