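import Groth.Statements.S18827
import Mathlib.RingTheory.Flat.Basic
-- import your own Groth.Agent.* helpers here

set_option autoImplicit false
universe u v w
open TensorProduct
open HopfRep

namespace Groth.Agent.S18827

/-- Let k be a field, C a k-coalgebra, V a right C-comodule which is semisimple (every subcomodule has a
complementary subcomodule, which over a field is the same as being the sum of its simple
subcomodules) and W a subcomodule of V. Then the subcomodule W with its induced structure and the
quotient comodule V/W are again semisimple. (The source states this for representations of an affine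
monoid scheme over k.) -/
theorem result (k : Type u) [Field k]
    (C : Type v) [AddCommGroup C] [Module k C] [Coalgebra k C]
    (V : Type w) [AddCommGroup V] [Module k V] [c : HopfRep.Comod k C V] (hV : HopfRep.IsSemisimpleComod k C V)
    (W : Submodule k V) (hW : HopfRep.IsSubcomod (k := k) (A := C) W) :
    @HopfRep.IsSemisimpleComod k C _ _ _ _ ↥W _ _ (ComodSub.Comod.restr c W hW) ∧
      @HopfRep.IsSemisimpleComod k C _ _ _ _ (V ⧸ W) _ _ (ComodSub.Comod.quot c W hW) := by
  classical
  constructor
  · intro U hU
    let U₀ : Submodule k V := U.map W.subtype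
    let e : U →ₗ[k] U₀ :=
      (W.subtype.comp U.subtype).codRestrict U₀ (fun u => Submodule.mem_map_of_mem u.2)
    have he : U₀.subtype.comp e = W.subtype.comp U.subtype := rfl
    have hU₀ : HopfRep.IsSubcomod (k := k) (A := C) U₀ := by
      rintro _ ⟨u, hu, rfl⟩
      obtain ⟨y, hy⟩ := hU u hu
      refine ⟨e.rTensor C y, ?_⟩
      rw [← LinearMap.comp_apply, ← LinearMap.rTensor_comp, he, LinearMap.rTensor_comp,
        LinearMap.comp_apply, hy]
      exact ComodSub.restr_coact_coe c W hW u
    obtain ⟨U₁, hU₁, hc⟩ := hV U₀ hU₀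
    refine ⟨U₁.comap W.subtype, ?_, ?_⟩
    · intro u hu
      have hex : Function.Exact ((U₁.comap W.subtype).subtype) (U₁.mkQ.comp W.subtype) := by
        intro x
        constructor
        · intro hx
          refine ⟨⟨x, ?_⟩, rfl⟩
          simpa [Submodule.Quotient.mk_eq_zero] using hx
        · rintro ⟨y, rfl⟩
          have : ((y : W) : V) ∈ U₁ := y.2
          simpa [Submodule.Quotient.mk_eq_zero] using this
      apply (Module.Flat.rTensor_exact C hex _).mp
      obtain ⟨y, hy⟩ := hU₁ (u : V) hu
      rw [LinearMap.rTensor_comp, LinearMap.comp_apply, ComodSub.restr_coact_coe, ← hy,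
        ← LinearMap.comp_apply (U₁.mkQ.rTensor C), ← LinearMap.rTensor_comp]
      have : U₁.mkQ.comp U₁.subtype = 0 := by ext; simp
      rw [this, LinearMap.rTensor_zero, LinearMap.zero_apply]
    · constructor
      · rw [Submodule.disjoint_def]
        intro x hxU hxU₁
        have h1 : (x : V) ∈ U₀ := Submodule.mem_map_of_mem hxU
        have h2 : (x : V) ∈ U₁ := hxU₁
        have := (Submodule.disjoint_def.mp hc.1) _ h1 h2
        exact Subtype.ext this
      · rw [codisjoint_iff, eq_top_iff]
        rintro x -
        have : (x : V) ∈ U₀ ⊔ U₁ := by rw [hc.2.eq_top]; trivial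
        obtain ⟨a, ha, b, hb, hab⟩ := Submodule.mem_sup.mp this
        obtain ⟨u, hu, rfl⟩ := ha
        refine Submodule.mem_sup.mpr ⟨u, hu, x - u, ?_, by abel⟩
        show ((x - u : W) : V) ∈ U₁
        have : ((x - u : W) : V) = b := by
          rw [Submodule.coe_sub, ← hab]; simp
        rw [this]; exact hb
  · intro X hX
    let X₀ : Submodule k V := X.comap W.mkQ
    have hex : Function.Exact X₀.subtype (X.mkQ.comp W.mkQ) := by
      intro v
      constructor
      · intro hv
        refine ⟨⟨v, ?_⟩, rfl⟩
        show W.mkQ v ∈ X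
        simpa [Submodule.Quotient.mk_eq_zero] using hv
      · rintro ⟨y, rfl⟩
        have : W.mkQ (y : V) ∈ X := y.2
        simpa [Submodule.Quotient.mk_eq_zero] using this
    have hX₀ : HopfRep.IsSubcomod (k := k) (A := C) X₀ := by
      intro v hv
      apply (Module.Flat.rTensor_exact C hex _).mp
      obtain ⟨y, hy⟩ := hX (W.mkQ v) hv
      rw [LinearMap.rTensor_comp, LinearMap.comp_apply]
      have hq : W.mkQ.rTensor C (HopfRep.Comod.coact (k := k) (A := C) v) =
          (ComodSub.Comod.quot c W hW).coact (W.mkQ v) := rfl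
      rw [hq, ← hy, ← LinearMap.comp_apply (X.mkQ.rTensor C), ← LinearMap.rTensor_comp]
      have : X.mkQ.comp X.subtype = 0 := by ext; simp
      rw [this, LinearMap.rTensor_zero, LinearMap.zero_apply]
    obtain ⟨Y, hY, hc⟩ := hV X₀ hX₀
    let Y₂ : Submodule k (V ⧸ W) := Y.map W.mkQ
    let e : Y →ₗ[k] Y₂ :=
      (W.mkQ.comp Y.subtype).codRestrict Y₂ (fun y => Submodule.mem_map_of_mem y.2)
    have he : Y₂.subtype.comp e = W.mkQ.comp Y.subtype := rfl
    refine ⟨Y₂, ?_, ?_⟩
    · rintro _ ⟨y, hy, rfl⟩
      obtain ⟨t, ht⟩ := hY y hy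
      refine ⟨e.rTensor C t, ?_⟩
      rw [← LinearMap.comp_apply, ← LinearMap.rTensor_comp, he, LinearMap.rTensor_comp,
        LinearMap.comp_apply, ht]
      rfl
    · constructor
      · rw [Submodule.disjoint_def]
        rintro q hqX ⟨y, hy, rfl⟩
        have h1 : y ∈ X₀ := hqX
        have := (Submodule.disjoint_def.mp hc.1) y h1 hy
        rw [this, map_zero]
      · rw [codisjoint_iff, eq_top_iff]
        rintro q -
        obtain ⟨v, rfl⟩ := W.mkQ_surjective q
        have : v ∈ X₀ ⊔ Y := by rw [hc.2.eq_top]; trivial
        obtain ⟨a, ha, b, hb, rfl⟩ := Submodule.mem_sup.mp this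
        rw [map_add]
        exact Submodule.add_mem_sup ha (Submodule.mem_map_of_mem hb)

end Groth.Agent.S18827
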