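import Groth.Statements.S18928
import Mathlib.Tactic.LinearCombination
import Mathlib.Tactic.Ring
-- import your own Groth.Agent.* helpers here

set_option autoImplicit false
universe u
open DPow

namespace Groth.Agent.S18928

/-- Let B be a commutative ring, I an ideal of B with a divided power structure, p a prime, r a natural
number, b an element of B and δ an element of I. Then (b + δ)^(p^r) − b^(p^r) lies in the ideal p^r
I. (The source states this for a divided power thickening over the Witt vectors of length n and 0 ≤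
r ≤ n; neither restriction is used.) -/
theorem result {B : Type u} [CommRing B] {I : Ideal B}
    (hI : DividedPowers I) (p : ℕ) [Fact p.Prime] (r : ℕ) (b δ : B) (hδ : δ ∈ I) :
    (b + δ) ^ (p ^ r) - b ^ (p ^ r) ∈ Ideal.span {((p : B) ^ r)} * I := by
  classical
  set N := p ^ r with hN
  have hN0 : 0 < N := pow_pos (Fact.out : p.Prime).pos r
  rw [add_pow, Finset.sum_range_succ, Nat.sub_self, pow_zero, mul_one, Nat.choose_self,
    Nat.cast_one, mul_one, add_sub_cancel_right]
  apply Submodule.sum_mem
  intro k hk
  have hk' : k < N := Finset.mem_range.mp hk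
  obtain ⟨m, hm⟩ : ∃ m, N - k = m + 1 := ⟨N - k - 1, by omega⟩
  rw [hm, ← hI.factorial_mul_dpow_eq_pow hδ]
  have hc : N.choose k * (m + 1).factorial = N.descFactorial (m + 1) := by
    rw [Nat.descFactorial_eq_factorial_mul_choose, mul_comm]
    congr 1
    rw [← hm, Nat.choose_symm hk'.le]
  have hdvd : N ∣ N.descFactorial (m + 1) := by
    obtain ⟨N', hN'⟩ : ∃ N', N = N' + 1 := ⟨N - 1, by omega⟩
    rw [hN', Nat.succ_descFactorial_succ]
    exact dvd_mul_right _ _
  obtain ⟨q, hq⟩ := hdvd
  have h2 : ((N.choose k : ℕ) : B) * ((m + 1).factorial : ℕ) = (N : B) * q := by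
    rw [← Nat.cast_mul, hc, hq, Nat.cast_mul]
  have e : b ^ k * (((m + 1).factorial : ℕ) * hI.dpow (m + 1) δ) * (N.choose k : B) =
      (N : B) * ((q : B) * b ^ k * hI.dpow (m + 1) δ) := by
    linear_combination (b ^ k * hI.dpow (m + 1) δ) * h2
  rw [e]
  apply Ideal.mul_mem_mul
  · rw [hN, Nat.cast_pow]; exact Ideal.mem_span_singleton_self _
  · exact Ideal.mul_mem_left _ _ (hI.dpow_mem (Nat.succ_ne_zero m) hδ)

end Groth.Agent.S18928
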