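import Groth.Statements.S18930
import Mathlib.RingTheory.WittVector.Truncated
-- import your own Groth.Agent.* helpers here

set_option autoImplicit false
universe u
open DPow

namespace Groth.Agent.S18930

/-- Let p be a prime, n ≥ 1, B a commutative ring with p^n = 0 and A = B/pB. Let θ : W_n(A) → B be the
ring homomorphism which sends the reduction of a Witt vector (x_0, …, x_{n−1}) over B to Σ_{i<n} p^i
x_i^(p^(n−i)), let J_n be its kernel and let I_n be the set of a in W_n(A) whose zeroth component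
satisfies a_0^(p^n) = 0. Then J_n + (p) ⊆ I_n. (In the source B is the ring of global sections of a
scheme over the Witt vectors of length n of a perfect field.) -/
theorem result (p : ℕ) [Fact p.Prime] (n : ℕ) (hn : 0 < n)
    {B : Type u} [CommRing B] (hp : (p : B) ^ n = 0)
    (θ : TruncatedWittVector p n (B ⧸ (Ideal.span {(p : B)})) →+* B)
    (hθ : ∀ x : WittVector p B, θ (WittVector.truncate n (WittVector.map (Ideal.Quotient.mk (Ideal.span {(p : B)})) x)) =
        ∑ i : Fin n, (p : B) ^ (i : ℕ) * (x.coeff i) ^ (p ^ (n - i)))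
    (a : TruncatedWittVector p n (B ⧸ (Ideal.span {(p : B)})))
    (ha : a ∈ RingHom.ker θ ⊔ Ideal.span {(p : TruncatedWittVector p n (B ⧸ (Ideal.span {(p : B)})))}) :
    (TruncatedWittVector.coeff ⟨0, hn⟩ a) ^ (p ^ n) = 0 := by
  classical
  obtain ⟨y, hy, z, hz, rfl⟩ := Submodule.mem_sup.mp ha
  obtain ⟨c, rfl⟩ := Ideal.mem_span_singleton'.mp hz
  have hπp : Ideal.Quotient.mk (Ideal.span {(p : B)}) (p : B) = 0 :=
    Ideal.Quotient.eq_zero_iff_mem.mpr (Ideal.subset_span rfl)
  obtain ⟨x, rfl⟩ : ∃ x : WittVector p B,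
      WittVector.truncate n (WittVector.map (Ideal.Quotient.mk (Ideal.span {(p : B)})) x) = y := by
    obtain ⟨w, rfl⟩ := WittVector.truncate_surjective (p := p) (n := n) _ y
    obtain ⟨x, rfl⟩ := WittVector.map_surjective (Ideal.Quotient.mk (Ideal.span {(p : B)}))
      Ideal.Quotient.mk_surjective w
    exact ⟨x, rfl⟩
  obtain ⟨c', rfl⟩ := WittVector.truncate_surjective (p := p) (n := n) _ c
  have hnat : ∀ m : ℕ,
      ((m : WittVector p (B ⧸ Ideal.span {(p : B)})).coeff 0) = (m : B ⧸ Ideal.span {(p : B)}) := by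
    intro m
    induction m with
    | zero => simp
    | succ m ih =>
      rw [Nat.cast_succ, WittVector.add_coeff_zero, ih, WittVector.one_coeff_zero, Nat.cast_succ]
  have hpW : (p : TruncatedWittVector p n (B ⧸ Ideal.span {(p : B)})) =
      WittVector.truncate n (p : WittVector p (B ⧸ Ideal.span {(p : B)})) := (map_natCast _ p).symm
  have hp0 : ((p : ℕ) : B ⧸ Ideal.span {(p : B)}) = 0 := by
    rw [← map_natCast (Ideal.Quotient.mk (Ideal.span {(p : B)}))]; exact hπp
  rw [hpW, ← map_mul, ← map_add, WittVector.coeff_truncate]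
  change (WittVector.coeff (_ + _) 0) ^ (p ^ n) = 0
  rw [WittVector.add_coeff_zero, WittVector.mul_coeff_zero, hnat, WittVector.map_coeff, hp0,
    mul_zero, add_zero]
  have h0 : (∑ i : Fin n, (p : B) ^ (i : ℕ) * (x.coeff i) ^ (p ^ (n - i))) = 0 := by
    rw [← hθ x]; exact RingHom.mem_ker.mp hy
  have h1 := congrArg (Ideal.Quotient.mk (Ideal.span {(p : B)})) h0
  rw [map_sum, map_zero, Finset.sum_eq_single ⟨0, hn⟩] at h1
  · simpa [hπp] using h1
  · intro i _ hi
    have : (i : ℕ) ≠ 0 := fun h => hi (Fin.ext h)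
    rw [map_mul, map_pow, hπp, zero_pow this, zero_mul]
  · intro h; exact absurd (Finset.mem_univ _) h

end Groth.Agent.S18930
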