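import Groth.Statements.S18936
-- import your own Groth.Agent.* helpers here

set_option autoImplicit false
universe u
open CAlg

namespace Groth.Agent.S18936

/-- Let A be a Noetherian commutative ring, q a prime ideal of A and f an element of A whose image in
the localization A_q is a non-zero-divisor. Then there is an element b of A not in q such that the
image of f in A[1/b] is a non-zero-divisor. -/
theorem result {A : Type u} [CommRing A] [IsNoetherianRing A]
    (q : Ideal A) [q.IsPrime] (f : A)
    (hf : algebraMap A (Localization.AtPrime q) f ∈ nonZeroDivisors (Localization.AtPrime q)) :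
    ∃ b : A, b ∉ q ∧ algebraMap A (Localization.Away b) f ∈ nonZeroDivisors (Localization.Away b) := by
  classical
  let I : Ideal A := LinearMap.ker (LinearMap.mulLeft A f)
  have hmemI : ∀ g, g ∈ I ↔ f * g = 0 := fun g => by
    simp [I, LinearMap.mem_ker, LinearMap.mulLeft_apply]
  obtain ⟨s, hs⟩ := (IsNoetherian.noetherian I : I.FG)
  have hloc : ∀ g ∈ s, ∃ c : q.primeCompl, (c : A) * g = 0 := by
    intro g hg
    have hgI : g ∈ I := hs ▸ Submodule.subset_span hg
    have h1 : f * g = 0 := (hmemI g).1 hgI
    have h2 : algebraMap A (Localization.AtPrime q) g = 0 := by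
      apply (mem_nonZeroDivisors_iff_left.mp hf)
      rw [← map_mul, h1, map_zero]
    exact (IsLocalization.map_eq_zero_iff q.primeCompl _ g).mp h2
  choose c hc using hloc
  let b : A := ∏ g ∈ s.attach, (c g.1 g.2 : A)
  have hb : b ∉ q := by
    have : b ∈ q.primeCompl := Submonoid.prod_mem _ (fun g _ => (c g.1 g.2).2)
    exact this
  have hbI : ∀ g ∈ I, b * g = 0 := by
    have : I ≤ LinearMap.ker (LinearMap.mulLeft A b) := by
      rw [← hs, Submodule.span_le]
      intro g hg
      simp only [SetLike.mem_coe, LinearMap.mem_ker, LinearMap.mulLeft_apply]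
      have hdvd : (c g hg : A) ∣ b := Finset.dvd_prod_of_mem _ (Finset.mem_attach s ⟨g, hg⟩)
      obtain ⟨d, hd⟩ := hdvd
      rw [hd, mul_comm (c g hg : A) d, mul_assoc, hc g hg, mul_zero]
    intro g hg
    have := this hg
    simpa [LinearMap.mem_ker, LinearMap.mulLeft_apply] using this
  refine ⟨b, hb, ?_⟩
  rw [mem_nonZeroDivisors_iff_right]
  intro x hx
  obtain ⟨⟨a, y⟩, rfl⟩ := IsLocalization.mk'_surjective (Submonoid.powers b) x
  rw [mul_comm, IsLocalization.mul_mk'_eq_mk'_of_mul, IsLocalization.mk'_eq_zero_iff] at hx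
  obtain ⟨⟨_, k, rfl⟩, hm⟩ := hx
  have hI : b ^ k * a ∈ I := by
    rw [hmemI]
    calc f * (b ^ k * a) = b ^ k * (f * a) := by ring
      _ = 0 := by simpa using hm
  have h3 := hbI _ hI
  rw [IsLocalization.mk'_eq_zero_iff]
  refine ⟨⟨b ^ (k + 1), k + 1, rfl⟩, ?_⟩
  show b ^ (k + 1) * a = 0
  rw [pow_succ', mul_assoc]
  exact h3

end Groth.Agent.S18936
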