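import Groth.Statements.S18940
import Mathlib.CategoryTheory.Limits.Preserves.Shapes.Pullbacks
import Mathlib.CategoryTheory.Limits.Types.Pullbacks
import Mathlib.CategoryTheory.Limits.FunctorCategory.Basic
-- import your own Groth.Agent.* helpers here

set_option autoImplicit false
universe w v u
open CategoryTheory
open ShfCat

namespace Groth.Agent.S18940

/-- Let (C, J) be a site and f : F → G a morphism of sheaves of sets on it which is locally surjective
(every section of G is, after passing to a covering, in the image of f). Then for every morphism of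
sheaves g : H → G the base change F ×_G H → H of f is again locally surjective. -/
theorem result {C : Type u} [Category.{v} C]
    (J : GrothendieckTopology C) {F G H : Sheaf J (Type w)} (f : F ⟶ G) (g : H ⟶ G)
    [Sheaf.IsLocallySurjective f] :
    Sheaf.IsLocallySurjective (Limits.pullback.snd f g) := by
  constructor
  intro U s
  have hmem := Presheaf.imageSieve_mem J f.hom (g.hom.app (Opposite.op U) s)
  apply J.superset_covering _ hmem
  rintro V i ⟨t, ht⟩
  let E := sheafToPresheaf J (Type w) ⋙ (evaluation Cᵒᵖ (Type w)).obj (Opposite.op V)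
  have hcomm : f.hom.app (Opposite.op V) t = g.hom.app (Opposite.op V) (H.obj.map i.op s) := by
    rw [ht]
    exact (NatTrans.naturality_apply g.hom i.op s).symm
  have hw : (TypeCat.ofHom (fun _ : PUnit.{w+1} => t) ≫ E.map f) =
      (TypeCat.ofHom (fun _ : PUnit.{w+1} => H.obj.map i.op s) ≫ E.map g) := by
    ext x
    exact hcomm
  let l := Limits.pullback.lift (TypeCat.ofHom (fun _ : PUnit.{w+1} => t))
    (TypeCat.ofHom (fun _ : PUnit.{w+1} => H.obj.map i.op s)) hw
  refine ⟨(Limits.PreservesPullback.iso E f g).inv (l PUnit.unit), ?_⟩
  have h1 := ConcreteCategory.congr_hom (Limits.PreservesPullback.iso_inv_snd E f g) (l PUnit.unit)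
  have h2 := ConcreteCategory.congr_hom (Limits.pullback.lift_snd (TypeCat.ofHom (fun _ : PUnit.{w+1} => t))
    (TypeCat.ofHom (fun _ : PUnit.{w+1} => H.obj.map i.op s)) hw) PUnit.unit
  simp only [ConcreteCategory.comp_apply] at h1 h2
  exact h1.trans h2

end Groth.Agent.S18940
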