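import Groth.Statements.S18946
-- import your own Groth.Agent.* helpers here

set_option autoImplicit false
universe u
open scoped BigOperators
open InvQ

namespace Groth.Agent.S18946

/-- Let k be an algebraically closed field of characteristic zero and n a natural number, and let the
torus of (n+1)-tuples of units of k with product 1 act on the polynomial ring k[t_0, ..., t_n] by
rescaling each variable t_i by the i-th unit. A polynomial is fixed by every such rescaling if and
only if it lies in the k-subalgebra generated by the product t_0 t_1 ... t_n. (This is the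
computation of the ring of functions on affine (n+1)-space invariant under the maximal diagonal
torus of the special linear group, identified with the polynomial ring in the single coordinate t =
t_0 ... t_n of the line it maps to by the product map; invariance is tested on k-valued points of
the torus, which over an infinite field is the same as invariance under the group scheme.) -/
theorem result
    (k : Type u) [Field k] [IsAlgClosed k] [CharZero k] (n : ℕ)
    (f : MvPolynomial (Fin (n + 1)) k) :
    (∀ σ : Fin (n + 1) → kˣ, ∏ i, (σ i : k) = 1 →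
        MvPolynomial.aeval (fun i => MvPolynomial.C (σ i : k) * MvPolynomial.X i) f = f) ↔
      f ∈ Algebra.adjoin k ({∏ i : Fin (n + 1), MvPolynomial.X i} : Set (MvPolynomial (Fin (n + 1)) k)) := by
  classical
  have hmono : ∀ (σ : Fin (n + 1) → kˣ) (m : Fin (n + 1) →₀ ℕ) (c : k),
      MvPolynomial.aeval (fun i => MvPolynomial.C (σ i : k) * MvPolynomial.X i)
        (MvPolynomial.monomial m c) =
        MvPolynomial.monomial m (c * ∏ i, (σ i : k) ^ (m i)) := by
    intro σ m c
    rw [MvPolynomial.aeval_monomial, MvPolynomial.monomial_eq, MvPolynomial.algebraMap_eq,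
      Finsupp.prod_fintype, Finsupp.prod_fintype]
    · simp only [mul_pow, Finset.prod_mul_distrib, ← map_pow, ← map_prod, map_mul]
      ring
    · intro i; simp
    · intro i; simp
  have hcoeff : ∀ (σ : Fin (n + 1) → kˣ) (g : MvPolynomial (Fin (n + 1)) k)
      (m : Fin (n + 1) →₀ ℕ),
      (MvPolynomial.aeval (fun i => MvPolynomial.C (σ i : k) * MvPolynomial.X i) g).coeff m =
        g.coeff m * ∏ i, (σ i : k) ^ (m i) := by
    intro σ g m
    conv_lhs => rw [g.as_sum]
    rw [map_sum, MvPolynomial.coeff_sum]
    simp only [hmono, MvPolynomial.coeff_monomial]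
    rw [Finset.sum_eq_single m]
    · simp
    · intro b _ hb; simp [hb]
    · intro hm; simp [MvPolynomial.notMem_support_iff.mp hm]
  constructor
  · intro hf
    have hconst : ∀ m ∈ f.support, ∀ i j : Fin (n + 1), m i = m j := by
      intro m hm i j
      by_contra hij
      have hne : i ≠ j := by rintro rfl; exact hij rfl
      let u : kˣ := Units.mk0 (2 : k) two_ne_zero
      let σ : Fin (n + 1) → kˣ := Pi.mulSingle i u * Pi.mulSingle j u⁻¹
      have hσ1 : ∏ l, (σ l : k) = 1 := by
        rw [← Units.coe_prod]
        simp only [σ, Pi.mul_apply, Finset.prod_mul_distrib, Finset.prod_pi_mulSingle',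
          Finset.mem_univ, if_true, mul_inv_cancel, Units.val_one]
      have hfix := congrArg (fun g => MvPolynomial.coeff m g) (hf σ hσ1)
      simp only [hcoeff] at hfix
      have hc : f.coeff m ≠ 0 := MvPolynomial.mem_support_iff.mp hm
      have hprod : ∏ l, (σ l : k) ^ (m l) = 1 := by
        have := hfix
        calc ∏ l, (σ l : k) ^ (m l) = (f.coeff m)⁻¹ * (f.coeff m * ∏ l, (σ l : k) ^ (m l)) := by
              field_simp
          _ = 1 := by rw [this, inv_mul_cancel₀ hc]
      have hprod' : ((∏ l, σ l ^ (m l) : kˣ) : k) = (u : k) ^ (m i) * (u⁻¹ : kˣ) ^ (m j) := by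
        simp only [σ, Pi.mul_apply, mul_pow, Finset.prod_mul_distrib]
        rw [Finset.prod_eq_single i, Finset.prod_eq_single j]
        · simp [Pi.mulSingle_eq_same]
        · intro b _ hb; simp [Pi.mulSingle_eq_of_ne hb]
        · simp
        · intro b _ hb; simp [Pi.mulSingle_eq_of_ne hb]
        · simp
      have h2 : (2 : k) ^ (m i) = (2 : k) ^ (m j) := by
        rw [Units.coe_prod] at hprod'
        simp only [Units.val_pow_eq_pow_val] at hprod'
        rw [hprod] at hprod'
        have hu : (u : k) = 2 := rfl
        have hui : ((u⁻¹ : kˣ) : k) = 2⁻¹ := by simp [u]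
        rw [hu, hui, inv_pow] at hprod'
        have h2ne : (2 : k) ^ (m j) ≠ 0 := pow_ne_zero _ two_ne_zero
        field_simp at hprod'
        exact hprod'.symm
      have h3 : ((2 ^ (m i) : ℕ) : k) = ((2 ^ (m j) : ℕ) : k) := by push_cast; exact h2
      have h4 := Nat.cast_injective h3
      exact hij (Nat.pow_right_injective (le_refl 2) h4)
    rw [f.as_sum]
    refine Subalgebra.sum_mem _ (fun m hm => ?_)
    have hm' : ∀ i, m i = m 0 := fun i => hconst m hm i 0
    rw [MvPolynomial.monomial_eq, Finsupp.prod_fintype _ _ (fun i => pow_zero _)]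
    have : ∏ i, (MvPolynomial.X i : MvPolynomial (Fin (n + 1)) k) ^ (m i) =
        (∏ i : Fin (n + 1), MvPolynomial.X i) ^ (m 0) := by
      rw [← Finset.prod_pow]
      exact Finset.prod_congr rfl (fun i _ => by rw [hm' i])
    rw [this, ← MvPolynomial.algebraMap_eq]
    refine Subalgebra.mul_mem _ (Subalgebra.algebraMap_mem _ _) (Subalgebra.pow_mem _ ?_ _)
    exact Algebra.subset_adjoin (Set.mem_singleton _)
  · intro hf σ hσ
    have hP : MvPolynomial.aeval (fun i => MvPolynomial.C (σ i : k) * MvPolynomial.X i)
        (∏ i : Fin (n + 1), (MvPolynomial.X i : MvPolynomial (Fin (n + 1)) k)) =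
        ∏ i : Fin (n + 1), MvPolynomial.X i := by
      rw [map_prod]
      simp only [MvPolynomial.aeval_X]
      rw [Finset.prod_mul_distrib, ← map_prod, hσ, map_one, one_mul]
    have hle : Algebra.adjoin k ({∏ i : Fin (n + 1), MvPolynomial.X i} :
        Set (MvPolynomial (Fin (n + 1)) k)) ≤
        AlgHom.equalizer (MvPolynomial.aeval (fun i => MvPolynomial.C (σ i : k) * MvPolynomial.X i))
          (AlgHom.id k _) := by
      rw [Algebra.adjoin_le_iff, Set.singleton_subset_iff]
      exact hP
    exact hle hf

end Groth.Agent.S18946
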