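import Groth.Statements.S19216
import Mathlib.Tactic.FieldSimp
import Mathlib.Tactic.Ring
import Mathlib.Tactic.LinearCombination
import Mathlib.Algebra.BigOperators.Fin
import Mathlib.Algebra.BigOperators.Field
-- import your own Groth.Agent.* helpers here

set_option autoImplicit false
universe u
open SymRep

namespace Groth.Agent.S19216

/-- Let k be a field of characteristic zero and r, s ≥ 1. Realise the standard representation of the
symmetric group on a finite set T as the hyperplane of functions T → k with sum zero, the group
acting by precomposition with the inverse. Then the standard representation of the symmetric group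
of Fin r ⊕ Fin s, restricted to the subgroup S_r × S_s, is isomorphic to the direct sum of the
standard representations of S_r and of S_s and of a one-dimensional trivial representation: there is
a k-linear map E from functions on Fin r ⊕ Fin s to triples (function on Fin r, function on Fin s,
scalar), compatible with the actions of S_r × S_s (trivial on the scalar), which maps the sum-zero
hyperplane bijectively onto the product of the two sum-zero hyperplanes and k. (The published
statement is over the complex numbers; a field of characteristic zero is used here. The published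
statement also gives the analogous decomposition for any number of blocks, which follows by
induction; only the two-block case is stated here.) -/
theorem result (k : Type u) [Field k] [CharZero k]
    (r s : ℕ) (hr : 1 ≤ r) (hs : 1 ≤ s) :
    ∃ E : (Fin r ⊕ Fin s → k) →ₗ[k] (Fin r → k) × (Fin s → k) × k,
      (∀ (σ : Equiv.Perm (Fin r)) (τ : Equiv.Perm (Fin s)) (f : Fin r ⊕ Fin s → k),
        E (f ∘ ⇑(Equiv.sumCongr σ τ).symm) = ((E f).1 ∘ ⇑σ.symm, (E f).2.1 ∘ ⇑τ.symm, (E f).2.2)) ∧
      Set.BijOn E {f | ∑ i, f i = 0}
        ({g : Fin r → k | ∑ i, g i = 0} ×ˢ ({h : Fin s → k | ∑ i, h i = 0} ×ˢ Set.univ)) := by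
  have hr0 : (r : k) ≠ 0 := by exact_mod_cast (show r ≠ 0 by omega)
  have hs0 : (s : k) ≠ 0 := by exact_mod_cast (show s ≠ 0 by omega)
  have hrs0 : (r : k) + s ≠ 0 := by exact_mod_cast (show r + s ≠ 0 by omega)
  let m1 : (Fin r ⊕ Fin s → k) → k := fun f => (∑ i, f (Sum.inl i)) / r
  let m2 : (Fin r ⊕ Fin s → k) → k := fun f => (∑ j, f (Sum.inr j)) / s
  let E : (Fin r ⊕ Fin s → k) →ₗ[k] (Fin r → k) × (Fin s → k) × k :=
    { toFun := fun f => (fun i => f (Sum.inl i) - m1 f, fun j => f (Sum.inr j) - m2 f, m1 f - m2 f)
      map_add' := by
        intro f g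
        simp only [m1, m2, Pi.add_apply, Finset.sum_add_distrib, Prod.mk_add_mk, Prod.mk.injEq]
        refine ⟨?_, ?_, ?_⟩
        · funext i; simp only [Pi.add_apply]; ring
        · funext j; simp only [Pi.add_apply]; ring
        · ring
      map_smul' := by
        intro c f
        simp only [m1, m2, Pi.smul_apply, smul_eq_mul, ← Finset.mul_sum, RingHom.id_apply,
          Prod.smul_mk, Prod.mk.injEq]
        refine ⟨?_, ?_, ?_⟩
        · funext i; simp only [Pi.smul_apply, smul_eq_mul]; ring
        · funext j; simp only [Pi.smul_apply, smul_eq_mul]; ring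
        · ring }
  have hE : ∀ f, E f = (fun i => f (Sum.inl i) - m1 f, fun j => f (Sum.inr j) - m2 f, m1 f - m2 f) :=
    fun f => rfl
  have hsum : ∀ f : Fin r ⊕ Fin s → k, ∑ i, f i = r * m1 f + s * m2 f := by
    intro f
    rw [Fintype.sum_sum_type]
    simp only [m1, m2]
    field_simp
  refine ⟨E, ?_, ?_, ?_, ?_⟩
  · intro σ τ f
    have h1 : m1 (f ∘ ⇑(Equiv.sumCongr σ τ).symm) = m1 f := by
      simp only [m1, Function.comp_apply, Equiv.sumCongr_symm, Equiv.sumCongr_apply, Sum.map_inl]
      congr 1
      exact Equiv.sum_comp σ.symm (fun i => f (Sum.inl i))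
    have h2 : m2 (f ∘ ⇑(Equiv.sumCongr σ τ).symm) = m2 f := by
      simp only [m2, Function.comp_apply, Equiv.sumCongr_symm, Equiv.sumCongr_apply, Sum.map_inr]
      congr 1
      exact Equiv.sum_comp τ.symm (fun j => f (Sum.inr j))
    rw [hE, hE, h1, h2]
    simp only [Function.comp_apply, Equiv.sumCongr_symm, Equiv.sumCongr_apply, Sum.map_inl,
      Sum.map_inr]
    rfl
  · intro f hf
    simp only [Set.mem_ofPred_eq] at hf
    rw [hE]
    refine ⟨?_, ?_, Set.mem_univ _⟩
    · show ∑ i, (f (Sum.inl i) - m1 f) = 0
      rw [Finset.sum_sub_distrib, Finset.sum_const, Finset.card_univ, Fintype.card_fin, nsmul_eq_mul]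
      simp only [m1]
      field_simp
      ring
    · show ∑ j, (f (Sum.inr j) - m2 f) = 0
      rw [Finset.sum_sub_distrib, Finset.sum_const, Finset.card_univ, Fintype.card_fin, nsmul_eq_mul]
      simp only [m2]
      field_simp
      ring
  · intro f hf f' hf' heq
    simp only [Set.mem_ofPred_eq] at hf hf'
    rw [hE, hE] at heq
    simp only [Prod.mk.injEq] at heq
    obtain ⟨e1, e2, e3⟩ := heq
    have s1 := hsum f
    have s2 := hsum f'
    rw [hf] at s1
    rw [hf'] at s2
    have d1 : m1 f = m1 f' := by
      have : ((r : k) + s) * (m1 f - m1 f') = 0 := by linear_combination s2 - s1 + (s : k) * e3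
      rcases mul_eq_zero.mp this with h | h
      · exact absurd h hrs0
      · exact sub_eq_zero.mp h
    have d2 : m2 f = m2 f' := by linear_combination -e3 + d1
    funext x
    cases x with
    | inl i =>
      have := congrFun e1 i
      rw [d1] at this
      linear_combination this
    | inr j =>
      have := congrFun e2 j
      rw [d2] at this
      linear_combination this
  · rintro ⟨g, h, c⟩ ⟨hg, hh, -⟩
    simp only [Set.mem_ofPred_eq] at hg hh
    let a : k := s * c / (r + s)
    let b : k := r * c / (r + s)
    let f : Fin r ⊕ Fin s → k := Sum.elim (fun i => g i + a) (fun j => h j - b)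
    have hm1 : m1 f = a := by
      simp only [m1, f, Sum.elim_inl, Finset.sum_add_distrib, hg, Finset.sum_const,
        Finset.card_univ, Fintype.card_fin, nsmul_eq_mul, zero_add]
      field_simp
    have hm2 : m2 f = -b := by
      simp only [m2, f, Sum.elim_inr, Finset.sum_sub_distrib, hh, Finset.sum_const,
        Finset.card_univ, Fintype.card_fin, nsmul_eq_mul, zero_sub]
      field_simp
    refine ⟨f, ?_, ?_⟩
    · simp only [Set.mem_ofPred_eq]
      rw [hsum, hm1, hm2]
      simp only [a, b]
      field_simp
      ring
    · rw [hE, hm1, hm2]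
      simp only [f, Sum.elim_inl, Sum.elim_inr, Prod.mk.injEq]
      refine ⟨?_, ?_, ?_⟩
      · funext i; ring
      · funext j; ring
      · simp only [a, b]
        field_simp
        ring

end Groth.Agent.S19216
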