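import Groth.Statements.S19229
import Mathlib.LinearAlgebra.FiniteDimensional.Lemmas
import Mathlib.LinearAlgebra.Dimension.OrzechProperty
import Mathlib.LinearAlgebra.Dimension.StrongRankCondition
import Mathlib.LinearAlgebra.FreeModule.StrongRankCondition
-- import your own Groth.Agent.* helpers here

set_option autoImplicit false
universe u v
open SigmaLin

namespace Groth.Agent.S19229

/-- Let k be a field with a ring endomorphism σ, V a finite-dimensional k-vector space and T : V → V an
additive map with T (c • v) = σ c • T v. If some iterate of T sends v to 0 and v lies in the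
k-linear span of the image of every iterate of T, then v = 0. In other words the union of the
kernels of the iterates of T and the intersection of the spans of their images meet only in 0. -/
theorem result
    (k : Type u) [Field k] (σ : k →+* k)
    (V : Type v) [AddCommGroup V] [Module k V] [FiniteDimensional k V] (T : V →ₛₗ[σ] V) (v : V)
    (hnil : ∃ n : ℕ, (⇑T)^[n] v = 0)
    (hss : ∀ n : ℕ, v ∈ Submodule.span k (Set.range ((⇑T)^[n]))) : v = 0 := by
  classical
  set W : ℕ → Submodule k V := fun m => Submodule.span k (Set.range ((⇑T)^[m])) with hWdef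
  -- T maps W m into W (m+1)
  have hTW : ∀ m, ∀ x ∈ W m, T x ∈ W (m + 1) := by
    intro m x hx
    induction hx using Submodule.span_induction with
    | mem x h =>
      obtain ⟨y, rfl⟩ := h
      apply Submodule.subset_span
      exact ⟨y, by rw [Function.iterate_succ_apply']⟩
    | zero => rw [map_zero]; exact Submodule.zero_mem _
    | add x y _ _ hx hy => rw [map_add]; exact Submodule.add_mem _ hx hy
    | smul a x _ hx => rw [LinearMap.map_smulₛₗ]; exact Submodule.smul_mem _ _ hx
  -- antitone
  have hanti : ∀ m, W (m + 1) ≤ W m := by
    intro m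
    apply Submodule.span_mono
    rintro _ ⟨y, rfl⟩
    exact ⟨T y, by rw [Function.iterate_succ_apply]⟩
  -- stabilization
  have hstab : ∃ N, W (N + 1) = W N := by
    by_contra hcon
    push Not at hcon
    have hlt : ∀ m, Module.finrank k (W (m + 1)) < Module.finrank k (W m) := fun m =>
      Submodule.finrank_lt_finrank_of_lt (lt_of_le_of_ne (hanti m) (hcon m))
    have hind : ∀ n, Module.finrank k (W n) + n ≤ Module.finrank k (W 0) := by
      intro n
      induction n with
      | zero => simp
      | succ n ih => have := hlt n; omega
    have h1 := hind (Module.finrank k V + 1)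
    have h2 := Submodule.finrank_le (W 0)
    omega
  obtain ⟨N, hN⟩ := hstab
  set U := W N with hU
  have hTU : ∀ x ∈ U, T x ∈ U := fun x hx => hN ▸ hTW N x hx
  -- a basis of U, viewed in V
  let b := Module.finBasis k U
  let e : Fin (Module.finrank k U) → V := fun i => (b i : V)
  have he : ∀ i, e i ∈ U := fun i => (b i).2
  have hxrepr : ∀ x ∈ U, ∃ c : Fin (Module.finrank k U) → k, x = ∑ i, c i • e i := by
    intro x hx
    refine ⟨fun i => b.repr ⟨x, hx⟩ i, ?_⟩
    have := b.sum_repr ⟨x, hx⟩
    have := congrArg (fun z : U => (z : V)) this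
    simp only [Submodule.coe_sum, Submodule.coe_smul] at this
    exact this.symm
  have hspanT : Submodule.span k (Set.range (fun i => T (e i))) = U := by
    apply le_antisymm
    · rw [Submodule.span_le]
      rintro _ ⟨i, rfl⟩
      exact hTU _ (he i)
    · intro x hx
      have hx' : x ∈ W (N + 1) := hN.symm ▸ hx
      refine (Submodule.span_le.mpr ?_) hx'
      rintro _ ⟨y, rfl⟩
      rw [Function.iterate_succ_apply']
      have hy : (⇑T)^[N] y ∈ U := Submodule.subset_span ⟨y, rfl⟩
      obtain ⟨c, hc⟩ := hxrepr _ hy
      rw [hc, map_sum]
      apply Submodule.sum_mem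
      intro i _
      rw [LinearMap.map_smulₛₗ]
      exact Submodule.smul_mem _ _ (Submodule.subset_span ⟨i, rfl⟩)
  have hli : LinearIndependent k (fun i => T (e i)) := by
    rw [linearIndependent_iff_card_eq_finrank_span]
    show Fintype.card _ = Module.finrank k (Submodule.span k _)
    rw [hspanT, Fintype.card_fin]
  have hinj : ∀ x ∈ U, T x = 0 → x = 0 := by
    intro x hx hTx
    obtain ⟨c, rfl⟩ := hxrepr x hx
    rw [map_sum] at hTx
    simp only [LinearMap.map_smulₛₗ] at hTx
    have hc := Fintype.linearIndependent_iff.mp hli (fun i => σ (c i)) hTx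
    have hc0 : ∀ i, c i = 0 := fun i => by
      have := hc i
      exact (map_eq_zero_iff σ σ.injective).mp this
    simp [hc0]
  have hvU : v ∈ U := hss N
  obtain ⟨n, hn⟩ := hnil
  have key : ∀ n, ∀ x ∈ U, (⇑T)^[n] x = 0 → x = 0 := by
    intro n
    induction n with
    | zero => intro x _ h; simpa using h
    | succ n ih =>
      intro x hx h
      rw [Function.iterate_succ_apply] at h
      exact hinj x hx (ih (T x) (hTU x hx) h)
  exact key n v hvU hn

end Groth.Agent.S19229
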