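import Groth.Statements.S19338
-- import your own Groth.Agent.* helpers here

set_option autoImplicit false
universe w v u
open CategoryTheory
open ModPair

namespace Groth.Agent.S19338

/-- Let C be a category and S a class of morphisms which contains the identities, is closed under
composition, admits a right calculus of fractions, and consists of monomorphisms. Then the sieves
containing a morphism of S are the covering sieves of a Grothendieck topology on C, and for every
such topology J a presheaf of types F on C is a J-sheaf if and only if it is S-local, i.e. F sends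
every morphism of S to a bijection. -/
theorem result {C : Type u} [Category.{v} C]
    (S : MorphismProperty C) [S.HasRightCalculusOfFractions]
    (hmono : ∀ ⦃X Y : C⦄ (s : X ⟶ Y), S s → Mono s) :
    (∃ J : GrothendieckTopology C, ∀ (X : C) (T : Sieve X),
        T ∈ J X ↔ ∃ (Y : C) (s : Y ⟶ X), S s ∧ T s) ∧
      ∀ J : GrothendieckTopology C, (∀ (X : C) (T : Sieve X),
          T ∈ J X ↔ ∃ (Y : C) (s : Y ⟶ X), S s ∧ T s) →
        ∀ F : Cᵒᵖ ⥤ Type w,
          Presheaf.IsSheaf J F ↔ ∀ ⦃X Y : C⦄ (s : X ⟶ Y), S s → IsIso (F.map s.op) := by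
  classical
  have hid : ∀ X : C, S (𝟙 X) := fun X => S.id_mem X
  have ore : ∀ {X Y Z : C} (s : Y ⟶ X) (_ : S s) (g : Z ⟶ X),
      ∃ (Z' : C) (t : Z' ⟶ Z) (_ : S t) (h : Z' ⟶ Y), t ≫ g = h ≫ s := by
    intro X Y Z s hs g
    obtain ⟨ψ, hψ⟩ := MorphismProperty.HasRightCalculusOfFractions.exists_rightFraction
      (W := S) (MorphismProperty.LeftFraction.mk g s hs)
    exact ⟨_, ψ.s, ψ.hs, ψ.f, hψ⟩
  refine ⟨⟨{ sieves := fun X => {T | ∃ (Y : C) (s : Y ⟶ X), S s ∧ T s}
             top_mem' := fun X => ⟨X, 𝟙 X, hid X, trivial⟩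
             pullback_stable' := ?_
             transitive' := ?_ }, fun X T => Iff.rfl⟩, ?_⟩
  · rintro X Z T f ⟨Y, s, hs, hT⟩
    obtain ⟨Z', t, ht, h, hth⟩ := ore s hs f
    refine ⟨Z', t, ht, ?_⟩
    show T (t ≫ f)
    rw [hth]; exact T.downward_closed hT h
  · rintro X T ⟨Y, s, hs, hT⟩ R hR
    obtain ⟨Z, t, ht, hR'⟩ := hR hT
    exact ⟨Z, t ≫ s, S.comp_mem _ _ ht hs, hR'⟩
  · intro J hJ F
    rw [isSheaf_iff_isSheaf_of_type]
    constructor
    · intro hF X Y s hs
      rw [isIso_iff_bijective]
      have hcov : Sieve.generate (Presieve.singleton s) ∈ J Y :=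
        (hJ _ _).mpr ⟨X, s, hs, Sieve.le_generate _ _ _ (Presieve.singleton_self s)⟩
      have hsh := hF _ hcov
      rw [← Presieve.isSheafFor_iff_generate, Presieve.isSheafFor_singleton] at hsh
      have hm := hmono s hs
      rw [Function.bijective_iff_existsUnique]
      intro x
      exact hsh x (fun p₁ p₂ hp => by rw [cancel_mono] at hp; rw [hp])
    · intro hF X T hT
      obtain ⟨Y, s, hs, hTs⟩ := (hJ X T).mp hT
      intro x hx
      have hbij := (isIso_iff_bijective _).mp (hF s hs)
      obtain ⟨a, ha⟩ := hbij.2 (x s hTs)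
      refine ⟨a, ?_, ?_⟩
      · intro Z g hg
        obtain ⟨Z', t, ht, h, hth⟩ := ore s hs g
        have hinj := ((isIso_iff_bijective _).mp (hF t ht)).1
        apply hinj
        have e1 : F.map t.op (F.map g.op a) = F.map h.op (F.map s.op a) := by
          rw [← FunctorToTypes.map_comp_apply, ← FunctorToTypes.map_comp_apply, ← op_comp,
            ← op_comp, hth]
        rw [e1, ha]
        exact hx h t hTs hg hth.symm
      · intro b hb
        apply hbij.1
        rw [ha, hb s hTs]

end Groth.Agent.S19338
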