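import Groth.Statements.S19340
-- import your own Groth.Agent.* helpers here

set_option autoImplicit false
universe v v' u u'
open CategoryTheory
open ModPair

namespace Groth.Agent.S19340

/-- Let C be a category, S a class of morphisms of C containing the identities, closed under composition
and admitting a right calculus of fractions, and L : C ⥤ D a localization functor for S. Then for
every object X of C the comma category of L under X, whose objects are pairs (Y, L(X) ⟶ L(Y)) and
whose morphisms are morphisms Y ⟶ Y' of C compatible with the structure maps, is cofiltered. The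
published statement calls this category filtered; its proof verifies, and this row states,
cofilteredness. -/
theorem result {C : Type u}
    [Category.{v} C] {D : Type u'} [Category.{v'} D] (S : MorphismProperty C)
    [S.HasRightCalculusOfFractions] (L : C ⥤ D) [L.IsLocalization S] (X : C) :
    IsCofiltered (StructuredArrow (L.obj X) L) := by
  have hinv : S.IsInvertedBy L := Localization.inverts L S
  -- the canonical object attached to a morphism `u : X' ⟶ X` in `S`
  have key : ∀ {X' : C} (u : X' ⟶ X) (hu : S u) (A : StructuredArrow (L.obj X) L)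
      (g : X' ⟶ A.right), L.map g = L.map u ≫ A.hom →
      ∃ h : (haveI := hinv u hu; StructuredArrow.mk (inv (L.map u)) ⟶ A), h.right = g := by
    intro X' u hu A g hg
    haveI := hinv u hu
    refine ⟨StructuredArrow.homMk g ?_, rfl⟩
    simp only [StructuredArrow.mk_hom_eq_self]
    rw [IsIso.inv_comp_eq]
    exact hg
  refine { cone_objs := ?_, cone_maps := ?_, nonempty := ⟨StructuredArrow.mk (𝟙 (L.obj X))⟩ }
  · intro A B
    obtain ⟨ψ1, h1⟩ := Localization.exists_rightFraction L S A.hom
    obtain ⟨ψ2, h2⟩ := Localization.exists_rightFraction L S B.hom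
    obtain ⟨ψ, hψ⟩ := MorphismProperty.HasRightCalculusOfFractions.exists_rightFraction
      (W := S) (MorphismProperty.LeftFraction.mk ψ1.s ψ2.s ψ2.hs)
    dsimp at hψ
    have hu : S (ψ.s ≫ ψ1.s) := S.comp_mem _ _ ψ.hs ψ1.hs
    haveI := hinv _ hu
    obtain ⟨hA, -⟩ := key (ψ.s ≫ ψ1.s) hu A (ψ.s ≫ ψ1.f) (by
      rw [h1, L.map_comp, L.map_comp, Category.assoc, MorphismProperty.RightFraction.map_s_comp_map])
    obtain ⟨hB, -⟩ := key (ψ.s ≫ ψ1.s) hu B (ψ.f ≫ ψ2.f) (by
      rw [h2, hψ, L.map_comp, L.map_comp, Category.assoc, MorphismProperty.RightFraction.map_s_comp_map])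
    exact ⟨_, hA, hB, trivial⟩
  · intro A B g g'
    obtain ⟨ψ, hψ⟩ := Localization.exists_rightFraction L S A.hom
    have heq : L.map (ψ.f ≫ g.right) = L.map (ψ.f ≫ g'.right) := by
      have e1 := StructuredArrow.w g
      have e2 := StructuredArrow.w g'
      rw [L.map_comp, L.map_comp, ← MorphismProperty.RightFraction.map_s_comp_map ψ L hinv,
        Category.assoc, Category.assoc, ← hψ, e1, e2]
    obtain ⟨X2, t, ht, htt⟩ := (MorphismProperty.map_eq_iff_precomp L S _ _).mp heq
    have hu : S (t ≫ ψ.s) := S.comp_mem _ _ ht ψ.hs
    obtain ⟨h, hh⟩ := key (t ≫ ψ.s) hu A (t ≫ ψ.f) (by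
      rw [hψ, L.map_comp, L.map_comp, Category.assoc, MorphismProperty.RightFraction.map_s_comp_map])
    refine ⟨_, h, ?_⟩
    apply StructuredArrow.ext
    simp only [StructuredArrow.comp_right, hh]
    simpa only [Category.assoc] using htt

end Groth.Agent.S19340
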