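import Groth.Statements.S19422
import Mathlib.RingTheory.MvPolynomial.Homogeneous
import Mathlib.Algebra.Polynomial.Laurent
import Mathlib.RingTheory.TensorProduct.Basic

set_option autoImplicit false
universe u
open TensorProduct LaurentPolynomial
open GIT

namespace Groth.Agent.S19422

theorem result (k : Type u) [Field k] [IsAlgClosed k]
    (ι : Type u) [Fintype ι] [HopfRep.Comod k k[T;T⁻¹] (MvPolynomial ι k)] [GLin.IsCoactAlg k k[T;T⁻¹] (MvPolynomial ι k)]
    (r : ι → ℤ)
    (hr : ∀ i : ι, HopfRep.Comod.coact (k := k) (A := k[T;T⁻¹]) (MvPolynomial.X i : MvPolynomial ι k) =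
      (MvPolynomial.X i : MvPolynomial ι k) ⊗ₜ[k] (T (r i) : k[T;T⁻¹]))
    (v : ι → k) :
    GLin.IsSemistableVec k k[T;T⁻¹] v ↔ ∃ i j : ι, v i ≠ 0 ∧ v j ≠ 0 ∧ r i ≤ 0 ∧ 0 ≤ r j := by
  classical
  let ρ := GLin.coactAlgHom k k[T;T⁻¹] (MvPolynomial ι k)
  have hρX : ∀ i, ρ (MvPolynomial.X i) = (MvPolynomial.X i : MvPolynomial ι k) ⊗ₜ[k] T (r i) := by
    intro i; rw [GLin.coactAlgHom_apply]; exact hr i
  let w : (ι →₀ ℕ) → ℤ := fun m => ∑ i, (m i : ℤ) * r i
  have hmono : ∀ (m : ι →₀ ℕ) (c : k),
      ρ (MvPolynomial.monomial m c) = MvPolynomial.monomial m c ⊗ₜ[k] T (w m) := by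
    intro m
    induction m using Finsupp.induction with
    | zero =>
      intro c
      have hw : w 0 = 0 := by simp [w]
      rw [hw, T_zero, ← MvPolynomial.C_apply, ← MvPolynomial.algebraMap_eq, AlgHom.commutes,
        Algebra.TensorProduct.algebraMap_apply]
    | single_add i e m hi he ih =>
      intro c
      rw [MvPolynomial.monomial_single_add, map_mul, map_pow, hρX, ih,
        Algebra.TensorProduct.tmul_pow, Algebra.TensorProduct.tmul_mul_tmul, T_pow, ← T_add]
      congr 2
      simp only [w, Finsupp.add_apply, Nat.cast_add, add_mul, Finset.sum_add_distrib]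
      congr 1
      rw [Finset.sum_eq_single i]
      · simp
      · intro j _ hj; simp [Ne.symm hj]
      · simp
  constructor
  · intro hss
    by_contra hno
    apply hss
    have hsign : (∀ i, v i ≠ 0 → 0 < r i) ∨ (∀ i, v i ≠ 0 → r i < 0) := by
      by_contra hc
      rw [not_or] at hc
      obtain ⟨h1, h2⟩ := hc
      simp only [not_forall, not_lt] at h1 h2
      obtain ⟨i, hi, hri⟩ := h1
      obtain ⟨j, hj, hrj⟩ := h2
      exact hno ⟨i, j, hi, hj, hri, hrj⟩
    intro F hF d hd hFh
    -- weights of the monomials of an invariant polynomial vanish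
    have hwt : ∀ m ∈ F.support, w m = 0 := by
      intro m hm
      have hFinv : ρ F = F ⊗ₜ[k] (1 : k[T;T⁻¹]) := hF
      let Λ : MvPolynomial ι k ⊗[k] k[T;T⁻¹] →ₗ[k] k[T;T⁻¹] :=
        (TensorProduct.lid k k[T;T⁻¹]).toLinearMap ∘ₗ (MvPolynomial.lcoeff k m).rTensor k[T;T⁻¹]
      have hΛ : ∀ (p : MvPolynomial ι k) (q : k[T;T⁻¹]), Λ (p ⊗ₜ[k] q) = p.coeff m • q := by
        intro p q; rfl
      have h1 := congrArg Λ hFinv
      conv_lhs at h1 => rw [F.as_sum, map_sum, map_sum]
      simp only [hmono, hΛ, MvPolynomial.coeff_monomial] at h1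
      rw [Finset.sum_eq_single m] at h1
      · rw [if_pos rfl] at h1
        have hc : F.coeff m ≠ 0 := MvPolynomial.mem_support_iff.mp hm
        have h2 : T (w m) = (T 0 : k[T;T⁻¹]) := by
          rw [T_zero]
          exact smul_right_injective _ hc h1
        have h3 := congrArg (fun q : k[T;T⁻¹] => q.coeff (w m)) h2
        simp only [T_apply] at h3
        by_contra hne
        rw [if_neg (Ne.symm hne)] at h3
        exact one_ne_zero h3
      · intro b _ hb
        rw [if_neg hb, zero_smul]
      · intro hm'; exact absurd hm hm'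
    rw [MvPolynomial.eval_eq']
    apply Finset.sum_eq_zero
    intro m hm
    have hdeg := hFh.degree_eq_sum_deg_support hm
    by_cases hprod : ∏ i, v i ^ m i = 0
    · rw [hprod, mul_zero]
    · exfalso
      have hv : ∀ i, 0 < m i → v i ≠ 0 := by
        intro i hi hvi
        apply hprod
        exact Finset.prod_eq_zero (Finset.mem_univ i) (by rw [hvi]; exact zero_pow (by omega))
      obtain ⟨i0, hi0⟩ : ∃ i, 0 < m i := by
        by_contra hall
        simp only [not_exists, not_lt, Nat.le_zero] at hall
        have : ∑ i ∈ m.support, m i = 0 := Finset.sum_eq_zero (fun i _ => hall i)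
        omega
      have hw0 := hwt m hm
      rcases hsign with hpos | hneg
      · have : 0 < w m := by
          apply Finset.sum_pos' 
          · intro i _
            rcases Nat.eq_zero_or_pos (m i) with h | h
            · simp [h]
            · exact le_of_lt (mul_pos (by exact_mod_cast h) (hpos i (hv i h)))
          · exact ⟨i0, Finset.mem_univ _, mul_pos (by exact_mod_cast hi0) (hpos i0 (hv i0 hi0))⟩
        omega
      · have : w m < 0 := by
          apply Finset.sum_neg'
          · intro i _
            rcases Nat.eq_zero_or_pos (m i) with h | h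
            · simp [h]
            · exact le_of_lt (mul_neg_of_pos_of_neg (by exact_mod_cast h) (hneg i (hv i h)))
          · exact ⟨i0, Finset.mem_univ _,
              mul_neg_of_pos_of_neg (by exact_mod_cast hi0) (hneg i0 (hv i0 hi0))⟩
        omega
  · rintro ⟨i, j, hvi, hvj, hri, hrj⟩ hnull
    by_cases hi0 : r i = 0
    · have := hnull (MvPolynomial.X i) (by
        show ρ (MvPolynomial.X i) = _
        rw [hρX, hi0, T_zero]) 1 one_pos (MvPolynomial.isHomogeneous_X k i)
      rw [MvPolynomial.eval_X] at this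
      exact hvi this
    by_cases hj0 : r j = 0
    · have := hnull (MvPolynomial.X j) (by
        show ρ (MvPolynomial.X j) = _
        rw [hρX, hj0, T_zero]) 1 one_pos (MvPolynomial.isHomogeneous_X k j)
      rw [MvPolynomial.eval_X] at this
      exact hvj this
    have hri' : r i < 0 := lt_of_le_of_ne hri hi0
    have hrj' : 0 < r j := lt_of_le_of_ne hrj (Ne.symm hj0)
    let a := (r j).toNat
    let b := (-r i).toNat
    have ha : (a : ℤ) = r j := Int.toNat_of_nonneg hrj
    have hb : (b : ℤ) = -r i := Int.toNat_of_nonneg (by omega)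
    have := hnull (MvPolynomial.X i ^ a * MvPolynomial.X j ^ b) (by
        show ρ (MvPolynomial.X i ^ a * MvPolynomial.X j ^ b) = _
        rw [map_mul, map_pow, map_pow, hρX, hρX, Algebra.TensorProduct.tmul_pow,
          Algebra.TensorProduct.tmul_pow, Algebra.TensorProduct.tmul_mul_tmul, T_pow, T_pow,
          ← T_add]
        congr 1
        rw [← T_zero]
        congr 1
        rw [ha, hb]
        ring) (a + b) (by omega)
        ((MvPolynomial.isHomogeneous_X_pow i a).mul (MvPolynomial.isHomogeneous_X_pow j b))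
    rw [map_mul, map_pow, map_pow, MvPolynomial.eval_X, MvPolynomial.eval_X] at this
    exact mul_ne_zero (pow_ne_zero _ hvi) (pow_ne_zero _ hvj) this

end Groth.Agent.S19422
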