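import Groth.Statements.S19512

set_option autoImplicit false
universe u
open AlgebraicGeometry CategoryTheory

namespace Groth.Agent.S19512

theorem surj_aux (k : Type u) [Field k] (X Y : Scheme.{u})
    [X.Over (Spec (CommRingCat.of k))] [Y.Over (Spec (CommRingCat.of k))] [IsProper (X ↘ Spec (CommRingCat.of k))] [IsProper (Y ↘ Spec (CommRingCat.of k))]
    (f : X ⟶ Y) (hf : f ≫ (Y ↘ Spec (CommRingCat.of k)) = X ↘ Spec (CommRingCat.of k)) (hfib : ∀ V : Y.Opens, IsIso (f.app V)) :
    Function.Surjective f := by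
  have hp : IsProper f := by
    have : IsProper (f ≫ (Y ↘ Spec (CommRingCat.of k))) := by rw [hf]; infer_instance
    exact IsProper.of_comp f (Y ↘ Spec (CommRingCat.of k))
  by_contra hns
  have hcl : IsClosed (Set.range f) := f.isClosedMap.isClosed_range
  let V : Y.Opens := ⟨(Set.range f)ᶜ, hcl.isOpen_compl⟩
  have hV : f ⁻¹ᵁ V = ⊥ := by
    ext x
    simp [V]
  have hne : Nonempty V := by
    obtain ⟨y, hy⟩ : ∃ y, y ∉ Set.range f := by
      by_contra h
      push Not at h
      exact hns (fun y => h y)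
    exact ⟨⟨y, hy⟩⟩
  have hsub : Subsingleton Γ(X, f ⁻¹ᵁ V) := by rw [hV]; infer_instance
  have hinj : Function.Injective (f.app V) :=
    (ConcreteCategory.bijective_of_isIso (f.app V)).1
  have hsubY : Subsingleton Γ(Y, V) := hinj.subsingleton
  have hnt : Nontrivial Γ(Y, V) := Scheme.component_nontrivial Y V
  exact not_subsingleton Γ(Y, V) hsubY

theorem result (k : Type u) [Field k] (X Y : Scheme.{u})
    [X.Over (Spec (CommRingCat.of k))] [Y.Over (Spec (CommRingCat.of k))] [IsProper (X ↘ Spec (CommRingCat.of k))] [IsProper (Y ↘ Spec (CommRingCat.of k))]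
    (f : X ⟶ Y) (hf : f ≫ (Y ↘ Spec (CommRingCat.of k)) = X ↘ Spec (CommRingCat.of k)) (hfib : ∀ V : Y.Opens, IsIso (f.app V))
    [AlgebraicGeometry.IsIntegral X] : AlgebraicGeometry.IsIntegral Y := by
  have hs := surj_aux k X Y f hf hfib
  have hY : Nonempty Y := by
    obtain ⟨x⟩ := (inferInstance : Nonempty X)
    exact ⟨f x⟩
  refine { nonempty := hY, component_integral := ?_ }
  intro V hV
  obtain ⟨⟨y, hy⟩⟩ := hV
  obtain ⟨x, rfl⟩ := hs y
  have : Nonempty (f ⁻¹ᵁ V) := ⟨⟨x, hy⟩⟩
  have hinj : Function.Injective (f.app V) :=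
    (ConcreteCategory.bijective_of_isIso (f.app V)).1
  exact Function.Injective.isDomain (f.app V).hom hinj

end Groth.Agent.S19512
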