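import Groth.Statements.S19522
import Mathlib.Algebra.Polynomial.Coeff
import Mathlib.RingTheory.TensorProduct.Basic

set_option autoImplicit false
universe u
open TensorProduct

namespace Groth.Agent.S19522

theorem result (k : Type u) [Field k]
    (A : Type u) [CommRing A] [Bialgebra k A]
    (R : Type u) [CommRing R] [Algebra k R] [HopfRep.Comod k A R] [GLin.IsCoactAlg k A R]
    [HopfRep.Comod k A (Polynomial R)] [GLin.IsCoactAlg k A (Polynomial R)]
    (χ χ' : A) (hχ : CoalgebraStruct.comul (R := k) (A := A) χ = χ ⊗ₜ[k] χ)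
    (hχε : CoalgebraStruct.counit (R := k) (A := A) χ = 1) (hχχ' : χ * χ' = 1)
    (hC : ∀ r : R, HopfRep.Comod.coact (k := k) (A := A) (Polynomial.C r) =
      Algebra.TensorProduct.map (Polynomial.CAlgHom : R →ₐ[k] Polynomial R) (AlgHom.id k A)
        (HopfRep.Comod.coact (k := k) (A := A) r))
    (hX : HopfRep.Comod.coact (k := k) (A := A) (Polynomial.X : Polynomial R) = Polynomial.X ⊗ₜ[k] χ')
    (g : Polynomial R) :
    g ∈ GLin.invariants k A (Polynomial R) ↔
      ∀ r : ℕ, g.coeff r ∈ HopfRep.eigenspace k A R (χ ^ r) := by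
  let M := Algebra.TensorProduct.map (Polynomial.CAlgHom : R →ₐ[k] Polynomial R) (AlgHom.id k A)
  have hmon : ∀ (a : R) (n : ℕ),
      HopfRep.Comod.coact (k := k) (A := A) (Polynomial.C a * Polynomial.X ^ n) =
        M (HopfRep.Comod.coact (k := k) (A := A) a) * (((Polynomial.X : Polynomial R) ^ n) ⊗ₜ[k] (χ' ^ n)) := by
    intro a n
    rw [← GLin.coactAlgHom_apply, map_mul, map_pow, GLin.coactAlgHom_apply,
      GLin.coactAlgHom_apply, hC, hX, Algebra.TensorProduct.tmul_pow]
  have hsum : HopfRep.Comod.coact (k := k) (A := A) g =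
      ∑ n ∈ g.support, M (HopfRep.Comod.coact (k := k) (A := A) (g.coeff n)) *
        (((Polynomial.X : Polynomial R) ^ n) ⊗ₜ[k] (χ' ^ n)) := by
    conv_lhs => rw [g.as_sum_support_C_mul_X_pow]
    rw [map_sum]
    exact Finset.sum_congr rfl (fun n _ => hmon _ n)
  -- coefficient extraction
  let L : ℕ → (Polynomial R ⊗[k] A →ₗ[k] R ⊗[k] A) := fun r =>
    ((Polynomial.lcoeff R r).restrictScalars k).rTensor A
  have hL1 : ∀ (r : ℕ) (p : Polynomial R) (c : A), L r (p ⊗ₜ[k] c) = p.coeff r ⊗ₜ[k] c := by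
    intro r p c; rfl
  have hLM : ∀ (r n : ℕ) (t : R ⊗[k] A) (c : A),
      L r (M t * (((Polynomial.X : Polynomial R) ^ n) ⊗ₜ[k] c)) = if n = r then t * ((1 : R) ⊗ₜ[k] c) else 0 := by
    intro r n t c
    induction t using TensorProduct.induction_on with
    | zero => simp
    | tmul a b =>
      simp only [M, Algebra.TensorProduct.map_tmul, AlgHom.id_apply,
        Algebra.TensorProduct.tmul_mul_tmul, hL1, Polynomial.CAlgHom_apply, mul_one]
      rw [Polynomial.coeff_C_mul_X_pow]
      split_ifs with h1 h2 h2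
      · rfl
      · exact absurd h1.symm h2
      · exact absurd h2.symm h1
      · exact TensorProduct.zero_tmul _ _
    | add x y hx hy =>
      rw [map_add, add_mul, map_add, hx, hy, add_mul]
      split_ifs <;> simp
  constructor
  · intro hg r
    have hg' : HopfRep.Comod.coact (k := k) (A := A) g = g ⊗ₜ[k] (1 : A) := hg
    have h1 := congrArg (L r) hg'
    rw [hsum, map_sum, hL1] at h1
    simp only [hLM] at h1
    rw [Finset.sum_ite_eq'] at h1
    show HopfRep.Comod.coact (k := k) (A := A) (g.coeff r) = g.coeff r ⊗ₜ[k] (χ ^ r)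
    split_ifs at h1 with hr
    · have h2 := congrArg (fun t => t * ((1 : R) ⊗ₜ[k] (χ ^ r))) h1
      simp only [mul_assoc, Algebra.TensorProduct.tmul_mul_tmul, mul_one, one_mul] at h2
      rw [← mul_pow, mul_comm χ' χ, hχχ', one_pow, ← Algebra.TensorProduct.one_def, mul_one] at h2
      exact h2
    · have hr0 : g.coeff r = 0 := Polynomial.notMem_support_iff.mp hr
      rw [hr0, map_zero, TensorProduct.zero_tmul]
  · intro h
    show HopfRep.Comod.coact (k := k) (A := A) g = g ⊗ₜ[k] (1 : A)
    rw [hsum]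
    have e : ∀ n ∈ g.support, M (HopfRep.Comod.coact (k := k) (A := A) (g.coeff n)) *
        (((Polynomial.X : Polynomial R) ^ n) ⊗ₜ[k] (χ' ^ n)) = (Polynomial.C (g.coeff n) * Polynomial.X ^ n) ⊗ₜ[k] (1 : A) := by
      intro n _
      have hn : HopfRep.Comod.coact (k := k) (A := A) (g.coeff n) = g.coeff n ⊗ₜ[k] (χ ^ n) := h n
      rw [hn]
      simp only [M, Algebra.TensorProduct.map_tmul, AlgHom.id_apply,
        Algebra.TensorProduct.tmul_mul_tmul, Polynomial.CAlgHom_apply]
      rw [← mul_pow, hχχ', one_pow]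
    rw [Finset.sum_congr rfl e, ← TensorProduct.sum_tmul, ← g.as_sum_support_C_mul_X_pow]

end Groth.Agent.S19522
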