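import Groth.Statements.S19556
import Mathlib.AlgebraicGeometry.Morphisms.Immersion

set_option autoImplicit false
universe u
open AlgebraicGeometry CategoryTheory Limits

namespace Groth.Agent.S19556

theorem result {S X Y : Scheme.{u}} (p : X ⟶ S) (q : Y ⟶ S)
    (π : X ⟶ Y) (hπ : π ≫ q = p) [IsFinite π] [Surjective π] [IsSeparated p] :
    IsSeparated q := by
  subst hπ
  let Φ : pullback (π ≫ q) (π ≫ q) ⟶ pullback q q :=
    pullback.map (π ≫ q) (π ≫ q) q q π π (𝟙 S) (by simp) (by simp)
  have hΦ : UniversallyClosed Φ :=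
    MorphismProperty.pullbackMap (P := @UniversallyClosed) (f := π ≫ q) (g := π ≫ q)
      (f' := q) (g' := q) (i₁ := π) (i₂ := π) inferInstance inferInstance rfl rfl
  have hcomm : pullback.diagonal (π ≫ q) ≫ Φ = π ≫ pullback.diagonal q := by
    apply pullback.hom_ext
    · simp only [Φ, Category.assoc, pullback.lift_fst]
      rw [← Category.assoc, pullback.diagonal_fst, Category.id_comp, pullback.diagonal_fst,
        Category.comp_id]
    · simp only [Φ, Category.assoc, pullback.lift_snd]
      rw [← Category.assoc, pullback.diagonal_snd, Category.id_comp, pullback.diagonal_snd,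
        Category.comp_id]
  have hrange : Set.range (pullback.diagonal q) =
      Φ '' Set.range (pullback.diagonal (π ≫ q)) := by
    ext z
    constructor
    · rintro ⟨y, rfl⟩
      obtain ⟨x, rfl⟩ := Surjective.surj (f := π) y
      refine ⟨pullback.diagonal (π ≫ q) x, ⟨x, rfl⟩, ?_⟩
      rw [← Scheme.Hom.comp_apply, hcomm, Scheme.Hom.comp_apply]
    · rintro ⟨_, ⟨x, rfl⟩, rfl⟩
      exact ⟨π x, by rw [← Scheme.Hom.comp_apply, ← hcomm, Scheme.Hom.comp_apply]⟩
  constructor
  apply IsClosedImmersion.of_isPreimmersion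
  rw [hrange]
  exact Φ.isClosedMap _ (pullback.diagonal (π ≫ q)).isClosedEmbedding.isClosed_range

end Groth.Agent.S19556
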