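import Groth.Statements.S19561
import Mathlib.LinearAlgebra.FiniteDimensional.Basic

set_option autoImplicit false
universe u
open W4c1limliniiii

namespace Groth.Agent.S19561

open Polynomial

theorem result
    (k : Type u) [Field k] [IsAlgClosed k] (F G : k[X]) (hlt : G.natDegree < F.natDegree)
    (hV : W4c1limliniiii.IsPencil F.natDegree (Submodule.span k {F, G})) :
    W4c1limliniiii.HasRamIdxInf F.natDegree (Submodule.span k {F, G}) (F.natDegree - G.natDegree) := by
  have hF : F ≠ 0 := by
    intro h
    rw [h, natDegree_zero] at hlt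
    exact Nat.not_lt_zero _ hlt
  have hG : G ≠ 0 := by
    intro h
    have h2 := hV.2.1
    rw [h, Set.pair_comm, Submodule.span_insert_zero, finrank_span_singleton hF] at h2
    exact absurd h2 (by norm_num)
  refine ⟨⟨G, Submodule.subset_span (by simp), hG, by omega⟩, ?_⟩
  intro s hs hs0
  obtain ⟨c, d, rfl⟩ := Submodule.mem_span_pair.mp hs
  by_cases hc : c = 0
  · subst hc
    rw [zero_smul, zero_add] at hs0 ⊢
    have hd : d ≠ 0 := by
      rintro rfl
      exact hs0 (zero_smul _ _)
    rw [natDegree_smul _ hd]
    omega
  · have h1 : (c • F).natDegree = F.natDegree := natDegree_smul _ hc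
    have h2 : (d • G).natDegree < (c • F).natDegree := by
      rw [h1]
      exact lt_of_le_of_lt (natDegree_smul_le _ _) hlt
    rw [natDegree_add_eq_left_of_natDegree_lt h2, h1]
    omega

end Groth.Agent.S19561
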