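import Groth.Statements.S19632
import Mathlib.RingTheory.Kaehler.Basic
import Mathlib.Algebra.Polynomial.Laurent
import Mathlib.Algebra.MonoidAlgebra.Module

set_option autoImplicit false
universe u
open DeRham

namespace Groth.Agent.S19632

open LaurentPolynomial

/-- multiply the `n`-th coefficient by `n` -/
noncomputable def F (k : Type u) [Field k] : (ℤ →₀ k) →ₗ[k] (ℤ →₀ k) where
  toFun g := Finsupp.onFinset g.support (fun n => (n : k) * g n) (by
    intro n hn
    rw [Finsupp.mem_support_iff]
    intro h
    apply hn
    rw [h, mul_zero])
  map_add' g h := by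
    ext n
    simp only [Finsupp.onFinset_apply, Finsupp.add_apply, mul_add]
  map_smul' c g := by
    ext n
    simp only [Finsupp.onFinset_apply, Finsupp.smul_apply, smul_eq_mul, RingHom.id_apply]
    ring

theorem F_apply (k : Type u) [Field k] (g : ℤ →₀ k) (n : ℤ) : F k g n = (n : k) * g n := rfl

/-- the Euler derivation `t d/dt` on Laurent polynomials, as a linear map -/
noncomputable def δ (k : Type u) [Field k] : LaurentPolynomial k →ₗ[k] LaurentPolynomial k :=
  (AddMonoidAlgebra.coeffLinearEquiv k).symm.toLinearMap ∘ₗ F k ∘ₗ
    (AddMonoidAlgebra.coeffLinearEquiv k).toLinearMap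

theorem δ_coeff (k : Type u) [Field k] (f : LaurentPolynomial k) (n : ℤ) :
    (δ k f).coeff n = (n : k) * f.coeff n := rfl

theorem δ_single (k : Type u) [Field k] (n : ℤ) (r : k) :
    δ k (AddMonoidAlgebra.single n r) = AddMonoidAlgebra.single n ((n : k) * r) := by
  apply LaurentPolynomial.ext
  intro m
  rw [δ_coeff, AddMonoidAlgebra.coeff_single, AddMonoidAlgebra.coeff_single,
    Finsupp.single_apply, Finsupp.single_apply]
  split_ifs with h
  · rw [h]
  · rw [mul_zero]

theorem δ_mul (k : Type u) [Field k] (a b : LaurentPolynomial k) :
    δ k (a * b) = a • δ k b + b • δ k a := by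
  induction a using AddMonoidAlgebra.induction_linear with
  | zero => simp
  | add a₁ a₂ h₁ h₂ =>
    rw [add_mul, map_add, h₁, h₂, map_add, add_smul, smul_add]; abel
  | single m r =>
    induction b using AddMonoidAlgebra.induction_linear with
    | zero => simp
    | add b₁ b₂ h₁ h₂ =>
      rw [mul_add, map_add, h₁, h₂, map_add, smul_add, add_smul]; abel
    | single n s =>
      rw [smul_eq_mul, smul_eq_mul, AddMonoidAlgebra.single_mul_single, δ_single, δ_single,
        δ_single, AddMonoidAlgebra.single_mul_single, AddMonoidAlgebra.single_mul_single,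
        add_comm n m, ← AddMonoidAlgebra.single_add]
      congr 1
      push_cast
      ring

/-- the Euler derivation -/
noncomputable def δd (k : Type u) [Field k] : Derivation k (LaurentPolynomial k) (LaurentPolynomial k) :=
  Derivation.mk' (δ k) (δ_mul k)

/-- Let k be a field of characteristic zero and G_m = Spec k[t, t⁻¹] the multiplicative group. The
kernel of the differential d : k[t, t⁻¹] → Ω¹ of the de Rham complex of G_m consists of the
constants: for a Laurent polynomial f, df = 0 if and only if f lies in the image of k. Equivalently
H^0_dR(G_m/k) = k. (Characteristic zero is used: in characteristic p the element t^p is closed.) -/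
theorem result (k : Type u) [Field k] [CharZero k]
    (f : LaurentPolynomial k) :
    KaehlerDifferential.D k (LaurentPolynomial k) f = 0 ↔ f ∈ Set.range (algebraMap k (LaurentPolynomial k)) := by
  constructor
  · intro hD
    have h1 : δd k f = 0 := by
      rw [← Derivation.liftKaehlerDifferential_comp_D (δd k) f, hD, map_zero]
    have h2 : ∀ n : ℤ, n ≠ 0 → f.coeff n = 0 := by
      intro n hn
      have := congrArg (fun p : LaurentPolynomial k => p.coeff n) h1
      change (δ k f).coeff n = (0 : LaurentPolynomial k).coeff n at this
      rw [δ_coeff] at this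
      have hz : (0 : LaurentPolynomial k).coeff n = 0 := rfl
      rw [hz] at this
      exact (mul_eq_zero.mp this).resolve_left (by exact_mod_cast hn)
    refine ⟨f.coeff 0, ?_⟩
    rw [← C_eq_algebraMap]
    apply LaurentPolynomial.ext
    intro n
    rw [C_apply]
    split_ifs with h
    · rw [h]
    · rw [h2 n h]
  · rintro ⟨c, rfl⟩
    exact (KaehlerDifferential.D k (LaurentPolynomial k)).map_algebraMap c

end Groth.Agent.S19632
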