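import Groth.Statements.S19634
import Mathlib.RingTheory.Kaehler.Basic
import Mathlib.RingTheory.MvPolynomial.Ideal
import Mathlib.Algebra.MonoidAlgebra.Module
import Mathlib.RingTheory.Derivation.Basic

set_option autoImplicit false
universe u
open DeRham

namespace Groth.Agent.S19634

open MvPolynomial

/-- multiply the coefficient of `m` by `m i` -/
noncomputable def Fi (k : Type u) [Field k] (i : Fin 2) :
    ((Fin 2 →₀ ℕ) →₀ k) →ₗ[k] ((Fin 2 →₀ ℕ) →₀ k) where
  toFun g := Finsupp.onFinset g.support (fun m => ((m i : ℕ) : k) * g m) (by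
    intro n hn
    rw [Finsupp.mem_support_iff]
    intro h
    apply hn
    rw [h, mul_zero])
  map_add' g h := by
    ext n
    simp only [Finsupp.onFinset_apply, Finsupp.add_apply, mul_add]
  map_smul' c g := by
    ext n
    simp only [Finsupp.onFinset_apply, Finsupp.smul_apply, smul_eq_mul, RingHom.id_apply]
    ring

/-- the Euler derivation `X_i ∂/∂X_i`, as a linear map -/
noncomputable def E (k : Type u) [Field k] (i : Fin 2) :
    MvPolynomial (Fin 2) k →ₗ[k] MvPolynomial (Fin 2) k :=
  (AddMonoidAlgebra.coeffLinearEquiv k).symm.toLinearMap ∘ₗ Fi k i ∘ₗ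
    (AddMonoidAlgebra.coeffLinearEquiv k).toLinearMap

theorem E_coeff (k : Type u) [Field k] (i : Fin 2) (p : MvPolynomial (Fin 2) k) (m : Fin 2 →₀ ℕ) :
    coeff m (E k i p) = ((m i : ℕ) : k) * coeff m p := rfl

theorem E_monomial (k : Type u) [Field k] (i : Fin 2) (m : Fin 2 →₀ ℕ) (r : k) :
    E k i (monomial m r) = monomial m (((m i : ℕ) : k) * r) := by
  classical
  apply MvPolynomial.ext
  intro n
  rw [E_coeff, coeff_monomial, coeff_monomial]
  split_ifs with h
  · rw [h]
  · rw [mul_zero]

theorem E_mul (k : Type u) [Field k] (i : Fin 2) (a b : MvPolynomial (Fin 2) k) :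
    E k i (a * b) = a • E k i b + b • E k i a := by
  induction a using MvPolynomial.induction_on' with
  | add a₁ a₂ h₁ h₂ =>
    rw [add_mul, map_add, h₁, h₂, map_add, add_smul, smul_add]; abel
  | monomial m r =>
    induction b using MvPolynomial.induction_on' with
    | add b₁ b₂ h₁ h₂ =>
      rw [mul_add, map_add, h₁, h₂, map_add, smul_add, add_smul]; abel
    | monomial n s =>
      rw [smul_eq_mul, smul_eq_mul, monomial_mul, E_monomial, E_monomial, E_monomial,
        monomial_mul, monomial_mul, add_comm n m, ← map_add]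
      congr 1
      rw [Finsupp.add_apply]
      push_cast
      ring

/-- the Euler derivation -/
noncomputable def Ed (k : Type u) [Field k] (i : Fin 2) :
    Derivation k (MvPolynomial (Fin 2) k) (MvPolynomial (Fin 2) k) :=
  Derivation.mk' (E k i) (E_mul k i)

/-- the exponent of `X 0 * X 1` -/
noncomputable def s0 : Fin 2 →₀ ℕ := Finsupp.single 0 1 + Finsupp.single 1 1

theorem span_eq (k : Type u) [Field k] :
    Ideal.span {(MvPolynomial.X 0 * MvPolynomial.X 1 : MvPolynomial (Fin 2) k)} =
      Ideal.span ((fun s => monomial s (1 : k)) '' {s0}) := by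
  rw [Set.image_singleton]
  congr 2
  rw [s0, X, X, monomial_mul, mul_one]

theorem mem_I_iff (k : Type u) [Field k] (x : MvPolynomial (Fin 2) k) :
    x ∈ Ideal.span {(MvPolynomial.X 0 * MvPolynomial.X 1 : MvPolynomial (Fin 2) k)} ↔
      ∀ m ∈ x.support, 1 ≤ m 0 ∧ 1 ≤ m 1 := by
  rw [span_eq, mem_ideal_span_monomial_image]
  apply forall₂_congr
  intro m _
  simp only [Set.mem_singleton_iff, exists_eq_left, Finsupp.le_def]
  constructor
  · intro h
    exact ⟨by simpa [s0] using h 0, by simpa [s0] using h 1⟩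
  · rintro ⟨h0, h1⟩ j
    fin_cases j
    · simpa [s0] using h0
    · simpa [s0] using h1

theorem E_mem (k : Type u) [Field k] (i : Fin 2) (x : MvPolynomial (Fin 2) k)
    (hx : x ∈ Ideal.span {(MvPolynomial.X 0 * MvPolynomial.X 1 : MvPolynomial (Fin 2) k)}) :
    E k i x ∈ Ideal.span {(MvPolynomial.X 0 * MvPolynomial.X 1 : MvPolynomial (Fin 2) k)} := by
  rw [mem_I_iff] at hx ⊢
  intro m hm
  apply hx m
  rw [mem_support_iff] at hm ⊢
  intro h
  apply hm
  rw [E_coeff, h, mul_zero]

theorem result (k : Type u) [Field k] [CharZero k]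
    (P : MvPolynomial (Fin 2) k ⧸ Ideal.span {(MvPolynomial.X 0 * MvPolynomial.X 1 : MvPolynomial (Fin 2) k)}) :
    KaehlerDifferential.D k (MvPolynomial (Fin 2) k ⧸ Ideal.span {(MvPolynomial.X 0 * MvPolynomial.X 1 : MvPolynomial (Fin 2) k)}) P = 0 ↔
      P ∈ Set.range (algebraMap k (MvPolynomial (Fin 2) k ⧸ Ideal.span {(MvPolynomial.X 0 * MvPolynomial.X 1 : MvPolynomial (Fin 2) k)})) := by
  let π := Ideal.Quotient.mkₐ k
    (Ideal.span {(MvPolynomial.X 0 * MvPolynomial.X 1 : MvPolynomial (Fin 2) k)})
  have hπ : Function.Surjective π := Ideal.Quotient.mkₐ_surjective k _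
  have hd : ∀ i : Fin 2, ∀ x, π x = 0 → π (Ed k i x) = 0 := by
    intro i x hx
    have hx' := Ideal.Quotient.eq_zero_iff_mem.mp hx
    exact Ideal.Quotient.eq_zero_iff_mem.mpr (E_mem k i x hx')
  let δ : Fin 2 → Derivation k _ _ := fun i => Derivation.liftOfSurjective hπ (hd i)
  constructor
  · intro hD
    obtain ⟨p, hp⟩ := hπ P
    have hδ : ∀ i, E k i p ∈
        Ideal.span {(MvPolynomial.X 0 * MvPolynomial.X 1 : MvPolynomial (Fin 2) k)} := by
      intro i
      have h1 : δ i P = 0 := by
        rw [← Derivation.liftKaehlerDifferential_comp_D (δ i) P, hD, map_zero]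
      have h2 : δ i P = π (Ed k i p) := by
        rw [← hp]
        exact Derivation.liftOfSurjective_apply hπ (hd i) p
      rw [h2] at h1
      exact Ideal.Quotient.eq_zero_iff_mem.mp h1
    have hsupp : ∀ m ∈ p.support, m ≠ 0 → 1 ≤ m 0 ∧ 1 ≤ m 1 := by
      intro m hm hm0
      have hpm : coeff m p ≠ 0 := mem_support_iff.mp hm
      by_cases h0 : m 0 = 0
      · have h1 : m 1 ≠ 0 := by
          intro h1
          apply hm0
          ext j
          fin_cases j
          · simpa using h0
          · simpa using h1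
        have := (mem_I_iff k _).mp (hδ 1) m (by
          rw [mem_support_iff, E_coeff]
          exact mul_ne_zero (by exact_mod_cast h1) hpm)
        exact this
      · have := (mem_I_iff k _).mp (hδ 0) m (by
          rw [mem_support_iff, E_coeff]
          exact mul_ne_zero (by exact_mod_cast h0) hpm)
        exact this
    refine ⟨coeff 0 p, ?_⟩
    have hmem : p - C (coeff 0 p) ∈
        Ideal.span {(MvPolynomial.X 0 * MvPolynomial.X 1 : MvPolynomial (Fin 2) k)} := by
      rw [mem_I_iff]
      intro m hm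
      rw [mem_support_iff, coeff_sub, coeff_C] at hm
      by_cases h : m = 0
      · subst h
        simp at hm
      · rw [if_neg (Ne.symm h), sub_zero] at hm
        exact hsupp m (mem_support_iff.mpr hm) h
    have : π p = π (C (coeff 0 p)) := by
      rw [← sub_eq_zero, ← map_sub]
      exact Ideal.Quotient.eq_zero_iff_mem.mpr hmem
    rw [← hp, this]
    rfl
  · rintro ⟨c, rfl⟩
    exact (KaehlerDifferential.D k _).map_algebraMap c

end Groth.Agent.S19634
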