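import Groth.Statements.S19804
import Mathlib.RingTheory.Spectrum.Prime.FreeLocus
import Mathlib.Algebra.Module.FinitePresentation
import Mathlib.RingTheory.Flat.Basic
import Mathlib.Topology.LocallyConstant.Basic

set_option autoImplicit false
open scoped TensorProduct
universe u v w
open Brauer

namespace Groth.Agent.S19804

theorem part1 {R : Type u} [CommRing R] [ConnectedSpace (PrimeSpectrum R)] {A : Type v} [Ring A]
    [Algebra R A] [Module.Projective R A] [Module.Finite R A]
    (e : A) (he : IsIdempotentElem e) (R' : Type w) [CommRing R'] [Nontrivial R'] [Algebra R R']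
    (h0 : (1 : R') ⊗ₜ[R] e = (0 : R' ⊗[R] A)) : e = 0 := by
  classical
  let L : A →ₗ[R] A := LinearMap.mulLeft R e
  let M : Submodule R A := LinearMap.range L
  let s : A →ₗ[R] M := L.rangeRestrict
  have hsv : ∀ a : A, ((s (L a) : M) : A) = L a := by
    intro a
    simp only [s, LinearMap.codRestrict_apply, L, LinearMap.mulLeft_apply, ← mul_assoc, he.eq]
  have hs : s.comp M.subtype = LinearMap.id := by
    ext ⟨x, hx⟩
    obtain ⟨y, rfl⟩ := hx
    simp only [LinearMap.comp_apply, Submodule.subtype_apply, LinearMap.id_apply]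
    exact hsv y
  have : Module.Projective R M := Module.Projective.of_split M.subtype s hs
  have : Module.Finite R M := Module.Finite.range L
  have : Module.FinitePresentation R M := Module.finitePresentation_of_projective R M
  have hzero : ∀ (r : R') (a : A), r ⊗ₜ[R] (e * a) = (0 : R' ⊗[R] A) := by
    intro r a
    have : r ⊗ₜ[R] (e * a) = (r ⊗ₜ[R] (1 : A)) * ((1 : R') ⊗ₜ[R] e) * ((1 : R') ⊗ₜ[R] a) := by
      simp [Algebra.TensorProduct.tmul_mul_tmul]
    rw [this, h0, mul_zero, zero_mul]
  have hsub : Subsingleton (R' ⊗[R] M) := by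
    suffices hx : ∀ z : R' ⊗[R] M, z = 0 from ⟨fun x y => by rw [hx x, hx y]⟩
    intro z
    induction z using TensorProduct.induction_on with
    | zero => rfl
    | tmul r m =>
      obtain ⟨_, ⟨a, rfl⟩⟩ := m
      have hm : (⟨L a, ⟨a, rfl⟩⟩ : M) = s (L a) := by
        apply Subtype.ext
        rw [hsv]
      rw [hm, ← LinearMap.lTensor_tmul]
      have : r ⊗ₜ[R] (L a) = (0 : R' ⊗[R] A) := hzero r a
      rw [this, map_zero]
    | add x y hx hy => rw [hx, hy, add_zero]
  have hrank0 : Module.rankAtStalk (R := R') (R' ⊗[R] M) = 0 :=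
    Module.rankAtStalk_eq_zero_of_subsingleton
  obtain ⟨q⟩ : Nonempty (PrimeSpectrum R') := inferInstance
  have hq : Module.rankAtStalk (R := R) M (q.comap (algebraMap R R')) = 0 := by
    rw [← Module.rankAtStalk_baseChange, hrank0]
    rfl
  have hconst : Module.rankAtStalk (R := R) M = 0 := by
    funext p
    rw [(Module.isLocallyConstant_rankAtStalk (R := R) (M := M)).apply_eq_of_preconnectedSpace p
      (q.comap (algebraMap R R')), hq]
    rfl
  have hsubM : Subsingleton M := Module.rankAtStalk_eq_zero_iff_subsingleton.mp hconst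
  have he' : e ∈ M := ⟨1, by simp [L]⟩
  have := Subsingleton.elim (⟨e, he'⟩ : M) 0
  simpa using congrArg Subtype.val this

/-- Let R be a commutative ring with Spec R connected, A an Azumaya R-algebra and e an idempotent
element of A. If for some nonzero commutative R-algebra R' the element 1 ⊗ e of R' ⊗_R A is 0, then
e = 0; and if 1 ⊗ e = 1 in R' ⊗_R A, then e = 1. (The published statement is for an Azumaya algebra
over a connected scheme S and base change to an arbitrary nonempty S-scheme T; this row takes S and
T affine.) -/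
theorem result {R : Type u} [CommRing R]
    [ConnectedSpace (PrimeSpectrum R)] {A : Type v} [Ring A] [Algebra R A] [IsAzumaya R A]
    (e : A) (he : IsIdempotentElem e) (R' : Type w) [CommRing R'] [Nontrivial R'] [Algebra R R'] :
    ((1 : R') ⊗ₜ[R] e = (0 : R' ⊗[R] A) → e = 0) ∧ ((1 : R') ⊗ₜ[R] e = (1 : R' ⊗[R] A) → e = 1) := by
  refine ⟨fun h => part1 e he R' h, fun h => ?_⟩
  have h1 : (1 : R') ⊗ₜ[R] (1 - e) = (0 : R' ⊗[R] A) := by
    rw [TensorProduct.tmul_sub, h, ← Algebra.TensorProduct.one_def, sub_self]
  have := part1 (1 - e) he.one_sub R' h1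
  rw [sub_eq_zero] at this
  exact this.symm

end Groth.Agent.S19804
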