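import Groth.Statements.S2955

set_option autoImplicit false
open RootPairing
open scoped Pointwise Classical
universe u
open RootD

namespace Groth.Agent.S2955

theorem result {ι R M N : Type*} [CommRing R] [CharZero R] [IsDomain R] [AddCommGroup M] [Module R M]
    [AddCommGroup N] [Module R N] (P : RootPairing ι R M N) [Finite ι] [P.IsCrystallographic] [P.IsReduced]
    [Fintype ι] (b : P.Base) (j : ι) (hj : j ∈ b.support) :
    P.reflection j (∑ i, if b.IsPos i then P.root i else 0) =
      (∑ i, if b.IsPos i then P.root i else 0) - (2 : R) • P.root j := by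
  let := P.indexNeg
  set σ := P.reflectionPerm j with hσdef
  have hσσ : ∀ i, σ (σ i) = i := fun i => P.reflectionPerm_self j i
  have hjneg : -j = σ j := rfl
  have hjpos : b.IsPos j := RootPairing.Base.isPos_of_mem_support hj
  have hnegj : ¬ b.IsPos (-j) := fun h => ((RootPairing.Base.IsPos.neg_iff_not b j).mp h) hjpos
  have hne : j ≠ -j := P.ne_neg j
  have hrootneg : P.root (-j) = -P.root j := by
    rw [hjneg, hσdef, root_reflectionPerm, reflection_apply_self]
  have hL : P.reflection j (∑ i, if b.IsPos i then P.root i else 0) =
      ∑ i, (if b.IsPos i then P.root (σ i) else 0) := by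
    rw [map_sum]
    apply Finset.sum_congr rfl
    intro i _
    split_ifs <;> simp [hσdef]
  rw [hL, ← Equiv.sum_comp σ]
  simp only [hσσ]
  have key : ∀ i, (if b.IsPos (σ i) then P.root i else 0) =
      (if b.IsPos i then P.root i else 0) +
        ((if i = j then -P.root j else 0) + (if i = -j then -P.root j else 0)) := by
    intro i
    by_cases h1 : i = j
    · subst h1
      have : σ i = -i := rfl
      rw [this, if_neg hnegj, if_pos hjpos, if_pos rfl, if_neg hne]
      abel
    by_cases h2 : i = -j
    · subst h2
      have : σ (-j) = j := by rw [hjneg, hσσ]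
      rw [this, if_pos hjpos, if_neg hnegj, if_neg h1, if_pos rfl, hrootneg]
      abel
    have hiff : b.IsPos (σ i) ↔ b.IsPos i := by
      constructor
      · intro hp
        have hσne : σ i ≠ j := by
          intro h
          apply h2
          rw [← hσσ i, h, hjneg]
        have := RootPairing.Base.IsPos.reflectionPerm hp hj hσne
        rwa [← hσdef, hσσ] at this
      · intro hp
        exact RootPairing.Base.IsPos.reflectionPerm hp hj h1
    rw [if_neg h1, if_neg h2]
    by_cases hp : b.IsPos i
    · rw [if_pos (hiff.mpr hp), if_pos hp]; abel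
    · rw [if_neg (fun h => hp (hiff.mp h)), if_neg hp]; abel
  rw [Finset.sum_congr rfl (fun i _ => key i), Finset.sum_add_distrib, Finset.sum_add_distrib,
    Finset.sum_ite_eq' Finset.univ j, Finset.sum_ite_eq' Finset.univ (-j)]
  simp only [Finset.mem_univ, if_true]
  rw [two_smul]
  abel

end Groth.Agent.S2955
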