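import Groth.Statements.S2967
import Mathlib.LinearAlgebra.Dimension.Free
import Mathlib.LinearAlgebra.FiniteDimensional.Defs

set_option autoImplicit false
universe u
open SGA3t2b

namespace Groth.Agent.S2967

theorem result {k : Type u} [Field k] (p : ℕ) [Fact p.Prime] [CharP k p]
    {V : Type u} [AddCommGroup V] [Module k V] [FiniteDimensional k V] [Nontrivial V]
    (φ : V →ₛₗ[frobenius k p] V) (hφ : ∀ x : V, ∃ n : ℕ, φ^[n] x = 0) :
    Submodule.span k (Set.range φ) ≠ ⊤ := by
  intro htop
  have hzero : ∀ n : ℕ, φ^[n] 0 = 0 := by
    intro n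
    induction n with
    | zero => rfl
    | succ n ih => rw [Function.iterate_succ_apply', ih, map_zero]
  have hadd : ∀ (n : ℕ) (x y : V), φ^[n] (x + y) = φ^[n] x + φ^[n] y := by
    intro n
    induction n with
    | zero => intro x y; rfl
    | succ n ih =>
      intro x y
      rw [Function.iterate_succ_apply', Function.iterate_succ_apply', Function.iterate_succ_apply', ih,
        map_add]
  have hsmul : ∀ (n : ℕ) (r : k) (x : V), φ^[n] (r • x) = ((frobenius k p)^[n] r) • φ^[n] x := by
    intro n
    induction n with
    | zero => intro r x; rfl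
    | succ n ih =>
      intro r x
      rw [Function.iterate_succ_apply', ih, map_smulₛₗ, Function.iterate_succ_apply',
        Function.iterate_succ_apply']
  let K : ℕ → Submodule k V := fun n =>
    { carrier := {x | φ^[n] x = 0}
      add_mem' := by
        intro x y hx hy
        simp only [Set.mem_ofPred_eq] at hx hy ⊢
        rw [hadd, hx, hy, add_zero]
      zero_mem' := hzero n
      smul_mem' := by
        intro r x hx
        simp only [Set.mem_ofPred_eq] at hx ⊢
        rw [hsmul, hx, smul_zero] }
  obtain ⟨N, hN⟩ : ∃ N : ℕ, ∀ x : V, φ^[N] x = 0 := by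
    let b := Module.finBasis k V
    choose n hn using fun i => hφ (b i)
    refine ⟨∑ i, n i, ?_⟩
    have hb : ∀ i, b i ∈ K (∑ i, n i) := by
      intro i
      show φ^[∑ i, n i] (b i) = 0
      have hle : n i ≤ ∑ j, n j := Finset.single_le_sum (fun j _ => Nat.zero_le (n j)) (Finset.mem_univ i)
      obtain ⟨d, hd⟩ := Nat.exists_eq_add_of_le hle
      rw [hd, add_comm, Function.iterate_add_apply, hn i, hzero]
    have hle : Submodule.span k (Set.range b) ≤ K (∑ i, n i) := by
      rw [Submodule.span_le]
      rintro _ ⟨i, rfl⟩
      exact hb i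
    intro x
    exact hle (b.mem_span x)
  have hspan : ∀ n : ℕ, Submodule.span k (Set.range (φ^[n])) = ⊤ := by
    intro n
    induction n with
    | zero => simp
    | succ n ih =>
      apply eq_top_iff.mpr
      rw [← htop, Submodule.span_le]
      rintro _ ⟨x, rfl⟩
      have hx : x ∈ Submodule.span k (Set.range (φ^[n])) := by rw [ih]; trivial
      induction hx using Submodule.span_induction with
      | mem y hy =>
        obtain ⟨z, rfl⟩ := hy
        apply Submodule.subset_span
        exact ⟨z, by rw [Function.iterate_succ_apply']⟩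
      | zero => rw [map_zero]; exact Submodule.zero_mem _
      | add y z _ _ hy hz => rw [map_add]; exact Submodule.add_mem _ hy hz
      | smul r y _ hy => rw [map_smulₛₗ]; exact Submodule.smul_mem _ _ hy
  have h1 := hspan N
  have hrange : Set.range (φ^[N]) ⊆ ({0} : Set V) := by
    rintro _ ⟨x, rfl⟩
    exact hN x
  have h2 : Submodule.span k (Set.range (φ^[N])) = ⊥ := by
    apply eq_bot_iff.mpr
    rw [Submodule.span_le]
    intro y hy
    have := hrange hy
    simp only [Set.mem_singleton_iff] at this
    rw [this]
    exact Submodule.zero_mem _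
  rw [h2] at h1
  exact bot_ne_top h1

end Groth.Agent.S2967
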