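import Groth.Statements.S2978
import Mathlib.RingTheory.Noetherian.Basic
import Mathlib.RingTheory.Finiteness.Defs

set_option autoImplicit false
universe u
open SGA3b

namespace Groth.Agent.S2978

theorem result (A : Type u) [CommRing A] [IsNoetherianRing A] (M : Type u)
    (a : M × M → A) (hdiag : ∀ m m', m ≠ m' → a (m, m') = 0)
    (ι : Type u) [Fintype ι] (b c : ι → M → A) (hdec : ∀ m m', a (m, m') = ∑ i, b i m * c i m') :
    Set.Finite {p : M × M | a p ≠ 0} := by
  classical
  let v : M → (ι → A) := fun m i => b i m
  let φ : M → (ι → A) →ₗ[A] A := fun m' =>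
    { toFun := fun x => ∑ i, x i * c i m'
      map_add' := by
        intro x y
        simp [add_mul, Finset.sum_add_distrib]
      map_smul' := by
        intro r x
        simp [Finset.mul_sum, mul_assoc] }
  have hφ : ∀ m m', φ m' (v m) = a (m, m') := by
    intro m m'
    simp [φ, v, hdec]
  let S : Set M := {m | a (m, m) ≠ 0}
  have hfg : (Submodule.span A (v '' S)).FG := IsNoetherian.noetherian _
  obtain ⟨s', hs'S, hspan⟩ := (Submodule.fg_span_iff_fg_span_finset_subset (v '' S)).mp hfg
  have hmem : ∀ m ∈ S, v m ∈ (s' : Set (ι → A)) := by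
    intro m hm
    by_contra hnot
    have hvan : ∀ x ∈ (s' : Set (ι → A)), φ m x = 0 := by
      intro x hx
      obtain ⟨t, _, rfl⟩ := hs'S hx
      have htm : t ≠ m := by
        rintro rfl
        exact hnot hx
      rw [hφ]
      exact hdiag t m htm
    have hle : Submodule.span A (s' : Set (ι → A)) ≤ LinearMap.ker (φ m) := by
      rw [Submodule.span_le]
      intro x hx
      exact hvan x hx
    have hvm : v m ∈ Submodule.span A (s' : Set (ι → A)) := by
      rw [← hspan]
      exact Submodule.subset_span ⟨m, hm, rfl⟩
    have := hle hvm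
    rw [LinearMap.mem_ker, hφ] at this
    exact hm this
  have hinj : Set.InjOn v S := by
    intro m hm m' hm' heq
    by_contra hne
    have h1 : φ m (v m) = φ m (v m') := by rw [heq]
    rw [hφ, hφ, hdiag m' m (Ne.symm hne)] at h1
    exact hm h1
  have hSfin : S.Finite := by
    apply Set.Finite.of_finite_image _ hinj
    apply (s'.finite_toSet).subset
    rintro _ ⟨m, hm, rfl⟩
    exact hmem m hm
  apply (hSfin.image (fun m => (m, m))).subset
  rintro ⟨m, m'⟩ hp
  by_cases hmm : m = m'
  · subst hmm
    exact ⟨m, hp, rfl⟩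
  · exact absurd (hdiag m m' hmm) hp

end Groth.Agent.S2978
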