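import Groth.Statements.S3061
import Mathlib.CategoryTheory.Limits.Shapes.Diagonal

set_option autoImplicit false
open CategoryTheory CategoryTheory.Limits Opposite
universe u
open ToposFin

namespace Groth.Agent.S3061

theorem isQC_of_iso {C : Type u} [SmallCategory C] {J : GrothendieckTopology C}
    {X X' : ToposFin.Sh J} (e : X ≅ X') (h : ToposFin.IsQC X) : ToposFin.IsQC X' := by
  intro ι F π hπ
  have h1 : Epi (Sigma.desc (fun i => π i ≫ e.inv)) := by
    have : Sigma.desc (fun i => π i ≫ e.inv) = Sigma.desc π ≫ e.inv := by
      ext i
      simp
    rw [this]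
    infer_instance
  obtain ⟨s, hs⟩ := h ι F (fun i => π i ≫ e.inv) h1
  refine ⟨s, ?_⟩
  have : Sigma.desc (fun i : s => π i) = Sigma.desc (fun i : s => π i ≫ e.inv) ≫ e.hom := by
    ext i
    simp
  rw [this]
  infer_instance

theorem isQCHom_of_comp_mono {C : Type u} [SmallCategory C] {J : GrothendieckTopology C}
    {A B D : ToposFin.Sh J} (k : A ⟶ B) (m : B ⟶ D) [Mono m]
    (h : ToposFin.IsQCHom (k ≫ m)) : ToposFin.IsQCHom k := by
  intro T t hT
  have h1 := h T (t ≫ m) hT
  refine isQC_of_iso ?_ h1
  exact {
    hom := pullback.lift (pullback.fst _ _) (pullback.snd _ _) (by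
      rw [← cancel_mono m]
      simp only [Category.assoc]
      exact pullback.condition)
    inv := pullback.lift (pullback.fst _ _) (pullback.snd _ _) (by
      rw [← Category.assoc, pullback.condition, Category.assoc])
    hom_inv_id := by
      apply pullback.hom_ext
      · rw [Category.assoc, pullback.lift_fst, pullback.lift_fst, Category.id_comp]
      · rw [Category.assoc, pullback.lift_snd, pullback.lift_snd, Category.id_comp]
    inv_hom_id := by
      apply pullback.hom_ext
      · rw [Category.assoc, pullback.lift_fst, pullback.lift_fst, Category.id_comp]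
      · rw [Category.assoc, pullback.lift_snd, pullback.lift_snd, Category.id_comp] }

/-- For a topos of sheaves of sets on a small site: if f : X -> Y and g : Y -> Z are morphisms and g o f
is quasi-separated (quasi-compact diagonal), then f is quasi-separated. -/
theorem result {C : Type u} [SmallCategory C] {J : GrothendieckTopology C} {X Y Z : ToposFin.Sh J}
    (f : X ⟶ Y) (g : Y ⟶ Z) (h : ToposFin.IsQSHom (f ≫ g)) : ToposFin.IsQSHom f := by
  let m : pullback f f ⟶ pullback (f ≫ g) (f ≫ g) :=
    pullback.lift (pullback.fst f f) (pullback.snd f f) (by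
      rw [← Category.assoc, pullback.condition, Category.assoc])
  have hm : Mono m := by
    constructor
    intro T u v huv
    apply pullback.hom_ext
    · have := congrArg (· ≫ pullback.fst (f ≫ g) (f ≫ g)) huv
      simp only [m, Category.assoc, pullback.lift_fst] at this
      exact this
    · have := congrArg (· ≫ pullback.snd (f ≫ g) (f ≫ g)) huv
      simp only [m, Category.assoc, pullback.lift_snd] at this
      exact this
  have hd : pullback.diagonal (f ≫ g) = pullback.diagonal f ≫ m := by
    apply pullback.hom_ext
    · simp only [m, Category.assoc, pullback.lift_fst, pullback.diagonal_fst]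
    · simp only [m, Category.assoc, pullback.lift_snd, pullback.diagonal_snd]
  have h' : ToposFin.IsQCHom (pullback.diagonal f ≫ m) := hd ▸ h
  exact isQCHom_of_comp_mono (pullback.diagonal f) m h'

end Groth.Agent.S3061
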