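import Groth.Statements.S3066
import Mathlib.CategoryTheory.Limits.Shapes.Diagonal

set_option autoImplicit false
open CategoryTheory CategoryTheory.Limits Opposite
universe u
open ToposFin

namespace Groth.Agent.S3066

theorem isQC_of_iso {C : Type u} [SmallCategory C] {J : GrothendieckTopology C}
    {X X' : ToposFin.Sh J} (e : X ≅ X') (h : ToposFin.IsQC X) : ToposFin.IsQC X' := by
  intro ι F π hπ
  have h1 : Epi (Sigma.desc (fun i => π i ≫ e.inv)) := by
    have : Sigma.desc (fun i => π i ≫ e.inv) = Sigma.desc π ≫ e.inv := by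
      ext i
      simp
    rw [this]
    infer_instance
  obtain ⟨s, hs⟩ := h ι F (fun i => π i ≫ e.inv) h1
  refine ⟨s, ?_⟩
  have : Sigma.desc (fun i : s => π i) = Sigma.desc (fun i : s => π i ≫ e.inv) ≫ e.hom := by
    ext i
    simp
  rw [this]
  infer_instance

/-- Quasi-separated case, for a topos of sheaves of sets on a small site: if f : X -> Y is a
quasi-separated morphism and Y is a quasi-separated object, then X is quasi-separated. -/
theorem result {C : Type u} [SmallCategory C] {J : GrothendieckTopology C} {X Y : ToposFin.Sh J} (f : X ⟶ Y) (hf : ToposFin.IsQSHom f)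
    (hY : ToposFin.IsQS Y) : ToposFin.IsQS X := by
  intro Y' Z' a b ha hb
  have h1 : ToposFin.IsQC (pullback (a ≫ f) (b ≫ f)) := hY Y' Z' (a ≫ f) (b ≫ f) ha hb
  have h2 := hf _ (pullback.map (a ≫ f) (b ≫ f) f f a b (𝟙 _) (Category.comp_id _)
    (Category.comp_id _)) h1
  have hP := pullback_map_diagonal_isPullback a b f
  exact isQC_of_iso hP.isoPullback.symm h2

end Groth.Agent.S3066
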