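import Groth.Statements.S3093

set_option autoImplicit false
universe u
open CohTop
open Set Filter Topology

namespace Groth.Agent.S3093

theorem result {X : Type u} [TopologicalSpace X] {K : Set X} (hK : IsCompact K)
    (hsep : ∀ x ∈ K, ∀ y ∈ K, x ≠ y → ∃ U V : Set X, IsOpen U ∧ IsOpen V ∧ x ∈ U ∧ y ∈ V ∧ Disjoint U V)
    {A B W : Set X} (hA : A ⊆ K) (hB : B ⊆ K) (hAc : IsClosed (Subtype.val ⁻¹' A : Set K))
    (hBc : IsClosed (Subtype.val ⁻¹' B : Set K)) (hW : IsOpen W) (hABW : A ∩ B ⊆ W) :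
    ∃ U V : Set X, IsOpen U ∧ IsOpen V ∧ A ⊆ U ∧ B ⊆ V ∧ U ∩ V ⊆ W := by
  have : CompactSpace K := isCompact_iff_compactSpace.mp hK
  have hAcpt : IsCompact A := by
    have h1 : IsCompact (Subtype.val '' (Subtype.val ⁻¹' A : Set K)) :=
      (hAc.isCompact).image continuous_subtype_val
    rwa [Subtype.image_preimage_coe, inter_eq_right.mpr hA] at h1
  have hBcpt : IsCompact B := by
    have h1 : IsCompact (Subtype.val '' (Subtype.val ⁻¹' B : Set K)) :=
      (hBc.isCompact).image continuous_subtype_val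
    rwa [Subtype.image_preimage_coe, inter_eq_right.mpr hB] at h1
  have hA' : IsCompact (A \ W) := hAcpt.diff hW
  have hB' : IsCompact (B \ W) := hBcpt.diff hW
  have hsepAB : SeparatedNhds (A \ W) (B \ W) := by
    rw [separatedNhds_iff_disjoint, hA'.disjoint_nhdsSet_left]
    intro x hx
    rw [hB'.disjoint_nhdsSet_right]
    intro y hy
    have hxy : x ≠ y := by
      rintro rfl
      exact hx.2 (hABW ⟨hx.1, hy.1⟩)
    obtain ⟨U, V, hU, hV, hxU, hyV, hUV⟩ := hsep x (hA hx.1) y (hB hy.1) hxy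
    exact Filter.disjoint_of_disjoint_of_mem hUV (hU.mem_nhds hxU) (hV.mem_nhds hyV)
  obtain ⟨U₀, V₀, hU₀, hV₀, hAU, hBV, hUV⟩ := hsepAB
  refine ⟨U₀ ∪ W, V₀ ∪ W, hU₀.union hW, hV₀.union hW, ?_, ?_, ?_⟩
  · intro x hx
    by_cases hxW : x ∈ W
    · exact Or.inr hxW
    · exact Or.inl (hAU ⟨hx, hxW⟩)
  · intro x hx
    by_cases hxW : x ∈ W
    · exact Or.inr hxW
    · exact Or.inl (hBV ⟨hx, hxW⟩)
  · rintro x ⟨hxU | hxW, hxV | hxW'⟩
    · exact absurd (Set.disjoint_left.mp hUV hxU) (not_not.mpr hxV)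
    · exact hxW'
    · exact hxW
    · exact hxW

end Groth.Agent.S3093
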