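import Groth.Statements.S3214
import Mathlib.RingTheory.Polynomial.Vieta
import Mathlib.Algebra.Polynomial.RingDivision

set_option autoImplicit false
open Polynomial
universe u
open SGA7II

namespace Groth.Agent.S3214

theorem prodP (a : ℕ) :
    (∏ i : Fin a, (X - C (MvPolynomial.X i)) : (MvPolynomial (Fin a) ℤ)[X]) =
      ∑ i ∈ Finset.range (a + 1),
        (-1) ^ i * (C (MvPolynomial.esymm (Fin a) ℤ i) * X ^ (a - i)) := by
  have := Multiset.prod_X_sub_X_eq_sum_esymm
    (Finset.univ.val.map (fun i : Fin a => (MvPolynomial.X i : MvPolynomial (Fin a) ℤ)))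
  rw [Multiset.map_map, Multiset.card_map, Finset.card_val, Finset.card_univ, Fintype.card_fin] at this
  rw [Finset.prod_eq_multiset_prod, MvPolynomial.esymm_eq_multiset_esymm]
  exact this

theorem result (a : ℕ) (ha : 0 < a) :
    let P : (MvPolynomial (Fin a) ℤ)[X] := ∏ i : Fin a, (X - C (MvPolynomial.X i))
    let coef : ℤ → MvPolynomial (Fin a) ℤ := fun j =>
      if j < 0 then 0 else ((X : (MvPolynomial (Fin a) ℤ)[X]) ^ (a - 1 + j.toNat) %ₘ P).coeff (a - 1)
    coef 0 = 1 ∧ ∀ j : ℕ, 0 < j →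
      (∑ i ∈ Finset.range (a + 1), (-1 : MvPolynomial (Fin a) ℤ) ^ i * MvPolynomial.esymm (Fin a) ℤ i *
        coef ((j : ℤ) - i)) = 0 := by
  intro P coef
  have hmon : P.Monic := Polynomial.monic_prod_of_monic _ _ (fun i _ => Polynomial.monic_X_sub_C _)
  have hdeg : P.natDegree = a := by
    rw [Polynomial.natDegree_prod_of_monic _ _ (fun i _ => Polynomial.monic_X_sub_C _)]
    simp
  have hdeg' : P.degree = a := by rw [Polynomial.degree_eq_natDegree hmon.ne_zero, hdeg]
  have hsmall : ∀ n, n < a → ((X : (MvPolynomial (Fin a) ℤ)[X]) ^ n) %ₘ P = X ^ n := by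
    intro n hn
    rw [Polynomial.modByMonic_eq_self_iff hmon, hdeg', Polynomial.degree_X_pow]
    exact_mod_cast hn
  refine ⟨?_, ?_⟩
  · show (if (0 : ℤ) < 0 then 0 else ((X : (MvPolynomial (Fin a) ℤ)[X]) ^ (a - 1 + (0 : ℤ).toNat) %ₘ P).coeff (a - 1)) = 1
    rw [if_neg (lt_irrefl _)]
    simp only [Int.toNat_zero, add_zero]
    rw [hsmall (a - 1) (by omega)]
    simp
  · intro j hj
    have hcoef : ∀ i ∈ Finset.range (a + 1), coef ((j : ℤ) - i) =
        ((X : (MvPolynomial (Fin a) ℤ)[X]) ^ (a - 1 + j - i) %ₘ P).coeff (a - 1) := by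
      intro i hi
      have hi' : i ≤ a := by simpa [Finset.mem_range, Nat.lt_succ_iff] using hi
      show (if (j : ℤ) - i < 0 then 0 else _) = _
      by_cases hji : i ≤ j
      · rw [if_neg (by omega)]
        congr 3
        omega
      · rw [if_pos (by omega)]
        rw [hsmall (a - 1 + j - i) (by omega), Polynomial.coeff_X_pow, if_neg (by omega)]
    rw [Finset.sum_congr rfl (fun i hi => by rw [hcoef i hi])]
    have hlin : ∀ i ∈ Finset.range (a + 1),
        (-1 : MvPolynomial (Fin a) ℤ) ^ i * MvPolynomial.esymm (Fin a) ℤ i *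
          ((X : (MvPolynomial (Fin a) ℤ)[X]) ^ (a - 1 + j - i) %ₘ P).coeff (a - 1) =
        ((modByMonicHom P) ((-1) ^ i * (C (MvPolynomial.esymm (Fin a) ℤ i) *
          X ^ (a - 1 + j - i)))).coeff (a - 1) := by
      intro i _
      have : ((-1 : (MvPolynomial (Fin a) ℤ)[X]) ^ i * (C (MvPolynomial.esymm (Fin a) ℤ i) *
          X ^ (a - 1 + j - i))) = ((-1 : MvPolynomial (Fin a) ℤ) ^ i * MvPolynomial.esymm (Fin a) ℤ i) •
          (X ^ (a - 1 + j - i)) := by
        rw [Polynomial.smul_eq_C_mul]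
        simp [mul_assoc]
      rw [this, LinearMap.map_smul, Polynomial.coeff_smul, smul_eq_mul]
      rfl
    rw [Finset.sum_congr rfl hlin, ← Polynomial.finsetSum_coeff, ← map_sum]
    have hsum : ∑ i ∈ Finset.range (a + 1), ((-1 : (MvPolynomial (Fin a) ℤ)[X]) ^ i *
        (C (MvPolynomial.esymm (Fin a) ℤ i) * X ^ (a - 1 + j - i))) = X ^ (j - 1) * P := by
      rw [show P = _ from prodP a, Finset.mul_sum]
      apply Finset.sum_congr rfl
      intro i hi
      have hi' : i ≤ a := by simpa [Finset.mem_range, Nat.lt_succ_iff] using hi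
      have : a - 1 + j - i = (j - 1) + (a - i) := by omega
      rw [this, pow_add]
      ring
    rw [hsum, modByMonicHom_apply, Polynomial.mul_self_modByMonic hmon]
    simp

end Groth.Agent.S3214
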