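import Groth.Statements.S3252

set_option autoImplicit false
universe u
open Zeta

namespace Groth.Agent.S3252

theorem result (L : Type u) [Field L] (V W : Type u)
    [AddCommGroup V] [Module L V] [FiniteDimensional L V] [AddCommGroup W] [Module L W] [FiniteDimensional L W]
    (B : V →ₗ[L] W →ₗ[L] L) [B.IsPerfPair] (F : V →ₗ[L] V) (G : W →ₗ[L] W) (c : L)
    (hFG : ∀ (v : V) (w : W), B (F v) (G w) = c * B v w) :
    LinearMap.det F * LinearMap.det G = c ^ Module.finrank L V := by
  set e : V ≃ₗ[L] Module.Dual L W := B.toPerfPair with he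
  set G' : V →ₗ[L] V := (e.symm : Module.Dual L W →ₗ[L] V) ∘ₗ G.dualMap ∘ₗ (e : V →ₗ[L] Module.Dual L W)
    with hG'
  have key : G' ∘ₗ F = c • LinearMap.id := by
    apply LinearMap.ext
    intro v
    apply e.injective
    simp only [hG', LinearMap.comp_apply, LinearEquiv.coe_coe, LinearEquiv.apply_symm_apply,
      LinearMap.smul_apply, LinearMap.id_apply, map_smul]
    apply LinearMap.ext
    intro w
    simp [he, LinearMap.dualMap_apply, hFG]
  have hdetG' : LinearMap.det G' = LinearMap.det G := by
    have := LinearMap.det_conj G.dualMap e.symm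
    rw [hG']
    simpa [LinearEquiv.symm_symm, LinearMap.det_dualMap] using this
  have h := congrArg LinearMap.det key
  rw [LinearMap.det_comp, hdetG', LinearMap.det_smul, LinearMap.det_id, mul_one] at h
  rw [mul_comm]
  exact h

end Groth.Agent.S3252
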