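import Groth.Statements.S3287
import Mathlib.RingTheory.PowerSeries.WellKnown

set_option autoImplicit false
universe u
open Finset
open LambdaRing

namespace Groth.Agent.S3287

theorem result (K : Type u) [CommRing K] [LambdaRing.LambdaOps K] (P : LambdaRing.PosStructure K) (u : K) (hu : P.IsLine u) (j : ℕ) :
    LambdaRing.adams P j u = u ^ j := by
  obtain ⟨hpos, haug⟩ := hu
  have hlam0 : LambdaOps.lam 0 u = 1 := LambdaOps.lam_zero u
  have hlam1 : LambdaOps.lam 1 u = u := LambdaOps.lam_one u
  have hlamge : ∀ i : ℕ, 2 ≤ i → LambdaOps.lam i u = 0 := by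
    intro i hi
    apply P.lam_eq_zero u hpos i
    rw [haug]
    exact_mod_cast hi
  have hL : PowerSeries.rescale (-1 : K) (lamSeries u) = 1 - PowerSeries.C u * PowerSeries.X := by
    ext n
    rcases n with _ | _ | n
    · simp [lamSeries, hlam0]
    · simp [lamSeries, hlam1, PowerSeries.coeff_one]
    · simp [lamSeries, PowerSeries.coeff_one, hlamge (n + 2) (by omega)]
  have hI : (PowerSeries.rescale (-1 : K) (lamSeries u)).invOfUnit 1 = PowerSeries.mk (fun n => u ^ n) := by
    have h1 := PowerSeries.mul_invOfUnit (PowerSeries.rescale (-1 : K) (lamSeries u)) 1 (by rw [hL]; simp)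
    have h2 : PowerSeries.mk (fun n => u ^ n) * (PowerSeries.rescale (-1 : K) (lamSeries u)) = 1 := by
      rw [hL]
      have := congrArg (PowerSeries.rescale u) (PowerSeries.mk_one_mul_one_sub_eq_one K)
      simpa [map_mul, map_sub, PowerSeries.rescale_mk, PowerSeries.rescale_X] using this
    calc (PowerSeries.rescale (-1 : K) (lamSeries u)).invOfUnit 1
        = (PowerSeries.mk (fun n => u ^ n) * (PowerSeries.rescale (-1 : K) (lamSeries u))) *
            (PowerSeries.rescale (-1 : K) (lamSeries u)).invOfUnit 1 := by rw [h2, one_mul]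
      _ = PowerSeries.mk (fun n => u ^ n) * ((PowerSeries.rescale (-1 : K) (lamSeries u)) *
            (PowerSeries.rescale (-1 : K) (lamSeries u)).invOfUnit 1) := by ring
      _ = PowerSeries.mk (fun n => u ^ n) := by rw [h1, mul_one]
  have hD : PowerSeries.derivative K (PowerSeries.rescale (-1 : K) (lamSeries u)) = PowerSeries.C (-u) := by
    rw [hL]
    simp
  unfold adams adamsSeries
  rw [hD, hI, haug]
  rcases j with _ | j
  · simp
  · simp only [map_sub, PowerSeries.coeff_C, Nat.add_one_ne_zero, if_false, zero_sub]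
    rw [mul_assoc, PowerSeries.coeff_succ_X_mul, PowerSeries.coeff_C_mul, PowerSeries.coeff_mk]
    simp [pow_succ, mul_comm]

end Groth.Agent.S3287
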