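import Groth.Statements.S3288

set_option autoImplicit false
universe u
open Finset
open LambdaRing

namespace Groth.Agent.S3288

section
variable {K : Type u} [CommRing K] [LambdaRing.LambdaOps K]

theorem lam_zero_elt : ∀ k : ℕ, 1 ≤ k → LambdaRing.LambdaOps.lam k (0 : K) = 0 := by
  intro k
  induction k using Nat.strong_induction_on with
  | _ k ih =>
    intro hk
    have h := LambdaRing.LambdaOps.lam_add k (0 : K) 0
    rw [add_zero] at h
    obtain ⟨k', rfl⟩ : ∃ k', k = k' + 1 := ⟨k - 1, by omega⟩
    rw [Finset.sum_range_succ, Finset.sum_range_succ'] at h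
    have hmid : ∑ i ∈ Finset.range k', LambdaRing.LambdaOps.lam (i + 1) (0 : K) *
        LambdaRing.LambdaOps.lam (k' + 1 - (i + 1)) 0 = 0 := by
      apply Finset.sum_eq_zero
      intro i hi
      rw [Finset.mem_range] at hi
      rw [ih (i + 1) (by omega) (by omega), zero_mul]
    rw [hmid, zero_add, Nat.sub_self, Nat.sub_zero, LambdaRing.LambdaOps.lam_zero, mul_one,
      one_mul] at h
    -- h : lam (k'+1) 0 = lam (k'+1) 0 + lam (k'+1) 0
    have : LambdaRing.LambdaOps.lam (k' + 1) (0 : K) + LambdaRing.LambdaOps.lam (k' + 1) 0 =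
        LambdaRing.LambdaOps.lam (k' + 1) 0 + 0 := by rw [add_zero]; exact h.symm
    exact add_left_cancel this

theorem aug_lam_sum (Q : LambdaRing.PosStructure K) :
    ∀ s : Multiset K, (∀ u ∈ s, Q.IsLine u) → ∀ k : ℕ,
      Q.aug (LambdaRing.LambdaOps.lam k s.sum) = ((Multiset.card s).choose k : ℤ) := by
  intro s
  induction s using Multiset.induction_on with
  | empty =>
    intro _ k
    rcases k with _ | k
    · simp [LambdaRing.LambdaOps.lam_zero]
    · rw [Multiset.sum_zero, lam_zero_elt (k + 1) (by omega)]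
      simp
  | cons u t ih =>
    intro hs k
    have hu : Q.IsLine u := hs u (Multiset.mem_cons_self u t)
    have ht : ∀ v ∈ t, Q.IsLine v := fun v hv => hs v (Multiset.mem_cons_of_mem hv)
    have hu2 : ∀ i : ℕ, 2 ≤ i → LambdaRing.LambdaOps.lam i u = 0 := by
      intro i hi
      apply Q.lam_eq_zero u hu.1 i
      rw [hu.2]
      exact_mod_cast hi
    rw [Multiset.sum_cons, LambdaRing.LambdaOps.lam_add, map_sum, Multiset.card_cons]
    rcases k with _ | k
    · simp [LambdaRing.LambdaOps.lam_zero]
    · rw [Finset.sum_range_succ', Finset.sum_range_succ']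
      have hz : ∑ i ∈ Finset.range k, Q.aug (LambdaRing.LambdaOps.lam (i + 1 + 1) u *
          LambdaRing.LambdaOps.lam (k + 1 - (i + 1 + 1)) t.sum) = 0 := by
        apply Finset.sum_eq_zero
        intro i _
        rw [hu2 (i + 1 + 1) (by omega), zero_mul, map_zero]
      rw [hz, zero_add, map_mul, map_mul, LambdaRing.LambdaOps.lam_zero,
        LambdaRing.LambdaOps.lam_one, hu.2, map_one, one_mul, one_mul, Nat.sub_zero,
        show k + 1 - (0 + 1) = k by omega, ih ht k, ih ht (k + 1), Nat.choose_succ_succ]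
      push_cast
      ring

end

/-- In a λ-ring with positive structure having the splitting property, for a positive element e the
augmentation of λ^i(e) is the binomial coefficient C(ε(e), i). -/
theorem result (K : Type u) [CommRing K] [LambdaRing.LambdaOps K] (P : LambdaRing.PosStructure K) (hK : LambdaRing.HasSplitting K P) (e : K) (he : e ∈ P.pos)
    (i : ℕ) : P.aug (LambdaRing.LambdaOps.lam i e) = ((P.aug e).toNat.choose i : ℤ) := by
  obtain ⟨C, hKC, hC⟩ := hK
  obtain ⟨L', _, f, hf, s, hs, hsum⟩ := hC ⟨K, P⟩ hKC e he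
  have h1 : P.aug (LambdaRing.LambdaOps.lam i e) =
      L'.posStr.aug (LambdaRing.LambdaOps.lam i s.sum) := by
    rw [hsum, ← hf.isLambdaHom i e, hf.aug_comp]
  have h2 : P.aug e = (Multiset.card s : ℤ) := by
    rw [← hf.aug_comp e, ← hsum, map_multiset_sum]
    rw [Multiset.map_congr rfl (fun u hu => (hs u hu).2)]
    simp
  rw [h1, h2, aug_lam_sum L'.posStr s hs i]
  simp

end Groth.Agent.S3288
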