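import Groth.Statements.S3289
import Mathlib.RingTheory.PowerSeries.Substitution
import Mathlib.Algebra.BigOperators.NatAntidiagonal

set_option autoImplicit false
universe u
open Finset
open LambdaRing

namespace Groth.Agent.S3289

/-- coefficient of t^k in (t/(1-t))^j -/
def cc (k j : ℕ) : ℕ :=
  if k = 0 then (if j = 0 then 1 else 0) else (if j = 0 then 0 else Nat.choose (k - 1) (j - 1))

theorem cc_pascal (k j : ℕ) : cc k j + cc k (j + 1) = cc (k + 1) (j + 1) := by
  rcases k with _ | k
  · rcases j with _ | j <;> simp [cc]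
  · rcases j with _ | j
    · simp [cc]
    · simp only [cc, Nat.add_one_ne_zero, if_false, Nat.add_sub_cancel]
      rw [Nat.choose_succ_succ]

theorem cc_eq_zero (k j : ℕ) (h : k < j) : cc k j = 0 := by
  unfold cc
  split_ifs with h1 h2 h3
  · omega
  · rfl
  · rfl
  · exact Nat.choose_eq_zero_of_lt (by omega)

section
variable {K : Type u} [CommRing K]

/-- the series t/(1-t) -/
noncomputable def T : PowerSeries K := PowerSeries.mk fun n => if n = 0 then 0 else 1

theorem T_eq : (T : PowerSeries K) = PowerSeries.X * (1 + T) := by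
  ext n
  rcases n with _ | n
  · simp [T]
  · rw [PowerSeries.coeff_succ_X_mul]
    simp only [T, PowerSeries.coeff_mk, map_add, PowerSeries.coeff_one]
    rcases n with _ | n <;> simp

theorem coeff_T_pow : ∀ j k : ℕ, PowerSeries.coeff k ((T : PowerSeries K) ^ j) = (cc k j : K) := by
  intro j
  induction j with
  | zero =>
    intro k
    rw [pow_zero, PowerSeries.coeff_one]
    rcases k with _ | k <;> simp [cc]
  | succ j ih =>
    have h : (T : PowerSeries K) ^ (j + 1) = PowerSeries.X * (T ^ j + T ^ (j + 1)) := by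
      rw [show PowerSeries.X * ((T : PowerSeries K) ^ j + T ^ (j + 1)) =
        T ^ j * (PowerSeries.X * (1 + T)) by ring, ← T_eq, pow_succ]
    intro k
    induction k with
    | zero =>
      rw [h, PowerSeries.coeff_zero_X_mul]
      simp [cc]
    | succ k ihk =>
      rw [h, PowerSeries.coeff_succ_X_mul, map_add, ih k, ihk, ← Nat.cast_add, cc_pascal]

end

variable {K : Type u} [CommRing K] [LambdaRing.LambdaOps K]

theorem hasSubst_T : PowerSeries.HasSubst (T : PowerSeries K) :=
  PowerSeries.HasSubst.of_constantCoeff_zero' (by simp [T, PowerSeries.coeff_mk])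

theorem gamma_eq_coeff (k : ℕ) (x : K) :
    LambdaRing.gamma k x = PowerSeries.coeff k ((LambdaRing.lamSeries x).subst (T : PowerSeries K)) := by
  rw [PowerSeries.coeff_subst' hasSubst_T]
  simp only [LambdaRing.lamSeries, PowerSeries.coeff_mk, coeff_T_pow, smul_eq_mul]
  rw [finsum_eq_sum_of_support_subset (s := Finset.range (k + 1))]
  · unfold LambdaRing.gamma
    split_ifs with hk
    · subst hk
      simp [cc, LambdaRing.LambdaOps.lam_zero]
    · apply Finset.sum_congr rfl
      intro j _
      rcases j with _ | j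
      · simp [cc, hk]
      · simp [cc, hk, mul_comm]
  · intro d hd
    rw [Function.mem_support] at hd
    simp only [Finset.coe_range, Set.mem_Iio]
    by_contra hlt
    apply hd
    rw [cc_eq_zero k d (by omega), Nat.cast_zero, mul_zero]

theorem lamSeries_add (x y : K) :
    LambdaRing.lamSeries (x + y) = LambdaRing.lamSeries x * LambdaRing.lamSeries y := by
  ext n
  rw [PowerSeries.coeff_mul, Finset.Nat.sum_antidiagonal_eq_sum_range_succ_mk]
  simp only [LambdaRing.lamSeries, PowerSeries.coeff_mk]
  rw [LambdaRing.LambdaOps.lam_add]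

/-- The γ-operations of a λ-ring, γ^0 = 1 and γ^k(x) = Σ_{j=1}^{k} C(k−1, j−1) λ^j(x) for k ≥ 1 (the
coefficients of λ_(t/(1−t))(x)), satisfy γ^k(x + y) = Σ_{i=0}^{k} γ^i(x) γ^(k−i)(y). -/
theorem result (K : Type u) [CommRing K] [LambdaRing.LambdaOps K] (k : ℕ) (x y : K) :
    LambdaRing.gamma k (x + y) = ∑ i ∈ range (k + 1), LambdaRing.gamma i x * LambdaRing.gamma (k - i) y := by
  rw [gamma_eq_coeff, lamSeries_add, PowerSeries.subst_mul hasSubst_T, PowerSeries.coeff_mul,
    Finset.Nat.sum_antidiagonal_eq_sum_range_succ_mk]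
  apply Finset.sum_congr rfl
  intro i _
  rw [gamma_eq_coeff, gamma_eq_coeff]

end Groth.Agent.S3289
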