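import Groth.Statements.S3290
import Mathlib.RingTheory.PowerSeries.Substitution
import Mathlib.Algebra.BigOperators.NatAntidiagonal

set_option autoImplicit false
universe u
open Finset
open LambdaRing

namespace Groth.Agent.S3290

/-- coefficient of t^k in (t/(1-t))^j -/
def cc (k j : ℕ) : ℕ :=
  if k = 0 then (if j = 0 then 1 else 0) else (if j = 0 then 0 else Nat.choose (k - 1) (j - 1))

theorem cc_pascal (k j : ℕ) : cc k j + cc k (j + 1) = cc (k + 1) (j + 1) := by
  rcases k with _ | k
  · rcases j with _ | j <;> simp [cc]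
  · rcases j with _ | j
    · simp [cc]
    · simp only [cc, Nat.add_one_ne_zero, if_false, Nat.add_sub_cancel]
      rw [Nat.choose_succ_succ]

theorem cc_eq_zero (k j : ℕ) (h : k < j) : cc k j = 0 := by
  unfold cc
  split_ifs with h1 h2 h3
  · omega
  · rfl
  · rfl
  · exact Nat.choose_eq_zero_of_lt (by omega)

section
variable {K : Type u} [CommRing K]

/-- the series t/(1-t) -/
noncomputable def T : PowerSeries K := PowerSeries.mk fun n => if n = 0 then 0 else 1

theorem T_eq : (T : PowerSeries K) = PowerSeries.X * (1 + T) := by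
  ext n
  rcases n with _ | n
  · simp [T]
  · rw [PowerSeries.coeff_succ_X_mul]
    simp only [T, PowerSeries.coeff_mk, map_add, PowerSeries.coeff_one]
    rcases n with _ | n <;> simp

theorem coeff_T_pow : ∀ j k : ℕ, PowerSeries.coeff k ((T : PowerSeries K) ^ j) = (cc k j : K) := by
  intro j
  induction j with
  | zero =>
    intro k
    rw [pow_zero, PowerSeries.coeff_one]
    rcases k with _ | k <;> simp [cc]
  | succ j ih =>
    have h : (T : PowerSeries K) ^ (j + 1) = PowerSeries.X * (T ^ j + T ^ (j + 1)) := by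
      rw [show PowerSeries.X * ((T : PowerSeries K) ^ j + T ^ (j + 1)) =
        T ^ j * (PowerSeries.X * (1 + T)) by ring, ← T_eq, pow_succ]
    intro k
    induction k with
    | zero =>
      rw [h, PowerSeries.coeff_zero_X_mul]
      simp [cc]
    | succ k ihk =>
      rw [h, PowerSeries.coeff_succ_X_mul, map_add, ih k, ihk, ← Nat.cast_add, cc_pascal]

end

variable {K : Type u} [CommRing K] [LambdaRing.LambdaOps K]

theorem hasSubst_T : PowerSeries.HasSubst (T : PowerSeries K) :=
  PowerSeries.HasSubst.of_constantCoeff_zero' (by simp [T, PowerSeries.coeff_mk])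

theorem gamma_eq_coeff (k : ℕ) (x : K) :
    LambdaRing.gamma k x = PowerSeries.coeff k ((LambdaRing.lamSeries x).subst (T : PowerSeries K)) := by
  rw [PowerSeries.coeff_subst' hasSubst_T]
  simp only [LambdaRing.lamSeries, PowerSeries.coeff_mk, coeff_T_pow, smul_eq_mul]
  rw [finsum_eq_sum_of_support_subset (s := Finset.range (k + 1))]
  · unfold LambdaRing.gamma
    split_ifs with hk
    · subst hk
      simp [cc, LambdaRing.LambdaOps.lam_zero]
    · apply Finset.sum_congr rfl
      intro j _
      rcases j with _ | j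
      · simp [cc, hk]
      · simp [cc, hk, mul_comm]
  · intro d hd
    rw [Function.mem_support] at hd
    simp only [Finset.coe_range, Set.mem_Iio]
    by_contra hlt
    apply hd
    rw [cc_eq_zero k d (by omega), Nat.cast_zero, mul_zero]

theorem lamSeries_add (x y : K) :
    LambdaRing.lamSeries (x + y) = LambdaRing.lamSeries x * LambdaRing.lamSeries y := by
  ext n
  rw [PowerSeries.coeff_mul, Finset.Nat.sum_antidiagonal_eq_sum_range_succ_mk]
  simp only [LambdaRing.lamSeries, PowerSeries.coeff_mk]
  rw [LambdaRing.LambdaOps.lam_add]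

theorem lam_zero_elt : ∀ k : ℕ, 1 ≤ k → LambdaRing.LambdaOps.lam k (0 : K) = 0 := by
  intro k
  induction k using Nat.strong_induction_on with
  | _ k ih =>
    intro hk
    have h := LambdaRing.LambdaOps.lam_add k (0 : K) 0
    rw [add_zero] at h
    obtain ⟨k', rfl⟩ : ∃ k', k = k' + 1 := ⟨k - 1, by omega⟩
    rw [Finset.sum_range_succ, Finset.sum_range_succ'] at h
    have hmid : ∑ i ∈ Finset.range k', LambdaRing.LambdaOps.lam (i + 1) (0 : K) *
        LambdaRing.LambdaOps.lam (k' + 1 - (i + 1)) 0 = 0 := by
      apply Finset.sum_eq_zero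
      intro i hi
      rw [Finset.mem_range] at hi
      rw [ih (i + 1) (by omega) (by omega), zero_mul]
    rw [hmid, zero_add, Nat.sub_self, Nat.sub_zero, LambdaRing.LambdaOps.lam_zero, mul_one,
      one_mul] at h
    -- h : lam (k'+1) 0 = lam (k'+1) 0 + lam (k'+1) 0
    have : LambdaRing.LambdaOps.lam (k' + 1) (0 : K) + LambdaRing.LambdaOps.lam (k' + 1) 0 =
        LambdaRing.LambdaOps.lam (k' + 1) 0 + 0 := by rw [add_zero]; exact h.symm
    exact add_left_cancel this



theorem lam_zero_elt' : ∀ k : ℕ, 1 ≤ k → LambdaRing.LambdaOps.lam k (0 : K) = 0 := lam_zero_elt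

theorem lamSeries_zero : LambdaRing.lamSeries (0 : K) = 1 := by
  ext n
  simp only [LambdaRing.lamSeries, PowerSeries.coeff_mk, PowerSeries.coeff_one]
  rcases n with _ | n
  · simp [LambdaRing.LambdaOps.lam_zero]
  · rw [lam_zero_elt (n + 1) (by omega)]
    simp

theorem lamSeries_one (P : LambdaRing.PosStructure K) :
    LambdaRing.lamSeries (1 : K) = 1 + PowerSeries.X := by
  have h1 : (1 : K) ∈ P.pos := by
    have := P.natCast_mem 1 one_pos
    simpa using this
  have ha : P.aug 1 = 1 := map_one _
  ext n
  simp only [LambdaRing.lamSeries, PowerSeries.coeff_mk, map_add, PowerSeries.coeff_one,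
    PowerSeries.coeff_X]
  rcases n with _ | _ | n
  · simp [LambdaRing.LambdaOps.lam_zero]
  · simp [LambdaRing.LambdaOps.lam_one]
  · rw [P.lam_eq_zero 1 h1 (n + 2) (by rw [ha]; push_cast; omega)]
    simp

theorem lamSeries_natCast (P : LambdaRing.PosStructure K) (m : ℕ) :
    LambdaRing.lamSeries (m : K) = (1 + PowerSeries.X) ^ m := by
  induction m with
  | zero => simp [lamSeries_zero]
  | succ m ih => rw [Nat.cast_succ, lamSeries_add, ih, lamSeries_one P, pow_succ]

theorem subst_one : (1 : PowerSeries K).subst (T : PowerSeries K) = 1 := by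
  rw [← PowerSeries.coe_substAlgHom hasSubst_T, map_one]

theorem subst_one_add_X : ((1 + PowerSeries.X : PowerSeries K)).subst (T : PowerSeries K) = 1 + T := by
  rw [← PowerSeries.coe_substAlgHom hasSubst_T, map_add, map_one, PowerSeries.coe_substAlgHom,
    PowerSeries.subst_X hasSubst_T]

theorem one_add_T_mul : (1 + T : PowerSeries K) * (1 - PowerSeries.X) = 1 := by
  have h := T_eq (K := K)
  linear_combination h

theorem T_mul : (T : PowerSeries K) * (1 - PowerSeries.X) = PowerSeries.X := by
  have h := T_eq (K := K)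
  linear_combination h

theorem G_neg_nat (P : LambdaRing.PosStructure K) (m : ℕ) :
    (LambdaRing.lamSeries (-(m : K))).subst (T : PowerSeries K) = (1 - PowerSeries.X) ^ m := by
  have h1 : (LambdaRing.lamSeries (-(m : K))).subst (T : PowerSeries K) * (1 + T) ^ m = 1 := by
    rw [← subst_one_add_X, ← PowerSeries.subst_pow hasSubst_T, ← lamSeries_natCast P,
      ← PowerSeries.subst_mul hasSubst_T, ← lamSeries_add, neg_add_cancel, lamSeries_zero,
      subst_one]
  calc (LambdaRing.lamSeries (-(m : K))).subst (T : PowerSeries K)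
      = (LambdaRing.lamSeries (-(m : K))).subst (T : PowerSeries K) *
          ((1 + T) * (1 - PowerSeries.X)) ^ m := by rw [one_add_T_mul, one_pow, mul_one]
    _ = ((LambdaRing.lamSeries (-(m : K))).subst (T : PowerSeries K) * (1 + T) ^ m) *
          (1 - PowerSeries.X) ^ m := by rw [mul_pow, mul_assoc]
    _ = (1 - PowerSeries.X) ^ m := by rw [h1, one_mul]

theorem lamSeries_pos (P : LambdaRing.PosStructure K) (e : K) (he : e ∈ P.pos) :
    LambdaRing.lamSeries e = ∑ j ∈ range ((P.aug e).toNat + 1),
      LambdaRing.LambdaOps.lam j e • (PowerSeries.X : PowerSeries K) ^ j := by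
  have hpos := P.aug_pos e he
  ext n
  simp only [LambdaRing.lamSeries, PowerSeries.coeff_mk, map_sum, map_smul, PowerSeries.coeff_X_pow,
    smul_eq_mul, mul_ite, mul_one, mul_zero]
  rw [Finset.sum_ite_eq]
  split_ifs with hn
  · rfl
  · rw [Finset.mem_range] at hn
    apply P.lam_eq_zero e he n
    omega

theorem G_pos (P : LambdaRing.PosStructure K) (e : K) (he : e ∈ P.pos) :
    (LambdaRing.lamSeries e).subst (T : PowerSeries K) = ∑ j ∈ range ((P.aug e).toNat + 1),
      LambdaRing.LambdaOps.lam j e • (T : PowerSeries K) ^ j := by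
  rw [lamSeries_pos P e he, ← PowerSeries.coe_substAlgHom hasSubst_T, map_sum]
  apply Finset.sum_congr rfl
  intro j _
  rw [map_smul, map_pow, PowerSeries.coe_substAlgHom, PowerSeries.subst_X hasSubst_T]

theorem G_main (P : LambdaRing.PosStructure K) (e : K) (he : e ∈ P.pos) :
    (LambdaRing.lamSeries (e - ((P.aug e).toNat : K))).subst (T : PowerSeries K) =
      ∑ j ∈ range ((P.aug e).toNat + 1), LambdaRing.LambdaOps.lam j e •
        ((PowerSeries.X : PowerSeries K) ^ j * (1 - PowerSeries.X) ^ ((P.aug e).toNat - j)) := by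
  rw [sub_eq_add_neg, lamSeries_add, PowerSeries.subst_mul hasSubst_T, G_pos P e he, G_neg_nat P,
    Finset.sum_mul]
  apply Finset.sum_congr rfl
  intro j hj
  rw [Finset.mem_range] at hj
  have : (1 - PowerSeries.X : PowerSeries K) ^ (P.aug e).toNat =
      (1 - PowerSeries.X) ^ j * (1 - PowerSeries.X) ^ ((P.aug e).toNat - j) := by
    rw [← pow_add]
    congr 1
    omega
  rw [this, smul_mul_assoc, ← mul_assoc, ← mul_pow, T_mul]

theorem coeff_one_sub_X_pow (N l : ℕ) :
    PowerSeries.coeff l ((1 - PowerSeries.X : PowerSeries K) ^ N) = (-1) ^ l * (N.choose l : K) := by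
  have e1 : (1 - PowerSeries.X : PowerSeries K) = (-PowerSeries.X) + 1 := by ring
  rw [e1, add_pow, map_sum]
  have h2 : ∀ x ∈ range (N + 1), PowerSeries.coeff l ((-PowerSeries.X : PowerSeries K) ^ x *
      1 ^ (N - x) * (N.choose x : PowerSeries K)) =
      if l = x then (-1) ^ l * (N.choose l : K) else 0 := by
    intro x _
    have e2 : (-PowerSeries.X : PowerSeries K) ^ x * 1 ^ (N - x) * (N.choose x : PowerSeries K) =
        PowerSeries.C ((-1) ^ x * (N.choose x : K)) * PowerSeries.X ^ x := by
      rw [one_pow, mul_one, neg_pow, map_mul, map_pow, map_neg, map_one, map_natCast]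
      ring
    rw [e2, PowerSeries.coeff_C_mul_X_pow]
    split_ifs with h
    · subst h
      rfl
    · rfl
  rw [Finset.sum_congr rfl h2, Finset.sum_ite_eq]
  split_ifs with h
  · rfl
  · rw [Finset.mem_range] at h
    rw [Nat.choose_eq_zero_of_lt (by omega), Nat.cast_zero, mul_zero]

theorem reflect_identity (m j : ℕ) (hj : j ≤ m) :
    ∑ i ∈ range (m + 1), Polynomial.C (PowerSeries.coeff i
      ((PowerSeries.X : PowerSeries K) ^ j * (1 - PowerSeries.X) ^ (m - j))) * Polynomial.X ^ (m - i) =
      (Polynomial.X - 1) ^ (m - j) := by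
  rw [← Finset.sum_range_add_sum_Ico _ (show j ≤ m + 1 by omega)]
  have h0 : ∑ i ∈ range j, Polynomial.C (PowerSeries.coeff i
      ((PowerSeries.X : PowerSeries K) ^ j * (1 - PowerSeries.X) ^ (m - j))) * Polynomial.X ^ (m - i) = 0 := by
    apply Finset.sum_eq_zero
    intro i hi
    rw [Finset.mem_range] at hi
    rw [PowerSeries.coeff_X_pow_mul', if_neg (by omega), map_zero, zero_mul]
  rw [h0, zero_add, Finset.sum_Ico_eq_sum_range]
  rw [show m + 1 - j = (m - j) + 1 by omega]
  have : (Polynomial.X - 1 : Polynomial K) = (-1) + Polynomial.X := by ring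
  rw [this, add_pow]
  apply Finset.sum_congr rfl
  intro l hl
  rw [Finset.mem_range] at hl
  rw [PowerSeries.coeff_X_pow_mul', if_pos (by omega), show j + l - j = l by omega,
    coeff_one_sub_X_pow, show m - (j + l) = m - j - l by omega]
  simp only [map_mul, map_pow, map_neg, map_one, map_natCast]
  ring

/-- For a positive element e of augmentation m in a λ-ring with positive structure, the polynomials
Σ_{i=0}^{m} γ^i(e − m) t^(m−i) and Σ_{i=0}^{m} λ^i(e) (t − 1)^(m−i) are equal. -/
theorem result (K : Type u) [CommRing K] [LambdaRing.LambdaOps K] (P : LambdaRing.PosStructure K) (e : K) (he : e ∈ P.pos) :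
    (∑ i ∈ range ((P.aug e).toNat + 1),
        Polynomial.C (LambdaRing.gamma i (e - ((P.aug e).toNat : K))) * Polynomial.X ^ ((P.aug e).toNat - i)) =
      ∑ i ∈ range ((P.aug e).toNat + 1),
        Polynomial.C (LambdaRing.LambdaOps.lam i e) * (Polynomial.X - 1) ^ ((P.aug e).toNat - i) := by
  classical
  have hg : ∀ i, LambdaRing.gamma i (e - ((P.aug e).toNat : K)) =
      ∑ j ∈ range ((P.aug e).toNat + 1), LambdaRing.LambdaOps.lam j e *
        PowerSeries.coeff i ((PowerSeries.X : PowerSeries K) ^ j *
          (1 - PowerSeries.X) ^ ((P.aug e).toNat - j)) := by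
    intro i
    rw [gamma_eq_coeff, G_main P e he, map_sum]
    simp only [map_smul, smul_eq_mul]
  simp only [hg, map_sum, map_mul, Finset.sum_mul]
  rw [Finset.sum_comm]
  apply Finset.sum_congr rfl
  intro j hj
  rw [Finset.mem_range] at hj
  simp only [mul_assoc]
  rw [← Finset.mul_sum, reflect_identity _ j (by omega)]

end Groth.Agent.S3290
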