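import Groth.Statements.S3291

set_option autoImplicit false
universe u
open Finset
open LambdaRing

namespace Groth.Agent.S3291

/-- The generating set of the `n`-th term of the γ-filtration. -/
def gen {K : Type u} [CommRing K] [LambdaRing.LambdaOps K] (P : LambdaRing.PosStructure K) (n : ℕ) : Set K :=
  {y | ∃ (l : List (ℕ × K)), (∀ p ∈ l, P.aug p.2 = 0) ∧ n ≤ (l.map Prod.fst).sum ∧
        y = (l.map fun p => gamma p.1 p.2).prod}

theorem filt_eq {K : Type u} [CommRing K] [LambdaRing.LambdaOps K] (P : LambdaRing.PosStructure K)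
    (n : ℕ) (hn : n ≠ 0) : LambdaRing.gammaFiltration P n = AddSubgroup.closure (gen P n) := by
  unfold LambdaRing.gammaFiltration
  rw [if_neg hn]
  rfl

theorem gen_mul {K : Type u} [CommRing K] [LambdaRing.LambdaOps K] (P : LambdaRing.PosStructure K)
    (m n : ℕ) (y z : K) (hy : y ∈ gen P m) (hz : z ∈ gen P n) : y * z ∈ gen P (m + n) := by
  obtain ⟨l1, h1, s1, rfl⟩ := hy
  obtain ⟨l2, h2, s2, rfl⟩ := hz
  refine ⟨l1 ++ l2, ?_, ?_, ?_⟩
  · intro p hp
    rcases List.mem_append.mp hp with hp | hp
    · exact h1 p hp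
    · exact h2 p hp
  · simp only [List.map_append, List.sum_append]
    omega
  · simp only [List.map_append, List.prod_append]

theorem gen_mono {K : Type u} [CommRing K] [LambdaRing.LambdaOps K] (P : LambdaRing.PosStructure K)
    (m n : ℕ) (h : m ≤ n) : gen P n ⊆ gen P m := by
  rintro y ⟨l, h1, s1, rfl⟩
  exact ⟨l, h1, le_trans h s1, rfl⟩

theorem gamma_one {K : Type u} [CommRing K] [LambdaRing.LambdaOps K] (x : K) : gamma 1 x = x := by
  unfold gamma
  simp [Finset.sum_range_succ, LambdaOps.lam_one]

theorem mul_gen {K : Type u} [CommRing K] [LambdaRing.LambdaOps K] (P : LambdaRing.PosStructure K)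
    (n : ℕ) (a y : K) (hy : y ∈ gen P n) : a * y ∈ AddSubgroup.closure (gen P n) := by
  have hsplit : a * y = (P.aug a) • y + (a - (P.aug a : K)) * y := by
    rw [zsmul_eq_mul]; ring
  rw [hsplit]
  apply AddSubgroup.add_mem
  · exact AddSubgroup.zsmul_mem _ (AddSubgroup.subset_closure hy) _
  · apply AddSubgroup.subset_closure
    apply gen_mono P n (n + 1) (by omega)
    have h1 : (a - (P.aug a : K)) ∈ gen P 1 := by
      refine ⟨[(1, a - (P.aug a : K))], ?_, ?_, ?_⟩
      · intro p hp
        simp only [List.mem_singleton] at hp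
        subst hp
        simp
      · simp
      · simp [gamma_one]
    have := gen_mul P 1 n _ _ h1 hy
    rwa [add_comm] at this

theorem part1 {K : Type u} [CommRing K] [LambdaRing.LambdaOps K] (P : LambdaRing.PosStructure K) :
    ∀ (n : ℕ) (a x : K), x ∈ LambdaRing.gammaFiltration P n → a * x ∈ LambdaRing.gammaFiltration P n := by
  intro n a x hx
  by_cases hn : n = 0
  · subst hn
    unfold LambdaRing.gammaFiltration
    simp
  rw [filt_eq P n hn] at hx ⊢
  induction hx using AddSubgroup.closure_induction with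
  | mem y hy => exact mul_gen P n a y hy
  | zero => rw [mul_zero]; exact AddSubgroup.zero_mem _
  | add y z _ _ hy hz => rw [mul_add]; exact AddSubgroup.add_mem _ hy hz
  | neg y _ hy => rw [mul_neg]; exact AddSubgroup.neg_mem _ hy

theorem result (K : Type u) [CommRing K] [LambdaRing.LambdaOps K] (P : LambdaRing.PosStructure K) :
    (∀ (n : ℕ) (a x : K), x ∈ LambdaRing.gammaFiltration P n → a * x ∈ LambdaRing.gammaFiltration P n) ∧
    ∀ (m n : ℕ) (x y : K), x ∈ LambdaRing.gammaFiltration P m → y ∈ LambdaRing.gammaFiltration P n →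
      x * y ∈ LambdaRing.gammaFiltration P (m + n) := by
  refine ⟨part1 P, ?_⟩
  intro m n x y hx hy
  by_cases hm : m = 0
  · subst hm
    rw [zero_add]
    exact part1 P n x y hy
  by_cases hn : n = 0
  · subst hn
    rw [add_zero, mul_comm]
    exact part1 P m y x hx
  have hmn : m + n ≠ 0 := by omega
  rw [filt_eq P m hm] at hx
  rw [filt_eq P n hn] at hy
  rw [filt_eq P (m + n) hmn]
  induction hx using AddSubgroup.closure_induction with
  | mem g hg =>
    induction hy using AddSubgroup.closure_induction with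
    | mem g' hg' => exact AddSubgroup.subset_closure (gen_mul P m n g g' hg hg')
    | zero => rw [mul_zero]; exact AddSubgroup.zero_mem _
    | add y z _ _ hy hz => rw [mul_add]; exact AddSubgroup.add_mem _ hy hz
    | neg y _ hy => rw [mul_neg]; exact AddSubgroup.neg_mem _ hy
  | zero => rw [zero_mul]; exact AddSubgroup.zero_mem _
  | add y z _ _ hy' hz' => rw [add_mul]; exact AddSubgroup.add_mem _ hy' hz'
  | neg y _ hy' => rw [neg_mul]; exact AddSubgroup.neg_mem _ hy'

end Groth.Agent.S3291
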