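import Groth.Statements.S4389
-- import your own Groth.Agent.* helpers here

set_option autoImplicit false
universe u
open EGA2

namespace Groth.Agent.S4389

/-- Let S be a ring graded in nonnegative degrees, S_0 its degree-zero subring, S_+ its irrelevant
ideal, and E a set of homogeneous elements of positive degree. Then E generates S_+ as an ideal of S
if and only if E generates S as an S_0-algebra. -/
theorem result {R A : Type u} [CommRing R] [CommRing A] [Algebra R A] (𝒜 : ℕ → Submodule R A) [GradedAlgebra 𝒜]
    (E : Set A) (hE : ∀ e ∈ E, ∃ d : ℕ, 0 < d ∧ e ∈ 𝒜 d) :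
    (HomogeneousIdeal.irrelevant 𝒜).toIdeal = Ideal.span E ↔ Algebra.adjoin (𝒜 0) E = ⊤ := by
  classical
  have hspan : Ideal.span E ≤ (HomogeneousIdeal.irrelevant 𝒜).toIdeal := by
    rw [Ideal.span_le]
    intro e he
    obtain ⟨d, hd, hed⟩ := hE e he
    exact HomogeneousIdeal.mem_irrelevant_of_mem 𝒜 hd hed
  constructor
  · intro h
    have key : ∀ n, ∀ x ∈ 𝒜 n, x ∈ Algebra.adjoin (𝒜 0) E := by
      intro n
      induction n using Nat.strong_induction_on with
      | _ n ih =>
        intro x hx
        rcases Nat.eq_zero_or_pos n with rfl | hn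
        · have : x = algebraMap (𝒜 0) A ⟨x, hx⟩ := rfl
          rw [this]
          exact Subalgebra.algebraMap_mem _ _
        · have hx' : x ∈ Ideal.span E := by
            rw [← h]
            exact HomogeneousIdeal.mem_irrelevant_of_mem 𝒜 hn hx
          obtain ⟨c, hc, hcx⟩ := Submodule.mem_span_set.mp hx'
          have hxn : x = GradedRing.proj 𝒜 n x := by
            rw [GradedRing.proj_apply]
            exact (DirectSum.decompose_of_mem_same 𝒜 hx).symm
          rw [hxn, ← hcx, Finsupp.sum, map_sum]
          refine Subalgebra.sum_mem _ (fun e he => ?_)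
          obtain ⟨d, hd, hed⟩ := hE e (hc he)
          rw [smul_eq_mul, GradedRing.proj_apply]
          by_cases hdn : d ≤ n
          · rw [DirectSum.coe_decompose_mul_of_right_mem_of_le 𝒜 hed hdn]
            exact Subalgebra.mul_mem _ (ih _ (by omega) _ (SetLike.coe_mem _))
              (Algebra.subset_adjoin (hc he))
          · rw [DirectSum.coe_decompose_mul_of_right_mem_of_not_le 𝒜 hed hdn]
            exact Subalgebra.zero_mem _
    rw [eq_top_iff]
    intro x _
    rw [← DirectSum.sum_support_decompose 𝒜 x]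
    exact Subalgebra.sum_mem _ (fun i _ => key i _ (SetLike.coe_mem _))
  · intro h
    apply le_antisymm _ hspan
    have hP' : ∀ x ∈ Algebra.adjoin (𝒜 0) E, ∃ c : 𝒜 0, x - algebraMap (𝒜 0) A c ∈ Ideal.span E := by
      intro x hx'
      induction hx' using Algebra.adjoin_induction with
      | mem y hy => exact ⟨0, by simpa using Ideal.subset_span hy⟩
      | algebraMap r => exact ⟨r, by simp⟩
      | add y z _ _ hy hz =>
        obtain ⟨c1, h1⟩ := hy
        obtain ⟨c2, h2⟩ := hz
        refine ⟨c1 + c2, ?_⟩
        have : y + z - algebraMap (𝒜 0) A (c1 + c2) =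
            (y - algebraMap (𝒜 0) A c1) + (z - algebraMap (𝒜 0) A c2) := by
          rw [map_add]; ring
        rw [this]
        exact Ideal.add_mem _ h1 h2
      | mul y z _ _ hy hz =>
        obtain ⟨c1, h1⟩ := hy
        obtain ⟨c2, h2⟩ := hz
        refine ⟨c1 * c2, ?_⟩
        have : y * z - algebraMap (𝒜 0) A (c1 * c2) =
            (y - algebraMap (𝒜 0) A c1) * z + algebraMap (𝒜 0) A c1 * (z - algebraMap (𝒜 0) A c2) := by
          rw [map_mul]; ring
        rw [this]
        exact Ideal.add_mem _ (Ideal.mul_mem_right _ _ h1) (Ideal.mul_mem_left _ _ h2)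
    intro x hx
    have hx' : x ∈ Algebra.adjoin (𝒜 0) E := by rw [h]; trivial
    obtain ⟨c, hc⟩ := hP' x hx'
    have h1 := (HomogeneousIdeal.mem_irrelevant_iff 𝒜 _).mp (hspan hc)
    have h2 := (HomogeneousIdeal.mem_irrelevant_iff 𝒜 _).mp hx
    have h3 : GradedRing.proj 𝒜 0 (algebraMap (𝒜 0) A c) = algebraMap (𝒜 0) A c := by
      rw [GradedRing.proj_apply]
      exact DirectSum.decompose_of_mem_same 𝒜 c.2
    rw [map_sub, h2, h3, zero_sub, neg_eq_zero] at h1
    rw [h1, sub_zero] at hc
    exact hc

end Groth.Agent.S4389
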