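import Groth.Statements.S4390
import Groth.Agent.S4389
import Mathlib.RingTheory.GradedAlgebra.FiniteType

set_option autoImplicit false
universe u
open EGA2

namespace Groth.Agent.S4390

/-- Let S be a ring graded in nonnegative degrees. Then the irrelevant ideal S_+ is a finitely generated
ideal if and only if S is an S_0-algebra of finite type. -/
theorem result {R A : Type u} [CommRing R] [CommRing A] [Algebra R A] (𝒜 : ℕ → Submodule R A) [GradedAlgebra 𝒜] :
    (HomogeneousIdeal.irrelevant 𝒜).toIdeal.FG ↔ Algebra.FiniteType (𝒜 0) A := by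
  classical
  constructor
  · rintro ⟨F, hF⟩
    let E : Finset A := F.biUnion (fun f => ((DirectSum.decompose 𝒜 f).support.filter
      (fun i => 0 < i)).image (fun i => (DirectSum.decompose 𝒜 f i : A)))
    have hE : ∀ e ∈ (E : Set A), ∃ d : ℕ, 0 < d ∧ e ∈ 𝒜 d := by
      intro e he
      simp only [E, Finset.coe_biUnion, Finset.coe_image, Finset.coe_filter, Set.mem_iUnion,
        Set.mem_image, Set.mem_ofPred_eq] at he
      obtain ⟨f, _, i, ⟨_, hi⟩, rfl⟩ := he
      exact ⟨i, hi, SetLike.coe_mem _⟩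
    have hEq : (HomogeneousIdeal.irrelevant 𝒜).toIdeal = Ideal.span (E : Set A) := by
      apply le_antisymm
      · rw [← hF, Ideal.span_le]
        intro f hf
        have hf' : f ∈ (HomogeneousIdeal.irrelevant 𝒜).toIdeal := hF ▸ Ideal.subset_span hf
        have h0 : (DirectSum.decompose 𝒜 f 0 : A) = 0 := by
          have := (HomogeneousIdeal.mem_irrelevant_iff 𝒜 f).mp hf'
          rwa [GradedRing.proj_apply] at this
        rw [SetLike.mem_coe, ← DirectSum.sum_support_decompose 𝒜 f]
        refine Ideal.sum_mem _ (fun i hi => ?_)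
        rcases Nat.eq_zero_or_pos i with rfl | hi0
        · rw [h0]; exact Ideal.zero_mem _
        · apply Ideal.subset_span
          simp only [E, Finset.coe_biUnion, Finset.coe_image, Finset.coe_filter, Set.mem_iUnion,
            Set.mem_image, Set.mem_ofPred_eq]
          exact ⟨f, hf, i, ⟨hi, hi0⟩, rfl⟩
      · rw [Ideal.span_le]
        intro e he
        obtain ⟨d, hd, hed⟩ := hE e he
        exact HomogeneousIdeal.mem_irrelevant_of_mem 𝒜 hd hed
    have hadj := (Groth.Agent.S4389.result 𝒜 (E : Set A) hE).mp hEq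
    exact ⟨⟨E, hadj⟩⟩
  · intro hft
    obtain ⟨s, hs, hs'⟩ := GradedAlgebra.exists_finset_adjoin_eq_top_and_homogeneous_ne_zero 𝒜
    have hE : ∀ e ∈ (s : Set A), ∃ d : ℕ, 0 < d ∧ e ∈ 𝒜 d := by
      intro e he
      obtain ⟨n, hn, hen⟩ := hs' e he
      exact ⟨n, Nat.pos_of_ne_zero hn, hen⟩
    exact ⟨s, ((Groth.Agent.S4389.result 𝒜 (s : Set A) hE).mpr hs).symm⟩

end Groth.Agent.S4390
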