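import Groth.Statements.S5204
-- import your own Groth.Agent.* helpers here

set_option autoImplicit false
open CategoryTheory CategoryTheory.Limits
universe w v₁ u₁
open DescCat

namespace Groth.Agent.S5204

/-- In a category with pullbacks: if `u` and `v` are effective epimorphisms and `v` is a universal
epimorphism (all its base changes are epimorphisms), then the composite `v ≫ u` is an effective
epimorphism. -/
theorem result {C : Type u₁} [Category.{v₁} C] [HasPullbacks C]
    {U T S : C} (v : U ⟶ T) (u : T ⟶ S) [EffectiveEpi u] [EffectiveEpi v]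
    (hv : MorphismProperty.universally (MorphismProperty.epimorphisms C) v) :
    EffectiveEpi (v ≫ u) := by
  have hev : ∀ {W : C} (e : U ⟶ W), (∀ {Z : C} (g₁ g₂ : Z ⟶ U), g₁ ≫ (v ≫ u) = g₂ ≫ (v ≫ u) → g₁ ≫ e = g₂ ≫ e) →
      ∀ {Z : C} (g₁ g₂ : Z ⟶ U), g₁ ≫ v = g₂ ≫ v → g₁ ≫ e = g₂ ≫ e := by
    intro W e he Z g₁ g₂ hg
    apply he
    rw [← Category.assoc, hg, Category.assoc]
  have heu : ∀ {W : C} (e : U ⟶ W)
      (he : ∀ {Z : C} (g₁ g₂ : Z ⟶ U), g₁ ≫ (v ≫ u) = g₂ ≫ (v ≫ u) → g₁ ≫ e = g₂ ≫ e),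
      ∀ {Z : C} (h₁ h₂ : Z ⟶ T), h₁ ≫ u = h₂ ≫ u →
        h₁ ≫ EffectiveEpi.desc v e (hev e he) = h₂ ≫ EffectiveEpi.desc v e (hev e he) := by
    intro W e he Z h₁ h₂ hh
    set d := EffectiveEpi.desc v e (hev e he) with hd
    have hvd : v ≫ d = e := EffectiveEpi.fac v e (hev e he)
    have hp : Epi (pullback.fst h₁ v) := hv _ _ _ (IsPullback.of_hasPullback h₁ v)
    have hr : Epi (pullback.fst (pullback.fst h₁ v ≫ h₂) v) :=
      hv _ _ _ (IsPullback.of_hasPullback (pullback.fst h₁ v ≫ h₂) v)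
    have c1 : ∀ {W' : C} (x : T ⟶ W'), pullback.fst h₁ v ≫ h₁ ≫ x = pullback.snd h₁ v ≫ v ≫ x := by
      intro W' x; rw [← Category.assoc, pullback.condition, Category.assoc]
    have c2 : ∀ {W' : C} (x : T ⟶ W'), pullback.fst (pullback.fst h₁ v ≫ h₂) v ≫ pullback.fst h₁ v ≫ h₂ ≫ x =
        pullback.snd (pullback.fst h₁ v ≫ h₂) v ≫ v ≫ x := by
      intro W' x
      rw [← Category.assoc (pullback.fst h₁ v), ← Category.assoc, pullback.condition, Category.assoc]
    have key : (pullback.fst (pullback.fst h₁ v ≫ h₂) v ≫ pullback.snd h₁ v) ≫ e =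
        pullback.snd (pullback.fst h₁ v ≫ h₂) v ≫ e := by
      apply he
      rw [Category.assoc, ← c1, hh, c2]
    rw [← hvd, Category.assoc, ← c1, ← c2] at key
    rw [cancel_epi, cancel_epi] at key
    exact key
  refine ⟨⟨{ desc := fun {W} e he => EffectiveEpi.desc u (EffectiveEpi.desc v e (hev e he)) (heu e he)
             fac := ?_
             uniq := ?_ }⟩⟩
  · intro W e he
    rw [Category.assoc, EffectiveEpi.fac, EffectiveEpi.fac]
  · intro W e he m hm
    apply EffectiveEpi.uniq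
    apply EffectiveEpi.uniq
    rw [← Category.assoc]; exact hm

end Groth.Agent.S5204
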