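import Groth.Statements.S5205
import Groth.Agent.S5204
-- import your own Groth.Agent.* helpers here

set_option autoImplicit false
open CategoryTheory CategoryTheory.Limits
universe w v₁ u₁
open DescCat

namespace Groth.Agent.S5205

/-- First assertion: in a category with pullbacks: universal effective epimorphisms (morphisms all of
whose base changes are effective epimorphisms) are stable under composition. -/
theorem result {C : Type u₁} [Category.{v₁} C] [HasPullbacks C]
    {U T S : C} (v : U ⟶ T) (u : T ⟶ S)
    (hu : (MorphismProperty.universally (fun (A B : C) (p : A ⟶ B) => EffectiveEpi p)) u) (hv : (MorphismProperty.universally (fun (A B : C) (p : A ⟶ B) => EffectiveEpi p)) v) :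
    (MorphismProperty.universally (fun (A B : C) (p : A ⟶ B) => EffectiveEpi p)) (v ≫ u) := by
  intro X' Y' i₁ i₂ f' H
  have w : f' ≫ i₂ = (i₁ ≫ v) ≫ u := by rw [H.w, Category.assoc]
  have hL1 : pullback.lift f' (i₁ ≫ v) w ≫ pullback.fst i₂ u = f' := pullback.lift_fst _ _ _
  have hL2 : pullback.lift f' (i₁ ≫ v) w ≫ pullback.snd i₂ u = i₁ ≫ v := pullback.lift_snd _ _ _
  have HL : IsPullback (pullback.lift f' (i₁ ≫ v) w) i₁ (pullback.snd i₂ u) v := by
    have H' := H
    rw [← hL1] at H'
    exact H'.of_right hL2 (IsPullback.of_hasPullback i₂ u)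
  have e1 : EffectiveEpi (pullback.fst i₂ u) :=
    hu (pullback.snd i₂ u) i₂ (pullback.fst i₂ u) (IsPullback.of_hasPullback i₂ u)
  have e2 : EffectiveEpi (pullback.lift f' (i₁ ≫ v) w) :=
    hv i₁ (pullback.snd i₂ u) _ HL
  have e3 : MorphismProperty.universally (MorphismProperty.epimorphisms C)
      (pullback.lift f' (i₁ ≫ v) w) := by
    intro X'' Y'' j₁ j₂ f'' H''
    have : EffectiveEpi f'' := hv _ _ _ (H''.paste_vert HL)
    exact (MorphismProperty.epimorphisms.iff _).mpr inferInstance
  have := Groth.Agent.S5204.result (pullback.lift f' (i₁ ≫ v) w) (pullback.fst i₂ u) e3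
  rw [hL1] at this
  exact this

end Groth.Agent.S5205
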