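import Groth.Statements.S5206
-- import your own Groth.Agent.* helpers here

set_option autoImplicit false
open CategoryTheory CategoryTheory.Limits
universe w v₁ u₁
open DescCat

namespace Groth.Agent.S5206

theorem effEpi_of_comp_aux {C : Type u₁} [Category.{v₁} C] [HasPullbacks C]
    {A B D : C} (g : A ⟶ B) (f : B ⟶ D) [hgf : EffectiveEpi (g ≫ f)]
    [hp : Epi (pullback.fst f (g ≫ f))] : EffectiveEpi f := by
  refine ⟨⟨{ desc := fun {W} e he => EffectiveEpi.desc (g ≫ f) (g ≫ e) (fun g₁ g₂ hg => by
                simpa [Category.assoc] using he (g₁ ≫ g) (g₂ ≫ g) (by simpa [Category.assoc] using hg))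
             fac := ?_
             uniq := ?_ }⟩⟩
  · intro W e he
    rw [← cancel_epi (pullback.fst f (g ≫ f))]
    have hc : pullback.fst f (g ≫ f) ≫ f = (pullback.snd f (g ≫ f) ≫ g) ≫ f := by
      rw [pullback.condition, Category.assoc]
    rw [← Category.assoc, hc, Category.assoc, Category.assoc, ← Category.assoc g f, EffectiveEpi.fac]
    rw [← Category.assoc]; exact (he _ _ hc).symm
  · intro W e he m hm
    apply EffectiveEpi.uniq
    rw [Category.assoc, hm]


/-- Second assertion: in a category with pullbacks: if `v ≫ u` is a universal effective epimorphism (all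
base changes are effective epimorphisms), then so is `u`; nothing is assumed about `v`. -/
theorem result {C : Type u₁} [Category.{v₁} C] [HasPullbacks C]
    {U T S : C} (v : U ⟶ T) (u : T ⟶ S)
    (h : (MorphismProperty.universally (fun (A B : C) (p : A ⟶ B) => EffectiveEpi p)) (v ≫ u)) :
    (MorphismProperty.universally (fun (A B : C) (p : A ⟶ B) => EffectiveEpi p)) u := by
  intro X' Y' i₁ i₂ f' H
  have hpb : IsPullback (pullback.fst i₁ v ≫ f') (pullback.snd i₁ v) i₂ (v ≫ u) :=
    (IsPullback.of_hasPullback i₁ v).paste_horiz H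
  have hw : (MorphismProperty.universally (fun (A B : C) (p : A ⟶ B) => EffectiveEpi p))
      (pullback.fst i₁ v ≫ f') := by
    intro X'' Y'' j₁ j₂ f'' H'
    exact h _ _ _ (H'.paste_vert hpb)
  have h1 : EffectiveEpi (pullback.fst i₁ v ≫ f') := MorphismProperty.universally_le _ _ hw
  have h2 : EffectiveEpi (pullback.fst f' (pullback.fst i₁ v ≫ f')) :=
    hw _ _ _ (IsPullback.of_hasPullback f' (pullback.fst i₁ v ≫ f'))
  exact effEpi_of_comp_aux (pullback.fst i₁ v) f'

end Groth.Agent.S5206
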