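import Groth.Statements.S5208
-- import your own Groth.Agent.* helpers here

set_option autoImplicit false
open CategoryTheory CategoryTheory.Limits
universe w v₁ u₁
open DescCat

namespace Groth.Agent.S5208

/-- The strong form established in its proof: if `u : T ⟶ S` admits a section and `T ×_S T` exists, then
for every presheaf of sets `F` the diagram `F(S) → F(T) ⇉ F(T ×_S T)` is exact. In particular `u` is
an effective epimorphism. -/
theorem result {C : Type u₁} [Category.{v₁} C]
    {T S : C} (u : T ⟶ S) [IsSplitEpi u] [HasPullback u u] (F : Cᵒᵖ ⥤ Type w) :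
    Function.Injective (F.map u.op) ∧
      ∀ y : F.obj (Opposite.op T),
        F.map (pullback.fst u u).op y = F.map (pullback.snd u u).op y →
          y ∈ Set.range (F.map u.op) := by
  set s := section_ u with hs
  have hsu : s ≫ u = 𝟙 S := IsSplitEpi.id u
  have key : ∀ z : F.obj (Opposite.op S), F.map s.op (F.map u.op z) = z := by
    intro z
    have : F.map (s ≫ u).op z = z := by rw [hsu]; simp
    simpa [FunctorToTypes.map_comp_apply] using this
  refine ⟨fun a b hab => by rw [← key a, ← key b, hab], ?_⟩
  intro y hy
  let l : T ⟶ pullback u u := pullback.lift (𝟙 T) (u ≫ s) (by rw [Category.id_comp, Category.assoc, hsu, Category.comp_id])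
  have h1 : l ≫ pullback.fst u u = 𝟙 T := pullback.lift_fst _ _ _
  have h2 : l ≫ pullback.snd u u = u ≫ s := pullback.lift_snd _ _ _
  refine ⟨F.map s.op y, ?_⟩
  have e1 : F.map l.op (F.map (pullback.fst u u).op y) = y := by
    rw [← FunctorToTypes.map_comp_apply, ← op_comp, h1]; simp
  have e2 : F.map l.op (F.map (pullback.snd u u).op y) = F.map u.op (F.map s.op y) := by
    rw [← FunctorToTypes.map_comp_apply, ← op_comp, h2, op_comp, FunctorToTypes.map_comp_apply]
  rw [← e2, ← hy, e1]

end Groth.Agent.S5208
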