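import Groth.Statements.S5211
-- import your own Groth.Agent.* helpers here

set_option autoImplicit false
open CategoryTheory CategoryTheory.Limits
universe w v₁ u₁
open DescCat

namespace Groth.Agent.S5211

/-- In a category with pullbacks: if `f : S' ⟶ S` is a universal effective epimorphism and the canonical
map `S' ×_S S' ⟶ S' ×_T S'` induced by `g : S ⟶ T` is an isomorphism, then `g` is a monomorphism. -/
theorem result {C : Type u₁} [Category.{v₁} C] [HasPullbacks C]
    {S' S T : C} (f : S' ⟶ S) (hf : (MorphismProperty.universally (fun (A B : C) (p : A ⟶ B) => EffectiveEpi p)) f) (g : S ⟶ T)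
    [IsIso (pullback.mapDesc f f g)] : Mono g := by
  constructor
  intro Z a b hab
  have hp : EffectiveEpi (pullback.fst a f) := hf _ _ _ (IsPullback.of_hasPullback a f)
  have hr : EffectiveEpi (pullback.fst (pullback.fst a f ≫ b) f) :=
    hf _ _ _ (IsPullback.of_hasPullback (pullback.fst a f ≫ b) f)
  have c1 : pullback.fst a f ≫ a = pullback.snd a f ≫ f := pullback.condition
  have c2 : pullback.fst (pullback.fst a f ≫ b) f ≫ pullback.fst a f ≫ b =
      pullback.snd (pullback.fst a f ≫ b) f ≫ f := by
    exact pullback.condition (f := pullback.fst a f ≫ b) (g := f)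
  have c1' : ∀ {W : C} (x : S ⟶ W), pullback.fst a f ≫ a ≫ x = pullback.snd a f ≫ f ≫ x := by
    intro W x; rw [← Category.assoc, c1, Category.assoc]
  have c2' : ∀ {W : C} (x : S ⟶ W), pullback.fst (pullback.fst a f ≫ b) f ≫ pullback.fst a f ≫ b ≫ x =
      pullback.snd (pullback.fst a f ≫ b) f ≫ f ≫ x := by
    intro W x
    calc pullback.fst (pullback.fst a f ≫ b) f ≫ pullback.fst a f ≫ b ≫ x
        = (pullback.fst (pullback.fst a f ≫ b) f ≫ pullback.fst a f ≫ b) ≫ x := by
          simp only [Category.assoc]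
      _ = (pullback.snd (pullback.fst a f ≫ b) f ≫ f) ≫ x := by rw [c2]
      _ = pullback.snd (pullback.fst a f ≫ b) f ≫ f ≫ x := Category.assoc _ _ _
  have w : (pullback.fst (pullback.fst a f ≫ b) f ≫ pullback.snd a f) ≫ (f ≫ g) =
      pullback.snd (pullback.fst a f ≫ b) f ≫ (f ≫ g) := by
    simp only [Category.assoc]
    rw [← c1', hab, c2']
  have m1 : pullback.mapDesc f f g ≫ pullback.fst (f ≫ g) (f ≫ g) = pullback.fst f f :=
    (pullback.lift_fst _ _ _).trans (Category.comp_id _)
  have m2 : pullback.mapDesc f f g ≫ pullback.snd (f ≫ g) (f ≫ g) = pullback.snd f f :=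
    (pullback.lift_snd _ _ _).trans (Category.comp_id _)
  have k1 : (pullback.lift _ _ w ≫ inv (pullback.mapDesc f f g)) ≫ pullback.fst f f =
      pullback.fst (pullback.fst a f ≫ b) f ≫ pullback.snd a f := by
    rw [← m1, Category.assoc, IsIso.inv_hom_id_assoc, pullback.lift_fst]
  have k2 : (pullback.lift _ _ w ≫ inv (pullback.mapDesc f f g)) ≫ pullback.snd f f =
      pullback.snd (pullback.fst a f ≫ b) f := by
    rw [← m2, Category.assoc, IsIso.inv_hom_id_assoc, pullback.lift_snd]
  obtain ⟨K, hK1, hK2⟩ : ∃ K : pullback (pullback.fst a f ≫ b) f ⟶ pullback f f,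
      K ≫ pullback.fst f f = pullback.fst (pullback.fst a f ≫ b) f ≫ pullback.snd a f ∧
      K ≫ pullback.snd f f = pullback.snd (pullback.fst a f ≫ b) f := ⟨_, k1, k2⟩
  have e : pullback.fst (pullback.fst a f ≫ b) f ≫ pullback.fst a f ≫ a =
      pullback.fst (pullback.fst a f ≫ b) f ≫ pullback.fst a f ≫ b := by
    calc pullback.fst (pullback.fst a f ≫ b) f ≫ pullback.fst a f ≫ a
        = pullback.fst (pullback.fst a f ≫ b) f ≫ pullback.snd a f ≫ f := by rw [c1]
      _ = (K ≫ pullback.fst f f) ≫ f := by rw [hK1, Category.assoc]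
      _ = (K ≫ pullback.snd f f) ≫ f := by rw [Category.assoc, Category.assoc, pullback.condition]
      _ = pullback.snd (pullback.fst a f ≫ b) f ≫ f := by rw [hK2]
      _ = pullback.fst (pullback.fst a f ≫ b) f ≫ pullback.fst a f ≫ b := c2.symm
  rw [cancel_epi, cancel_epi] at e
  exact e

end Groth.Agent.S5211
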