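import Groth.Statements.S5214
import Groth.Agent.S5205
-- import your own Groth.Agent.* helpers here

set_option autoImplicit false
open CategoryTheory CategoryTheory.Limits
universe w v₁ u₁
open DescCat

namespace Groth.Agent.S5214

/-- In a category with pullbacks and binary products: the product `u × u'` of two universal effective
epimorphisms (morphisms all of whose base changes are effective epimorphisms) is a universal
effective epimorphism. -/
theorem result {C : Type u₁} [Category.{v₁} C] [HasPullbacks C] [HasBinaryProducts C]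
    {X Y X' Y' : C} (u : X ⟶ Y) (u' : X' ⟶ Y')
    (hu : (MorphismProperty.universally (fun (A B : C) (p : A ⟶ B) => EffectiveEpi p)) u) (hu' : (MorphismProperty.universally (fun (A B : C) (p : A ⟶ B) => EffectiveEpi p)) u') :
    (MorphismProperty.universally (fun (A B : C) (p : A ⟶ B) => EffectiveEpi p)) (prod.map u u') := by
  have snd_pb : ∀ {A B : C} (f : A ⟶ B) (X : C),
      IsPullback prod.snd (prod.map (𝟙 X) f) f prod.snd := by
    intro A B f X
    refine IsPullback.mk' (by simp) ?_ ?_
    · intro T φ φ' h1 h2
      apply prod.hom_ext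
      · have := congrArg (fun k => k ≫ prod.fst) h2
        simpa using this
      · exact h1
    · intro T a b hab
      refine ⟨prod.lift (b ≫ prod.fst) a, prod.lift_snd _ _, ?_⟩
      apply prod.hom_ext
      · rw [Category.assoc, prod.map_fst, Category.comp_id, prod.lift_fst]
      · rw [Category.assoc, prod.map_snd, ← Category.assoc, prod.lift_snd, hab]
  have bc : ∀ {A B A' B' : C} (f : A ⟶ B) (f' : A' ⟶ B') (i₁ : A' ⟶ A) (i₂ : B' ⟶ B),
      IsPullback f' i₁ i₂ f →
      (MorphismProperty.universally (fun (A B : C) (p : A ⟶ B) => EffectiveEpi p)) f →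
      (MorphismProperty.universally (fun (A B : C) (p : A ⟶ B) => EffectiveEpi p)) f' := by
    intro A B A' B' f f' i₁ i₂ hsq hf X'' Y'' j₁ j₂ f'' H''
    exact hf _ _ _ (H''.paste_vert hsq)
  have h1 := bc u (prod.map u (𝟙 X')) prod.fst prod.fst (IsPullback.of_prod_fst_with_id u X').flip hu
  have h2 := bc u' (prod.map (𝟙 Y) u') prod.snd prod.snd (snd_pb u' Y).flip hu'
  have h3 := Groth.Agent.S5205.result (prod.map u (𝟙 X')) (prod.map (𝟙 Y) u') h2 h1
  have e : prod.map u (𝟙 X') ≫ prod.map (𝟙 Y) u' = prod.map u u' := by simp
  rw [e] at h3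
  exact h3

end Groth.Agent.S5214
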