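import Groth.Statements.S5215
-- import your own Groth.Agent.* helpers here

set_option autoImplicit false
open CategoryTheory CategoryTheory.Limits
universe w v₁ u₁
open DescCat

namespace Groth.Agent.S5215

/-- In a category with pullbacks: for a universally effective equivalence relation `p₁, p₂ : R ⇉ X` with
quotient map `π : X ⟶ X/R` and a morphism `g` out of the quotient, `g` is a monomorphism if and only
if `R` is the kernel pair of `π ≫ g`. -/
theorem result {C : Type u₁} [Category.{v₁} C] [HasPullbacks C]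
    {R X Z : C} {p₁ p₂ : R ⟶ X} (e : UniversallyEffectiveEquivalenceRelation p₁ p₂)
    (f : X ⟶ Z) (g : e.B ⟶ Z) (hg : e.π ≫ g = f) :
    Mono g ↔ IsKernelPair f p₁ p₂ := by
  constructor
  · intro hm
    rw [← hg]
    exact e.isKernelPair.comp_of_mono
  · intro hk
    constructor
    intro T a b hab
    have hf := e.universally_effectiveEpi_π
    have hp : EffectiveEpi (pullback.fst a e.π) := hf _ _ _ (IsPullback.of_hasPullback a e.π)
    have hr : EffectiveEpi (pullback.fst (pullback.fst a e.π ≫ b) e.π) :=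
      hf _ _ _ (IsPullback.of_hasPullback (pullback.fst a e.π ≫ b) e.π)
    have c1 : pullback.fst a e.π ≫ a = pullback.snd a e.π ≫ e.π := pullback.condition
    have c2 : pullback.fst (pullback.fst a e.π ≫ b) e.π ≫ pullback.fst a e.π ≫ b =
        pullback.snd (pullback.fst a e.π ≫ b) e.π ≫ e.π :=
      pullback.condition (f := pullback.fst a e.π ≫ b) (g := e.π)
    have w : (pullback.fst (pullback.fst a e.π ≫ b) e.π ≫ pullback.snd a e.π) ≫ f =
        pullback.snd (pullback.fst a e.π ≫ b) e.π ≫ f := by
      rw [← hg]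
      calc (pullback.fst (pullback.fst a e.π ≫ b) e.π ≫ pullback.snd a e.π) ≫ e.π ≫ g
          = pullback.fst (pullback.fst a e.π ≫ b) e.π ≫ (pullback.snd a e.π ≫ e.π) ≫ g := by
            simp only [Category.assoc]
        _ = pullback.fst (pullback.fst a e.π ≫ b) e.π ≫ (pullback.fst a e.π ≫ a) ≫ g := by rw [c1]
        _ = pullback.fst (pullback.fst a e.π ≫ b) e.π ≫ pullback.fst a e.π ≫ (a ≫ g) := by
            simp only [Category.assoc]
        _ = pullback.fst (pullback.fst a e.π ≫ b) e.π ≫ pullback.fst a e.π ≫ (b ≫ g) := by rw [hab]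
        _ = (pullback.fst (pullback.fst a e.π ≫ b) e.π ≫ pullback.fst a e.π ≫ b) ≫ g := by
            simp only [Category.assoc]
        _ = (pullback.snd (pullback.fst a e.π ≫ b) e.π ≫ e.π) ≫ g := by rw [c2]
        _ = pullback.snd (pullback.fst a e.π ≫ b) e.π ≫ e.π ≫ g := Category.assoc _ _ _
    obtain ⟨l, hl1, hl2⟩ := hk.lift' _ _ w
    have ee : pullback.fst (pullback.fst a e.π ≫ b) e.π ≫ pullback.fst a e.π ≫ a =
        pullback.fst (pullback.fst a e.π ≫ b) e.π ≫ pullback.fst a e.π ≫ b := by
      calc pullback.fst (pullback.fst a e.π ≫ b) e.π ≫ pullback.fst a e.π ≫ a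
          = (pullback.fst (pullback.fst a e.π ≫ b) e.π ≫ pullback.snd a e.π) ≫ e.π := by
            rw [c1, Category.assoc]
        _ = (l ≫ p₁) ≫ e.π := by rw [hl1]
        _ = (l ≫ p₂) ≫ e.π := by rw [Category.assoc, Category.assoc, e.isKernelPair.w]
        _ = pullback.snd (pullback.fst a e.π ≫ b) e.π ≫ e.π := by rw [hl2]
        _ = pullback.fst (pullback.fst a e.π ≫ b) e.π ≫ pullback.fst a e.π ≫ b := c2.symm
    rw [cancel_epi, cancel_epi] at ee
    exact ee

end Groth.Agent.S5215
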