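import Groth.Statements.S5220
-- import your own Groth.Agent.* helpers here

set_option autoImplicit false
open CategoryTheory CategoryTheory.Limits
universe w v₁ u₁
open GrpQ

namespace Groth.Agent.S5220

/-- In a category with pullbacks: let `d₀ d₁ : X₁ ⇉ X₀` admit a common section and let `f₀ : Y₀ ⟶ X₀` be
an effective epimorphism which is also a universal epimorphism. For the inverse-image pair `Y₁ :=
(Y₀ ×_{X₀,d₁} X₁) ×_{d₀,X₀} Y₀ ⇉ Y₀`, every morphism out of `Y₀` equalized by the two projections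
descends uniquely to a morphism out of `X₀` equalized by `d₀, d₁`. (Only the common section of the
groupoid structure is used.) -/
theorem result {C : Type u₁} [Category.{v₁} C] [HasPullbacks C]
    {X₁ X₀ Y₀ : C} (d₀ d₁ : X₁ ⟶ X₀) (s : X₀ ⟶ X₁) (hs₀ : s ≫ d₀ = 𝟙 X₀) (hs₁ : s ≫ d₁ = 𝟙 X₀)
    (f₀ : Y₀ ⟶ X₀) [EffectiveEpi f₀]
    (hf : MorphismProperty.universally (MorphismProperty.epimorphisms C) f₀)
    {T : C} (g : Y₀ ⟶ T)
    (hg : (pullback.fst (pullback.snd f₀ d₁ ≫ d₀) f₀ ≫ pullback.fst f₀ d₁) ≫ g =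
      pullback.snd (pullback.snd f₀ d₁ ≫ d₀) f₀ ≫ g) :
    ∃! h : X₀ ⟶ T, d₁ ≫ h = d₀ ≫ h ∧ f₀ ≫ h = g := by
  have hcompat : ∀ {Z : C} (z₁ z₂ : Z ⟶ Y₀), z₁ ≫ f₀ = z₂ ≫ f₀ → z₁ ≫ g = z₂ ≫ g := by
    intro Z z₁ z₂ hz
    have w1 : z₁ ≫ f₀ = (z₁ ≫ f₀ ≫ s) ≫ d₁ := by
      rw [Category.assoc, Category.assoc, hs₁, Category.comp_id]
    let m1 : Z ⟶ pullback f₀ d₁ := pullback.lift z₁ (z₁ ≫ f₀ ≫ s) w1
    have w2 : m1 ≫ pullback.snd f₀ d₁ ≫ d₀ = z₂ ≫ f₀ := by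
      rw [← Category.assoc, pullback.lift_snd, Category.assoc, Category.assoc, hs₀,
        Category.comp_id, hz]
    let m : Z ⟶ pullback (pullback.snd f₀ d₁ ≫ d₀) f₀ := pullback.lift m1 z₂ w2
    have ma : m ≫ pullback.fst (pullback.snd f₀ d₁ ≫ d₀) f₀ ≫ pullback.fst f₀ d₁ = z₁ := by
      rw [← Category.assoc, pullback.lift_fst, pullback.lift_fst]
    have mb : m ≫ pullback.snd (pullback.snd f₀ d₁ ≫ d₀) f₀ = z₂ := pullback.lift_snd _ _ _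
    rw [← ma, ← mb]
    simp only [Category.assoc] at hg ⊢
    rw [hg]
  refine ⟨EffectiveEpi.desc f₀ g hcompat, ⟨?_, EffectiveEpi.fac f₀ g hcompat⟩, ?_⟩
  · set h := EffectiveEpi.desc f₀ g hcompat with hh
    have hfh : f₀ ≫ h = g := EffectiveEpi.fac f₀ g hcompat
    have e1 : Epi (pullback.snd f₀ d₁) := hf _ _ _ (IsPullback.of_hasPullback f₀ d₁).flip
    have e2 : Epi (pullback.fst (pullback.snd f₀ d₁ ≫ d₀) f₀) :=
      hf _ _ _ (IsPullback.of_hasPullback (pullback.snd f₀ d₁ ≫ d₀) f₀)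
    have c1 : pullback.fst f₀ d₁ ≫ f₀ = pullback.snd f₀ d₁ ≫ d₁ := pullback.condition
    have c2 : pullback.fst (pullback.snd f₀ d₁ ≫ d₀) f₀ ≫ pullback.snd f₀ d₁ ≫ d₀ =
        pullback.snd (pullback.snd f₀ d₁ ≫ d₀) f₀ ≫ f₀ :=
      pullback.condition (f := pullback.snd f₀ d₁ ≫ d₀) (g := f₀)
    rw [← cancel_epi (pullback.snd f₀ d₁), ← cancel_epi (pullback.fst (pullback.snd f₀ d₁ ≫ d₀) f₀)]
    calc pullback.fst (pullback.snd f₀ d₁ ≫ d₀) f₀ ≫ pullback.snd f₀ d₁ ≫ d₁ ≫ h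
        = pullback.fst (pullback.snd f₀ d₁ ≫ d₀) f₀ ≫ (pullback.snd f₀ d₁ ≫ d₁) ≫ h := by
          simp only [Category.assoc]
      _ = pullback.fst (pullback.snd f₀ d₁ ≫ d₀) f₀ ≫ (pullback.fst f₀ d₁ ≫ f₀) ≫ h := by rw [c1]
      _ = (pullback.fst (pullback.snd f₀ d₁ ≫ d₀) f₀ ≫ pullback.fst f₀ d₁) ≫ (f₀ ≫ h) := by
          simp only [Category.assoc]
      _ = pullback.snd (pullback.snd f₀ d₁ ≫ d₀) f₀ ≫ (f₀ ≫ h) := by rw [hfh, hg]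
      _ = (pullback.snd (pullback.snd f₀ d₁ ≫ d₀) f₀ ≫ f₀) ≫ h := by simp only [Category.assoc]
      _ = (pullback.fst (pullback.snd f₀ d₁ ≫ d₀) f₀ ≫ pullback.snd f₀ d₁ ≫ d₀) ≫ h := by rw [c2]
      _ = pullback.fst (pullback.snd f₀ d₁ ≫ d₀) f₀ ≫ pullback.snd f₀ d₁ ≫ d₀ ≫ h := by
          simp only [Category.assoc]
  · rintro h' ⟨-, hh'⟩
    exact EffectiveEpi.uniq f₀ g hcompat h' hh'

end Groth.Agent.S5220
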