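import Groth.Statements.S5221
import Groth.Agent.S5220
-- import your own Groth.Agent.* helpers here

set_option autoImplicit false
open CategoryTheory CategoryTheory.Limits
universe w v₁ u₁
open GrpQ

namespace Groth.Agent.S5221

/-- Existence part: in a category with pullbacks: with `d₀ d₁ : X₁ ⇉ X₀` admitting a common section and
`f₀ : Y₀ ⟶ X₀` an effective and universal epimorphism, the pair `(d₀, d₁)` has a coequalizer if and
only if its inverse-image pair on `Y₀` has one. -/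
theorem result {C : Type u₁} [Category.{v₁} C] [HasPullbacks C]
    {X₁ X₀ Y₀ : C} (d₀ d₁ : X₁ ⟶ X₀) (s : X₀ ⟶ X₁) (hs₀ : s ≫ d₀ = 𝟙 X₀) (hs₁ : s ≫ d₁ = 𝟙 X₀)
    (f₀ : Y₀ ⟶ X₀) [EffectiveEpi f₀]
    (hf : MorphismProperty.universally (MorphismProperty.epimorphisms C) f₀) :
    HasCoequalizer d₁ d₀ ↔
      HasCoequalizer (pullback.fst (pullback.snd f₀ d₁ ≫ d₀) f₀ ≫ pullback.fst f₀ d₁)
        (pullback.snd (pullback.snd f₀ d₁ ≫ d₀) f₀) := by
  have key : ∀ {T : C} (k : X₀ ⟶ T), d₁ ≫ k = d₀ ≫ k →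
      (pullback.fst (pullback.snd f₀ d₁ ≫ d₀) f₀ ≫ pullback.fst f₀ d₁) ≫ f₀ ≫ k =
      pullback.snd (pullback.snd f₀ d₁ ≫ d₀) f₀ ≫ f₀ ≫ k := by
    intro T k hk
    have c1 : pullback.fst f₀ d₁ ≫ f₀ = pullback.snd f₀ d₁ ≫ d₁ := pullback.condition
    have c2 : pullback.fst (pullback.snd f₀ d₁ ≫ d₀) f₀ ≫ pullback.snd f₀ d₁ ≫ d₀ =
        pullback.snd (pullback.snd f₀ d₁ ≫ d₀) f₀ ≫ f₀ :=
      pullback.condition (f := pullback.snd f₀ d₁ ≫ d₀) (g := f₀)
    calc (pullback.fst (pullback.snd f₀ d₁ ≫ d₀) f₀ ≫ pullback.fst f₀ d₁) ≫ f₀ ≫ k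
        = pullback.fst (pullback.snd f₀ d₁ ≫ d₀) f₀ ≫ (pullback.fst f₀ d₁ ≫ f₀) ≫ k := by
          simp only [Category.assoc]
      _ = pullback.fst (pullback.snd f₀ d₁ ≫ d₀) f₀ ≫ pullback.snd f₀ d₁ ≫ d₁ ≫ k := by
          rw [c1]; simp only [Category.assoc]
      _ = pullback.fst (pullback.snd f₀ d₁ ≫ d₀) f₀ ≫ pullback.snd f₀ d₁ ≫ d₀ ≫ k := by rw [hk]
      _ = (pullback.fst (pullback.snd f₀ d₁ ≫ d₀) f₀ ≫ pullback.snd f₀ d₁ ≫ d₀) ≫ k := by
          simp only [Category.assoc]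
      _ = pullback.snd (pullback.snd f₀ d₁ ≫ d₀) f₀ ≫ f₀ ≫ k := by rw [c2, Category.assoc]
  constructor
  · intro hc
    have hpi := key (coequalizer.π d₁ d₀) (coequalizer.condition d₁ d₀)
    let t : Cofork (pullback.fst (pullback.snd f₀ d₁ ≫ d₀) f₀ ≫ pullback.fst f₀ d₁)
        (pullback.snd (pullback.snd f₀ d₁ ≫ d₀) f₀) :=
      Cofork.ofπ (f₀ ≫ coequalizer.π d₁ d₀) (by simpa only [Category.assoc] using hpi)
    have H := fun (c : Cofork (pullback.fst (pullback.snd f₀ d₁ ≫ d₀) f₀ ≫ pullback.fst f₀ d₁)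
        (pullback.snd (pullback.snd f₀ d₁ ≫ d₀) f₀)) =>
      Groth.Agent.S5220.result d₀ d₁ s hs₀ hs₁ f₀ hf c.π c.condition
    have ht : IsColimit t := by
      refine Cofork.IsColimit.mk t
        (fun c => coequalizer.desc (H c).exists.choose (H c).exists.choose_spec.1) ?_ ?_
      · intro c
        show (f₀ ≫ coequalizer.π d₁ d₀) ≫ _ = _
        rw [Category.assoc, coequalizer.π_desc]
        exact (H c).exists.choose_spec.2
      · intro c m hm
        have hm' : (f₀ ≫ coequalizer.π d₁ d₀) ≫ m = c.π := hm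
        refine coequalizer.hom_ext (f := d₁) (g := d₀) (k := m) ?_
        rw [coequalizer.π_desc]
        apply (H c).unique
        · exact ⟨by rw [← Category.assoc, coequalizer.condition, Category.assoc],
            by rw [← Category.assoc]; exact hm'⟩
        · exact (H c).exists.choose_spec
    exact HasColimit.mk ⟨t, ht⟩
  · intro hc
    have H := Groth.Agent.S5220.result d₀ d₁ s hs₀ hs₁ f₀ hf
      (coequalizer.π (pullback.fst (pullback.snd f₀ d₁ ≫ d₀) f₀ ≫ pullback.fst f₀ d₁)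
        (pullback.snd (pullback.snd f₀ d₁ ≫ d₀) f₀)) (coequalizer.condition _ _)
    obtain ⟨h, ⟨h1, h2⟩, -⟩ := H
    let t : Cofork d₁ d₀ := Cofork.ofπ h h1
    have ht : IsColimit t := by
      refine Cofork.IsColimit.mk t
        (fun c => coequalizer.desc (f₀ ≫ c.π) (by simpa only [Category.assoc] using key c.π c.condition)) ?_ ?_
      · intro c
        show h ≫ _ = _
        rw [← cancel_epi f₀, ← Category.assoc, h2, coequalizer.π_desc]
      · intro c m hm
        have hm' : h ≫ m = c.π := hm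
        refine coequalizer.hom_ext (f := pullback.fst (pullback.snd f₀ d₁ ≫ d₀) f₀ ≫ pullback.fst f₀ d₁)
          (g := pullback.snd (pullback.snd f₀ d₁ ≫ d₀) f₀) (k := m) ?_
        rw [coequalizer.π_desc, ← h2, Category.assoc, hm']
    exact HasColimit.mk ⟨t, ht⟩

end Groth.Agent.S5221
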