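import Groth.Statements.S5448
import Groth.Agent.Lib_helper8_Root
-- import your own Groth.Agent.* helpers here

set_option autoImplicit false
open RootD

namespace Groth.Agent.S5448

/-- The elements of a system of simple roots (root-only sense) are indivisible, i.e. none of them is
twice a root. -/
theorem result {ι M N : Type*} [AddCommGroup M] [AddCommGroup N]
    (P : RootPairing ι ℤ M N) [Finite ι] (Δ : Set ι) (hΔ : RootD.IsSimpleSys P Δ)
    (i : ι) (hi : i ∈ Δ) : RootD.IsIndiv P i := by
  classical
  intro j hj
  rcases hΔ.mem_or_neg_mem j with h | h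
  · obtain ⟨a, ha0, has, hae⟩ := Groth.Agent.helper8.RootLib.natSpan_repr P Δ _ h
    have := Groth.Agent.helper8.RootLib.lc_inj P Δ hΔ.linInd ((2 : ℤ) • a) (Finsupp.single i 1) (Groth.Agent.helper8.RootLib.supp_smul Δ a has 2)
      (Groth.Agent.helper8.RootLib.supp_single Δ i hi 1) (by rw [map_smul, hae, hj]; simp)
    have h2 := congrArg (fun f => f i) this
    simp only [Finsupp.smul_apply, Finsupp.single_eq_same, smul_eq_mul] at h2
    omega
  · obtain ⟨a, ha0, has, hae⟩ := Groth.Agent.helper8.RootLib.natSpan_repr P Δ _ h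
    have := Groth.Agent.helper8.RootLib.lc_inj P Δ hΔ.linInd ((-2 : ℤ) • a) (Finsupp.single i 1) (Groth.Agent.helper8.RootLib.supp_smul Δ a has (-2))
      (Groth.Agent.helper8.RootLib.supp_single Δ i hi 1) (by rw [map_smul, hae, neg_smul, smul_neg, neg_neg, hj]; simp)
    have h2 := congrArg (fun f => f i) this
    simp only [Finsupp.smul_apply, Finsupp.single_eq_same, smul_eq_mul] at h2
    omega

end Groth.Agent.S5448
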