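import Groth.Statements.S5449
import Groth.Agent.Lib_helper8_Root
-- import your own Groth.Agent.* helpers here

set_option autoImplicit false
open RootD

namespace Groth.Agent.S5449

/-- For a system of simple roots Δ, the roots that are non-negative integer combinations of Δ form a
system of positive roots; and a system of positive roots S contains Δ if and only if S is that set. -/
theorem result {ι M N : Type*} [AddCommGroup M] [AddCommGroup N]
    (P : RootPairing ι ℤ M N) [Finite ι] (Δ : Set ι) (hΔ : RootD.IsSimpleSys P Δ)
    (S : Set ι) (hS : RootD.IsPosSys P S) :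
    RootD.IsPosSys P (RootD.posOf P Δ) ∧ (Δ ⊆ S ↔ S = RootD.posOf P Δ) := by
  classical
  have L : ∀ x : M, x ∈ RootD.natSpan P Δ → -x ∈ RootD.natSpan P Δ → x = 0 := by
    intro x hx hnx
    obtain ⟨a, ha0, has, hae⟩ := Groth.Agent.helper8.RootLib.natSpan_repr P Δ _ hx
    obtain ⟨b, hb0, hbs, hbe⟩ := Groth.Agent.helper8.RootLib.natSpan_repr P Δ _ hnx
    have hab : a + b = 0 := Groth.Agent.helper8.RootLib.lc_inj P Δ hΔ.linInd (a + b) 0
      (Groth.Agent.helper8.RootLib.supp_add Δ a b has hbs) (by simp)
      (by rw [map_add, hae, hbe, add_neg_cancel, map_zero])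
    have ha : a = 0 := by
      ext k
      have h1 := congrArg (fun f => f k) hab
      simp only [Finsupp.add_apply, Finsupp.coe_zero, Pi.zero_apply] at h1
      have := ha0 k
      have := hb0 k
      simp only [Finsupp.coe_zero, Pi.zero_apply]
      omega
    rw [← hae, ha, map_zero]
  have neg : ∀ l, P.root (P.reflectionPerm l l) = - P.root l := fun l => by
    rw [P.root_reflectionPerm, P.reflection_apply_self]
  have hpos : RootD.IsPosSys P (RootD.posOf P Δ) := by
    constructor
    · intro k hk hk'
      have h1 : P.root (P.reflectionPerm k k) ∈ RootD.natSpan P Δ := hk'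
      rw [neg] at h1
      exact P.ne_zero k (L _ hk h1)
    · intro k
      rcases hΔ.mem_or_neg_mem k with h | h
      · left; exact h
      · right
        show P.root (P.reflectionPerm k k) ∈ RootD.natSpan P Δ
        rw [neg]; exact h
    · intro k n hn hk
      have hle' : RootD.natSpan P (RootD.posOf P Δ) ≤ RootD.natSpan P Δ := by
        apply AddSubmonoid.closure_le.mpr
        rintro _ ⟨j, hj, rfl⟩
        exact hj
      replace hk := hle' hk
      rcases hΔ.mem_or_neg_mem k with h | h
      · exact h
      · exfalso
        have h1 : -(n • P.root k) ∈ RootD.natSpan P Δ := by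
          rw [← smul_neg]; exact AddSubmonoid.nsmul_mem _ h n
        have h0 := L _ hk h1
        have h2 : P.toLinearMap (P.root k) (P.coroot k) = 2 := P.pairing_same k
        have h3 : P.toLinearMap (n • P.root k) (P.coroot k) = 0 := by rw [h0]; simp
        rw [map_nsmul, LinearMap.smul_apply, h2, nsmul_eq_mul] at h3
        have : (n : ℤ) = 0 := by linarith
        omega
  refine ⟨hpos, ?_⟩
  constructor
  · intro hsub
    have hle : RootD.posOf P Δ ⊆ S := by
      intro k hk
      apply hS.sat 1 one_pos
      rw [one_smul]
      exact AddSubmonoid.closure_mono (Set.image_mono hsub) hk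
    apply Set.Subset.antisymm _ hle
    intro k hk
    rcases hpos.cover k with h | h
    · exact h
    · exact absurd (hle h) (hS.disjoint hk)
  · intro hSeq k hk
    rw [hSeq]
    exact AddSubmonoid.subset_closure ⟨k, hk, rfl⟩

end Groth.Agent.S5449
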