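import Groth.Statements.S5477
import Mathlib.LinearAlgebra.RootSystem.Finite.Nondegenerate
import Mathlib.Tactic
-- import your own Groth.Agent.* helpers here

set_option autoImplicit false
open RootPairing
open scoped Pointwise
open RootD

namespace Groth.Agent.S5477

/-- An automorphism of a root datum acting trivially on the radical (u(m) - m in the rational span of
the roots for all m) is determined by its action on the roots: if it fixes every root it is the
identity. -/
theorem result {ι M N : Type*} [AddCommGroup M] [AddCommGroup N]
    (P : RootPairing ι ℤ M N) [Finite ι] (u : P.Aut)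
    (hs : ∀ m : M, ∃ n : ℕ, 0 < n ∧ n • (u • m - m) ∈ Submodule.span ℤ (Set.range P.root))
    (hfix : ∀ i : ι, u • i = i) : u = 1 := by
  classical
  have : Fintype ι := Fintype.ofFinite ι
  have : Module.IsReflexive ℤ M := .of_isPerfPair P.toLinearMap
  have htf : Module.IsTorsionFree ℤ M := inferInstance
  have hidx : ∀ i, u.indexEquiv i = i := hfix
  have hidx' : ∀ i, u.indexEquiv.symm i = i := fun i => by
    rw [Equiv.symm_apply_eq, hidx]
  have hco : ∀ i, u.toHom.coweightMap (P.coroot i) = P.coroot i := by
    intro i
    rw [Hom.coroot_coweightMap_apply, hidx']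
  have hpair : ∀ (m : M) (k : ι), P.coroot' k (u • m) = P.coroot' k m := by
    intro m k
    have h1 := congrArg (fun φ => φ m)
      (Hom.weight_coweight_transpose_apply P P (P.coroot k) u.toHom)
    simp only [LinearMap.dualMap_apply, hco] at h1
    exact h1
  have hw : ∀ m : M, u • m = m := by
    intro m
    obtain ⟨n, hn, hmem⟩ := hs m
    have hker : n • (u • m - m) ∈ LinearMap.ker P.RootForm := by
      rw [LinearMap.mem_ker]
      ext y
      rw [rootForm_apply_apply, LinearMap.zero_apply]
      apply Finset.sum_eq_zero
      intro k _
      rw [map_nsmul, map_sub, hpair, sub_self, nsmul_zero, zero_mul]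
    have hdisj := P.disjoint_rootSpan_ker_rootForm (R := ℤ)
    have h0 : n • (u • m - m) = 0 := by
      rw [Submodule.disjoint_def] at hdisj
      exact hdisj _ hmem hker
    have h0z : ((n : ℤ)) • (u • m - m) = 0 := by rw [natCast_zsmul]; exact h0
    have h0' : u • m - m = 0 := by
      rcases smul_eq_zero.mp h0z with h | h
      · omega
      · exact h
    exact sub_eq_zero.mp h0'
  refine RootPairing.Equiv.ext ?_ ?_ ?_
  · exact LinearMap.ext (fun x => hw x)
  · apply LinearMap.ext
    intro x
    have h1 := Hom.weight_coweight_transpose_apply P P x u.toHom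
    have hwid : u.toHom.weightMap = LinearMap.id := LinearMap.ext (fun x => hw x)
    rw [hwid, LinearMap.dualMap_id, LinearMap.id_apply] at h1
    exact (P.flip.toPerfPair.injective h1).symm
  · exact _root_.Equiv.ext (fun j => hidx j)

end Groth.Agent.S5477
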