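import Groth.Statements.S5452
import Groth.Agent.S5477
-- import your own Groth.Agent.* helpers here

set_option autoImplicit false
open RootPairing
open scoped Pointwise
open RootD

namespace Groth.Agent.S5452

/-- The Weyl group of a root datum acts faithfully on the set of roots. -/
theorem result {ι M N : Type*} [AddCommGroup M] [AddCommGroup N]
    (P : RootPairing ι ℤ M N) [Finite ι] :
    Function.Injective P.weylGroupToPerm := by
  classical
  -- automorphisms preserve the root span
  have hpres : ∀ (g : P.Aut) (x : M), x ∈ Submodule.span ℤ (Set.range P.root) →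
      g • x ∈ Submodule.span ℤ (Set.range P.root) := by
    intro g x hx
    induction hx using Submodule.span_induction with
    | mem y hy =>
      obtain ⟨j, rfl⟩ := hy
      rw [← RootPairing.Equiv.root_indexEquiv_eq_smul]
      exact Submodule.subset_span ⟨_, rfl⟩
    | zero => rw [smul_zero]; exact Submodule.zero_mem _
    | add y z _ _ hy hz => rw [smul_add]; exact Submodule.add_mem _ hy hz
    | smul t y _ hy => rw [smul_comm]; exact Submodule.smul_mem _ t hy
  have hW : ∀ w ∈ P.weylGroup, ∀ m : M, w • m - m ∈ Submodule.span ℤ (Set.range P.root) := by
    intro w hw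
    induction hw using weylGroup.induction with
    | mem i =>
      intro m
      rw [RootPairing.Equiv.reflection_smul, P.reflection_apply, sub_sub_cancel_left]
      exact Submodule.neg_mem _ (Submodule.smul_mem _ _ (Submodule.subset_span ⟨i, rfl⟩))
    | one => intro m; rw [one_smul, sub_self]; exact Submodule.zero_mem _
    | mul x y _ _ hx hy =>
      intro m
      have : (x * y) • m - m = x • (y • m - m) + (x • m - m) := by
        rw [mul_smul, smul_sub]; abel
      rw [this]
      exact Submodule.add_mem _ (hpres x _ (hy m)) (hx m)
  rw [injective_iff_map_eq_one]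
  rintro ⟨w, hw⟩ h1
  apply Subtype.ext
  show w = 1
  apply Groth.Agent.S5477.result P w
  · intro m
    exact ⟨1, one_pos, by rw [one_smul]; exact hW w hw m⟩
  · intro i
    have := congrArg (fun σ : _root_.Equiv.Perm ι => σ i) h1
    exact this

end Groth.Agent.S5452
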