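import Groth.Statements.S5468
import Mathlib.Tactic
-- import your own Groth.Agent.* helpers here

set_option autoImplicit false
open RootD

namespace Groth.Agent.S5468

/-- Two roots whose reflections are distinct and commute are orthogonal. -/
theorem result {ι M N : Type*} [AddCommGroup M] [AddCommGroup N]
    (P : RootPairing ι ℤ M N) [Finite ι] (i j : ι)
    (hne : P.reflection i ≠ P.reflection j) (hc : Commute (P.reflection i) (P.reflection j)) :
    P.IsOrthogonal i j := by
  have : Module.IsReflexive ℤ M := .of_isPerfPair P.toLinearMap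
  have : Module.IsReflexive ℤ N := .of_isPerfPair P.flip.toLinearMap
  have htfM : Module.IsTorsionFree ℤ M := inferInstance
  have htfN : Module.IsTorsionFree ℤ N := inferInstance
  have : IsAddTorsionFree N := .of_isTorsionFree ℤ N
  have : IsAddTorsionFree M := .of_isTorsionFree ℤ M
  -- reflections of proportional roots agree
  have hrefl : ∀ a b : ι, ∀ t : ℤ, P.root b = t • P.root a → P.reflection a = P.reflection b := by
    intro a b t h
    have hco : t • P.coroot b = P.coroot a := RootPairing.smul_coroot_eq_of_root_eq_smul a b t h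
    ext x
    have e : ∀ c, P.coroot' c x = P.toLinearMap x (P.coroot c) := fun c => rfl
    rw [P.reflection_apply, P.reflection_apply, e, e, h, ← hco, map_zsmul, smul_smul,
      smul_eq_mul, mul_comm]
  set p := P.pairing j i with hp
  set q := P.pairing i j with hq
  have hkey : (q * p) • P.root i = (2 * q) • P.root j := by
    have h1 := congrArg (fun f : M ≃ₗ[ℤ] M => f (P.root i)) hc.eq
    simp only [LinearEquiv.mul_apply] at h1
    rw [P.reflection_apply_root, P.reflection_apply_self, map_sub, map_zsmul,
      P.reflection_apply_self, P.reflection_apply_root, map_neg, P.reflection_apply_root] at h1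
    rw [← hp, ← hq] at h1
    linear_combination (norm := module) h1
  by_cases hq0 : q = 0
  · exact ⟨hq0, P.pairing_eq_zero_iff'.mp hq0⟩
  exfalso
  have h2 : p • P.root i = (2 : ℤ) • P.root j := by
    apply smul_right_injective M hq0
    simp only [smul_smul]
    rw [hkey, mul_comm]
  have hpq : p * q = 4 := by
    have := congrArg (fun m => P.toLinearMap m (P.coroot j)) h2
    simp only [map_zsmul, LinearMap.smul_apply, P.root_coroot_eq_pairing, P.pairing_same,
      smul_eq_mul] at this
    rw [← hq] at this
    linarith
  have hp0 : p ≠ 0 := by rintro h0; rw [h0, zero_mul] at hpq; norm_num at hpq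
  have hple : p.natAbs ≤ 4 := by
    have := Int.natAbs_dvd_natAbs.mpr (⟨q, hpq.symm⟩ : p ∣ 4)
    exact Nat.le_of_dvd (by norm_num) this
  have hpb : -4 ≤ p ∧ p ≤ 4 := by omega
  have c2 : ∀ t : ℤ, p = 2 * t → False := by
    intro t ht
    have : (2 : ℤ) • (t • P.root i) = (2 : ℤ) • P.root j := by rw [smul_smul, ← ht, h2]
    exact hne (hrefl i j t (smul_right_injective M (by norm_num : (2 : ℤ) ≠ 0) this).symm)
  have c1 : ∀ t : ℤ, (t = 2 ∨ t = -2) → (p = 1 ∨ p = -1) → t * p = 2 →
      P.root i = t • P.root j → False := by
    intro t _ _ _ h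
    exact hne (hrefl j i t h).symm
  obtain ⟨hp1, hp2⟩ := hpb
  interval_cases p
  · exact c2 (-2) (by norm_num)
  · omega
  · exact c2 (-1) (by norm_num)
  · apply c1 (-2) (Or.inr rfl) (Or.inr rfl) (by norm_num)
    have : (-1 : ℤ) • P.root i = (2 : ℤ) • P.root j := h2
    rw [neg_one_smul] at this
    rw [neg_smul, ← this, neg_neg]
  · exact hp0 rfl
  · apply c1 2 (Or.inl rfl) (Or.inl rfl) (by norm_num)
    have : (1 : ℤ) • P.root i = (2 : ℤ) • P.root j := h2
    rw [one_smul] at this
    exact this
  · exact c2 1 (by norm_num)
  · omega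
  · exact c2 2 (by norm_num)

end Groth.Agent.S5468
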