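import Groth.Statements.S5478
import Groth.Agent.S5477
-- import your own Groth.Agent.* helpers here

set_option autoImplicit false
open RootPairing
open scoped Pointwise
open RootD

namespace Groth.Agent.S5478

/-- The group of automorphisms of a root datum that act trivially on the radical is finite. -/
theorem result {ι M N : Type*} [AddCommGroup M] [AddCommGroup N]
    (P : RootPairing ι ℤ M N) [Finite ι] :
    Set.Finite {u : P.Aut | ∀ m : M, ∃ n : ℕ, 0 < n ∧ n • (u • m - m) ∈ Submodule.span ℤ (Set.range P.root)} := by
  classical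
  have hpres : ∀ (g : P.Aut) (x : M), x ∈ Submodule.span ℤ (Set.range P.root) →
      g • x ∈ Submodule.span ℤ (Set.range P.root) := by
    intro g x hx
    induction hx using Submodule.span_induction with
    | mem y hy =>
      obtain ⟨j, rfl⟩ := hy
      rw [← RootPairing.Equiv.root_indexEquiv_eq_smul]
      exact Submodule.subset_span ⟨_, rfl⟩
    | zero => rw [smul_zero]; exact Submodule.zero_mem _
    | add y z _ _ hy hz => rw [smul_add]; exact Submodule.add_mem _ hy hz
    | smul t y _ hy => rw [smul_comm]; exact Submodule.smul_mem _ t hy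
  set S := {u : P.Aut | ∀ m : M, ∃ n : ℕ, 0 < n ∧
    n • (u • m - m) ∈ Submodule.span ℤ (Set.range P.root)}
  let f : P.Aut → _root_.Equiv.Perm ι := fun u => Equiv.indexHom P u
  apply Set.Finite.of_finite_image (f := f) (Set.toFinite _)
  intro u hu v hv huv
  have hidx : ∀ i : ι, u • i = v • i := fun i => congrArg (fun σ : _root_.Equiv.Perm ι => σ i) huv
  have key : u⁻¹ * v = 1 := by
    apply Groth.Agent.S5477.result P (u⁻¹ * v)
    · intro m
      obtain ⟨a, ha, hma⟩ := hu m
      obtain ⟨b, hb, hmb⟩ := hv m
      refine ⟨a * b, Nat.mul_pos ha hb, ?_⟩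
      have e0 : (u⁻¹ * v) • m - m = u⁻¹ • ((v • m - m) - (u • m - m)) := by
        rw [sub_sub_sub_cancel_right, smul_sub, mul_smul, inv_smul_smul]
      have e1 : (a * b) • ((u⁻¹ * v) • m - m) =
          u⁻¹ • ((a * b) • (v • m - m) - (a * b) • (u • m - m)) := by
        rw [e0, ← smul_sub, smul_comm]
      rw [e1]
      apply hpres
      apply Submodule.sub_mem
      · rw [mul_comm, mul_nsmul]
        exact Submodule.smul_of_tower_mem _ a hmb
      · rw [mul_nsmul]
        exact Submodule.smul_of_tower_mem _ b hma
    · intro i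
      rw [mul_smul, ← hidx i, inv_smul_smul]
  exact inv_mul_eq_one.mp key

end Groth.Agent.S5478
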