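import Groth.Statements.S5488
import Mathlib.LinearAlgebra.RootSystem.Finite.Lemmas
import Mathlib.Tactic
-- import your own Groth.Agent.* helpers here

set_option autoImplicit false
open RootPairing
open scoped Pointwise
open RootD

namespace Groth.Agent.S5488

/-- The reduced datum of indivisible roots has the same Weyl group: the reflections in indivisible roots
generate W. -/
theorem result {ι M N : Type*} [AddCommGroup M] [AddCommGroup N]
    (P : RootPairing ι ℤ M N) [Finite ι] :
    Subgroup.closure ((fun i : ι => Equiv.reflection P i) '' {i : ι | RootD.IsIndiv P i}) = P.weylGroup := by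
  classical
  have : Module.IsReflexive ℤ M := .of_isPerfPair P.toLinearMap
  have : Module.IsReflexive ℤ N := .of_isPerfPair P.flip.toLinearMap
  have : IsAddTorsionFree N := .of_isTorsionFree ℤ N
  have : IsAddTorsionFree M := .of_isTorsionFree ℤ M
  have hA : ∀ a b : ι, ∀ t : ℤ, P.root b = t • P.root a →
      Equiv.reflection P a = Equiv.reflection P b := by
    intro a b t h
    have hco : t • P.coroot b = P.coroot a := RootPairing.smul_coroot_eq_of_root_eq_smul a b t h
    have hr : ∀ x : M, P.reflection a x = P.reflection b x := by
      intro x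
      have e : ∀ c, P.coroot' c x = P.toLinearMap x (P.coroot c) := fun c => rfl
      rw [P.reflection_apply, P.reflection_apply, e, e, h, ← hco, map_zsmul, smul_smul,
        smul_eq_mul, mul_comm]
    have hcr : ∀ y : N, P.coreflection a y = P.coreflection b y := by
      intro y
      have e : ∀ c, P.root' c y = P.toLinearMap (P.root c) y := fun c => rfl
      rw [P.coreflection_apply, P.coreflection_apply, e a, e b, h, ← hco, map_zsmul,
        LinearMap.smul_apply, smul_smul, smul_eq_mul, mul_comm]
    refine RootPairing.Equiv.ext ?_ ?_ ?_
    · exact LinearMap.ext (fun x => hr x)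
    · exact LinearMap.ext (fun y => hcr y)
    · ext k
      apply P.root.injective
      show P.root (P.reflectionPerm a k) = P.root (P.reflectionPerm b k)
      rw [P.root_reflectionPerm, P.root_reflectionPerm]
      exact hr _
  have hind : ∀ i : ι, ¬ RootD.IsIndiv P i → ∃ j, RootD.IsIndiv P j ∧ P.root i = (2 : ℤ) • P.root j := by
    intro i hi
    simp only [RootD.IsIndiv, not_forall, not_not] at hi
    obtain ⟨j, hj⟩ := hi
    refine ⟨j, ?_, hj.symm⟩
    intro k hk
    -- root i = 4 root k
    have h4 : P.root i = (4 : ℤ) • P.root k := by
      rw [← hj, ← hk, smul_smul]; norm_num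
    have hp : P.pairing i k = 8 := by
      rw [← P.root_coroot_eq_pairing, h4, map_zsmul, LinearMap.smul_apply,
        P.root_coroot_eq_pairing, P.pairing_same]
      norm_num
    have := P.pairingIn_pairingIn_mem_set_of_isCrystallographic i k
    have hpi : P.pairingIn ℤ i k = 8 := by
      have := P.algebraMap_pairingIn ℤ i k
      simp only [Algebra.algebraMap_self, RingHom.id_apply] at this
      rw [this, hp]
    rw [hpi] at this
    simp at this
  apply le_antisymm
  · apply Subgroup.closure_le _ |>.mpr
    rintro _ ⟨i, -, rfl⟩
    exact P.reflection_mem_weylGroup i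
  · apply Subgroup.closure_le _ |>.mpr
    rintro _ ⟨i, rfl⟩
    by_cases hi : RootD.IsIndiv P i
    · exact Subgroup.subset_closure ⟨i, hi, rfl⟩
    · obtain ⟨j, hj, hij⟩ := hind i hi
      rw [← hA j i 2 hij]
      exact Subgroup.subset_closure ⟨j, hj, rfl⟩

end Groth.Agent.S5488
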