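import Groth.Statements.S5492
import Groth.Agent.Lib_helper8_Root
import Mathlib.LinearAlgebra.RootSystem.Finite.Lemmas
-- import your own Groth.Agent.* helpers here

set_option autoImplicit false
open RootD

namespace Groth.Agent.S5492

/-- Off-diagonal entries of the Cartan matrix of a system of simple roots are non-positive: (α^v, β) ≤ 0
for distinct simple roots α, β. -/
theorem result {ι M N : Type*} [AddCommGroup M] [AddCommGroup N]
    (P : RootPairing ι ℤ M N) [Finite ι] (Δ : Set ι) (hΔ : RootD.IsSimpleSys P Δ) (i j : ι)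
    (hi : i ∈ Δ) (hj : j ∈ Δ) (hij : i ≠ j) : P.pairing j i ≤ 0 := by
  classical
  by_contra hpos
  push_neg at hpos
  have hpos' : 0 < P.pairingIn ℤ j i := by
    have e := P.algebraMap_pairingIn ℤ j i
    simp only [Algebra.algebraMap_self, RingHom.id_apply] at e
    rw [e]; exact hpos
  obtain ⟨k, hk⟩ := P.root_sub_root_mem_of_pairingIn_pos hpos' (Ne.symm hij)
  have hsupp : ↑(Finsupp.single j (1 : ℤ) - Finsupp.single i 1).support ⊆ Δ := by
    intro l hl
    rcases Finset.mem_union.mp (Finsupp.support_sub hl) with h | h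
    · exact Groth.Agent.helper8.RootLib.supp_single Δ j hj 1 h
    · exact Groth.Agent.helper8.RootLib.supp_single Δ i hi 1 h
  have hlc : Finsupp.linearCombination ℤ P.root (Finsupp.single j (1 : ℤ) - Finsupp.single i 1) =
      P.root j - P.root i := by simp
  rcases hΔ.mem_or_neg_mem k with h | h
  · obtain ⟨a, ha0, has, hae⟩ := Groth.Agent.helper8.RootLib.natSpan_repr P Δ _ h
    have := Groth.Agent.helper8.RootLib.lc_inj P Δ hΔ.linInd a _ has hsupp (by rw [hae, hlc, hk])
    have h2 := congrArg (fun f => f i) this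
    simp only [Finsupp.sub_apply, Finsupp.single_eq_same, Finsupp.single_eq_of_ne hij] at h2
    have := ha0 i
    omega
  · obtain ⟨a, ha0, has, hae⟩ := Groth.Agent.helper8.RootLib.natSpan_repr P Δ _ h
    have := Groth.Agent.helper8.RootLib.lc_inj P Δ hΔ.linInd ((-1 : ℤ) • a) _ (Groth.Agent.helper8.RootLib.supp_smul Δ a has (-1)) hsupp
      (by rw [map_smul, hae, hlc, hk]; simp)
    have h2 := congrArg (fun f => f j) this
    simp only [Finsupp.smul_apply, Finsupp.sub_apply, Finsupp.single_eq_same,
      Finsupp.single_eq_of_ne (Ne.symm hij), smul_eq_mul] at h2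
    have := ha0 j
    omega

end Groth.Agent.S5492
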