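import Groth.Statements.S5494
-- import your own Groth.Agent.* helpers here

set_option autoImplicit false
open RootD

namespace Groth.Agent.S5494

/-- If a system of simple roots has no partition into two non-empty orthogonal subsets, then any two
roots are linked by a chain of roots with consecutive members non-orthogonal. -/
theorem result {ι M N : Type*} [AddCommGroup M] [AddCommGroup N]
    (P : RootPairing ι ℤ M N) [Finite ι] (Δ : Set ι) (hΔ : RootD.IsSimpleSys P Δ)
    (hconn : ∀ Δ' : Set ι, Δ' ⊆ Δ → (∀ i ∈ Δ', ∀ j ∈ Δ \ Δ', P.IsOrthogonal i j) → Δ' = ∅ ∨ Δ' = Δ)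
    (i j : ι) : Relation.ReflTransGen (fun a b : ι => ¬ P.IsOrthogonal a b) i j := by
  have rsymm : ∀ a b : ι, ¬ P.IsOrthogonal a b → ¬ P.IsOrthogonal b a :=
    fun a b h h' => h h'.symm
  have adj : ∀ a : ι, ∃ k ∈ Δ, ¬ P.IsOrthogonal k a := by
    intro a
    by_contra hcon
    have hcon' : ∀ k ∈ Δ, P.IsOrthogonal k a := by
      intro k hk
      by_contra h
      exact hcon ⟨k, hk, h⟩
    have hz : ∀ x ∈ RootD.natSpan P Δ, P.toLinearMap x (P.coroot a) = 0 := by
      intro x hx
      induction hx using AddSubmonoid.closure_induction with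
      | mem y hy =>
        obtain ⟨k, hk, rfl⟩ := hy
        exact (hcon' k hk).1
      | zero => simp
      | add y z _ _ hy hz => simp [hy, hz]
    have h2 : P.toLinearMap (P.root a) (P.coroot a) = 2 := P.pairing_same a
    rcases hΔ.mem_or_neg_mem a with h | h
    · have := hz _ h
      rw [h2] at this
      norm_num at this
    · have := hz _ h
      rw [map_neg, LinearMap.neg_apply, h2] at this
      norm_num at this
  obtain ⟨k₀, hk₀, hk₀i⟩ := adj i
  have hΔ' := hconn {k | k ∈ Δ ∧ Relation.ReflTransGen (fun a b : ι => ¬ P.IsOrthogonal a b) k₀ k}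
    (fun k hk => hk.1) (by
      intro a ha b hb
      by_contra hab
      exact hb.2 ⟨hb.1, Relation.ReflTransGen.tail ha.2 hab⟩)
  have hall : ∀ k ∈ Δ, Relation.ReflTransGen (fun a b : ι => ¬ P.IsOrthogonal a b) k₀ k := by
    rcases hΔ' with h | h
    · exfalso
      have hmem : k₀ ∈ {k | k ∈ Δ ∧ Relation.ReflTransGen (fun a b : ι => ¬ P.IsOrthogonal a b) k₀ k} :=
        ⟨hk₀, Relation.ReflTransGen.refl⟩
      rw [h] at hmem
      exact hmem
    · intro k hk
      rw [← h] at hk
      exact hk.2
  obtain ⟨k₁, hk₁, hk₁j⟩ := adj j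
  have h1 : Relation.ReflTransGen (fun a b : ι => ¬ P.IsOrthogonal a b) i k₀ :=
    Relation.ReflTransGen.single (rsymm _ _ hk₀i)
  have h3 : Relation.ReflTransGen (fun a b : ι => ¬ P.IsOrthogonal a b) k₁ j :=
    Relation.ReflTransGen.single hk₁j
  exact h1.trans ((hall k₁ hk₁).trans h3)

end Groth.Agent.S5494
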