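import Groth.Statements.S5495
import Mathlib.Tactic
-- import your own Groth.Agent.* helpers here

set_option autoImplicit false
open RootD

namespace Groth.Agent.S5495

/-- If α is an indivisible root and kα is a root for a rational k, then k is an integer. -/
theorem result {ι M N : Type*} [AddCommGroup M] [AddCommGroup N]
    (P : RootPairing ι ℤ M N) [Finite ι] (i j : ι) (hind : RootD.IsIndiv P i) (a b : ℤ) (hb : b ≠ 0)
    (h : b • P.root j = a • P.root i) : b ∣ a := by
  have : Module.IsReflexive ℤ M := .of_isPerfPair P.toLinearMap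
  have htf : Module.IsTorsionFree ℤ M := inferInstance
  -- pairings
  have e1 : b * P.pairing j i = a * 2 := by
    have := congrArg (fun m => P.toLinearMap m (P.coroot i)) h
    simp only [map_zsmul, LinearMap.smul_apply, P.root_coroot_eq_pairing, P.pairing_same,
      smul_eq_mul] at this
    exact this
  have e2 : b * 2 = a * P.pairing i j := by
    have := congrArg (fun m => P.toLinearMap m (P.coroot j)) h
    simp only [map_zsmul, LinearMap.smul_apply, P.root_coroot_eq_pairing, P.pairing_same,
      smul_eq_mul] at this
    exact this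
  set p := P.pairing j i with hp
  set q := P.pairing i j with hq
  have hpq : p * q = 4 := by
    have h3 : b * (p * q) = b * 4 := by
      calc b * (p * q) = (b * p) * q := by ring
        _ = (a * 2) * q := by rw [e1]
        _ = 2 * (a * q) := by ring
        _ = 2 * (b * 2) := by rw [e2]
        _ = b * 4 := by ring
    exact mul_left_cancel₀ hb h3
  have hp0 : p ≠ 0 := by rintro h0; rw [h0, zero_mul] at hpq; norm_num at hpq
  have hpdvd : p ∣ 4 := ⟨q, hpq.symm⟩
  have hple : p.natAbs ≤ 4 := by
    have := Int.natAbs_dvd_natAbs.mpr hpdvd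
    exact Nat.le_of_dvd (by norm_num) this
  have hpb : -4 ≤ p ∧ p ≤ 4 := by omega
  -- the case p = ±1 is excluded by indivisibility
  have key : ∀ ε : ℤ, (ε = 1 ∨ ε = -1) → b = 2 * ε * a → False := by
    intro ε hε hbe
    have ha : a ≠ 0 := by rintro rfl; apply hb; rw [hbe]; ring
    have h4 : a • (P.root i - (2 * ε) • P.root j) = 0 := by
      rw [smul_sub, h.symm, hbe, smul_smul, mul_comm a (2 * ε), sub_self]
    have h5 : P.root i = (2 * ε) • P.root j := by
      rcases smul_eq_zero.mp h4 with h6 | h6
      · exact absurd h6 ha
      · exact sub_eq_zero.mp h6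
    rcases hε with rfl | rfl
    · exact hind j (by rw [h5]; norm_num)
    · apply hind (P.reflectionPerm j j)
      rw [P.root_reflectionPerm, P.reflection_apply_self, h5]
      simp [smul_neg, neg_smul]
  obtain ⟨hp1, hp2⟩ := hpb
  interval_cases p
  · exact ⟨-2, by omega⟩
  · omega
  · exact ⟨-1, by omega⟩
  · exfalso; exact key (-1) (Or.inr rfl) (by omega)
  · exact absurd rfl hp0
  · exfalso; exact key 1 (Or.inl rfl) (by omega)
  · exact ⟨1, by omega⟩
  · omega
  · exact ⟨2, by omega⟩

end Groth.Agent.S5495
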