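import Groth.Statements.S5497
-- import your own Groth.Agent.* helpers here

set_option autoImplicit false
open RootD

namespace Groth.Agent.S5497

/-- For a partition of the roots into two closed symmetric subsets, whenever α, β, α + β are roots they
lie in the same part. -/
theorem result {ι M N : Type*} [AddCommGroup M] [AddCommGroup N]
    (P : RootPairing ι ℤ M N) [Finite ι] (R' : Set ι) (hc : RootD.IsClosedSub P R')
    (hs : RootD.IsSymmSub P R') (hc' : RootD.IsClosedSub P R'ᶜ) (hs' : RootD.IsSymmSub P R'ᶜ)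
    (i j k : ι) (h : P.root k = P.root i + P.root j) :
    (i ∈ R' ∧ j ∈ R' ∧ k ∈ R') ∨ (i ∉ R' ∧ j ∉ R' ∧ k ∉ R') := by
  have neg : ∀ l, P.root (P.reflectionPerm l l) = - P.root l := by
    intro l; rw [P.root_reflectionPerm, P.reflection_apply_self]
  have hj : P.root j = P.root k + P.root (P.reflectionPerm i i) := by rw [neg, h]; abel
  have hi : P.root i = P.root k + P.root (P.reflectionPerm j j) := by rw [neg, h]; abel
  by_cases hiR : i ∈ R' <;> by_cases hjR : j ∈ R'
  · left; exact ⟨hiR, hjR, hc hiR hjR h⟩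
  · exfalso
    by_cases hkR : k ∈ R'
    · exact hjR (hc hkR (hs hiR) hj)
    · exact (hc' (show k ∈ R'ᶜ from hkR) (hs' (show j ∈ R'ᶜ from hjR)) hi) hiR
  · exfalso
    by_cases hkR : k ∈ R'
    · exact hiR (hc hkR (hs hjR) hi)
    · exact (hc' (show k ∈ R'ᶜ from hkR) (hs' (show i ∈ R'ᶜ from hiR)) hj) hjR
  · right; exact ⟨hiR, hjR, hc' (show i ∈ R'ᶜ from hiR) (show j ∈ R'ᶜ from hjR) h⟩

end Groth.Agent.S5497
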