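import Groth.Statements.S5503
-- import your own Groth.Agent.* helpers here

set_option autoImplicit false
open RootPairing
open scoped Pointwise
open RootD

namespace Groth.Agent.S5503

/-- For an automorphism u of a root datum and a root α, u s_α u⁻¹ = s_{u(α)}; hence W(R) is a normal
subgroup of Aut(R). -/
theorem result {ι M N : Type*} [AddCommGroup M] [AddCommGroup N]
    (P : RootPairing ι ℤ M N) [Finite ι] (u : P.Aut) (i : ι) :
    u * Equiv.reflection P i * u⁻¹ = Equiv.reflection P (u • i) := by
  apply RootPairing.Equiv.weightHom_injective P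
  ext x
  change (u * Equiv.reflection P i * u⁻¹) • x = Equiv.reflection P (u • i) • x
  rw [mul_smul, mul_smul, Equiv.reflection_smul, Equiv.reflection_smul, P.reflection_apply,
    P.reflection_apply, smul_sub, smul_inv_smul, smul_comm, ← Equiv.root_indexEquiv_eq_smul]
  have key : P.coroot' i (u⁻¹ • x) = P.coroot' (u • i) x := by
    have h1 := Hom.weight_coweight_transpose_apply P P (P.coroot i) (u⁻¹).toHom
    have h2 := LinearMap.congr_fun h1 x
    have h3 := Hom.coroot_coweightMap_apply P P i (u⁻¹).toHom
    simp only [LinearMap.dualMap_apply] at h2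
    rw [h3] at h2
    exact h2
  rw [key]
  rfl

end Groth.Agent.S5503
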