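import Groth.Statements.S5505
import Groth.Agent.S5497
import Mathlib.LinearAlgebra.RootSystem.Finite.Lemmas
-- import your own Groth.Agent.* helpers here

set_option autoImplicit false
open RootD

namespace Groth.Agent.S5505

/-- A subset of roots which, together with its complement, is closed and symmetric contains with any
root every root not orthogonal to it; so it is a union of irreducible components. -/
theorem result {ι M N : Type*} [AddCommGroup M] [AddCommGroup N]
    (P : RootPairing ι ℤ M N) [Finite ι] (R' : Set ι) (hc : RootD.IsClosedSub P R')
    (hs : RootD.IsSymmSub P R') (hc' : RootD.IsClosedSub P R'ᶜ) (hs' : RootD.IsSymmSub P R'ᶜ)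
    (i j : ι) (hi : i ∈ R') (hij : ¬ P.IsOrthogonal i j) : j ∈ R' := by
  classical
  have neg : ∀ l, P.root (P.reflectionPerm l l) = - P.root l := fun l => by
    rw [P.root_reflectionPerm, P.reflection_apply_self]
  have hp : P.pairing i j ≠ 0 := by
    intro h
    exact hij ⟨h, P.pairing_eq_zero_iff'.mp h⟩
  have hpi : P.pairingIn ℤ i j = P.pairing i j := by
    have := P.algebraMap_pairingIn ℤ i j
    simpa using this
  rcases lt_or_gt_of_ne hp with hneg | hpos
  · by_cases he : P.root i = - P.root j
    · have : j = P.reflectionPerm i i := P.root.injective (by rw [neg, he, neg_neg])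
      rw [this]; exact hs hi
    · obtain ⟨k, hk⟩ := P.root_add_root_mem_of_pairingIn_neg (by rw [hpi]; exact hneg) he
      rcases Groth.Agent.S5497.result P R' hc hs hc' hs' i j k hk with h | h
      · exact h.2.1
      · exact absurd hi h.1
  · by_cases he : i = j
    · exact he ▸ hi
    · obtain ⟨k, hk⟩ := P.root_sub_root_mem_of_pairingIn_pos (by rw [hpi]; exact hpos) he
      have : P.root i = P.root k + P.root j := by rw [hk]; abel
      rcases Groth.Agent.S5497.result P R' hc hs hc' hs' k j i this with h | h
      · exact h.2.1
      · exact absurd hi h.2.2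

end Groth.Agent.S5505
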