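import Groth.Statements.S5506
-- import your own Groth.Agent.* helpers here

set_option autoImplicit false
open RootD

namespace Groth.Agent.S5506

/-- The class of a root under 'joined by a chain of pairwise non-orthogonal roots' is closed and
symmetric, and so is its complement; these classes are the irreducible components. -/
theorem result {ι M N : Type*} [AddCommGroup M] [AddCommGroup N]
    (P : RootPairing ι ℤ M N) [Finite ι] (i : ι) :
    RootD.IsClosedSub P {j : ι | Relation.ReflTransGen (fun a b : ι => ¬ P.IsOrthogonal a b) i j} ∧
      RootD.IsSymmSub P {j : ι | Relation.ReflTransGen (fun a b : ι => ¬ P.IsOrthogonal a b) i j} ∧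
      RootD.IsClosedSub P {j : ι | Relation.ReflTransGen (fun a b : ι => ¬ P.IsOrthogonal a b) i j}ᶜ ∧
      RootD.IsSymmSub P {j : ι | Relation.ReflTransGen (fun a b : ι => ¬ P.IsOrthogonal a b) i j}ᶜ := by
  have hadd : ∀ a b c : ι, P.root c = P.root a + P.root b →
      P.pairing a c + P.pairing b c = 2 := by
    intro a b c h
    rw [← P.pairing_same c]
    simp only [RootPairing.pairing, RootPairing.root']
    rw [h, map_add, LinearMap.add_apply]
  have hneg : ∀ j : ι, P.pairing (P.reflectionPerm j j) j = -2 := by
    intro j
    simp only [RootPairing.pairing, RootPairing.root']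
    rw [P.root_reflectionPerm, P.reflection_apply_self, map_neg, LinearMap.neg_apply]
    have := P.pairing_same j
    simp only [RootPairing.pairing, RootPairing.root'] at this
    rw [this]
  have rsymm : ∀ a b : ι, ¬ P.IsOrthogonal a b → ¬ P.IsOrthogonal b a :=
    fun a b h h' => h h'.symm
  have rneg : ∀ j : ι, ¬ P.IsOrthogonal (P.reflectionPerm j j) j := by
    intro j h
    have := h.1
    rw [hneg] at this
    exact absurd this (by norm_num)
  refine ⟨?_, ?_, ?_, ?_⟩
  · intro a b k ha hb hk
    have h2 := hadd a b k hk
    by_cases hak : P.pairing a k = 0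
    · have hbk : P.pairing b k ≠ 0 := by rw [hak, zero_add] at h2; rw [h2]; norm_num
      exact Relation.ReflTransGen.tail hb (fun h => hbk h.1)
    · exact Relation.ReflTransGen.tail ha (fun h => hak h.1)
  · intro j hj
    exact Relation.ReflTransGen.tail hj (rsymm _ _ (rneg j))
  · intro a b k ha hb hk hkS
    have h2 := hadd a b k hk
    by_cases hak : P.pairing a k = 0
    · have hbk : P.pairing b k ≠ 0 := by rw [hak, zero_add] at h2; rw [h2]; norm_num
      exact hb (Relation.ReflTransGen.tail hkS (rsymm _ _ (fun h => hbk h.1)))
    · exact ha (Relation.ReflTransGen.tail hkS (rsymm _ _ (fun h => hak h.1)))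
  · intro j hj hj'
    exact hj (Relation.ReflTransGen.tail hj' (rneg j))

end Groth.Agent.S5506
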