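import Groth.Statements.S5614

set_option autoImplicit false
universe v u
open CategoryTheory CategoryTheory.Limits CategoryTheory.Pretriangulated
open KZero

namespace Groth.Agent.S5614

theorem result {C : Type u} [Category.{v} C] [Preadditive C] [HasZeroObject C]
    [HasShift C ℤ] [∀ n : ℤ, (shiftFunctor C n).Additive] [Pretriangulated C]
    (S : Set C)
    (hdense : ∀ T : Set C, S ⊆ T →
      (∀ tr : Triangle C, tr ∈ distinguishedTriangles →
        (tr.obj₁ ∈ T → tr.obj₂ ∈ T → tr.obj₃ ∈ T) ∧ (tr.obj₁ ∈ T → tr.obj₃ ∈ T → tr.obj₂ ∈ T) ∧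
          (tr.obj₂ ∈ T → tr.obj₃ ∈ T → tr.obj₁ ∈ T)) → T = Set.univ) :
    AddSubgroup.closure (KZero.clTri '' S) = (⊤ : AddSubgroup (KZero.K0tri C)) := by
  classical
  set H := AddSubgroup.closure (KZero.clTri '' S) with hH
  have hrel : ∀ tr : Triangle C, tr ∈ distinguishedTriangles →
      KZero.clTri tr.obj₂ = KZero.clTri tr.obj₁ + KZero.clTri tr.obj₃ := by
    intro tr htr
    have hmem : FreeAbelianGroup.of (⟨tr.obj₂, trivial⟩ : Subtype (⊤ : ObjectProperty C)) -
        FreeAbelianGroup.of (⟨tr.obj₁, trivial⟩ : Subtype (⊤ : ObjectProperty C)) -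
        FreeAbelianGroup.of (⟨tr.obj₃, trivial⟩ : Subtype (⊤ : ObjectProperty C)) ∈
        KZero.relTr (⊤ : ObjectProperty C) :=
      AddSubgroup.subset_closure ⟨tr, trivial, trivial, trivial, htr, rfl⟩
    have h2 := (QuotientAddGroup.eq_zero_iff _).mpr hmem
    rw [QuotientAddGroup.mk_sub, QuotientAddGroup.mk_sub, sub_sub, sub_eq_zero] at h2
    exact h2
  have hT := hdense {X | KZero.clTri X ∈ H} (fun X hX => AddSubgroup.subset_closure ⟨X, hX, rfl⟩) (by
    intro X hX
    refine ⟨fun h1 h2 => ?_, fun h1 h3 => ?_, fun h2 h3 => ?_⟩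
    · have e : KZero.clTri X.obj₃ = KZero.clTri X.obj₂ - KZero.clTri X.obj₁ := by
        rw [hrel X hX]; abel
      simp only [Set.mem_setOf_eq] at *
      rw [e]; exact H.sub_mem h2 h1
    · simp only [Set.mem_setOf_eq] at *
      rw [hrel X hX]; exact H.add_mem h1 h3
    · have e : KZero.clTri X.obj₁ = KZero.clTri X.obj₂ - KZero.clTri X.obj₃ := by
        rw [hrel X hX]; abel
      simp only [Set.mem_setOf_eq] at *
      rw [e]; exact H.sub_mem h2 h3)
  have hall : ∀ X : C, KZero.clTri X ∈ H := by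
    intro X
    have hX : X ∈ {X | KZero.clTri X ∈ H} := by rw [hT]; trivial
    exact hX
  rw [eq_top_iff]
  rintro x -
  induction x using QuotientAddGroup.induction_on with
  | H z =>
    induction z using FreeAbelianGroup.induction_on with
    | zero => exact H.zero_mem
    | of X => exact hall X.1
    | neg X ih =>
      rw [QuotientAddGroup.mk_neg]
      exact H.neg_mem ih
    | add a b iha ihb =>
      rw [QuotientAddGroup.mk_add]
      exact H.add_mem iha ihb

end Groth.Agent.S5614
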