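import Groth.Statements.S5615

set_option autoImplicit false
universe v u
open CategoryTheory CategoryTheory.Limits
open KZero

namespace Groth.Agent.S5615

theorem result {A : Type u} [Category.{v} A] [Abelian A] (S : Set A)
    (hdense : ∀ T : Set A, S ⊆ T →
      (∀ X : ShortComplex A, X.ShortExact →
        (X.X₁ ∈ T → X.X₂ ∈ T → X.X₃ ∈ T) ∧ (X.X₁ ∈ T → X.X₃ ∈ T → X.X₂ ∈ T) ∧
          (X.X₂ ∈ T → X.X₃ ∈ T → X.X₁ ∈ T)) → T = Set.univ) :
    AddSubgroup.closure (KZero.cl '' S) = (⊤ : AddSubgroup (KZero.K0 A)) := by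
  classical
  set H := AddSubgroup.closure (KZero.cl '' S) with hH
  have hrel : ∀ X : ShortComplex A, X.ShortExact →
      KZero.cl X.X₂ = KZero.cl X.X₁ + KZero.cl X.X₃ := by
    intro X hX
    have hmem : FreeAbelianGroup.of X.X₂ - FreeAbelianGroup.of X.X₁ - FreeAbelianGroup.of X.X₃ ∈
        KZero.relAb A :=
      AddSubgroup.subset_closure ⟨X, hX, rfl⟩
    have h2 := (QuotientAddGroup.eq_zero_iff _).mpr hmem
    rw [QuotientAddGroup.mk_sub, QuotientAddGroup.mk_sub, sub_sub, sub_eq_zero] at h2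
    exact h2
  have hT := hdense {X | KZero.cl X ∈ H} (fun X hX => AddSubgroup.subset_closure ⟨X, hX, rfl⟩) (by
    intro X hX
    refine ⟨fun h1 h2 => ?_, fun h1 h3 => ?_, fun h2 h3 => ?_⟩
    · have e : KZero.cl X.X₃ = KZero.cl X.X₂ - KZero.cl X.X₁ := by rw [hrel X hX]; abel
      simp only [Set.mem_setOf_eq] at *
      rw [e]; exact H.sub_mem h2 h1
    · simp only [Set.mem_setOf_eq] at *
      rw [hrel X hX]; exact H.add_mem h1 h3
    · have e : KZero.cl X.X₁ = KZero.cl X.X₂ - KZero.cl X.X₃ := by rw [hrel X hX]; abel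
      simp only [Set.mem_setOf_eq] at *
      rw [e]; exact H.sub_mem h2 h3)
  have hall : ∀ X : A, KZero.cl X ∈ H := by
    intro X
    have hX : X ∈ {X | KZero.cl X ∈ H} := by rw [hT]; trivial
    exact hX
  rw [eq_top_iff]
  rintro x -
  induction x using QuotientAddGroup.induction_on with
  | H z =>
    induction z using FreeAbelianGroup.induction_on with
    | zero => exact H.zero_mem
    | of X => exact hall X
    | neg X ih =>
      rw [QuotientAddGroup.mk_neg]
      exact H.neg_mem ih
    | add a b iha ihb =>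
      rw [QuotientAddGroup.mk_add]
      exact H.add_mem iha ihb

end Groth.Agent.S5615
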