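import Groth.Statements.S5623

set_option autoImplicit false
universe v u
open CategoryTheory CategoryTheory.Limits
open PCoh

namespace Groth.Agent.S5623

theorem result {C : Type u} [Category.{v} C] [Abelian C]
    (P : ObjectProperty C) [P.IsClosedUnderIsomorphisms] [P.ContainsZero] (hsum : ∀ X Y : C, P X → P Y → P (X ⨯ Y))
    (hql : PCoh.IsQuasiLiftable P)
    (S : ShortComplex C) (hS : S.Exact) (hf : Mono S.f)
    (hG : PCoh.IsOfFiniteType P S.X₂) (hH : (∀ (E : C) (u : E ⟶ S.X₃), P E → PCoh.IsOfFiniteType P (kernel u))) :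
    PCoh.IsOfFiniteType P S.X₁ := by
  obtain ⟨E, π, hE, hπ⟩ := hG
  obtain ⟨E', ρ, hE', hρ⟩ := hH E (π ≫ S.g) hE
  have hw : pullback.fst π S.f ≫ π ≫ S.g = 0 := by
    rw [← Category.assoc, pullback.condition, Category.assoc, S.zero, comp_zero]
  have hfst : IsLimit (KernelFork.ofι (pullback.fst π S.f) hw) := by
    refine KernelFork.IsLimit.ofι _ _
      (fun k hk => pullback.lift k (hS.lift (k ≫ π) (by rw [Category.assoc]; exact hk))
        (by rw [hS.lift_f]))
      (fun k hk => pullback.lift_fst _ _ _) ?_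
    intro A k hk m hm
    apply pullback.hom_ext
    · rw [hm, pullback.lift_fst]
    · apply (cancel_mono S.f).1
      have h1 : (m ≫ pullback.snd π S.f) ≫ S.f = k ≫ π := by
        rw [Category.assoc, ← pullback.condition, ← Category.assoc, hm]
      have h2 : (pullback.lift k (hS.lift (k ≫ π) (by rw [Category.assoc]; exact hk))
          (by rw [hS.lift_f]) ≫ pullback.snd π S.f) ≫ S.f = k ≫ π := by
        rw [pullback.lift_snd, hS.lift_f]
      rw [h1, h2]
  let e : kernel (π ≫ S.g) ≅ pullback π S.f :=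
    (kernelIsKernel (π ≫ S.g)).conePointUniqueUpToIso hfst
  refine ⟨E', ρ ≫ e.hom ≫ pullback.snd π S.f, hE', ?_⟩
  infer_instance

end Groth.Agent.S5623
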