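import Groth.Statements.S5624
import Mathlib.CategoryTheory.Abelian.Pseudoelements

set_option autoImplicit false
universe v u
open CategoryTheory CategoryTheory.Limits
open PCoh

namespace Groth.Agent.S5624

open CategoryTheory.Abelian.Pseudoelement in
open scoped Pseudoelement in
theorem result {C : Type u} [Category.{v} C] [Abelian C]
    (P : ObjectProperty C) [P.IsClosedUnderIsomorphisms] [P.ContainsZero] (hsum : ∀ X Y : C, P X → P Y → P (X ⨯ Y))
    (hql : PCoh.IsQuasiLiftable P)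
    (S : ShortComplex C) (hS : S.ShortExact) :
    ((∀ (E : C) (u : E ⟶ S.X₁), P E → PCoh.IsOfFiniteType P (kernel u)) → (∀ (E : C) (u : E ⟶ S.X₃), P E → PCoh.IsOfFiniteType P (kernel u)) →
        (∀ (E : C) (u : E ⟶ S.X₂), P E → PCoh.IsOfFiniteType P (kernel u))) ∧
      (PCoh.IsOfFiniteType P S.X₁ → PCoh.IsOfFiniteType P S.X₃ → PCoh.IsOfFiniteType P S.X₂) := by
  haveI := hS.mono_f
  haveI := hS.epi_g
  constructor
  · intro h1 h3 E u hE
    obtain ⟨K₃, p₃, hK₃, hp₃⟩ := h3 E (u ≫ S.g) hE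
    have hwz : (kernel.ι (u ≫ S.g) ≫ u) ≫ S.g = 0 := by
      rw [Category.assoc, kernel.condition]
    let w : kernel (u ≫ S.g) ⟶ S.X₁ := hS.exact.lift (kernel.ι (u ≫ S.g) ≫ u) hwz
    have hw : w ≫ S.f = kernel.ι (u ≫ S.g) ≫ u := hS.exact.lift_f _ _
    obtain ⟨K₁, p₁, hK₁, hp₁⟩ := h1 K₃ (p₃ ≫ w) hK₃
    have hqz : (kernel.ι (p₃ ≫ w) ≫ p₃ ≫ kernel.ι (u ≫ S.g)) ≫ u = 0 := by
      have : kernel.ι (p₃ ≫ w) ≫ p₃ ≫ w = 0 := kernel.condition _
      calc (kernel.ι (p₃ ≫ w) ≫ p₃ ≫ kernel.ι (u ≫ S.g)) ≫ u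
          = kernel.ι (p₃ ≫ w) ≫ p₃ ≫ (kernel.ι (u ≫ S.g) ≫ u) := by simp only [Category.assoc]
        _ = kernel.ι (p₃ ≫ w) ≫ p₃ ≫ w ≫ S.f := by rw [hw]
        _ = 0 := by rw [← Category.assoc (p₃), ← Category.assoc, this, zero_comp]
    let q : kernel (p₃ ≫ w) ⟶ kernel u := kernel.lift u _ hqz
    have hq : Epi q := by
      apply epi_of_pseudo_surjective
      intro y
      -- e := ι y in E
      have hex1 := pseudo_exact_of_exact
        (ShortComplex.exact_of_f_is_kernel (ShortComplex.mk (kernel.ι (u ≫ S.g)) (u ≫ S.g)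
          (kernel.condition _)) (kernelIsKernel (u ≫ S.g)))
      have hu0 : (u ≫ S.g) (kernel.ι u y) = 0 := by
        rw [← Abelian.Pseudoelement.comp_apply (kernel.ι u) (u ≫ S.g), ← Category.assoc,
          kernel.condition, zero_comp, Abelian.Pseudoelement.zero_apply]
      obtain ⟨k, hk⟩ := hex1 (kernel.ι u y) hu0
      have hwk : w k = 0 := by
        apply zero_of_map_zero S.f (pseudo_injective_of_mono S.f)
        rw [← Abelian.Pseudoelement.comp_apply, hw, Abelian.Pseudoelement.comp_apply]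
        change (kernel.ι (u ≫ S.g)) k = _ at hk
        rw [hk, ← Abelian.Pseudoelement.comp_apply, kernel.condition, Abelian.Pseudoelement.zero_apply]
      obtain ⟨x₃, hx₃⟩ := pseudo_surjective_of_epi p₃ k
      have hex2 := pseudo_exact_of_exact
        (ShortComplex.exact_of_f_is_kernel (ShortComplex.mk (kernel.ι (p₃ ≫ w)) (p₃ ≫ w)
          (kernel.condition _)) (kernelIsKernel (p₃ ≫ w)))
      have hx0 : (p₃ ≫ w) x₃ = 0 := by rw [Abelian.Pseudoelement.comp_apply, hx₃, hwk]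
      obtain ⟨x, hx⟩ := hex2 x₃ hx0
      refine ⟨x, ?_⟩
      apply pseudo_injective_of_mono (kernel.ι u)
      rw [← Abelian.Pseudoelement.comp_apply, kernel.lift_ι, Abelian.Pseudoelement.comp_apply, Abelian.Pseudoelement.comp_apply]
      change (kernel.ι (p₃ ≫ w)) x = x₃ at hx
      change (kernel.ι (u ≫ S.g)) k = _ at hk
      rw [hx, hx₃, hk]
    exact ⟨K₁, p₁ ≫ q, hK₁, epi_comp _ _⟩
  · intro h1 h3
    obtain ⟨E₁, π₁, hE₁, hπ₁⟩ := h1
    obtain ⟨E₃, π₃, hE₃, hπ₃⟩ := h3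
    obtain ⟨F', v, hF', hv⟩ := hql _ E₃ (pullback.snd S.g π₃) inferInstance hE₃
    let h : E₁ ⨯ F' ⟶ S.X₂ := prod.fst ≫ π₁ ≫ S.f + prod.snd ≫ v ≫ pullback.fst S.g π₃
    refine ⟨E₁ ⨯ F', h, hsum _ _ hE₁ hF', ?_⟩
    apply Preadditive.epi_of_cancel_zero
    intro Z z hz
    have e1 : π₁ ≫ S.f ≫ z = 0 := by
      have := congrArg (fun t => prod.lift (𝟙 E₁) (0 : E₁ ⟶ F') ≫ t) hz
      simp only [h, Preadditive.add_comp, Category.assoc, Preadditive.comp_add, comp_zero] at this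
      rw [prod.lift_fst_assoc, prod.lift_snd_assoc, zero_comp, add_zero, Category.id_comp] at this
      exact this
    have e1' : S.f ≫ z = 0 := (cancel_epi π₁).1 (by rw [e1, comp_zero])
    obtain ⟨z', hz'⟩ := CokernelCofork.IsColimit.desc' hS.gIsCokernel z e1'
    have hz'' : S.g ≫ z' = z := hz'
    have e2 : v ≫ pullback.fst S.g π₃ ≫ z = 0 := by
      have := congrArg (fun t => prod.lift (0 : F' ⟶ E₁) (𝟙 F') ≫ t) hz
      simp only [h, Preadditive.add_comp, Category.assoc, Preadditive.comp_add, comp_zero] at this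
      rw [prod.lift_fst_assoc, prod.lift_snd_assoc, zero_comp, zero_add, Category.id_comp] at this
      exact this
    have e3 : (v ≫ pullback.snd S.g π₃) ≫ π₃ ≫ z' = 0 := by
      rw [Category.assoc, ← pullback.condition_assoc, hz'']
      exact e2
    have h4 : π₃ ≫ z' = 0 := (cancel_epi (v ≫ pullback.snd S.g π₃)).1 (by rw [e3, comp_zero])
    have h5 : z' = 0 := (cancel_epi π₃).1 (by rw [h4, comp_zero])
    rw [← hz'', h5, comp_zero]

end Groth.Agent.S5624
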