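import Groth.Statements.S6121

set_option autoImplicit false
open CategoryTheory
universe v₁ v₂ u₁ u₂
open SGA4

namespace Groth.Agent.S6121

theorem result
    {B : Type u₁} [Category.{v₁} B] {E : Type u₂} [Category.{v₂} E] (p : E ⥤ B) [p.IsFibered] :
    p.ReflectsIsomorphisms ↔ ∀ b : B, IsGroupoid (p.Fiber b) := by
  constructor
  · intro hp b
    refine ⟨fun {x y} φ => ?_⟩
    have h1 : IsIso (p.map (Functor.Fiber.fiberInclusion.map φ)) := by
      rw [IsHomLift.fac' p (𝟙 b) (Functor.Fiber.fiberInclusion.map φ)]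
      infer_instance
    have h2 : IsIso (Functor.Fiber.fiberInclusion.map φ) := isIso_of_reflects_iso _ p
    have h3 : p.IsHomLift (𝟙 b) (inv (Functor.Fiber.fiberInclusion.map φ)) := inferInstance
    refine ⟨⟨Functor.Fiber.homMk p b (inv (Functor.Fiber.fiberInclusion.map φ)), ?_, ?_⟩⟩
    · apply Functor.Fiber.hom_ext
      exact IsIso.hom_inv_id (Functor.Fiber.fiberInclusion.map φ)
    · apply Functor.Fiber.hom_ext
      exact IsIso.inv_hom_id (Functor.Fiber.fiberInclusion.map φ)
  · intro h
    refine ⟨fun {x y} φ hφ => ?_⟩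
    let f := p.map φ
    let χ := Functor.IsPreFibered.pullbackMap (p := p) (rfl : p.obj y = p.obj y) f
    have hχ : IsIso χ := Functor.IsStronglyCartesian.isIso_of_base_isIso p f χ
    let σ := Functor.IsCartesian.map p f χ φ
    have hσ : IsIso (Functor.Fiber.homMk p (p.obj x) σ) := (h (p.obj x)).all_isIso _
    have hσ' : IsIso σ := (inferInstance : IsIso (Functor.Fiber.fiberInclusion.map
      (Functor.Fiber.homMk p (p.obj x) σ)))
    rw [← Functor.IsCartesian.fac p f χ φ]
    infer_instance

end Groth.Agent.S6121
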