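import Groth.Statements.S6122

set_option autoImplicit false
open CategoryTheory
universe v₁ v₂ u₁ u₂
open SGA4

namespace Groth.Agent.S6122

theorem result
    {B : Type u₁} [Category.{v₁} B] {E : Type u₂} [Category.{v₂} E] (p : E ⥤ B) [p.IsFibered] :
    p.Faithful ↔ ∀ (b : B) (x y : p.Fiber b), Subsingleton (x ⟶ y) := by
  constructor
  · intro hp b x y
    refine ⟨fun φ ψ => ?_⟩
    apply Functor.Fiber.hom_ext
    apply p.map_injective
    rw [IsHomLift.fac' p (𝟙 b) (Functor.Fiber.fiberInclusion.map φ),
      IsHomLift.fac' p (𝟙 b) (Functor.Fiber.fiberInclusion.map ψ)]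
  · intro h
    refine ⟨fun {x y} φ ψ hφψ => ?_⟩
    let f := p.map φ
    let χ := Functor.IsPreFibered.pullbackMap (p := p) (rfl : p.obj y = p.obj y) f
    have hψ : p.IsHomLift f ψ := by
      have := IsHomLift.map p ψ
      rw [← hφψ] at this
      exact this
    let σ := Functor.IsCartesian.map p f χ φ
    let τ := Functor.IsCartesian.map p f χ ψ
    have e := Subsingleton.elim (Functor.Fiber.homMk p (p.obj x) σ) (Functor.Fiber.homMk p (p.obj x) τ)
    have e' : σ = τ := congrArg (fun k => Functor.Fiber.fiberInclusion.map k) e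
    rw [← Functor.IsCartesian.fac p f χ φ, ← Functor.IsCartesian.fac p f χ ψ]
    exact congrArg (· ≫ χ) e'

end Groth.Agent.S6122
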