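import Groth.Statements.S6123
import Mathlib.CategoryTheory.Limits.Shapes.Diagonal
import Mathlib.CategoryTheory.Limits.Preserves.Shapes.Pullbacks

set_option autoImplicit false
open CategoryTheory CategoryTheory.Limits Opposite
universe w v₁ v₂ u₁ u₂
open SGA4

namespace Groth.Agent.S6123

theorem result
    {E : Type u₁} [Category.{v₁} E] {F : Type u₂} [Category.{v₂} F] (φ : E ⥤ F)
    [HasPullbacks E] [PreservesLimitsOfShape WalkingCospan φ]
    (h : ∀ ⦃X Y : E⦄ (u : X ⟶ Y), Mono u → IsIso (φ.map u) → IsIso u) :
    φ.ReflectsIsomorphisms := by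
  constructor
  intro X Y u hu
  haveI : HasPullback (φ.map u) (φ.map u) := hasPullback_of_preservesPullback φ u u
  have key : φ.map (pullback.diagonal u) ≫ (PreservesPullback.iso φ u u).hom =
      pullback.diagonal (φ.map u) := by
    apply pullback.hom_ext
    · rw [Category.assoc, PreservesPullback.iso_hom_fst, ← φ.map_comp, pullback.diagonal_fst,
        φ.map_id, pullback.diagonal_fst]
    · rw [Category.assoc, PreservesPullback.iso_hom_snd, ← φ.map_comp, pullback.diagonal_snd,
        φ.map_id, pullback.diagonal_snd]
  have hiso : IsIso (φ.map (pullback.diagonal u)) := by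
    have e : φ.map (pullback.diagonal u) =
        pullback.diagonal (φ.map u) ≫ (PreservesPullback.iso φ u u).inv := by
      rw [← key, Category.assoc, Iso.hom_inv_id, Category.comp_id]
    rw [e]
    infer_instance
  have hd : IsIso (pullback.diagonal u) := h _ inferInstance hiso
  have hm : Mono u := (pullback.isIso_diagonal_iff u).mp hd
  exact h u hm hu

end Groth.Agent.S6123
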