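import Groth.Statements.S6124
import Mathlib.CategoryTheory.Limits.Shapes.Diagonal

set_option autoImplicit false
open CategoryTheory CategoryTheory.Limits Opposite
universe w v₁ v₂ u₁ u₂
open SGA4

namespace Groth.Agent.S6124

variable {E : Type u₁} [Category.{v₁} E] [HasPullbacks E]
  {κ : Type w} {E' : κ → Type u₂} [∀ k, Category.{v₂} (E' k)] (φ : ∀ k, E ⥤ E' k)
  [∀ k, PreservesLimitsOfShape WalkingCospan (φ k)]

theorem baseChange {A B C D : E} {fst : A ⟶ B} {snd : A ⟶ C} {h : B ⟶ D} {f : C ⟶ D}
    (sq : IsPullback fst snd h f) (hf : ∀ k, IsIso ((φ k).map f)) (k : κ) :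
    IsIso ((φ k).map fst) :=
  (Functor.map_isPullback (φ k) sq).isIso_fst_of_isIso (hf k)

theorem mono_iso {P : ObjectProperty E} (hP : P.IsDetecting)
    (hcrit : ∀ (X : E), P X → ∀ (X' : Subobject X), X' ≠ ⊤ → ∃ k, ¬ IsIso ((φ k).map X'.arrow))
    {Z W : E} (m : Z ⟶ W) [Mono m] (hm : ∀ k, IsIso ((φ k).map m)) : IsIso m := by
  -- first: monos into objects of `P`
  have hB : ∀ {G Z' : E} (hG : P G) (m' : Z' ⟶ G) [Mono m'], (∀ k, IsIso ((φ k).map m')) → IsIso m' := by
    intro G Z' hG m' _ hm'
    rw [Subobject.isIso_iff_mk_eq_top]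
    by_contra hne
    obtain ⟨k, hk⟩ := hcrit G hG (Subobject.mk m') hne
    apply hk
    rw [← Subobject.underlyingIso_hom_comp_eq_mk m', Functor.map_comp]
    haveI := hm' k
    infer_instance
  apply hP
  intro G hG g
  have sq := IsPullback.of_hasPullback g m
  have hπ : IsIso (pullback.fst g m) := hB hG _ (fun k => baseChange φ sq hm k)
  refine ⟨inv (pullback.fst g m) ≫ pullback.snd g m, ?_, ?_⟩
  · show (inv (pullback.fst g m) ≫ pullback.snd g m) ≫ m = g
    rw [Category.assoc, ← pullback.condition, IsIso.inv_hom_id_assoc]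
  · intro y hy
    apply (cancel_mono m).1
    rw [hy, Category.assoc, ← pullback.condition, IsIso.inv_hom_id_assoc]

theorem result
    {E : Type u₁} [Category.{v₁} E] [HasPullbacks E] (P : ObjectProperty E) (hP : P.IsDetecting)
    {κ : Type w} {E' : κ → Type u₂} [∀ k, Category.{v₂} (E' k)] (φ : ∀ k, E ⥤ E' k)
    [∀ k, PreservesLimitsOfShape WalkingCospan (φ k)] :
    (∀ ⦃X Y : E⦄ (f : X ⟶ Y), (∀ k, IsIso ((φ k).map f)) → IsIso f) ↔
      ∀ (X : E), P X → ∀ (X' : Subobject X), X' ≠ ⊤ → ∃ k, ¬ IsIso ((φ k).map X'.arrow) := by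
  constructor
  · intro hrefl X _ X' hne
    by_contra hall
    apply hne
    apply (Subobject.isIso_arrow_iff_eq_top X').1
    apply hrefl
    intro k
    by_contra hk
    exact hall ⟨k, hk⟩
  · intro hcrit X Y f hf
    -- the diagonal is an iso
    let δ := pullback.diagonal f
    have hδk : ∀ k, IsIso ((φ k).map δ) := by
      intro k
      have h1 : IsIso ((φ k).map (pullback.fst f f)) :=
        baseChange φ (IsPullback.of_hasPullback f f) hf k
      have h2 : (φ k).map δ ≫ (φ k).map (pullback.fst f f) = 𝟙 _ := by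
        rw [← Functor.map_comp, pullback.diagonal_fst]
        exact (φ k).map_id X
      haveI := h1
      haveI : IsIso ((φ k).map δ ≫ (φ k).map (pullback.fst f f)) := by
        rw [h2]; infer_instance
      exact IsIso.of_isIso_comp_right _ ((φ k).map (pullback.fst f f))
    have hδ : IsIso δ := mono_iso φ hP hcrit δ hδk
    have hfs : pullback.fst f f = pullback.snd f f := by
      apply (cancel_epi δ).1
      exact (pullback.diagonal_fst f).trans (pullback.diagonal_snd f).symm
    have hmono : Mono f := ⟨fun {W} a b hab => by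
      have e1 := pullback.lift_fst a b hab
      have e2 := pullback.lift_snd a b hab
      calc a = pullback.lift a b hab ≫ pullback.fst f f := e1.symm
        _ = pullback.lift a b hab ≫ pullback.snd f f := congrArg _ hfs
        _ = b := e2⟩
    exact mono_iso φ hP hcrit f hf

end Groth.Agent.S6124
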