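import Groth.Statements.S6131

set_option autoImplicit false
open CategoryTheory CategoryTheory.Limits
universe u
open SGA4

namespace Groth.Agent.S6131

open Opposite

/-- The presheaf whose value at `Y` is a point if the empty sieve covers `Y`, and empty otherwise. -/
def Q {C : Type u} [SmallCategory C] (J : GrothendieckTopology C) : Cᵒᵖ ⥤ Type u where
  obj Y := {_u : PUnit.{u+1} // (⊥ : Sieve Y.unop) ∈ J Y.unop}
  map {Y Z} f := TypeCat.ofHom (fun (x : {_u : PUnit.{u+1} // (⊥ : Sieve Y.unop) ∈ J Y.unop}) =>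
    (⟨x.1, by simpa [Sieve.pullback_bot] using J.pullback_stable f.unop x.2⟩ :
      {_u : PUnit.{u+1} // (⊥ : Sieve Z.unop) ∈ J Z.unop}))
  map_id _ := rfl
  map_comp _ _ := rfl

instance Q_sub {C : Type u} [SmallCategory C] (J : GrothendieckTopology C) (Y : Cᵒᵖ) :
    Subsingleton ((Q J).obj Y) :=
  show Subsingleton {_u : PUnit.{u+1} // (⊥ : Sieve Y.unop) ∈ J Y.unop} from inferInstance

theorem Q_isSheaf {C : Type u} [SmallCategory C] (J : GrothendieckTopology C) :
    Presieve.IsSheaf J (Q J) := by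
  intro Y S hS x hx
  refine ⟨(⟨PUnit.unit, ?_⟩ : {_u : PUnit.{u+1} // (⊥ : Sieve Y) ∈ J Y}), ?_, ?_⟩
  · refine J.transitive hS ⊥ (fun Z f hf => ?_)
    rw [Sieve.pullback_bot]
    exact (x f hf).2
  · intro Z f hf
    exact Subsingleton.elim (α := (Q J).obj (op Z)) _ _
  · intro t _
    exact Subsingleton.elim (α := (Q J).obj (op Y)) _ _

theorem result
    {C : Type u} [SmallCategory C] (J : GrothendieckTopology C) (X : C) :
    Nonempty (IsInitial ((presheafToSheaf J (Type u)).obj (yoneda.obj X))) ↔ (⊥ : Sieve X) ∈ J X := by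
  constructor
  · rintro ⟨hI⟩
    let QS : Sheaf J (Type u) := ⟨Q J, (isSheaf_iff_isSheaf_of_type J (Q J)).2 (Q_isSheaf J)⟩
    let m := hI.to QS
    let m' := (sheafificationAdjunction J (Type u)).homEquiv _ _ m
    have e : {_u : PUnit.{u+1} // (⊥ : Sieve X) ∈ J X} := yonedaEquiv m'
    exact e.2
  · intro H
    refine ⟨@IsInitial.ofUnique _ _ _ (fun F => ?_)⟩
    have hU : Unique (F.1.obj (op X)) := Types.isTerminalEquivUnique _ (Sheaf.isTerminalOfBotCover F X H)
    exact @Equiv.unique _ _ hU (((sheafificationAdjunction J (Type u)).homEquiv _ _).trans yonedaEquiv)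

end Groth.Agent.S6131
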