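import Groth.Statements.S6133

set_option autoImplicit false
open CategoryTheory CategoryTheory.Limits
universe v₁ u₁
open SGA4

namespace Groth.Agent.S6133

theorem factors_aux {E : Type u₁} [Category.{v₁} E] {C : ObjectProperty E} (hC : C.IsSeparating)
    {X X' X'' : E} (i' : X' ⟶ X) (i'' : X'' ⟶ X) (R'' : RegularMono i'')
    (h : ∀ (T : E), C T → ∀ (g : T ⟶ X), (∃ g' : T ⟶ X', g' ≫ i' = g) → (∃ g'' : T ⟶ X'', g'' ≫ i'' = g)) :
    ∃ k : X' ⟶ X'', k ≫ i'' = i' := by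
  have hw : i' ≫ R''.left = i' ≫ R''.right := by
    apply hC
    intro G hG t
    obtain ⟨g'', hg''⟩ := h G hG (t ≫ i') ⟨t, rfl⟩
    rw [← Category.assoc, ← Category.assoc, ← hg'', Category.assoc, R''.w, ← Category.assoc]
  exact ⟨Fork.IsLimit.lift R''.isLimit i' hw, Fork.IsLimit.lift_ι' R''.isLimit i' hw⟩

theorem result
    {E : Type u₁} [Category.{v₁} E] {C : ObjectProperty E} (hC : C.IsSeparating)
    {X X' X'' : E} (i' : X' ⟶ X) (i'' : X'' ⟶ X) [IsRegularMono i'] [IsRegularMono i'']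
    (h : ∀ (T : E), C T → ∀ (g : T ⟶ X),
      (∃ g' : T ⟶ X', g' ≫ i' = g) ↔ (∃ g'' : T ⟶ X'', g'' ≫ i'' = g)) :
    Subobject.mk i' = Subobject.mk i'' := by
  obtain ⟨k, hk⟩ := factors_aux hC i' i'' (IsRegularMono.getStruct i'') (fun T hT g => (h T hT g).1)
  obtain ⟨k', hk'⟩ := factors_aux hC i'' i' (IsRegularMono.getStruct i') (fun T hT g => (h T hT g).2)
  exact le_antisymm (Subobject.mk_le_mk_of_comm k hk) (Subobject.mk_le_mk_of_comm k' hk')

end Groth.Agent.S6133
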