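import Groth.Statements.S6134

set_option autoImplicit false
open CategoryTheory CategoryTheory.Limits
universe u
open SGA4

namespace Groth.Agent.S6134

theorem result
    {C : Type u} [SmallCategory C] {J J' : GrothendieckTopology C} (hJ : J ≤ J')
    {X : C} {ι : Type u} (Y : ι → C) (s : ∀ i, Y i ⟶ X)
    (h : Nonempty (IsColimit (Cofan.mk ((presheafToSheaf J (Type u)).obj (yoneda.obj X))
      (fun i => (presheafToSheaf J (Type u)).map (yoneda.map (s i)))))) :
    Nonempty (IsColimit (Cofan.mk ((presheafToSheaf J' (Type u)).obj (yoneda.obj X))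
      (fun i => (presheafToSheaf J' (Type u)).map (yoneda.map (s i))))) := by
  obtain ⟨hc⟩ := h
  let adj := sheafificationAdjunction J (Type u)
  let adj' := sheafificationAdjunction J' (Type u)
  let toJ : Sheaf J' (Type u) → Sheaf J (Type u) := fun F => ⟨F.1, Presheaf.IsSheaf.of_le hJ F.2⟩
  let tr : ∀ (P : Cᵒᵖ ⥤ Type u) (F : Sheaf J' (Type u)),
      ((presheafToSheaf J' (Type u)).obj P ⟶ F) ≃ ((presheafToSheaf J (Type u)).obj P ⟶ toJ F) :=
    fun P F => (adj'.homEquiv P F).trans (adj.homEquiv P (toJ F)).symm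
  have nat : ∀ {P Q : Cᵒᵖ ⥤ Type u} (f : P ⟶ Q) (F : Sheaf J' (Type u))
      (g : (presheafToSheaf J' (Type u)).obj Q ⟶ F),
      tr P F ((presheafToSheaf J' (Type u)).map f ≫ g) =
        (presheafToSheaf J (Type u)).map f ≫ tr Q F g := by
    intro P Q f F g
    simp only [tr, Equiv.trans_apply]
    rw [adj'.homEquiv_naturality_left]
    exact adj.homEquiv_naturality_left_symm f _
  refine ⟨Cofan.IsColimit.mk _
    (fun t => (tr _ t.pt).symm (Cofan.IsColimit.desc hc (fun i => tr _ t.pt (t.inj i)))) ?_ ?_⟩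
  · intro t j
    apply (tr _ t.pt).injective
    show tr _ t.pt ((presheafToSheaf J' (Type u)).map (yoneda.map (s j)) ≫ _) = _
    rw [nat, Equiv.apply_symm_apply]
    exact Cofan.IsColimit.fac hc (fun i => tr _ t.pt (t.inj i)) j
  · intro t m hm
    apply (tr _ t.pt).injective
    rw [Equiv.apply_symm_apply]
    apply Cofan.IsColimit.hom_ext hc
    intro i
    rw [Cofan.IsColimit.fac]
    show (presheafToSheaf J (Type u)).map (yoneda.map (s i)) ≫ tr _ t.pt m = tr _ t.pt (t.inj i)
    rw [← nat, ← hm i]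
    rfl

end Groth.Agent.S6134
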