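import Groth.Statements.S6138
import Mathlib.CategoryTheory.Limits.Shapes.Opposites.Equalizers
import Mathlib.CategoryTheory.Limits.Preserves.Shapes.Equalizers
import Mathlib.CategoryTheory.Limits.Types.Equalizers
import Mathlib.CategoryTheory.Limits.Shapes.RegularMono

set_option autoImplicit false
open CategoryTheory CategoryTheory.Limits Opposite
universe v u
open SGA4

namespace Groth.Agent.S6138

theorem result
    {C : Type u} [Category.{v} C] [HasCoequalizers C] [HasPullbacks C]
    (F : Cᵒᵖ ⥤ Type v) [PreservesLimitsOfShape WalkingParallelPair F]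
    {X : C} (u : F.obj (op X)) :
    (∀ (Y : C) (v v' : Y ⟶ X), F.map v.op u = F.map v'.op u → v = v') ↔
      ∀ (X' : C) (p : X ⟶ X') (u' : F.obj (op X')),
        EffectiveEpi p → F.map p.op u' = u → IsIso p := by
  constructor
  · intro hinj X' p u' hp hu
    have hmono : Mono p := ⟨fun {W} a b hab => by
      apply hinj W a b
      rw [← hu]
      have h1 : F.map a.op (F.map p.op u') = F.map (a ≫ p).op u' := by
        rw [op_comp, Functor.map_comp_apply]
      have h2 : F.map b.op (F.map p.op u') = F.map (b ≫ p).op u' := by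
        rw [op_comp, Functor.map_comp_apply]
      rw [h1, h2, hab]⟩
    let s := EffectiveEpi.desc p (𝟙 X) (fun g₁ g₂ h => by
      rw [Category.comp_id, Category.comp_id]; exact (cancel_mono p).1 h)
    have hs : p ≫ s = 𝟙 X := EffectiveEpi.fac p (𝟙 X) _
    refine ⟨⟨s, hs, ?_⟩⟩
    apply (cancel_epi p).1
    rw [← Category.assoc, hs, Category.id_comp, Category.comp_id]
  · intro hmin Y v v' h
    let q := coequalizer.π v v'
    have w : v ≫ q = v' ≫ q := coequalizer.condition v v'
    have hc : IsColimit (Cofork.ofπ q w) := coequalizerIsCoequalizer v v'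
    have w' : q.op ≫ v.op = q.op ≫ v'.op := by rw [← op_comp, ← op_comp, w]
    have hl : IsLimit (Fork.ofι q.op w') := Cofork.isColimitOfπEquivIsLimitOp q q w w' rfl hc
    have hF := isLimitForkMapOfIsLimit F w' hl
    obtain ⟨u', hu', -⟩ := Types.unique_of_type_equalizer _ _ hF u h
    have hq : IsIso q := hmin _ q u' inferInstance hu'
    exact (cancel_mono q).1 w

end Groth.Agent.S6138
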