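import Groth.Statements.S6139

set_option autoImplicit false
open CategoryTheory CategoryTheory.Limits
universe v u
open SGA4

namespace Groth.Agent.S6139

theorem result
    {C : Type u} [Category.{v} C] (X : C) :
    (⊥ : Sieve X) ∈ Sheaf.canonicalTopology C X ↔
      (Nonempty (IsInitial X) ∧ ∀ (Y : C) (f : Y ⟶ X), IsIso f) := by
  have initOf : ∀ (Y : C), (⊥ : Sieve Y) ∈ Sheaf.canonicalTopology C Y → Nonempty (IsInitial Y) := by
    intro Y hY
    have hsh : ∀ Z : C, Presieve.IsSheafFor (yoneda.obj Z) (⊥ : Sieve Y).arrows :=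
      fun Z => Sheaf.isSheaf_yoneda_obj Z _ hY
    let x : ∀ Z : C, Presieve.FamilyOfElements (yoneda.obj Z) (⊥ : Sieve Y).arrows :=
      fun Z _ f hf => ((Sieve.bot_apply f).mp hf).elim
    have hc : ∀ Z, (x Z).Compatible := by
      intro Z Y₁ Y₂ W g₁ g₂ f₁ f₂ h₁ h₂ _
      exact ((Sieve.bot_apply _).mp h₁).elim
    refine ⟨IsInitial.ofUniqueHom (fun Z => (hsh Z (x Z) (hc Z)).exists.choose) (fun Z m => ?_)⟩
    exact (hsh Z (x Z) (hc Z)).unique (fun _ _ hf => ((Sieve.bot_apply _).mp hf).elim)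
      (hsh Z (x Z) (hc Z)).exists.choose_spec
  constructor
  · intro hX
    obtain ⟨hXi⟩ := initOf X hX
    refine ⟨⟨hXi⟩, fun Y f => ?_⟩
    have hY : (⊥ : Sieve Y) ∈ Sheaf.canonicalTopology C Y := by
      have := (Sheaf.canonicalTopology C).pullback_stable f hX
      rwa [Sieve.pullback_bot] at this
    obtain ⟨hYi⟩ := initOf Y hY
    exact ⟨⟨hXi.to Y, hYi.hom_ext _ _, hXi.hom_ext _ _⟩⟩
  · rintro ⟨⟨hXi⟩, hiso⟩
    apply Sheaf.mem_finestTopology_of_forall_isSheafFor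
    rintro P ⟨Z, rfl⟩ Y f
    rw [Sieve.pullback_bot]
    have hYi : IsInitial Y := hXi.ofIso (asIso f).symm
    intro x _
    refine ⟨hYi.to Z, fun _ g hg => ((Sieve.bot_apply g).mp hg).elim, fun t _ => hYi.hom_ext _ _⟩

end Groth.Agent.S6139
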