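import Groth.Statements.S6172

set_option autoImplicit false
universe u
open CategoryTheory
open SGA4

namespace Groth.Agent.S6172

open CategoryTheory.Limits MonoidalCategory in
theorem result {C : Type u} [SmallCategory C] (J : GrothendieckTopology C)
    (Z Y : Sheaf J (Type u)) [(Over.star Z).IsLeftAdjoint] :
    Nonempty (((Over.star Z).rightAdjoint).obj ((Over.star Z).obj Y) ≅ (ihom Z).obj Y) := by
  let adj1 := Over.forgetAdjStar Z
  let adj2 := Adjunction.ofIsLeftAdjoint (Over.star Z)
  let e1 : prod.functor.obj Z ≅ Over.star Z ⋙ Over.forget Z :=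
    NatIso.ofComponents (fun Y => Iso.refl _) (fun f => (Category.comp_id _).trans (Category.id_comp _).symm)
  let e : tensorLeft Z ≅ Over.star Z ⋙ Over.forget Z :=
    CartesianMonoidalCategory.tensorLeftIsoProd Z ≪≫ e1
  let adj3 := (ihom.adjunction Z).ofNatIsoLeft e
  exact ⟨((adj2.comp adj1).rightAdjointUniq adj3).app Y⟩

end Groth.Agent.S6172
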