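import Groth.Statements.S6176

set_option autoImplicit false
universe u
open CategoryTheory
open SGA4

namespace Groth.Agent.S6176

open CategoryTheory.Limits in
theorem result {C : Type u} [SmallCategory C] (J : GrothendieckTopology C)
    (U : Sheaf J (Type u)) (hU : SGA4.IsOpen U) (I : Type u) [Nonempty I] :
    PreservesLimitsOfShape (Discrete I) (Over.forget U) := by
  have hm : Mono (terminal.from U) := hU
  obtain ⟨i₀⟩ := ‹Nonempty I›
  have hsub : ∀ {T : Sheaf J (Type u)} (f g : T ⟶ U), f = g := fun f g =>
    (cancel_mono (terminal.from U)).1 (Subsingleton.elim _ _)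
  constructor
  intro K
  let X : I → Sheaf J (Type u) := fun i => (K.obj ⟨i⟩).left
  let c : Cone K :=
    { pt := Over.mk (Pi.π X i₀ ≫ (K.obj ⟨i₀⟩).hom)
      π := Discrete.natTrans (fun i => Over.homMk (Pi.π X i.as) (hsub _ _)) }
  have hc : IsLimit c :=
    { lift := fun s => Over.homMk (Pi.lift fun i => (s.π.app ⟨i⟩).left) (hsub _ _)
      fac := by
        rintro s ⟨i⟩
        apply Over.OverMorphism.ext
        simp [c, X]
      uniq := by
        intro s m hm'
        apply Over.OverMorphism.ext
        apply Pi.hom_ext
        intro i
        have := congrArg CommaMorphism.left (hm' ⟨i⟩)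
        simp only [c, X, Over.comp_left] at this
        simp [X, ← this] }
  have hc' : IsLimit ((Over.forget U).mapCone c) :=
    { lift := fun s => Pi.lift fun i => s.π.app ⟨i⟩
      fac := by
        rintro s ⟨i⟩
        exact Pi.lift_π (fun i => s.π.app ⟨i⟩) i
      uniq := by
        intro s m hm'
        apply Pi.hom_ext
        intro i
        have := hm' ⟨i⟩
        simp only [c, X, Functor.mapCone_π_app] at this
        exact this.trans (Pi.lift_π (fun i => s.π.app ⟨i⟩) i).symm }
  exact preservesLimit_of_preserves_limit_cone hc hc'

end Groth.Agent.S6176
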