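import Groth.Statements.S8364
-- import your own Groth.Agent.* helpers here

set_option autoImplicit false
universe u
open SGA3

namespace Groth.Agent.S8364

/-- For a commutative ring R, an ideal J of R of square zero, a smooth R-algebra A and the extended
ideal I = J·A, every R-algebra automorphism of A/I lifts to an R-algebra automorphism of A. (The
published statement concerns the automorphism functor of a smooth affine S-scheme E and affine test
schemes Y; this row is the case Y = S = Spec R, E = Spec A, which gives the general one after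
replacing R by the ring of Y.) -/
theorem result (R A : Type u) [CommRing R] [CommRing A] [Algebra R A]
    [Algebra.Smooth R A] (J : Ideal R) (hJ : J * J = ⊥)
    (φ₀ : (A ⧸ Ideal.map (algebraMap R A) J) ≃ₐ[R] (A ⧸ Ideal.map (algebraMap R A) J)) :
    ∃ φ : A ≃ₐ[R] A,
      (Ideal.Quotient.mkₐ R (Ideal.map (algebraMap R A) J)).comp φ.toAlgHom =
        φ₀.toAlgHom.comp (Ideal.Quotient.mkₐ R (Ideal.map (algebraMap R A) J)) := by
  let I := Ideal.map (algebraMap R A) J
  have hI : I = Ideal.map (algebraMap R A) J := rfl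
  have hI2 : I * I = ⊥ := by
    rw [hI, ← Ideal.map_mul, hJ, Ideal.map_bot]
  have hInil : IsNilpotent I := ⟨2, by rw [pow_two, hI2]; rfl⟩
  have key : ∀ θ : A →ₐ[R] A, (Ideal.Quotient.mkₐ R I).comp θ = Ideal.Quotient.mkₐ R I →
      Function.Bijective θ := by
    intro θ hθ
    have hD : ∀ a, θ a - a ∈ I := by
      intro a
      have := AlgHom.congr_fun hθ a
      simp only [AlgHom.comp_apply, Ideal.Quotient.mkₐ_eq_mk] at this
      exact Ideal.Quotient.eq.mp this
    have hfix : ∀ a ∈ I, θ a = a := by
      intro a ha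
      rw [hI] at ha
      change a ∈ Submodule.span A _ at ha
      induction ha using Submodule.span_induction with
      | mem x hx =>
        obtain ⟨r, _, rfl⟩ := hx
        exact θ.commutes r
      | zero => exact map_zero θ
      | add x y _ _ hx hy => rw [map_add, hx, hy]
      | smul c x hxI hx =>
        rw [smul_eq_mul, map_mul, hx]
        have hmem : (θ c - c) * x ∈ I * I := Ideal.mul_mem_mul (hD c) hxI
        rw [hI2, Ideal.mem_bot, sub_mul] at hmem
        exact sub_eq_zero.mp hmem
    constructor
    · intro a b hab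
      have h1 : a - b ∈ I := by
        have := hD (a - b)
        rw [map_sub, hab, sub_self, zero_sub] at this
        simpa using I.neg_mem this
      have h2 := hfix _ h1
      rw [map_sub, hab, sub_self] at h2
      exact sub_eq_zero.mp h2.symm
    · intro b
      refine ⟨b - (θ b - b), ?_⟩
      rw [map_sub, hfix _ (hD b)]
      ring
  let φ : A →ₐ[R] A :=
    Algebra.FormallySmooth.lift I hInil (φ₀.toAlgHom.comp (Ideal.Quotient.mkₐ R I))
  let ψ : A →ₐ[R] A :=
    Algebra.FormallySmooth.lift I hInil (φ₀.symm.toAlgHom.comp (Ideal.Quotient.mkₐ R I))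
  have hφ : (Ideal.Quotient.mkₐ R I).comp φ = φ₀.toAlgHom.comp (Ideal.Quotient.mkₐ R I) :=
    Algebra.FormallySmooth.comp_lift _ _ _
  have hψ : (Ideal.Quotient.mkₐ R I).comp ψ = φ₀.symm.toAlgHom.comp (Ideal.Quotient.mkₐ R I) :=
    Algebra.FormallySmooth.comp_lift _ _ _
  have hφψ : (Ideal.Quotient.mkₐ R I).comp (φ.comp ψ) = Ideal.Quotient.mkₐ R I := by
    rw [← AlgHom.comp_assoc, hφ, AlgHom.comp_assoc, hψ, ← AlgHom.comp_assoc]
    ext x
    simp
  have hψφ : (Ideal.Quotient.mkₐ R I).comp (ψ.comp φ) = Ideal.Quotient.mkₐ R I := by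
    rw [← AlgHom.comp_assoc, hψ, AlgHom.comp_assoc, hφ, ← AlgHom.comp_assoc]
    ext x
    simp
  have hinj : Function.Injective φ := by
    have := (key _ hψφ).1
    exact Function.Injective.of_comp (f := ψ) this
  have hsurj : Function.Surjective φ := by
    have := (key _ hφψ).2
    exact Function.Surjective.of_comp (g := ψ) this
  refine ⟨AlgEquiv.ofBijective φ ⟨hinj, hsurj⟩, ?_⟩
  have e : (AlgEquiv.ofBijective φ ⟨hinj, hsurj⟩).toAlgHom = φ := AlgHom.ext fun x => rfl
  rw [e]
  exact hφ

end Groth.Agent.S8364
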