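import Groth.Statements.S8369
import Mathlib.RingTheory.Smooth.Quotient
-- import your own Groth.Agent.* helpers here

set_option autoImplicit false
universe u v
open SGA3

namespace Groth.Agent.S8369

/-- Let A be a commutative ring, J a nilpotent ideal, N ⊆ M A-modules with M/N flat over A. If elements
of N have images generating the image of N in M/JM, then they generate N. (The published statement
takes finitely many elements; this row allows an arbitrary set, which the same argument permits.) -/
theorem result (A : Type u) [CommRing A] (J : Ideal A) (hJ : IsNilpotent J)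
    (M : Type v) [AddCommGroup M] [Module A M] (N : Submodule A M) [Module.Flat A (M ⧸ N)] (s : Set M)
    (hs : s ⊆ N)
    (hgen : (Submodule.span A s).map (J • (⊤ : Submodule A M)).mkQ = N.map (J • (⊤ : Submodule A M)).mkQ) :
    Submodule.span A s = N := by
  set P := Submodule.span A s with hP
  have hPN : P ≤ N := Submodule.span_le.mpr hs
  have hflat : N ⊓ (J • (⊤ : Submodule A M)) = J • N := by
    have := LinearMap.ker_inf_smul_top_eq_smul_of_flat J N.mkQ N.mkQ_surjective
    rwa [Submodule.ker_mkQ] at this
  have step1 : N ≤ P ⊔ J • N := by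
    intro n hn
    have hmem : (J • (⊤ : Submodule A M)).mkQ n ∈ P.map (J • (⊤ : Submodule A M)).mkQ := by
      rw [hgen]; exact Submodule.mem_map_of_mem hn
    obtain ⟨p, hp, hpn⟩ := Submodule.mem_map.mp hmem
    have hdiff : n - p ∈ J • (⊤ : Submodule A M) := by
      rw [Submodule.mkQ_apply, Submodule.mkQ_apply, Submodule.Quotient.eq] at hpn
      have := Submodule.neg_mem _ hpn
      simpa using this
    have hdiffN : n - p ∈ N := N.sub_mem hn (hPN hp)
    have hJN : n - p ∈ J • N := by rw [← hflat]; exact ⟨hdiffN, hdiff⟩
    have e : n = p + (n - p) := by abel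
    rw [e]
    exact Submodule.add_mem_sup hp hJN
  have stepk : ∀ k : ℕ, N ≤ P ⊔ (J ^ k) • N := by
    intro k
    induction k with
    | zero => simp
    | succ k ih =>
      calc N ≤ P ⊔ (J ^ k) • N := ih
        _ ≤ P ⊔ (J ^ k) • (P ⊔ J • N) := sup_le_sup_left (smul_mono_right _ step1) _
        _ = P ⊔ ((J ^ k) • P ⊔ (J ^ k) • J • N) := by rw [Submodule.smul_sup]
        _ ≤ P ⊔ (J ^ (k + 1)) • N := by
          rw [← sup_assoc]
          apply sup_le_sup
          · exact sup_le le_rfl Submodule.smul_le_right
          · rw [pow_succ, Submodule.mul_smul]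
  obtain ⟨m, hm⟩ := hJ
  have := stepk m
  rw [hm, Submodule.zero_eq_bot, Submodule.bot_smul, sup_bot_eq] at this
  exact le_antisymm hPN this

end Groth.Agent.S8369
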