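import Groth.Statements.S8625
import Mathlib.Tactic.Group
-- import your own Groth.Agent.* helpers here

set_option autoImplicit false
universe u
open SGA4h

namespace Groth.Agent.S8625

theorem lang_fix_left {G : Type u} [Group G] (F : G →* G) (g : G)
    (hg : F (F g * g⁻¹) = F g * g⁻¹) : F (g⁻¹ * F g) = g⁻¹ * F g := by
  rw [map_mul, map_inv] at hg
  have hFg : F (F g) = F g * g⁻¹ * F g := by
    calc F (F g) = F (F g) * (F g)⁻¹ * F g := by group
      _ = F g * g⁻¹ * F g := by rw [hg]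
  rw [map_mul, map_inv, hFg]
  group

theorem lang_fix_right {G : Type u} [Group G] (F : G →* G) (g : G)
    (hg : F (g⁻¹ * F g) = g⁻¹ * F g) : F (F g * g⁻¹) = F g * g⁻¹ := by
  rw [map_mul, map_inv] at hg
  have hFg : F (F g) = F g * g⁻¹ * F g := by
    calc F (F g) = F g * ((F g)⁻¹ * F (F g)) := by group
      _ = F g * g⁻¹ * F g := by rw [hg]; group
  rw [map_mul, map_inv, hFg]
  group

/-- transport of conjugacy from the classes of `F g * g⁻¹` to those of `g⁻¹ * F g` -/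
theorem lang_conj_W {G : Type u} [Group G] (F : G →* G) (g₁ g₂ k : G) (hk : F k = k)
    (h : F g₂ * g₂⁻¹ = k * (F g₁ * g₁⁻¹) * k⁻¹) :
    F (g₂⁻¹ * k * g₁) = g₂⁻¹ * k * g₁ ∧
      (g₂⁻¹ * k * g₁) * (g₁⁻¹ * F g₁) * (g₂⁻¹ * k * g₁)⁻¹ = g₂⁻¹ * F g₂ := by
  have hF2 : F g₂ = k * (F g₁ * g₁⁻¹) * k⁻¹ * g₂ := by
    rw [← h]; group
  constructor
  · rw [map_mul, map_mul, map_inv, hk, hF2]
    group
  · rw [hF2]
    group

/-- transport of conjugacy from the classes of `g⁻¹ * F g` to those of `F g * g⁻¹` -/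
theorem lang_conj_W' {G : Type u} [Group G] (F : G →* G) (g₁ g₂ k : G) (hk : F k = k)
    (h : g₂⁻¹ * F g₂ = k * (g₁⁻¹ * F g₁) * k⁻¹) :
    F (g₂ * k * g₁⁻¹) = g₂ * k * g₁⁻¹ ∧
      (g₂ * k * g₁⁻¹) * (F g₁ * g₁⁻¹) * (g₂ * k * g₁⁻¹)⁻¹ = F g₂ * g₂⁻¹ := by
  have hF2 : F g₂ = g₂ * (k * (g₁⁻¹ * F g₁) * k⁻¹) := by
    rw [← h]; group
  constructor
  · rw [map_mul, map_mul, map_inv, hk, hF2]
    group
  · rw [hF2]
    group


/-- Let G be a group with an endomorphism F, and assume the Lang map g ↦ F(g)g⁻¹ is surjective (for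
instance the geometric points of a connected algebraic group over F_q with its Frobenius, where the
surjectivity is the classical result of Lang; the other Lang map g ↦ g⁻¹F(g) is then surjective too,
by g ↦ g⁻¹). Let G^F be the subgroup of fixed points of F. (i) If F(g)g⁻¹ is fixed by F then so is
g⁻¹F(g). (ii), (iii) There is a bijection of the set of conjugacy classes of G^F with itself
sending, for every g with F(g)g⁻¹ ∈ G^F, the class of F(g)g⁻¹ to the class of g⁻¹F(g) (in particular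
the latter class depends only on the former). -/
theorem result {G : Type u} [Group G] (F : G →* G)
    (hL : Function.Surjective fun g : G => F g * g⁻¹) :
    (∀ g : G, F (F g * g⁻¹) = F g * g⁻¹ → F (g⁻¹ * F g) = g⁻¹ * F g) ∧
    ∃ φ : ConjClasses ↥(F.eqLocus (MonoidHom.id G)) → ConjClasses ↥(F.eqLocus (MonoidHom.id G)),
      Function.Bijective φ ∧
      ∀ (g : G) (h : F (F g * g⁻¹) = F g * g⁻¹) (h' : F (g⁻¹ * F g) = g⁻¹ * F g),
        φ (ConjClasses.mk (⟨F g * g⁻¹, h⟩ : ↥(F.eqLocus (MonoidHom.id G)))) =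
          ConjClasses.mk (⟨g⁻¹ * F g, h'⟩ : ↥(F.eqLocus (MonoidHom.id G))) := by
  refine ⟨fun g hg => lang_fix_left F g hg, ?_⟩
  set H := F.eqLocus (MonoidHom.id G) with hH
  have memH : ∀ x : G, x ∈ H ↔ F x = x := fun x => Iff.rfl
  let c : H → G := fun y => Classical.choose (hL (y : G))
  have hc : ∀ y : H, F (c y) * (c y)⁻¹ = (y : G) := fun y => Classical.choose_spec (hL (y : G))
  have hcH : ∀ y : H, F ((c y)⁻¹ * F (c y)) = (c y)⁻¹ * F (c y) := by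
    intro y
    apply lang_fix_left
    rw [hc y]
    exact y.2
  let φ' : H → H := fun y => ⟨(c y)⁻¹ * F (c y), hcH y⟩
  have wd : ∀ y₁ y₂ : H, IsConj y₁ y₂ → IsConj (φ' y₁) (φ' y₂) := by
    intro y₁ y₂ hy
    rw [isConj_iff] at hy ⊢
    obtain ⟨k, hk⟩ := hy
    have hk' : (k : G) * (y₁ : G) * (k : G)⁻¹ = (y₂ : G) := by
      have := congrArg Subtype.val hk
      simpa using this
    obtain ⟨h1, h2⟩ := lang_conj_W F (c y₁) (c y₂) k k.2 (by rw [hc, hc, hk'])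
    exact ⟨⟨_, h1⟩, Subtype.ext (by simpa [φ'] using h2)⟩
  let φ : ConjClasses H → ConjClasses H :=
    Quotient.lift (fun y => ConjClasses.mk (φ' y)) (fun a b hab =>
      (ConjClasses.mk_eq_mk_iff_isConj).mpr (wd a b hab))
  have hφ : ∀ y : H, φ (ConjClasses.mk y) = ConjClasses.mk (φ' y) := fun y => rfl
  have compat : ∀ (g : G) (h : F (F g * g⁻¹) = F g * g⁻¹) (h' : F (g⁻¹ * F g) = g⁻¹ * F g),
      φ (ConjClasses.mk (⟨F g * g⁻¹, h⟩ : H)) = ConjClasses.mk (⟨g⁻¹ * F g, h'⟩ : H) := by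
    intro g h h'
    rw [hφ, ConjClasses.mk_eq_mk_iff_isConj, isConj_iff]
    obtain ⟨h1, h2⟩ := lang_conj_W F (c ⟨F g * g⁻¹, h⟩) g 1 (map_one F)
      (by rw [hc]; simp)
    exact ⟨⟨_, h1⟩, Subtype.ext (by simpa [φ'] using h2)⟩
  refine ⟨φ, ⟨?_, ?_⟩, compat⟩
  · intro a b hab
    obtain ⟨y₁, rfl⟩ := ConjClasses.mk_surjective a
    obtain ⟨y₂, rfl⟩ := ConjClasses.mk_surjective b
    rw [hφ, hφ, ConjClasses.mk_eq_mk_iff_isConj, isConj_iff] at hab
    obtain ⟨k, hk⟩ := hab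
    have hk' : (k : G) * ((c y₁)⁻¹ * F (c y₁)) * (k : G)⁻¹ = (c y₂)⁻¹ * F (c y₂) := by
      have := congrArg Subtype.val hk
      simpa [φ'] using this
    obtain ⟨h1, h2⟩ := lang_conj_W' F (c y₁) (c y₂) k k.2 hk'.symm
    rw [ConjClasses.mk_eq_mk_iff_isConj, isConj_iff]
    refine ⟨⟨_, h1⟩, Subtype.ext ?_⟩
    rw [hc, hc] at h2
    simpa using h2
  · intro b
    obtain ⟨z, rfl⟩ := ConjClasses.mk_surjective b
    obtain ⟨g, hg⟩ := hL ((z : G)⁻¹)
    simp only at hg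
    have hz : (g⁻¹)⁻¹ * F g⁻¹ = (z : G) := by
      rw [map_inv, inv_inv]
      calc g * (F g)⁻¹ = (F g * g⁻¹)⁻¹ := by group
        _ = z := by rw [hg, inv_inv]
    have h' : F ((g⁻¹)⁻¹ * F g⁻¹) = (g⁻¹)⁻¹ * F g⁻¹ := by rw [hz]; exact z.2
    have h : F (F g⁻¹ * (g⁻¹)⁻¹) = F g⁻¹ * (g⁻¹)⁻¹ := lang_fix_right F _ h'
    refine ⟨ConjClasses.mk ⟨_, h⟩, ?_⟩
    rw [compat g⁻¹ h h']
    congr 1
    exact Subtype.ext hz

end Groth.Agent.S8625
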