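import Groth.Statements.S8649
-- import your own Groth.Agent.* helpers here

set_option autoImplicit false
universe u
open Finset
open LambdaRing

namespace Groth.Agent.S8649

theorem lam_zero_elt {K : Type u} [CommRing K] [LambdaRing.LambdaOps K] (k : ℕ) :
    LambdaRing.LambdaOps.lam k (0 : K) = if k = 0 then 1 else 0 := by
  induction k using Nat.strong_induction_on with
  | _ k ih =>
    rcases k with _ | k
    · simp [LambdaRing.LambdaOps.lam_zero]
    · have h := LambdaRing.LambdaOps.lam_add (k + 1) (0 : K) 0
      rw [add_zero, Finset.sum_range_succ', Finset.sum_range_succ] at h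
      have hmid : ∑ i ∈ Finset.range k, LambdaRing.LambdaOps.lam (i + 1) (0 : K) *
          LambdaRing.LambdaOps.lam (k + 1 - (i + 1)) 0 = 0 := by
        apply Finset.sum_eq_zero
        intro i hi
        rw [Finset.mem_range] at hi
        rw [ih (i + 1) (by omega)]
        simp
      rw [hmid, zero_add] at h
      simp only [Nat.sub_self, Nat.sub_zero, LambdaRing.LambdaOps.lam_zero, mul_one, one_mul] at h
      simp only [Nat.add_eq_zero_iff, one_ne_zero, and_false, if_false]
      have h2 : LambdaRing.LambdaOps.lam (k + 1) (0 : K) + LambdaRing.LambdaOps.lam (k + 1) (0 : K) =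
          LambdaRing.LambdaOps.lam (k + 1) (0 : K) + 0 := by rw [add_zero]; exact h.symm
      exact add_left_cancel h2

theorem lam_natCast_elt {K : Type u} [CommRing K] [LambdaRing.LambdaOps K]
    (h1 : ∀ k : ℕ, 2 ≤ k → LambdaRing.LambdaOps.lam k (1 : K) = 0) (m j : ℕ) :
    LambdaRing.LambdaOps.lam j ((m : ℕ) : K) = (m.choose j : K) := by
  induction m generalizing j with
  | zero =>
    rw [Nat.cast_zero, lam_zero_elt]
    rcases j with _ | j <;> simp
  | succ m ih =>
    rw [Nat.cast_succ, LambdaRing.LambdaOps.lam_add]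
    rcases j with _ | j
    · simp [LambdaRing.LambdaOps.lam_zero]
    · rw [Finset.sum_range_succ, Finset.sum_range_succ]
      have hrest : ∑ i ∈ Finset.range j, LambdaRing.LambdaOps.lam i ((m : ℕ) : K) *
          LambdaRing.LambdaOps.lam (j + 1 - i) (1 : K) = 0 := by
        apply Finset.sum_eq_zero
        intro i hi
        rw [Finset.mem_range] at hi
        rw [h1 (j + 1 - i) (by omega), mul_zero]
      rw [hrest, zero_add, ih, ih]
      have e1 : j + 1 - j = 1 := by omega
      rw [e1, Nat.sub_self, LambdaRing.LambdaOps.lam_one, LambdaRing.LambdaOps.lam_zero, mul_one,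
        mul_one, Nat.choose_succ_succ, Nat.cast_add]


/-- Let K be a pre-λ-ring (λ^0 = 1, λ^1 = id, λ^n(x + y) = Σ λ^p(x) λ^q(y)) in which λ^k(1) = 0 for all
k ≥ 2, so that λ_t(1) = 1 + t. Then the γ-operations, defined as the coefficients of λ_{t/(1−t)}(x)
(γ^0 = 1 and γ^n(x) = Σ_{j=1}^{n} C(n−1, j−1) λ^j(x) for n ≥ 1), satisfy γ^n(x) = λ^n(x + n − 1) for
all x and n. (The published statement is for a λ-ring, where λ_t also respects products and
composition; its proof uses only additivity and λ_t(1) = 1 + t, which are the hypotheses taken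
here.) -/
theorem result (K : Type u) [CommRing K] [LambdaRing.LambdaOps K]
    (h1 : ∀ k : ℕ, 2 ≤ k → LambdaRing.LambdaOps.lam k (1 : K) = 0) (n : ℕ) (x : K) :
    LambdaRing.gamma n x = LambdaRing.LambdaOps.lam n (x + (n : K) - 1) := by
  rcases n with _ | n
  · simp [LambdaRing.gamma, LambdaRing.LambdaOps.lam_zero]
  · have hx : x + ((n + 1 : ℕ) : K) - 1 = x + ((n : ℕ) : K) := by
      push_cast; ring
    rw [hx, LambdaRing.LambdaOps.lam_add]
    unfold LambdaRing.gamma
    rw [if_neg (Nat.succ_ne_zero n)]
    apply Finset.sum_congr rfl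
    intro j hj
    rw [Finset.mem_range] at hj
    rw [lam_natCast_elt h1]
    rcases j with _ | j
    · simp
    · rw [if_neg (Nat.succ_ne_zero j)]
      have e1 : n + 1 - (j + 1) = n - j := by omega
      have e2 : n + 1 - 1 = n := by omega
      have e3 : j + 1 - 1 = j := by omega
      rw [e1, e2, e3, Nat.choose_symm (by omega), mul_comm]

end Groth.Agent.S8649
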