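import Groth.Statements.S8650
-- import your own Groth.Agent.* helpers here

set_option autoImplicit false
universe u
open Finset
open LambdaRing

namespace Groth.Agent.S8650

theorem lam_succ_add_one_elt {K : Type u} [CommRing K] [LambdaRing.LambdaOps K]
    (h1 : ∀ k : ℕ, 2 ≤ k → LambdaRing.LambdaOps.lam k (1 : K) = 0) (y : K) (i : ℕ) :
    LambdaRing.LambdaOps.lam (i + 1) (y + 1) =
      LambdaRing.LambdaOps.lam (i + 1) y + LambdaRing.LambdaOps.lam i y := by
  rw [LambdaRing.LambdaOps.lam_add, Finset.sum_range_succ, Finset.sum_range_succ]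
  have hrest : ∑ j ∈ Finset.range i, LambdaRing.LambdaOps.lam j y *
      LambdaRing.LambdaOps.lam (i + 1 - j) (1 : K) = 0 := by
    apply Finset.sum_eq_zero
    intro j hj
    rw [Finset.mem_range] at hj
    rw [h1 (i + 1 - j) (by omega), mul_zero]
  have e1 : i + 1 - i = 1 := by omega
  rw [hrest, zero_add, e1, Nat.sub_self, LambdaRing.LambdaOps.lam_one,
    LambdaRing.LambdaOps.lam_zero, mul_one, mul_one, add_comm]

theorem alt_sum_elt {K : Type u} [CommRing K] [LambdaRing.LambdaOps K]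
    (h1 : ∀ k : ℕ, 2 ≤ k → LambdaRing.LambdaOps.lam k (1 : K) = 0) (y : K) (N : ℕ) :
    ∑ i ∈ Finset.range (N + 1), (-1 : K) ^ i * LambdaRing.LambdaOps.lam i (y + 1) =
      (-1 : K) ^ N * LambdaRing.LambdaOps.lam N y := by
  induction N with
  | zero => simp [LambdaRing.LambdaOps.lam_zero]
  | succ N ih =>
    rw [Finset.sum_range_succ, ih, lam_succ_add_one_elt h1]
    ring


/-- Let K be a pre-λ-ring (λ^0 = 1, λ^1 = id, additive formula) in which λ^k(1) = 0 for all k ≥ 2. Then
for every x ∈ K and every n, λ^n(x + n − 1) = (−1)^n Σ_{i=0}^{n} (−1)^i λ^i(x + n). (The published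
statement is for a λ-ring; its proof uses only additivity and λ_t(1) = 1 + t, the hypotheses taken
here.) -/
theorem result (K : Type u) [CommRing K] [LambdaRing.LambdaOps K]
    (h1 : ∀ k : ℕ, 2 ≤ k → LambdaRing.LambdaOps.lam k (1 : K) = 0) (n : ℕ) (x : K) :
    LambdaRing.LambdaOps.lam n (x + (n : K) - 1) =
      (-1 : K) ^ n * ∑ i ∈ range (n + 1), (-1 : K) ^ i * LambdaRing.LambdaOps.lam i (x + (n : K)) := by
  rcases n with _ | n
  · simp [LambdaRing.LambdaOps.lam_zero]
  · have hx : x + ((n + 1 : ℕ) : K) - 1 = x + ((n : ℕ) : K) := by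
      push_cast; ring
    have hx2 : x + ((n + 1 : ℕ) : K) = (x + ((n : ℕ) : K)) + 1 := by
      push_cast; ring
    rw [hx, hx2, alt_sum_elt h1, ← mul_assoc, ← pow_add, ← two_mul, pow_mul]
    simp

end Groth.Agent.S8650
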