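import Groth.Statements.S8651
import Groth.Agent.S8649
import Mathlib.RingTheory.PowerSeries.Substitution
import Mathlib.RingTheory.PowerSeries.WellKnown
-- import your own Groth.Agent.* helpers here

set_option autoImplicit false
universe u
open Finset
open LambdaRing

namespace Groth.Agent.S8651


open PowerSeries

noncomputable def uS (K : Type u) [CommRing K] : PowerSeries K := X * mk 1

theorem uS_hasSubst (K : Type u) [CommRing K] : HasSubst (uS K) :=
  HasSubst.of_constantCoeff_zero' (by simp [uS])

theorem coeff_uS_pow (K : Type u) [CommRing K] (k j : ℕ) :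
    coeff k ((uS K) ^ j) = if j = 0 then (if k = 0 then 1 else 0) else
      (if j ≤ k then (((k - 1).choose (j - 1) : ℕ) : K) else 0) := by
  rcases j with _ | d
  · simp [coeff_one]
  · rw [uS, mul_pow, mk_one_pow_eq_mk_choose_add, coeff_X_pow_mul']
    simp only [Nat.add_one_ne_zero, if_false, coeff_mk]
    split_ifs with h
    · rw [show d + (k - (d + 1)) = k - 1 by omega, show d + 1 - 1 = d by omega]
    · rfl

theorem gamma_eq_coeff_subst {K : Type u} [CommRing K] [LambdaRing.LambdaOps K] (x : K) (k : ℕ) :
    LambdaRing.gamma k x = coeff k (subst (uS K) (LambdaRing.lamSeries x)) := by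
  rw [coeff_subst' (uS_hasSubst K)]
  rw [finsum_eq_sum_of_support_subset _ (s := Finset.range (k + 1)) ?_]
  · simp only [LambdaRing.lamSeries, coeff_mk, coeff_uS_pow, smul_eq_mul]
    unfold LambdaRing.gamma
    rcases k with _ | k
    · simp [LambdaRing.LambdaOps.lam_zero]
    · rw [if_neg (Nat.succ_ne_zero k)]
      apply Finset.sum_congr rfl
      intro j hj
      rw [Finset.mem_range] at hj
      rcases j with _ | j
      · simp
      · rw [if_neg (Nat.succ_ne_zero j), if_neg (Nat.succ_ne_zero j), if_pos (by omega), mul_comm]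
  · intro d hd
    simp only [Function.mem_support] at hd
    simp only [Finset.coe_range, Set.mem_Iio]
    by_contra h
    apply hd
    rw [coeff_uS_pow]
    simp [show d ≠ 0 by omega, show ¬ d ≤ k by omega]

theorem lamSeries_add' {K : Type u} [CommRing K] [LambdaRing.LambdaOps K] (a b : K) :
    LambdaRing.lamSeries (a + b) = LambdaRing.lamSeries a * LambdaRing.lamSeries b := by
  ext k
  rw [coeff_mul, Finset.Nat.sum_antidiagonal_eq_sum_range_succ_mk]
  simp only [LambdaRing.lamSeries, coeff_mk]
  exact LambdaRing.LambdaOps.lam_add k a b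

theorem gammaSeries_add {K : Type u} [CommRing K] [LambdaRing.LambdaOps K] (a b : K) :
    (mk fun k => LambdaRing.gamma k (a + b)) =
      (mk fun k => LambdaRing.gamma k a) * (mk fun k => LambdaRing.gamma k b) := by
  have e : ∀ x : K, (mk fun k => LambdaRing.gamma k x) =
      subst (uS K) (LambdaRing.lamSeries x) := by
    intro x
    ext k
    rw [coeff_mk, gamma_eq_coeff_subst]
  rw [e, e, e, lamSeries_add', subst_mul (uS_hasSubst K)]

theorem gammaSeries_zero {K : Type u} [CommRing K] [LambdaRing.LambdaOps K] :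
    (mk fun k => LambdaRing.gamma k (0 : K)) = 1 := by
  ext k
  rw [coeff_mk, coeff_one]
  unfold LambdaRing.gamma
  rcases k with _ | k
  · simp
  · rw [if_neg (Nat.succ_ne_zero k), if_neg (Nat.succ_ne_zero k)]
    apply Finset.sum_eq_zero
    intro j _
    rcases j with _ | j
    · simp
    · rw [if_neg (Nat.succ_ne_zero j), Groth.Agent.S8649.lam_zero_elt, if_neg (Nat.succ_ne_zero j),
        mul_zero]

theorem gammaSeries_sum {K : Type u} [CommRing K] [LambdaRing.LambdaOps K] {ι : Type*}
    (s : Finset ι) (z : ι → K) :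
    (mk fun k => LambdaRing.gamma k (∑ i ∈ s, z i)) = ∏ i ∈ s, (mk fun k => LambdaRing.gamma k (z i)) := by
  classical
  induction s using Finset.induction_on with
  | empty => simpa using gammaSeries_zero
  | insert a s ha ih =>
    rw [Finset.sum_insert ha, Finset.prod_insert ha, gammaSeries_add, ih]

theorem coeff_prod_one_add {K : Type u} [CommRing K] (n : ℕ) (c : Fin n → K) (k : ℕ) :
    coeff k (∏ i : Fin n, (1 + C (c i) * X)) =
      ∑ s ∈ (univ : Finset (Fin n)).powersetCard k, ∏ i ∈ s, c i := by
  classical
  have h : ∏ i : Fin n, (1 + C (c i) * X) =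
      ∑ t ∈ (univ : Finset (Fin n)).powerset, C (∏ i ∈ t, c i) * X ^ t.card := by
    simp_rw [add_comm (1 : PowerSeries K)]
    rw [Finset.prod_add]
    apply Finset.sum_congr rfl
    intro t _
    rw [Finset.prod_const_one, mul_one, Finset.prod_mul_distrib, Finset.prod_const, map_prod]
  rw [h, map_sum]
  simp_rw [coeff_C_mul_X_pow]
  rw [Finset.powersetCard_eq_filter, Finset.sum_filter]
  apply Finset.sum_congr rfl
  intro t _
  by_cases ht : t.card = k
  · rw [if_pos ht.symm, if_pos ht]
  · rw [if_neg (Ne.symm ht), if_neg ht]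



/-- Let A be a pre-λ-ring (λ^0 = 1, λ^1 = id, additive formula) in which λ^k(1) = 0 for all k ≥ 2, and
let y_1, …, y_n ∈ A satisfy λ^j(y_i) = 0 for every j ≥ 2; put x = Σ_i y_i. Then for every k the
element γ^k(x − n) (γ-operations: the coefficients of λ_{t/(1−t)}) equals the k-th elementary
symmetric function of y_1 − 1, …, y_n − 1, namely the sum over the k-element subsets s of the index
set of Π_{i ∈ s} (y_i − 1); in particular γ^k(x − n) = 0 for k > n. (The published statement is for
a λ-ring; its proof uses only additivity and λ_t(1) = 1 + t, the hypotheses taken here.) -/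
theorem result (A : Type u) [CommRing A] [LambdaRing.LambdaOps A]
    (h1 : ∀ k : ℕ, 2 ≤ k → LambdaRing.LambdaOps.lam k (1 : A) = 0) (n : ℕ) (y : Fin n → A)
    (hy : ∀ (i : Fin n) (j : ℕ), 2 ≤ j → LambdaRing.LambdaOps.lam j (y i) = 0) (k : ℕ) :
    LambdaRing.gamma k (∑ i : Fin n, y i - (n : A)) =
      ∑ s ∈ (univ : Finset (Fin n)).powersetCard k, ∏ i ∈ s, (y i - 1) := by
  have hγy : ∀ i, (mk fun k => LambdaRing.gamma k (y i - 1)) = 1 + C (y i - 1) * X := by
    intro i
    ext k
    rw [coeff_mk]
    rcases k with _ | _ | k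
    · simp [LambdaRing.gamma]
    · simp [LambdaRing.gamma, LambdaRing.LambdaOps.lam_one, Finset.sum_range_succ]
    · rw [Groth.Agent.S8649.result A h1]
      have e : y i - 1 + ((k + 1 + 1 : ℕ) : A) - 1 = y i + ((k : ℕ) : A) := by push_cast; ring
      rw [e, LambdaRing.LambdaOps.lam_add]
      have hr : coeff (k + 1 + 1) (1 + C (y i - 1) * X : PowerSeries A) = 0 := by
        simp [coeff_one, coeff_C_mul, coeff_X]
      rw [hr]
      apply Finset.sum_eq_zero
      intro j hj
      rw [Finset.mem_range] at hj
      rcases j with _ | _ | j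
      · rw [Groth.Agent.S8649.lam_natCast_elt h1, Nat.choose_eq_zero_of_lt (by omega)]
        simp
      · rw [Groth.Agent.S8649.lam_natCast_elt h1, Nat.choose_eq_zero_of_lt (by omega)]
        simp
      · rw [hy i (j + 1 + 1) (by omega), zero_mul]
  have hx : ∑ i : Fin n, y i - (n : A) = ∑ i : Fin n, (y i - 1) := by
    rw [Finset.sum_sub_distrib]
    simp
  have key := congrArg (coeff k) (gammaSeries_sum (univ : Finset (Fin n)) (fun i => y i - 1))
  rw [coeff_mk] at key
  rw [hx, key]
  simp_rw [hγy]
  exact coeff_prod_one_add n (fun i => y i - 1) k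

end Groth.Agent.S8651
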