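import Groth.Statements.S8678
-- import your own Groth.Agent.* helpers here

set_option autoImplicit false
universe u
open Finset
open LambdaRing

namespace Groth.Agent.S8678

theorem lam_zero_elt {K : Type u} [CommRing K] [LambdaRing.LambdaOps K] (k : ℕ) :
    LambdaRing.LambdaOps.lam k (0 : K) = if k = 0 then 1 else 0 := by
  induction k using Nat.strong_induction_on with
  | _ k ih =>
    rcases k with _ | k
    · simp [LambdaRing.LambdaOps.lam_zero]
    · have h := LambdaRing.LambdaOps.lam_add (k + 1) (0 : K) 0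
      rw [add_zero, Finset.sum_range_succ', Finset.sum_range_succ] at h
      have hmid : ∑ i ∈ Finset.range k, LambdaRing.LambdaOps.lam (i + 1) (0 : K) *
          LambdaRing.LambdaOps.lam (k + 1 - (i + 1)) 0 = 0 := by
        apply Finset.sum_eq_zero
        intro i hi
        rw [Finset.mem_range] at hi
        rw [ih (i + 1) (by omega)]
        simp
      rw [hmid, zero_add] at h
      simp only [Nat.sub_self, Nat.sub_zero, LambdaRing.LambdaOps.lam_zero, mul_one, one_mul] at h
      simp only [Nat.add_eq_zero_iff, one_ne_zero, and_false, if_false]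
      have h2 : LambdaRing.LambdaOps.lam (k + 1) (0 : K) + LambdaRing.LambdaOps.lam (k + 1) (0 : K) =
          LambdaRing.LambdaOps.lam (k + 1) (0 : K) + 0 := by rw [add_zero]; exact h.symm
      exact add_left_cancel h2

theorem lam_natCast_elt {K : Type u} [CommRing K] [LambdaRing.LambdaOps K]
    (h1 : ∀ k : ℕ, 2 ≤ k → LambdaRing.LambdaOps.lam k (1 : K) = 0) (m j : ℕ) :
    LambdaRing.LambdaOps.lam j ((m : ℕ) : K) = (m.choose j : K) := by
  induction m generalizing j with
  | zero =>
    rw [Nat.cast_zero, lam_zero_elt]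
    rcases j with _ | j <;> simp
  | succ m ih =>
    rw [Nat.cast_succ, LambdaRing.LambdaOps.lam_add]
    rcases j with _ | j
    · simp [LambdaRing.LambdaOps.lam_zero]
    · rw [Finset.sum_range_succ, Finset.sum_range_succ]
      have hrest : ∑ i ∈ Finset.range j, LambdaRing.LambdaOps.lam i ((m : ℕ) : K) *
          LambdaRing.LambdaOps.lam (j + 1 - i) (1 : K) = 0 := by
        apply Finset.sum_eq_zero
        intro i hi
        rw [Finset.mem_range] at hi
        rw [h1 (j + 1 - i) (by omega), mul_zero]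
      rw [hrest, zero_add, ih, ih]
      have e1 : j + 1 - j = 1 := by omega
      rw [e1, Nat.sub_self, LambdaRing.LambdaOps.lam_one, LambdaRing.LambdaOps.lam_zero, mul_one,
        mul_one, Nat.choose_succ_succ, Nat.cast_add]

theorem lam_two_elt {K : Type u} [CommRing K] [LambdaRing.LambdaOps K]
    (h1 : ∀ k : ℕ, 2 ≤ k → LambdaRing.LambdaOps.lam k (1 : K) = 0) (k : ℕ) :
    LambdaRing.LambdaOps.lam k (2 : K) = ((2 : ℕ).choose k : K) := by
  have : (2 : K) = ((2 : ℕ) : K) := by norm_num
  rw [this, lam_natCast_elt h1]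

theorem rel_elt {K : Type u} [CommRing K] [LambdaRing.LambdaOps K]
    (h1 : ∀ k : ℕ, 2 ≤ k → LambdaRing.LambdaOps.lam k (1 : K) = 0) (F L N' : K)
    (hL : ∀ j : ℕ, 2 ≤ j → LambdaRing.LambdaOps.lam j L = 0)
    (hrel : F + L = N' + 2) (i : ℕ) :
    LambdaRing.LambdaOps.lam (i + 2) F + LambdaRing.LambdaOps.lam (i + 1) F * L =
      LambdaRing.LambdaOps.lam i N' + 2 * LambdaRing.LambdaOps.lam (i + 1) N' +
        LambdaRing.LambdaOps.lam (i + 2) N' := by
  have hLHS : LambdaRing.LambdaOps.lam (i + 2) (F + L) =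
      LambdaRing.LambdaOps.lam (i + 2) F + LambdaRing.LambdaOps.lam (i + 1) F * L := by
    rw [LambdaRing.LambdaOps.lam_add, Finset.sum_range_succ, Finset.sum_range_succ]
    have hA : ∑ j ∈ Finset.range (i + 1), LambdaRing.LambdaOps.lam j F *
        LambdaRing.LambdaOps.lam (i + 2 - j) L = 0 := by
      apply Finset.sum_eq_zero
      intro j hj
      rw [Finset.mem_range] at hj
      rw [hL _ (by omega), mul_zero]
    have e1 : i + 2 - (i + 1) = 1 := by omega
    rw [hA, zero_add, e1, Nat.sub_self, LambdaRing.LambdaOps.lam_one,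
      LambdaRing.LambdaOps.lam_zero, mul_one, add_comm]
  have hRHS : LambdaRing.LambdaOps.lam (i + 2) (N' + 2) =
      LambdaRing.LambdaOps.lam i N' + 2 * LambdaRing.LambdaOps.lam (i + 1) N' +
        LambdaRing.LambdaOps.lam (i + 2) N' := by
    rw [LambdaRing.LambdaOps.lam_add, Finset.sum_range_succ, Finset.sum_range_succ,
      Finset.sum_range_succ]
    have hB : ∑ j ∈ Finset.range i, LambdaRing.LambdaOps.lam j N' *
        LambdaRing.LambdaOps.lam (i + 2 - j) (2 : K) = 0 := by
      apply Finset.sum_eq_zero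
      intro j hj
      rw [Finset.mem_range] at hj
      rw [lam_two_elt h1, Nat.choose_eq_zero_of_lt (by omega), Nat.cast_zero, mul_zero]
    have e1 : i + 2 - (i + 1) = 1 := by omega
    have e2 : i + 2 - i = 2 := by omega
    rw [hB, zero_add, e1, e2, Nat.sub_self, lam_two_elt h1, lam_two_elt h1, lam_two_elt h1]
    simp only [Nat.choose_self, Nat.choose_one_right, Nat.choose_zero_right, Nat.cast_one,
      Nat.cast_ofNat]
    ring
  rw [← hLHS, ← hRHS, hrel]


/-- As the identity it proves in the pre-λ-ring K(Y') of the exceptional divisor: let K be a pre-λ-ring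
(λ^0 = 1, λ^1 = id, additive formula) with λ^k(1) = 0 for all k ≥ 2, let d ≥ 2, and let F, L, N' ∈ K
satisfy λ^j(L) = 0 for j ≥ 2 (L is the class of an invertible module), λ^i(N') = 0 for i ≥ d − 1 (N'
is the class of a bundle of rank d − 2) and F + L = N' + 2 (for the blowing up of a regular
immersion of codimension d: on the exceptional divisor the pulled-back conormal class is F + L, and
N = N' + 2). Then 1 − L divides λ_{−1}(F) = Σ_{i<d} (−1)^i λ^i(F). (The published proof uses only
additivity of λ_t and λ_t(1) = 1 + t, the hypotheses taken here.) -/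
theorem result (K : Type u) [CommRing K] [LambdaRing.LambdaOps K]
    (h1 : ∀ k : ℕ, 2 ≤ k → LambdaRing.LambdaOps.lam k (1 : K) = 0) (d : ℕ) (hd : 2 ≤ d) (F L N' : K)
    (hL : ∀ j : ℕ, 2 ≤ j → LambdaRing.LambdaOps.lam j L = 0) (hN' : ∀ i : ℕ, d - 1 ≤ i → LambdaRing.LambdaOps.lam i N' = 0)
    (hrel : F + L = N' + 2) :
    (1 - L) ∣ ∑ i ∈ range d, (-1 : K) ^ i * LambdaRing.LambdaOps.lam i F := by
  obtain ⟨t, ht0, htS⟩ : ∃ t : ℕ → K, t 0 = LambdaRing.LambdaOps.lam 0 N' ∧
      ∀ i, t (i + 1) = LambdaRing.LambdaOps.lam (i + 1) N' + LambdaRing.LambdaOps.lam i N' :=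
    ⟨fun i => LambdaRing.LambdaOps.lam i N' +
      (if i = 0 then 0 else LambdaRing.LambdaOps.lam (i - 1) N'), by simp, fun i => by simp⟩
  have hD : ∀ i, (1 - L) ∣ LambdaRing.LambdaOps.lam i F - t i ∧
      (1 - L) ∣ LambdaRing.LambdaOps.lam (i + 1) F - t (i + 1) := by
    intro i
    induction i with
    | zero =>
      refine ⟨?_, ?_⟩
      · rw [ht0, LambdaRing.LambdaOps.lam_zero, LambdaRing.LambdaOps.lam_zero, sub_self]
        exact dvd_zero _
      · have : LambdaRing.LambdaOps.lam (0 + 1) F - t (0 + 1) = 1 - L := by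
          rw [htS, Nat.zero_add, LambdaRing.LambdaOps.lam_one, LambdaRing.LambdaOps.lam_one,
            LambdaRing.LambdaOps.lam_zero]
          linear_combination hrel
        rw [this]
    | succ i ih =>
      refine ⟨ih.2, ?_⟩
      obtain ⟨q, hq⟩ := ih.2
      refine ⟨LambdaRing.LambdaOps.lam (i + 1) F - q, ?_⟩
      have e : LambdaRing.LambdaOps.lam (i + 1 + 1) F - t (i + 1 + 1) =
          (1 - L) * LambdaRing.LambdaOps.lam (i + 1) F -
            (LambdaRing.LambdaOps.lam (i + 1) F - t (i + 1)) := by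
        rw [htS, htS]
        linear_combination rel_elt h1 F L N' hL hrel i
      rw [e, hq]
      ring
  have htel : ∀ m : ℕ, ∑ i ∈ Finset.range (m + 1), (-1 : K) ^ i * t i =
      (-1 : K) ^ m * LambdaRing.LambdaOps.lam m N' := by
    intro m
    induction m with
    | zero => simp [ht0]
    | succ m ih =>
      rw [Finset.sum_range_succ, ih, htS]
      ring
  obtain ⟨m, rfl⟩ : ∃ m, d = m + 1 := ⟨d - 1, by omega⟩
  have hsplit : ∑ i ∈ Finset.range (m + 1), (-1 : K) ^ i * LambdaRing.LambdaOps.lam i F =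
      ∑ i ∈ Finset.range (m + 1), (-1 : K) ^ i * (LambdaRing.LambdaOps.lam i F - t i) +
        ∑ i ∈ Finset.range (m + 1), (-1 : K) ^ i * t i := by
    rw [← Finset.sum_add_distrib]
    apply Finset.sum_congr rfl
    intro i _
    ring
  rw [hsplit, htel m]
  have hnm : LambdaRing.LambdaOps.lam m N' = 0 := hN' m (by omega)
  rw [hnm, mul_zero, add_zero]
  exact Finset.dvd_sum (fun i _ => Dvd.dvd.mul_left (hD i).1 _)

end Groth.Agent.S8678
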