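import Groth.Statements.S8686
-- import your own Groth.Agent.* helpers here

set_option autoImplicit false
universe u
open LambdaRing

namespace Groth.Agent.S8686

/-- Let K be a pre-λ-ring with λ^n(1) = 0 for all n ≥ 2, i.e. λ_t(1) = 1 + t. Then the Adams operations,
defined for k ≥ 1 through (d/dt λ_t(x)) · λ_t(x)⁻¹ = Σ_{k ≥ 1} (−1)^{k−1} ψ^k(x) t^{k−1}, satisfy
ψ^k(1) = 1 for every k ≥ 1. (The published statement is for a λ-ring in the strict sense; this
identity uses only λ_t(1) = 1 + t, the hypothesis taken here.) -/
theorem result (K : Type u) [CommRing K] [LambdaRing.LambdaOps K]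
    (h1 : ∀ n : ℕ, 2 ≤ n → LambdaRing.LambdaOps.lam n (1 : K) = 0) (k : ℕ) (hk : 1 ≤ k) :
    LambdaRing.adamsOp k (1 : K) = 1 := by
  have hser : LambdaRing.lamSeries (1 : K) = 1 + PowerSeries.X := by
    ext n
    rw [LambdaRing.lamSeries, PowerSeries.coeff_mk, map_add, PowerSeries.coeff_one,
      PowerSeries.coeff_X]
    rcases n with _ | _ | n
    · simp [LambdaRing.LambdaOps.lam_zero]
    · simp [LambdaRing.LambdaOps.lam_one]
    · rw [h1 _ (by omega)]
      simp
  have hder : PowerSeries.derivative K (1 + PowerSeries.X : PowerSeries K) = 1 := by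
    rw [map_add, Derivation.map_one_eq_zero, PowerSeries.derivative_X, zero_add]
  set I := (LambdaRing.lamSeries (1 : K)).invOfUnit 1 with hI
  have hmul : (1 + PowerSeries.X : PowerSeries K) * I = 1 := by
    rw [← hser]
    apply PowerSeries.mul_invOfUnit
    simp [LambdaRing.lamSeries, LambdaRing.LambdaOps.lam_zero]
  have hcoeff : ∀ n : ℕ, PowerSeries.coeff n I = (-1 : K) ^ n := by
    intro n
    induction n with
    | zero =>
      have := congrArg (PowerSeries.coeff 0) hmul
      rw [add_mul, one_mul, map_add, PowerSeries.coeff_zero_X_mul, add_zero,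
        PowerSeries.coeff_one] at this
      simpa using this
    | succ n ih =>
      have := congrArg (PowerSeries.coeff (n + 1)) hmul
      rw [add_mul, one_mul, map_add, PowerSeries.coeff_succ_X_mul, PowerSeries.coeff_one,
        ih] at this
      simp only [Nat.add_eq_zero_iff, one_ne_zero, and_false, if_false] at this
      rw [pow_succ]
      linear_combination this
  have hlog : LambdaRing.logDerivSeries (1 : K) = I := by
    rw [LambdaRing.logDerivSeries, hser, hder, one_mul, hI, hser]
  obtain ⟨k', rfl⟩ : ∃ k', k = k' + 1 := ⟨k - 1, by omega⟩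
  rw [LambdaRing.adamsOp, hlog, hcoeff, ← pow_add, ← two_mul, pow_mul]
  simp

end Groth.Agent.S8686
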