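import Groth.Statements.S8703
-- import your own Groth.Agent.* helpers here

set_option autoImplicit false
universe u
open LambdaRing

namespace Groth.Agent.S8703


open PowerSeries

theorem newton' {K : Type u} [CommRing K] [LambdaRing.LambdaOps K] (x : K) (n : ℕ) :
    LambdaRing.LambdaOps.lam (n + 1) x * ((n : K) + 1) =
      ∑ k ∈ Finset.range (n + 1), LambdaRing.LambdaOps.lam k x *
        coeff (n - k) (LambdaRing.logDerivSeries x) := by
  have hc : constantCoeff (LambdaRing.lamSeries x) = ((1 : Kˣ) : K) := by
    rw [← coeff_zero_eq_constantCoeff_apply, LambdaRing.lamSeries, coeff_mk,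
      LambdaRing.LambdaOps.lam_zero, Units.val_one]
  have hL : PowerSeries.derivative K (LambdaRing.lamSeries x) =
      LambdaRing.lamSeries x * LambdaRing.logDerivSeries x := by
    rw [LambdaRing.logDerivSeries, mul_left_comm, mul_invOfUnit _ _ hc, mul_one]
  have := congrArg (coeff n) hL
  rw [coeff_derivative, coeff_mul, Finset.Nat.sum_antidiagonal_eq_sum_range_succ_mk] at this
  simpa [LambdaRing.lamSeries, coeff_mk] using this



/-- The Adams operations commute with λ-homomorphisms, and conversely, if K and K' are pre-λ-rings which
are algebras over the rationals, a ring homomorphism f : K → K' commuting with the ψ^k for all k ≥ 1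
is a λ-homomorphism (commutes with all λ^i), the λ^i being expressible through the ψ^k in
characteristic zero. -/
theorem result (K K' : Type u) [CommRing K] [CommRing K']
    [LambdaRing.LambdaOps K] [LambdaRing.LambdaOps K'] [Algebra ℚ K] [Algebra ℚ K'] (f : K →+* K') :
    LambdaRing.IsLambdaHom f ↔
      ∀ k : ℕ, 1 ≤ k → ∀ x : K, f (LambdaRing.adamsOp k x) = LambdaRing.adamsOp k (f x) := by
  constructor
  · intro hf
    have hf' : ∀ (i : ℕ) (y : K), f (LambdaRing.LambdaOps.lam i y) = LambdaRing.LambdaOps.lam i (f y) := hf
    have key : ∀ n (x : K), f (coeff n (LambdaRing.logDerivSeries x)) =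
        coeff n (LambdaRing.logDerivSeries (f x)) := by
      intro n
      induction n using Nat.strong_induction_on with
      | _ n ih =>
        intro x
        have h1 := newton' x n
        have h2 := newton' (f x) n
        rw [Finset.sum_range_succ'] at h1 h2
        simp only [LambdaRing.LambdaOps.lam_zero, one_mul, Nat.sub_zero] at h1 h2
        have e1 : coeff n (LambdaRing.logDerivSeries x) =
            LambdaRing.LambdaOps.lam (n + 1) x * ((n : K) + 1) -
              ∑ k ∈ Finset.range n, LambdaRing.LambdaOps.lam (k + 1) x *
                coeff (n - (k + 1)) (LambdaRing.logDerivSeries x) := by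
          linear_combination -h1
        have e2 : coeff n (LambdaRing.logDerivSeries (f x)) =
            LambdaRing.LambdaOps.lam (n + 1) (f x) * ((n : K') + 1) -
              ∑ k ∈ Finset.range n, LambdaRing.LambdaOps.lam (k + 1) (f x) *
                coeff (n - (k + 1)) (LambdaRing.logDerivSeries (f x)) := by
          linear_combination -h2
        rw [e1, e2]
        simp only [map_sub, map_mul, map_sum, map_add, map_one, map_natCast, hf']
        congr 1
        apply Finset.sum_congr rfl
        intro k hk
        rw [Finset.mem_range] at hk
        rw [ih (n - (k + 1)) (by omega)]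
    intro k hk x
    obtain ⟨j, rfl⟩ : ∃ j, k = j + 1 := ⟨k - 1, by omega⟩
    show f ((-1) ^ j * coeff j (LambdaRing.logDerivSeries x)) =
      (-1) ^ j * coeff j (LambdaRing.logDerivSeries (f x))
    rw [map_mul, map_pow, map_neg, map_one, key]
  · intro hψ
    have hD : ∀ (j : ℕ) (x : K), f (coeff j (LambdaRing.logDerivSeries x)) =
        coeff j (LambdaRing.logDerivSeries (f x)) := by
      intro j x
      have h := hψ (j + 1) (by omega) x
      change f ((-1) ^ j * coeff j (LambdaRing.logDerivSeries x)) =
        (-1) ^ j * coeff j (LambdaRing.logDerivSeries (f x)) at h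
      rw [map_mul, map_pow, map_neg, map_one] at h
      have hu : IsUnit ((-1 : K') ^ j) := (isUnit_one.neg).pow j
      exact hu.mul_left_cancel h
    intro n
    induction n using Nat.strong_induction_on with
    | _ n ih =>
      intro x
      rcases n with _ | m
      · simp [LambdaRing.LambdaOps.lam_zero]
      · have h1 := newton' x m
        have h2 := newton' (f x) m
        have h3 : f (LambdaRing.LambdaOps.lam (m + 1) x) * ((m : K') + 1) =
            LambdaRing.LambdaOps.lam (m + 1) (f x) * ((m : K') + 1) := by
          have := congrArg f h1
          simp only [map_mul, map_sum, map_add, map_one, map_natCast] at this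
          rw [this, h2]
          apply Finset.sum_congr rfl
          intro k hk
          rw [Finset.mem_range] at hk
          rw [ih k (by omega), hD]
        have hu : IsUnit ((m : K') + 1) := by
          have h : ((m : ℚ) + 1) ≠ 0 := by positivity
          have := (h.isUnit).map (algebraMap ℚ K')
          simpa using this
        exact hu.mul_right_cancel h3

end Groth.Agent.S8703
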