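import Groth.Statements.S8702
import Groth.Agent.S8703
-- import your own Groth.Agent.* helpers here

set_option autoImplicit false
universe u
open LambdaRing

namespace Groth.Agent.S8702


open PowerSeries

theorem isUnit_succ' {K : Type u} [CommRing K] [Algebra ℚ K] (m : ℕ) : IsUnit ((m : K) + 1) := by
  have h : ((m : ℚ) + 1) ≠ 0 := by positivity
  have := (h.isUnit).map (algebraMap ℚ K)
  simpa using this

noncomputable def dS {K : Type u} [CommRing K] (ψ : ℕ → K →+ K) (x : K) : PowerSeries K :=
  mk fun j => (-1) ^ j * ψ (j + 1) x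

theorem dS_add {K : Type u} [CommRing K] (ψ : ℕ → K →+ K) (x y : K) :
    dS ψ (x + y) = dS ψ x + dS ψ y := by
  ext j
  simp [dS, mul_add]

noncomputable def lamF {K : Type u} [CommRing K] [Algebra ℚ K] (ψ : ℕ → K →+ K) : ℕ → K → K
  | 0, _ => 1
  | n + 1, x => ((n + 1 : ℚ)⁻¹) • ∑ k : Fin (n + 1), lamF ψ k.1 x * coeff (n - k.1) (dS ψ x)
decreasing_by exact k.isLt

theorem lamF_zero {K : Type u} [CommRing K] [Algebra ℚ K] (ψ : ℕ → K →+ K) (x : K) :
    lamF ψ 0 x = 1 := by
  rw [lamF]

theorem lamF_rec {K : Type u} [CommRing K] [Algebra ℚ K] (ψ : ℕ → K →+ K) (n : ℕ) (x : K) :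
    lamF ψ (n + 1) x * ((n : K) + 1) =
      ∑ k ∈ Finset.range (n + 1), lamF ψ k x * coeff (n - k) (dS ψ x) := by
  rw [lamF, Fin.sum_univ_eq_sum_range (fun k => lamF ψ k x * coeff (n - k) (dS ψ x)) (n + 1),
    Algebra.smul_def, mul_comm, ← mul_assoc]
  have : ((n : K) + 1) * algebraMap ℚ K ((n + 1 : ℚ)⁻¹) = 1 := by
    have e : ((n : K) + 1) = algebraMap ℚ K ((n : ℚ) + 1) := by simp
    rw [e, ← map_mul, mul_inv_cancel₀ (by positivity), map_one]
  rw [this, one_mul]

noncomputable def Lser {K : Type u} [CommRing K] [Algebra ℚ K] (ψ : ℕ → K →+ K) (x : K) :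
    PowerSeries K := mk fun n => lamF ψ n x

theorem Lser_deriv {K : Type u} [CommRing K] [Algebra ℚ K] (ψ : ℕ → K →+ K) (x : K) :
    PowerSeries.derivative K (Lser ψ x) = Lser ψ x * dS ψ x := by
  ext n
  rw [coeff_derivative, coeff_mul, Finset.Nat.sum_antidiagonal_eq_sum_range_succ_mk]
  simp only [Lser, coeff_mk]
  exact lamF_rec ψ n x

theorem ode_unique {K : Type u} [CommRing K] [Algebra ℚ K] (E F G : PowerSeries K)
    (hF : PowerSeries.derivative K F = F * E) (hG : PowerSeries.derivative K G = G * E)
    (h0 : constantCoeff F = constantCoeff G) : F = G := by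
  ext n
  induction n using Nat.strong_induction_on with
  | _ n ih =>
    rcases n with _ | m
    · simpa using h0
    · have h1 := congrArg (coeff m) hF
      have h2 := congrArg (coeff m) hG
      rw [coeff_derivative, coeff_mul] at h1 h2
      have h3 : coeff (m + 1) F * ((m : K) + 1) = coeff (m + 1) G * ((m : K) + 1) := by
        rw [h1, h2]
        apply Finset.sum_congr rfl
        intro p hp
        rw [Finset.mem_antidiagonal] at hp
        rw [ih p.1 (by omega)]
      exact (isUnit_succ' m).mul_right_cancel h3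

noncomputable def ops {K : Type u} [CommRing K] [Algebra ℚ K] (ψ : ℕ → K →+ K)
    (hψ : ψ 1 = AddMonoidHom.id K) : LambdaRing.LambdaOps K where
  lam := lamF ψ
  lam_zero := fun x => lamF_zero ψ x
  lam_one := fun x => by
    have h := lamF_rec ψ 0 x
    simp only [Finset.range_one, Finset.sum_singleton, lamF_zero, Nat.sub_zero, Nat.cast_zero,
      zero_add, mul_one, one_mul, dS, coeff_mk, pow_zero, zero_add, hψ] at h
    simpa using h
  lam_add := fun k x y => by
    have hL : Lser ψ (x + y) = Lser ψ x * Lser ψ y := by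
      apply ode_unique (dS ψ (x + y))
      · exact Lser_deriv ψ (x + y)
      · rw [Derivation.leibniz, smul_eq_mul, smul_eq_mul, Lser_deriv, Lser_deriv, dS_add]
        ring
      · simp [Lser, ← coeff_zero_eq_constantCoeff_apply, coeff_mul, lamF_zero]
    have := congrArg (coeff k) hL
    rw [coeff_mul, Finset.Nat.sum_antidiagonal_eq_sum_range_succ_mk] at this
    simpa [Lser, coeff_mk] using this



/-- Let K be a commutative ring which is an algebra over the rationals, and let ψ^k : K → K, k ≥ 1, be
additive maps with ψ^1 the identity. Then there is one and only one pre-λ-structure on K whose Adams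
operations (defined through the logarithmic derivative of λ_t) are the ψ^k for every k ≥ 1, namely
λ_t(x) = exp(Σ_{k ≥ 1} (−1)^{k−1} ψ^k(x) t^k / k): in characteristic zero, pre-λ-structures and
families of additive operations ψ^k with ψ^1 = id determine each other. (The value of the family at
k = 0 is ignored.) -/
theorem result (K : Type u) [CommRing K] [Algebra ℚ K]
    (ψ : ℕ → K →+ K) (hψ : ψ 1 = AddMonoidHom.id K) :
    ∃! L : LambdaRing.LambdaOps K, ∀ k : ℕ, 1 ≤ k → ∀ x : K, @LambdaRing.adamsOp K _ L k x = ψ k x := by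
  have hc : ∀ x : K, constantCoeff (Lser ψ x) = ((1 : Kˣ) : K) := by
    intro x
    rw [← coeff_zero_eq_constantCoeff_apply, Lser, coeff_mk, lamF_zero, Units.val_one]
  refine ⟨ops ψ hψ, ?_, ?_⟩
  · intro k hk x
    obtain ⟨j, rfl⟩ : ∃ j, k = j + 1 := ⟨k - 1, by omega⟩
    have hlog : @LambdaRing.logDerivSeries K _ (ops ψ hψ) x = dS ψ x := by
      change PowerSeries.derivative K (Lser ψ x) * (Lser ψ x).invOfUnit 1 = dS ψ x
      rw [Lser_deriv, mul_right_comm, mul_invOfUnit _ _ (hc x), one_mul]
    change (-1) ^ j * coeff j (@LambdaRing.logDerivSeries K _ (ops ψ hψ) x) = ψ (j + 1) x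
    rw [hlog, dS, coeff_mk, ← mul_assoc, ← mul_pow, neg_one_mul, neg_neg, one_pow, one_mul]
  · intro L' hL'
    have hlog' : ∀ (x : K) (j : ℕ), coeff j (@LambdaRing.logDerivSeries K _ L' x) =
        coeff j (dS ψ x) := by
      intro x j
      have h := hL' (j + 1) (by omega) x
      change (-1) ^ j * coeff j (@LambdaRing.logDerivSeries K _ L' x) = ψ (j + 1) x at h
      rw [dS, coeff_mk, ← h, ← mul_assoc, ← mul_pow, neg_one_mul, neg_neg, one_pow, one_mul]
    have heq : ∀ (n : ℕ) (x : K), @LambdaRing.LambdaOps.lam K _ L' n x = lamF ψ n x := by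
      intro n
      induction n using Nat.strong_induction_on with
      | _ n ih =>
        intro x
        rcases n with _ | m
        · rw [@LambdaRing.LambdaOps.lam_zero K _ L', lamF_zero]
        · have h1 := @Groth.Agent.S8703.newton' K _ L' x m
          have h2 := lamF_rec ψ m x
          have h3 : @LambdaRing.LambdaOps.lam K _ L' (m + 1) x * ((m : K) + 1) =
              lamF ψ (m + 1) x * ((m : K) + 1) := by
            rw [h1, h2]
            apply Finset.sum_congr rfl
            intro k hk
            rw [Finset.mem_range] at hk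
            rw [ih k (by omega), hlog']
          exact (isUnit_succ' m).mul_right_cancel h3
    cases L' with
    | mk lam' h0 h1 hadd =>
      have : lam' = lamF ψ := funext fun n => funext fun x => heq n x
      subst this
      rfl

end Groth.Agent.S8702
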