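import Groth.Statements.S8724
import Mathlib.Data.Nat.Choose.Sum
import Mathlib.Algebra.Ring.GeomSum
import Mathlib.Tactic.Ring
-- import your own Groth.Agent.* helpers here

set_option autoImplicit false
open LefPen

namespace Groth.Agent.S8724

open Finset

theorem sum_reindex1 {R : Type} [CommRing R] (y z : R) (m : ℕ) :
    ∑ k ∈ range (m + 1), (m.choose k : R) * ∑ i ∈ range k, y ^ i * z ^ (k - 1 - i) =
      ∑ i ∈ range (m + 1), ∑ j ∈ range (m + 1),
        if i + j + 1 ≤ m then (m.choose (i + j + 1) : R) * y ^ i * z ^ j else 0 := by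
  simp_rw [mul_sum]
  rw [sum_sigma', ← sum_product', ← sum_filter]
  refine sum_bij' (fun p _ => (p.2, p.1 - 1 - p.2)) (fun q _ => ⟨q.1 + q.2 + 1, q.1⟩) ?_ ?_ ?_ ?_ ?_
  · intro p hp
    simp only [mem_sigma, mem_range] at hp
    simp only [mem_filter, mem_product, mem_range]
    omega
  · intro q hq
    simp only [mem_filter, mem_product, mem_range] at hq
    simp only [mem_sigma, mem_range]
    omega
  · intro p hp
    simp only [mem_sigma, mem_range] at hp
    obtain ⟨k, i⟩ := p
    simp only at hp ⊢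
    congr 1
    omega
  · intro q hq
    simp only [mem_filter, mem_product, mem_range] at hq
    obtain ⟨i, j⟩ := q
    simp only
    congr 1; omega
  · intro p hp
    simp only [mem_sigma, mem_range] at hp
    obtain ⟨k, i⟩ := p
    simp only at hp ⊢
    have e : i + (k - 1 - i) + 1 = k := by omega
    rw [e]
    ring

theorem ident1 {R : Type} [CommRing R] (y z : R) (m : ℕ) :
    (1 + y) ^ m - (1 + z) ^ m = (y - z) * ∑ i ∈ range (m + 1), ∑ j ∈ range (m + 1),
        if i + j + 1 ≤ m then (m.choose (i + j + 1) : R) * y ^ i * z ^ j else 0 := by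
  rw [← sum_reindex1, add_comm 1 y, add_comm 1 z, add_pow, add_pow, ← sum_sub_distrib, mul_sum]
  apply sum_congr rfl
  intro k _
  simp only [one_pow, mul_one]
  rw [← sub_mul, ← geom_sum₂_mul]
  ring

theorem sum_reindex2 {R : Type} [CommRing R] (y z : R) (a : ℕ) :
    ∑ k ∈ range a, (a.choose (k + 1) : R) * ∑ i ∈ range k, y ^ (i + 1) * z ^ (k - 1 - i + 1) =
      ∑ i ∈ range (a + 1), ∑ j ∈ range (a + 1),
        if 1 ≤ i ∧ 1 ≤ j ∧ i + j ≤ a then (a.choose (i + j) : R) * y ^ i * z ^ j else 0 := by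
  simp_rw [mul_sum]
  rw [sum_sigma', ← sum_product', ← sum_filter]
  refine sum_bij' (fun p _ => (p.2 + 1, p.1 - 1 - p.2 + 1)) (fun q _ => ⟨q.1 + q.2 - 1, q.1 - 1⟩)
    ?_ ?_ ?_ ?_ ?_
  · intro p hp
    simp only [mem_sigma, mem_range] at hp
    simp only [mem_filter, mem_product, mem_range]
    omega
  · intro q hq
    simp only [mem_filter, mem_product, mem_range] at hq
    simp only [mem_sigma, mem_range]
    omega
  · intro p hp
    simp only [mem_sigma, mem_range] at hp
    obtain ⟨k, i⟩ := p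
    simp only at hp ⊢
    congr 1
    all_goals omega
  · intro q hq
    simp only [mem_filter, mem_product, mem_range] at hq
    obtain ⟨i, j⟩ := q
    simp only
    congr 1
    all_goals omega
  · intro p hp
    simp only [mem_sigma, mem_range] at hp
    obtain ⟨k, i⟩ := p
    simp only at hp ⊢
    have e : i + 1 + (k - 1 - i + 1) = k + 1 := by omega
    rw [e]
    ring

theorem ident2 {R : Type} [CommRing R] (y z : R) (a : ℕ) :
    (1 + y) ^ a * z - (1 + z) ^ a * y = (y - z) * (-1 + ∑ i ∈ range (a + 1), ∑ j ∈ range (a + 1),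
        if 1 ≤ i ∧ 1 ≤ j ∧ i + j ≤ a then (a.choose (i + j) : R) * y ^ i * z ^ j else 0) := by
  rw [← sum_reindex2, add_comm 1 y, add_comm 1 z, add_pow, add_pow, sum_mul, sum_mul,
    ← sum_sub_distrib, sum_range_succ', mul_add, mul_sum]
  simp only [one_pow, mul_one, pow_zero, Nat.choose_zero_right, Nat.cast_one]
  rw [add_comm]
  congr 1
  · ring
  · apply sum_congr rfl
    intro k _
    have hg := geom_sum₂_mul y z k
    have : y ^ (k + 1) * (a.choose (k + 1) : R) * z - z ^ (k + 1) * (a.choose (k + 1) : R) * y =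
        (a.choose (k + 1) : R) * (y * z) * (y ^ k - z ^ k) := by ring
    rw [this, ← hg]
    simp only [mul_sum, sum_mul]
    apply sum_congr rfl
    intro i _
    rw [pow_succ, pow_succ]
    ring


/-- The algebraic identity established in its proof: let a >= 1 and work in Z[y, z]. Then (1+y)^(a-1) -
(1+z)^(a-1) = (y - z) * (sum over i, j >= 0 with i + j + 1 <= a - 1 of C(a-1, i+j+1) y^i z^j), and
(1+y)^a z - (1+z)^a y = (y - z) * (-1 + sum over i, j >= 1 with i + j <= a of C(a, i+j) y^i z^j).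
Consequently the rational function -((1+y)^(a-1) - (1+z)^(a-1)) / ((1+y)^a z - (1+z)^a y), the
generating series of the primitive middle Hodge numbers of smooth hypersurfaces of degree a, equals
(sum_{i,j >= 0} C(a-1, i+j+1) y^i z^j) / (1 - sum_{i,j >= 1} C(a, i+j) y^i z^j). -/
theorem result (a : ℕ) (ha : 1 ≤ a) :
    let y : MvPolynomial (Fin 2) ℤ := MvPolynomial.X 0
    let z : MvPolynomial (Fin 2) ℤ := MvPolynomial.X 1
    ((1 + y) ^ (a - 1) - (1 + z) ^ (a - 1) =
      (y - z) * ∑ i ∈ Finset.range a, ∑ j ∈ Finset.range a,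
        if i + j + 1 ≤ a - 1 then ((a - 1).choose (i + j + 1) : MvPolynomial (Fin 2) ℤ) * y ^ i * z ^ j else 0) ∧
    ((1 + y) ^ a * z - (1 + z) ^ a * y =
      (y - z) * (-1 + ∑ i ∈ Finset.range (a + 1), ∑ j ∈ Finset.range (a + 1),
        if 1 ≤ i ∧ 1 ≤ j ∧ i + j ≤ a then (a.choose (i + j) : MvPolynomial (Fin 2) ℤ) * y ^ i * z ^ j else 0)) := by
  intro y z
  obtain ⟨m, rfl⟩ : ∃ m, a = m + 1 := ⟨a - 1, by omega⟩
  refine ⟨?_, ident2 y z (m + 1)⟩
  simp only [Nat.add_sub_cancel]
  exact ident1 y z m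

end Groth.Agent.S8724
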